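import Mathlib.RingTheory.Filtration
import Mathlib.RingTheory.Flat.Basic
import Mathlib.RingTheory.IsTensorProduct
import Mathlib.RingTheory.Nakayama
import Mathlib.LinearAlgebra.TensorProduct.Pi

/-!
# Relations of finite families under completed base change

Elementwise base change of finite modules: spans and relation modules, flat base change, and the passage
from flatness modulo all powers of an ideal to exactness for complete Noetherian rings.
-/

set_option autoImplicit false

open TensorProduct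

namespace Groth.Agent.FModLib

universe u v w

variable {A : Type u} [CommRing A] {L : Type v} [AddCommGroup L] [Module A L]

/-- The relations of a finite family. -/
noncomputable def relsOf {ι : Type w} [Fintype ι] (A : Type u) [CommRing A] {L : Type v} [AddCommGroup L]
    [Module A L] (s : ι → L) : Submodule A (ι → A) :=
  LinearMap.ker (Fintype.linearCombination A s)

theorem mem_relsOf {ι : Type w} [Fintype ι] {s : ι → L} {y : ι → A} :
    y ∈ relsOf A s ↔ ∑ i, y i • s i = 0 := by
  rw [relsOf, LinearMap.mem_ker, Fintype.linearCombination_apply]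

/-- A submodule of a finite module over a Noetherian ring is closed for a Jacobson-adic topology. -/
theorem mem_of_forall_mem_sup_pow [IsNoetherianRing A] [Module.Finite A L] {J : Ideal A}
    (hJ : J ≤ Ideal.jacobson ⊥) (N : Submodule A L) {x : L}
    (h : ∀ k : ℕ, x ∈ N ⊔ J ^ k • (⊤ : Submodule A L)) : x ∈ N := by
  rw [← Submodule.Quotient.mk_eq_zero N]
  have h0 : Submodule.Quotient.mk x ∈ (⨅ i : ℕ, J ^ i • (⊤ : Submodule A (L ⧸ N))) := by
    refine Submodule.mem_iInf _ |>.2 fun k => ?_
    obtain ⟨y, hy, z, hz, rfl⟩ := Submodule.mem_sup.1 (h k)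
    have hz' := Submodule.mem_map_of_mem (f := N.mkQ) hz
    rw [Submodule.map_smul'', Submodule.map_top, Submodule.range_mkQ] at hz'
    rw [Submodule.Quotient.mk_add, (Submodule.Quotient.mk_eq_zero N).2 hy, zero_add]
    exact hz'
  exact (Submodule.mem_bot A).1 ((J.iInf_pow_smul_eq_bot_of_le_jacobson (M := L ⧸ N) hJ).le h0)

/-- A family generating modulo a Jacobson ideal generates. -/
theorem span_eq_top_of_sup_smul [Module.Finite A L] {J : Ideal A} (hJ : J ≤ Ideal.jacobson ⊥)
    (N : Submodule A L) (h : N ⊔ J • (⊤ : Submodule A L) = ⊤) : N = ⊤ :=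
  top_unique (Submodule.le_of_le_smul_of_le_jacobson_bot Module.Finite.fg_top hJ h.ge)

theorem mem_pow_smul_pi {ι : Type w} [Finite ι] (I : Ideal A) {y : ι → A} (h : ∀ i, y i ∈ I) :
    y ∈ I • (⊤ : Submodule A (ι → A)) := by
  classical
  cases nonempty_fintype ι
  have : y = ∑ i, y i • (Pi.single i 1 : ι → A) := by
    funext j
    simp [Finset.sum_apply, Pi.single_apply]
  rw [this]
  exact Submodule.sum_mem _ fun i _ => Submodule.smul_mem_smul (h i) Submodule.mem_top

section Completed

variable {A' : Type u} [CommRing A'] {ι : Type w} [Fintype ι]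

/-- Artin–Rees: a family of relations modulo all powers is a combination of relations. -/
theorem mem_span_rels_of_forall [IsNoetherianRing A] [IsNoetherianRing A'] [Module.Finite A L]
    (r : A →+* A') (J : Ideal A) (J' : Ideal A') (hJ : J.map r ≤ J') (hJ' : J' ≤ Ideal.jacobson ⊥)
    (s : ι → L) (a : ι → A')
    (h : ∀ k : ℕ, a ∈ Submodule.span A' ((fun y => r ∘ y) '' {y : ι → A | ∑ i, y i • s i ∈
      J ^ k • (⊤ : Submodule A L)}) ⊔ J' ^ k • (⊤ : Submodule A' (ι → A'))) :
    a ∈ Submodule.span A' ((fun y => r ∘ y) '' (relsOf A s : Set (ι → A))) := by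
  classical
  refine mem_of_forall_mem_sup_pow hJ' _ fun k => ?_
  let g : (ι → A) →ₗ[A] L := Fintype.linearCombination A s
  obtain ⟨c, hc⟩ := Ideal.exists_pow_inf_eq_pow_smul J (LinearMap.range g)
  obtain ⟨y, hy, z, hz, rfl⟩ := Submodule.mem_sup.1 (h (k + c))
  refine add_mem ?_ (Submodule.mem_sup_right
    (Submodule.smul_mono_left (Ideal.pow_le_pow_right (Nat.le_add_right k c)) hz))
  refine Submodule.span_le.2 ?_ hy
  rintro _ ⟨y, hy, rfl⟩
  replace hy : ∑ i, y i • s i ∈ J ^ (k + c) • (⊤ : Submodule A L) := hy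
  have hgy : g y ∈ J ^ k • LinearMap.range g := by
    have h1 : g y ∈ J ^ (k + c) • ⊤ ⊓ LinearMap.range g :=
      ⟨by rwa [Fintype.linearCombination_apply], LinearMap.mem_range_self g y⟩
    rw [hc (k + c) (Nat.le_add_left c k), Nat.add_sub_cancel] at h1
    exact Submodule.smul_mono le_rfl inf_le_right h1
  rw [← Submodule.map_top, ← Submodule.map_smul''] at hgy
  obtain ⟨w, hw, hgw⟩ := hgy
  have hker : y - w ∈ relsOf A s := by
    rw [relsOf, LinearMap.mem_ker, map_sub, hgw, sub_self]
  have hwi : ∀ i, w i ∈ J ^ k := fun i => by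
    have := Submodule.mem_map_of_mem (f := (LinearMap.proj i : (ι → A) →ₗ[A] A)) hw
    rw [Submodule.map_smul''] at this
    have h2 := Submodule.smul_mono (le_refl (J ^ k)) (le_top (a := Submodule.map
      (LinearMap.proj i : (ι → A) →ₗ[A] A) ⊤)) this
    simpa using h2
  refine Submodule.mem_sup.2 ⟨r ∘ (y - w), Submodule.subset_span ⟨_, hker, rfl⟩, r ∘ w,
    mem_pow_smul_pi _ fun i => ?_, ?_⟩
  · exact Ideal.pow_right_mono hJ k (Ideal.map_pow (R := A) r J k ▸ Ideal.mem_map_of_mem r (hwi i))
  · funext i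
    simp

/-- Relations on a limit from relations on the levels. -/
theorem mem_span_rels_of_levels [IsNoetherianRing A] [IsNoetherianRing A'] [Module.Finite A L]
    (r : A →+* A') (J : Ideal A) (J' : Ideal A') (hJ : J.map r ≤ J') (hJ' : J' ≤ Ideal.jacobson ⊥)
    {B B' : ℕ → Type u} [∀ k, CommRing (B k)] [∀ k, CommRing (B' k)] (p : ∀ k, A →+* B k)
    (p' : ∀ k, A' →+* B' k) (rb : ∀ k, B k →+* B' k) (hcomm : ∀ k x, rb k (p k x) = p' k (r x))
    (hp : ∀ k, Function.Surjective (p k)) (hp' : ∀ k, Function.Surjective (p' k))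
    (hk' : ∀ k, RingHom.ker (p' k) ≤ J' ^ k) (s : ι → L) (a : ι → A') (Rel : ∀ k, Set (ι → B k))
    (hRel : ∀ k (y : ι → A), p k ∘ y ∈ Rel k → ∑ i, y i • s i ∈ J ^ k • (⊤ : Submodule A L))
    (hspan : ∀ k, p' k ∘ a ∈ Submodule.span (B' k) ((fun y => rb k ∘ y) '' Rel k)) :
    a ∈ Submodule.span A' ((fun y => r ∘ y) '' (relsOf A s : Set (ι → A))) := by
  refine mem_span_rels_of_forall r J J' hJ hJ' s a fun k => ?_
  have key : ∀ v ∈ Submodule.span (B' k) ((fun y => rb k ∘ y) '' Rel k),
      ∃ w ∈ Submodule.span A' ((fun y => r ∘ y) '' {y : ι → A | ∑ i, y i • s i ∈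
        J ^ k • (⊤ : Submodule A L)}), p' k ∘ w = v := by
    intro v hv
    induction hv using Submodule.span_induction with
    | mem v hv =>
      obtain ⟨z, hz, rfl⟩ := hv
      choose y hy using fun i => hp k (z i)
      have hyz : p k ∘ y = z := funext hy
      refine ⟨r ∘ y, Submodule.subset_span ⟨y, hRel k y (hyz ▸ hz), rfl⟩, funext fun i => ?_⟩
      simp [← hcomm, hy]
    | zero => exact ⟨0, zero_mem _, funext fun _ => map_zero _⟩
    | add x y _ _ hx hy =>
      obtain ⟨w, hw, rfl⟩ := hx
      obtain ⟨w', hw', rfl⟩ := hy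
      exact ⟨w + w', add_mem hw hw', funext fun _ => map_add _ _ _⟩
    | smul c x _ hx =>
      obtain ⟨w, hw, rfl⟩ := hx
      obtain ⟨c', rfl⟩ := hp' k c
      exact ⟨c' • w, Submodule.smul_mem _ _ hw, funext fun _ => map_mul _ _ _⟩
  obtain ⟨w, hw, hwa⟩ := key _ (hspan k)
  refine Submodule.mem_sup.2 ⟨w, hw, a - w, mem_pow_smul_pi _ fun i => hk' k ?_, add_sub_cancel w a⟩
  rw [RingHom.mem_ker, Pi.sub_apply, map_sub, sub_eq_zero]
  exact (congrFun hwa i).symm

end Completed

section Flat

variable {A' : Type u} [CommRing A'] [Algebra A A'] {L' : Type w} [AddCommGroup L'] [Module A L']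
  [Module A' L'] [IsScalarTower A A' L'] {f : L →ₗ[A] L'}

/-- Relations of a base changed family along a flat map. -/
theorem relsOf_le_span_of_isBaseChange [Module.Flat A A'] (h : IsBaseChange A' f) {ι : Type*}
    [Fintype ι] (x : ι → L) :
    relsOf A' (f ∘ x) ≤ Submodule.span A' ((fun v => algebraMap A A' ∘ v) '' (relsOf A x : Set (ι → A))) := by
  classical
  intro v hv
  let g := Fintype.linearCombination A x
  let u : A' ⊗[A] (ι → A) := ∑ i, v i ⊗ₜ Pi.single i 1
  have hu : g.lTensor A' u = 0 := by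
    refine h.equiv.injective ?_
    simp only [u, map_sum, LinearMap.lTensor_tmul, g, Fintype.linearCombination_apply_single, one_smul,
      h.equiv_tmul, map_zero]
    exact mem_relsOf.1 hv
  obtain ⟨t, ht⟩ := (Module.Flat.lTensor_exact A' (LinearMap.exact_subtype_ker_map g) u).1 hu
  let Φ := TensorProduct.piScalarRight A A' A' ι
  have hΦ : Φ u = v := by
    funext j
    simp [u, Φ, Finset.sum_apply, Pi.single_apply]
  rw [← hΦ, ← ht]
  clear ht
  induction t using TensorProduct.induction_on with
  | zero => simp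
  | tmul r k =>
    rw [LinearMap.lTensor_tmul]
    have : Φ (r ⊗ₜ[A] (k : ι → A)) = r • (algebraMap A A' ∘ (k : ι → A)) := by
      funext i
      simp [Φ, Algebra.smul_def, mul_comm]
    erw [this]
    exact Submodule.smul_mem _ _ (Submodule.subset_span ⟨k, k.2, rfl⟩)
  | add a b ha hb => rw [map_add, map_add]; exact add_mem ha hb

end Flat

end Groth.Agent.FModLib
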