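import Groth.Agent.DerCompLib.Locality
import Groth.Agent.DerCompLib.RestrAdj

/-!
# Finite free sheaves of modules and local criteria on a ringed site

Sections of a finite free module are tuples; epimorphisms and exactness from locally lifting sections.
-/

set_option autoImplicit false
set_option backward.isDefEq.respectTransparency false

universe u

open CategoryTheory CategoryTheory.Limits Opposite
open Groth.Agent.DerCompLib

namespace Groth.Agent.FModLib

variable {C : Type u} [SmallCategory C] {J : GrothendieckTopology C} {O : Sheaf J CommRingCat.{u}}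

theorem secRes_smul' (M : ModSite.Mod O) {U V : C} (g : V ⟶ U) (r : O.obj.obj (op U)) (x : Sec M U) :
    secRes M g (r • x) = O.obj.map g.op r • secRes M g x :=
  M.val.map_smul g.op r x

theorem secMap_secRes' {M N : ModSite.Mod O} (q : M ⟶ N) {U V : C} (g : V ⟶ U) (x : Sec M U) :
    secMap q V (secRes M g x) = secRes N g (secMap q U x) :=
  PresheafOfModules.naturality_apply q.val g.op x

/-- A morphism whose target's sections lift locally is an epimorphism. -/
theorem epi_of_locally {M N : ModSite.Mod O} (q : M ⟶ N)
    (h : ∀ (V : C) (b : Sec N V), ∃ R ∈ J V, ∀ ⦃W : C⦄ (k : W ⟶ V), R k →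
      ∃ a, secMap q W a = secRes N k b) : Epi q := by
  have hex : (ShortComplex.mk q (0 : N ⟶ N) comp_zero).Exact :=
    exact_of_locally _ fun V b _ => h V b
  exact hex.epi_f rfl

/-- A morphism injective on sections is a monomorphism. -/
theorem mono_of_injective_sec {M N : ModSite.Mod O} (q : M ⟶ N)
    (h : ∀ V, Function.Injective (secMap q V)) : Mono q :=
  ⟨fun {Z} a b hab => by
    apply SheafOfModules.hom_ext
    apply PresheafOfModules.hom_ext
    intro V
    refine ModuleCat.hom_ext (LinearMap.ext fun y => ?_)
    exact h V.unop (congrArg (fun g => secMap g V.unop y) hab)⟩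

/-- Sections of a kernel. -/
theorem exists_kernel_sec {M N : ModSite.Mod O} (g : M ⟶ N) (V : C) (s : Sec M V)
    (hs : secMap g V s = 0) : ∃ k : Sec (kernel g) V, secMap (kernel.ι g) V k = s := by
  let S : ShortComplex (ModSite.Mod O) := ShortComplex.mk (kernel.ι g) g (kernel.condition g)
  have h : (S.map (SheafOfModules.evaluation.{u} (ModSite.ringSh O) (op V))).Exact :=
    (S.exact_of_f_is_kernel (kernelIsKernel g)).map_of_mono_of_preservesKernel _
      (inferInstanceAs (Mono (kernel.ι g))) inferInstance
  exact (ShortComplex.moduleCat_exact_iff _).1 h s hs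

theorem kernel_sec_injective {M N : ModSite.Mod O} (g : M ⟶ N) (V : C) :
    Function.Injective (secMap (kernel.ι g) V) :=
  (ModuleCat.mono_iff_injective _).1
    (inferInstanceAs (Mono ((SheafOfModules.evaluation.{u} (ModSite.ringSh O) (op V)).map (kernel.ι g))))

theorem kernel_sec_condition {M N : ModSite.Mod O} (g : M ⟶ N) (V : C) (k : Sec (kernel g) V) :
    secMap g V (secMap (kernel.ι g) V k) = 0 :=
  congrArg (fun φ => secMap φ V k) (kernel.condition g)

variable [HasWeakSheafify J AddCommGrpCat.{u}] [J.WEqualsLocallyBijective AddCommGrpCat.{u}]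

/-- The tautological basis of a free module on sections. -/
noncomputable def freeVec (O : Sheaf J CommRingCat.{u}) {I : Type u} (i : I) (V : C) :
    Sec (SheafOfModules.free (R := ModSite.ringSh O) I) V :=
  (SheafOfModules.freeSection (R := ModSite.ringSh O) i).val (op V)

theorem freeVec_res (O : Sheaf J CommRingCat.{u}) {I : Type u} (i : I) {U V : C} (g : V ⟶ U) :
    secRes _ g (freeVec O i U) = freeVec O i V :=
  (SheafOfModules.freeSection (R := ModSite.ringSh O) i).property g.op

open Classical in
/-- Coordinate morphisms of a free module. -/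
noncomputable def coord (O : Sheaf J CommRingCat.{u}) {I : Type u} (i : I) :
    SheafOfModules.free (R := ModSite.ringSh O) I ⟶ SheafOfModules.unit _ :=
  Cofan.IsColimit.desc (SheafOfModules.isColimitFreeCofan I) fun j => if i = j then 𝟙 _ else 0

theorem freeVec_eq (O : Sheaf J CommRingCat.{u}) {I : Type u} (i : I) (V : C) :
    freeVec O i V = (SheafOfModules.ιFree (R := ModSite.ringSh O) i).val.app (op V)
      (1 : (ModSite.ringSh O).obj.obj (op V)) := by
  show (SheafOfModules.ιFree (R := ModSite.ringSh O) i ≫ 𝟙 _).val.app _ _ = _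
  rw [Category.comp_id]

/-- The coordinates of a section of a free module. -/
noncomputable def coordAt (O : Sheaf J CommRingCat.{u}) {I : Type u} (V : C)
    (p : Sec (SheafOfModules.free (R := ModSite.ringSh O) I) V) (i : I) : O.obj.obj (op V) :=
  (coord O i).val.app (op V) p

open Classical in
theorem coordAt_freeVec (O : Sheaf J CommRingCat.{u}) {I : Type u} (V : C) (i j : I) :
    coordAt O V (freeVec O j V) i = if i = j then 1 else 0 := by
  rw [coordAt, freeVec_eq]
  change ((SheafOfModules.ιFree (R := ModSite.ringSh O) j ≫ coord O i).val.app (op V) _) = _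
  erw [Cofan.IsColimit.fac (SheafOfModules.isColimitFreeCofan I)]
  split_ifs <;> rfl

theorem free_decomp (O : Sheaf J CommRingCat.{u}) {I : Type u} [Fintype I] (V : C)
    (p : Sec (SheafOfModules.free (R := ModSite.ringSh O) I) V) :
    p = ∑ i, coordAt O V p i • freeVec O i V := by
  classical
  let P := SheafOfModules.free (R := ModSite.ringSh O) I
  have hpr : ∑ i, coord O i ≫ SheafOfModules.ιFree i = 𝟙 P := by
    apply Cofan.IsColimit.hom_ext (SheafOfModules.isColimitFreeCofan I)
    intro j
    rw [Preadditive.comp_sum]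
    refine (Finset.sum_eq_single j (fun i _ hij => ?_) (by simp)).trans ?_
    · rw [coord]
      erw [← Category.assoc, Cofan.IsColimit.fac]
      rw [if_neg hij, zero_comp]
    · rw [coord]
      erw [← Category.assoc, Cofan.IsColimit.fac, Category.comp_id]
      rw [if_pos rfl, Category.id_comp]
      exact (SheafOfModules.freeCofan_inj _).symm
  let e : (P ⟶ P) →+ Sec P V :=
    { toFun := fun k => secMap k V p, map_zero' := rfl, map_add' := fun _ _ => rfl }
  have hp : p = ∑ i, secMap (coord O i ≫ SheafOfModules.ιFree i) V p := by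
    show p = ∑ i, e (coord O i ≫ SheafOfModules.ιFree i)
    rw [← map_sum, hpr]
    rfl
  refine hp.trans (Finset.sum_congr rfl fun i _ => ?_)
  show (SheafOfModules.ιFree (R := ModSite.ringSh O) i).val.app (op V) ((coord O i).val.app _ p) = _
  rw [freeVec_eq]
  refine Eq.trans (congrArg _ (mul_one (coordAt O V p i)).symm) ?_
  exact ((SheafOfModules.ιFree (R := ModSite.ringSh O) i).val.app (op V)).hom.map_smul
    (coordAt O V p i) (1 : O.obj.obj (op V))

theorem free_ext (O : Sheaf J CommRingCat.{u}) {I : Type u} [Finite I] (V : C)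
    {p q : Sec (SheafOfModules.free (R := ModSite.ringSh O) I) V}
    (h : ∀ i, coordAt O V p i = coordAt O V q i) : p = q := by
  cases nonempty_fintype I
  rw [free_decomp O V p, free_decomp O V q]
  exact Finset.sum_congr rfl fun i _ => by rw [h]

/-- The image of a basis vector. -/
noncomputable def imgVec (O : Sheaf J CommRingCat.{u}) {I : Type u} {M : ModSite.Mod O}
    (g : SheafOfModules.free (R := ModSite.ringSh O) I ⟶ M) (V : C) (i : I) : Sec M V :=
  secMap g V (freeVec O i V)

theorem imgVec_eq (O : Sheaf J CommRingCat.{u}) {I : Type u} {M : ModSite.Mod O}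
    (g : SheafOfModules.free (R := ModSite.ringSh O) I ⟶ M) (V : C) (i : I) :
    imgVec O g V i = (M.freeHomEquiv g i).val (op V) := rfl

theorem imgVec_res (O : Sheaf J CommRingCat.{u}) {I : Type u} {M : ModSite.Mod O}
    (g : SheafOfModules.free (R := ModSite.ringSh O) I ⟶ M) {U V : C} (k : V ⟶ U) (i : I) :
    secRes M k (imgVec O g U i) = imgVec O g V i := by
  rw [imgVec, imgVec, ← secMap_secRes', freeVec_res]

theorem imgVec_comp (O : Sheaf J CommRingCat.{u}) {I : Type u} {M N : ModSite.Mod O}
    (g : SheafOfModules.free (R := ModSite.ringSh O) I ⟶ M) (p : M ⟶ N) (V : C) (i : I) :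
    imgVec O (g ≫ p) V i = secMap p V (imgVec O g V i) := rfl

theorem imgVec_zero (O : Sheaf J CommRingCat.{u}) {I : Type u} {M : ModSite.Mod O} (V : C) (i : I) :
    imgVec O (0 : SheafOfModules.free (R := ModSite.ringSh O) I ⟶ M) V i = 0 := rfl

theorem secMap_comp_apply {L M N : ModSite.Mod O} (f : L ⟶ M) (g : M ⟶ N) (V : C) (x : Sec L V) :
    secMap (f ≫ g) V x = secMap g V (secMap f V x) := rfl

theorem secMap_free (O : Sheaf J CommRingCat.{u}) {I : Type u} [Fintype I] {M : ModSite.Mod O}
    (g : SheafOfModules.free (R := ModSite.ringSh O) I ⟶ M) (V : C)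
    (p : Sec (SheafOfModules.free (R := ModSite.ringSh O) I) V) :
    secMap g V p = ∑ i, coordAt O V p i • imgVec O g V i := by
  conv_lhs => rw [free_decomp O V p, map_sum]
  exact Finset.sum_congr rfl fun i _ => map_smul _ _ _

theorem comp_eq_zero_of_imgVec (O : Sheaf J CommRingCat.{u}) {I L : Type u} [Fintype I] {K N : ModSite.Mod O}
    (ρ : SheafOfModules.free (R := ModSite.ringSh O) L ⟶ K) [Epi ρ]
    (ι : K ⟶ SheafOfModules.free (R := ModSite.ringSh O) I)
    (g : SheafOfModules.free (R := ModSite.ringSh O) I ⟶ N) (V : C)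
    (hext : ∀ a b : SheafOfModules.free (R := ModSite.ringSh O) L ⟶ N,
      (∀ l, imgVec O a V l = imgVec O b V l) → a = b)
    (h : ∀ l, ∑ i, coordAt O V (secMap ι V (imgVec O ρ V l)) i • imgVec O g V i = 0) : ι ≫ g = 0 := by
  rw [← cancel_epi ρ, comp_zero]
  refine hext _ _ fun l => ?_
  rw [imgVec_zero, imgVec_comp, secMap_comp_apply, secMap_free O g]
  exact h l

end Groth.Agent.FModLib

namespace Groth.Agent.FModLib

variable {C : Type u} [SmallCategory C] {J : GrothendieckTopology C}
  [HasWeakSheafify J AddCommGrpCat.{u}] [J.WEqualsLocallyBijective AddCommGrpCat.{u}]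

open Classical in
theorem coordAt_sum_smul_freeVec (O : Sheaf J CommRingCat.{u}) {I : Type u} [Fintype I] (V : C)
    (y : I → O.obj.obj (op V)) (i : I) :
    coordAt O V (∑ k, y k • freeVec O k V) i = y i := by
  show secMap (coord O i) V _ = _
  rw [map_sum, Finset.sum_eq_single i]
  · rw [map_smul]
    exact (congrArg (y i • ·) ((coordAt_freeVec O V i i).trans (if_pos rfl))).trans (mul_one (y i))
  · intro k _ hk
    rw [map_smul]
    exact (congrArg (y k • ·) ((coordAt_freeVec O V i k).trans (if_neg hk.symm))).trans (mul_zero (y k))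
  · simp

/-- Coordinates of a combination of kernel elements given by their coordinates. -/
theorem coordAt_map_comb (O : Sheaf J CommRingCat.{u}) {I L : Type u} [Fintype I] [Fintype L] {V : C}
    {K : ModSite.Mod O} (ι : K ⟶ SheafOfModules.free (R := ModSite.ringSh O) I)
    (c : L → O.obj.obj (op V)) (x : L → Sec K V) (ρ : L → I → O.obj.obj (op V))
    (h : ∀ l, secMap ι V (x l) = ∑ k, ρ l k • freeVec O k V) (i : I) :
    coordAt O V (secMap ι V (∑ l, c l • x l)) i = ∑ l, c l * ρ l i := by
  have : secMap ι V (∑ l, c l • x l) = ∑ k, (∑ l, c l * ρ l k) • freeVec O k V := by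
    simp only [map_sum, map_smul, h, Finset.smul_sum, Finset.sum_smul, smul_smul]
    exact Finset.sum_comm
  rw [this, coordAt_sum_smul_freeVec]

end Groth.Agent.FModLib
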