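import Groth.Agent.FModLib.Alg
import Groth.Agent.FModLib.Site
import Mathlib.Topology.Sheaves.Sheaf
import Mathlib.Algebra.Category.ModuleCat.Sheaf.Quasicoherent
import Mathlib.CategoryTheory.Sites.EpiMono

/-!
# Modules with finite, base-changing sections over a basis

On a ringed space with a basis `P` of opens whose rings of sections are Noetherian, with flat restrictions
detecting the unit ideal on covers, the modules whose sections over `P` are finite and compatible with base
change behave like coherent modules: exactness is exactness over `P`.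
-/

set_option autoImplicit false
set_option backward.isDefEq.respectTransparency false
set_option linter.unusedSectionVars false
set_option linter.style.haveILetI false

universe u

open CategoryTheory CategoryTheory.Limits Opposite TopologicalSpace
open Groth.Agent.DerCompLib

namespace Groth.Agent.FModLib

variable {T : TopCat.{u}} (O : Sheaf (Opens.grothendieckTopology T) CommRingCat.{u})

/-- Restriction of functions. -/
noncomputable abbrev oRes {U V : Opens T} (i : V ≤ U) : O.obj.obj (op U) →+* O.obj.obj (op V) :=
  (O.obj.map (homOfLE i).op).hom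

/-- The hypotheses on the rings of sections over the basis. -/
structure GoodRing (P : Opens T → Prop) : Prop where
  basis : ∀ (U : Opens T) (x : T), x ∈ U → ∃ V : Opens T, P V ∧ x ∈ V ∧ V ≤ U
  noeth : ∀ U, P U → IsNoetherianRing (O.obj.obj (op U))
  flat : ∀ (U V : Opens T) (i : V ≤ U), P U → P V →
    ∀ (q : ℕ) (f : Fin q → O.obj.obj (op U)) (a : Fin q → O.obj.obj (op V)),
      ∑ j, a j * oRes O i (f j) = 0 →
        a ∈ Submodule.span (O.obj.obj (op V))
          ((fun y => oRes O i ∘ y) '' (relsOf (O.obj.obj (op U)) f : Set (Fin q → O.obj.obj (op U))))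
  cover : ∀ U, P U → ∀ 𝔞 : Ideal (O.obj.obj (op U)),
    (∀ x : T, x ∈ U → ∃ (V : Opens T) (i : V ≤ U), P V ∧ x ∈ V ∧ 𝔞.map (oRes O i) = ⊤) → 𝔞 = ⊤

variable {O}

/-- Restriction of sections of a module. -/
noncomputable abbrev mRes (M : ModSite.Mod O) {U V : Opens T} (i : V ≤ U) : Sec M U →+ Sec M V :=
  secRes M (homOfLE i)

/-- Finite sections over the basis, compatible with base change. -/
structure IsPC (P : Opens T → Prop) (M : ModSite.Mod O) : Prop where
  finite : ∀ U, P U → Module.Finite (O.obj.obj (op U)) (Sec M U)
  span : ∀ (U V : Opens T) (i : V ≤ U), P U → P V →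
    Submodule.span (O.obj.obj (op V)) (Set.range (mRes M i)) = ⊤
  rels : ∀ (U V : Opens T) (i : V ≤ U), P U → P V →
    ∀ (q : ℕ) (s : Fin q → Sec M U) (a : Fin q → O.obj.obj (op V)),
      ∑ j, a j • mRes M i (s j) = 0 →
        a ∈ Submodule.span (O.obj.obj (op V))
          ((fun y => oRes O i ∘ y) '' (relsOf (O.obj.obj (op U)) s : Set (Fin q → O.obj.obj (op U))))

theorem mRes_smul {M : ModSite.Mod O} {U V : Opens T} (i : V ≤ U) (r : O.obj.obj (op U)) (x : Sec M U) :
    mRes M i (r • x) = oRes O i r • mRes M i x :=
  secRes_smul' M _ r x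

theorem secMap_mRes {M N : ModSite.Mod O} (q : M ⟶ N) {U V : Opens T} (i : V ≤ U) (x : Sec M U) :
    secMap q V (mRes M i x) = mRes N i (secMap q U x) :=
  secMap_secRes' q _ x

theorem mRes_mRes {M : ModSite.Mod O} {U V W : Opens T} (i : V ≤ U) (j : W ≤ V) (x : Sec M U) :
    mRes M j (mRes M i x) = mRes M (j.trans i) x := by
  refine (ConcreteCategory.comp_apply (M.val.presheaf.map (homOfLE i).op)
    (M.val.presheaf.map (homOfLE j).op) x).symm.trans ?_
  rw [← M.val.presheaf.map_comp]
  rfl

variable {P : Opens T → Prop}

/-- Restrictions of generators generate. -/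
theorem IsPC.span_range {M : ModSite.Mod O} (hM : IsPC P M) {U V : Opens T} (i : V ≤ U) (hU : P U)
    (hV : P V) {ι : Type*} (s : ι → Sec M U)
    (hs : Submodule.span (O.obj.obj (op U)) (Set.range s) = ⊤) :
    Submodule.span (O.obj.obj (op V)) (Set.range fun j => mRes M i (s j)) = ⊤ := by
  refine top_unique ((hM.span U V i hU hV).ge.trans (Submodule.span_le.2 ?_))
  rintro _ ⟨x, rfl⟩
  have hx : x ∈ Submodule.span (O.obj.obj (op U)) (Set.range s) := hs ▸ Submodule.mem_top
  induction hx using Submodule.span_induction with
  | mem x hx =>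
    obtain ⟨j, rfl⟩ := hx
    exact Submodule.subset_span ⟨j, rfl⟩
  | zero => rw [map_zero]; exact zero_mem _
  | add x y _ _ hx hy => rw [map_add]; exact add_mem hx hy
  | smul r x _ hx => rw [mRes_smul]; exact Submodule.smul_mem _ _ hx

theorem IsPC.of_iso {M N : ModSite.Mod O} (e : M ≅ N) (hM : IsPC P M) : IsPC P N := by
  have hinv : ∀ (V : Opens T) (x : Sec N V), secMap e.hom V (secMap e.inv V x) = x := fun V x =>
    congrArg (fun φ => secMap φ V x) e.inv_hom_id
  refine ⟨fun U hU => ?_, fun U V i hU hV => ?_, fun U V i hU hV q s a ha => ?_⟩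
  · haveI := hM.finite U hU
    exact Module.Finite.of_surjective (secMap e.hom U) fun x => ⟨_, hinv U x⟩
  · refine top_unique fun x _ => ?_
    rw [← hinv V x]
    generalize secMap e.inv V x = y
    have hx : y ∈ Submodule.span (O.obj.obj (op V)) (Set.range (mRes M i)) :=
      hM.span U V i hU hV ▸ Submodule.mem_top
    induction hx using Submodule.span_induction with
    | mem x hx =>
      obtain ⟨m, rfl⟩ := hx
      exact Submodule.subset_span ⟨_, (secMap_mRes e.hom i m).symm⟩
    | zero => rw [map_zero]; exact zero_mem _
    | add x y _ _ hx hy => rw [map_add]; exact add_mem hx hy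
    | smul r x _ hx => rw [map_smul]; exact Submodule.smul_mem _ _ hx
  · refine Submodule.span_mono (Set.image_mono fun y hy => ?_)
      (hM.rels U V i hU hV q (fun j => secMap e.inv U (s j)) a ?_)
    · rw [SetLike.mem_coe, mem_relsOf] at hy ⊢
      have := congrArg (secMap e.hom U) hy
      simpa [map_sum, hinv] using this
    · have := congrArg (secMap e.inv V) ha
      rw [map_sum, map_zero] at this
      refine (Finset.sum_congr rfl fun j _ => ?_).trans this
      rw [map_smul, secMap_mRes]

variable (hG : GoodRing O P)
include hG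

/-- Flatness for families of vectors. -/
theorem GoodRing.rels_vec {U V : Opens T} (i : V ≤ U) (hU : P U) (hV : P V) :
    ∀ (d q : ℕ) (s : Fin q → Fin d → O.obj.obj (op U)) (a : Fin q → O.obj.obj (op V)),
      (∀ k, ∑ j, a j * oRes O i (s j k) = 0) →
        a ∈ Submodule.span (O.obj.obj (op V))
          ((fun y => oRes O i ∘ y) '' (relsOf (O.obj.obj (op U)) s : Set (Fin q → O.obj.obj (op U)))) := by
  haveI := hG.noeth U hU
  intro d
  induction d with
  | zero =>
    intro q s a _
    classical
    rw [show a = ∑ j, a j • (oRes O i ∘ (Pi.single j (1 : O.obj.obj (op U)))) from by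
      funext k
      rw [Finset.sum_apply, Finset.sum_eq_single k]
      · simp
      · intro b _ hb
        simp [hb]
      · simp]
    exact Submodule.sum_mem _ fun j _ => Submodule.smul_mem _ _ (Submodule.subset_span
      ⟨_, mem_relsOf.2 (funext fun k => k.elim0), rfl⟩)
  | succ d ih =>
    intro q s a ha
    have h1 := hG.flat U V i hU hV q (fun j => s j (Fin.last d)) a (ha (Fin.last d))
    obtain ⟨L, g, hg⟩ := Submodule.fg_iff_exists_fin_generating_family.1
      (IsNoetherian.noetherian (relsOf (O.obj.obj (op U)) fun j => s j (Fin.last d)))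
    have h2 : a ∈ Submodule.span (O.obj.obj (op V)) (Set.range fun l => oRes O i ∘ g l) := by
      refine Submodule.span_le.2 ?_ h1
      rintro _ ⟨y, hy, rfl⟩
      rw [SetLike.mem_coe, ← hg] at hy
      induction hy using Submodule.span_induction with
      | mem x hx =>
        obtain ⟨l, rfl⟩ := hx
        exact Submodule.subset_span ⟨l, rfl⟩
      | zero =>
        simp only [SetLike.mem_coe]
        rw [show oRes O i ∘ (0 : Fin q → O.obj.obj (op U)) = 0 from funext fun _ => map_zero _]
        exact zero_mem _
      | add x y _ _ hx hy =>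
        simp only [SetLike.mem_coe] at hx hy ⊢
        rw [show oRes O i ∘ (x + y) = oRes O i ∘ x + oRes O i ∘ y from funext fun _ => map_add _ _ _]
        exact add_mem hx hy
      | smul r x _ hx =>
        simp only [SetLike.mem_coe] at hx ⊢
        rw [show oRes O i ∘ (r • x) = oRes O i r • (oRes O i ∘ x) from funext fun _ => map_mul _ _ _]
        exact Submodule.smul_mem _ _ hx
    obtain ⟨c, hc⟩ := (Submodule.mem_span_range_iff_exists_fun _).1 h2
    let t : Fin L → Fin d → O.obj.obj (op U) := fun l k => ∑ j, g l j * s j k.castSucc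
    have ht : ∀ k, ∑ l, c l * oRes O i (t l k) = 0 := fun k => by
      refine Eq.trans ?_ (ha k.castSucc)
      simp only [t, map_sum, map_mul, Finset.mul_sum]
      rw [Finset.sum_comm]
      refine Finset.sum_congr rfl fun j _ => ?_
      rw [← hc, Finset.sum_apply, Finset.sum_mul]
      exact Finset.sum_congr rfl fun l _ => by simp [mul_assoc]
    have h3 := ih L t c ht
    rw [← hc]
    let Φ : (Fin L → O.obj.obj (op V)) →ₗ[O.obj.obj (op V)] (Fin q → O.obj.obj (op V)) :=
      Fintype.linearCombination (O.obj.obj (op V)) fun l => oRes O i ∘ g l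
    have h4 := Submodule.mem_map_of_mem (f := Φ) h3
    rw [Submodule.map_span, Fintype.linearCombination_apply] at h4
    refine Submodule.span_le.2 ?_ h4
    rintro _ ⟨_, ⟨z, hz, rfl⟩, rfl⟩
    refine Submodule.subset_span ⟨∑ l, z l • g l, ?_, ?_⟩
    · rw [SetLike.mem_coe, mem_relsOf]
      funext k
      refine Fin.lastCases ?_ (fun k => ?_) k
      · simp only [Finset.sum_apply, Pi.smul_apply, smul_eq_mul, Pi.zero_apply, Finset.sum_mul]
        rw [Finset.sum_comm]
        refine Finset.sum_eq_zero fun l _ => ?_
        have hl : g l ∈ relsOf (O.obj.obj (op U)) fun j => s j (Fin.last d) :=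
          hg ▸ Submodule.subset_span ⟨l, rfl⟩
        rw [mem_relsOf] at hl
        calc ∑ j, z l * g l j * s j (Fin.last d) = z l * ∑ j, g l j * s j (Fin.last d) := by
              simp [Finset.mul_sum, mul_assoc]
          _ = 0 := by
            rw [show ∑ j, g l j * s j (Fin.last d) = 0 from hl, mul_zero]
      · have hz' := congrFun (mem_relsOf.1 hz) k
        simp only [Finset.sum_apply, Pi.smul_apply, smul_eq_mul, Pi.zero_apply, t, Finset.mul_sum] at hz'
        simp only [Finset.sum_apply, Pi.smul_apply, smul_eq_mul, Pi.zero_apply, Finset.sum_mul]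
        rw [Finset.sum_comm]
        simpa [mul_assoc] using hz'
    · funext j
      simp [Φ, Fintype.linearCombination_apply, Finset.sum_apply, map_sum]

/-- Finite free modules. -/
theorem GoodRing.isPC_free (I : Type u) [Finite I] :
    IsPC P (SheafOfModules.free (R := ModSite.ringSh O) I) := by
  classical
  cases nonempty_fintype I
  refine ⟨fun U _ => ?_, fun U V i _ _ => ?_, fun U V i hU hV q s a ha => ?_⟩
  · refine ⟨⟨Finset.univ.image fun k => freeVec O k U, top_unique fun p _ => ?_⟩⟩
    rw [free_decomp O U p]
    exact Submodule.sum_mem _ fun k _ => Submodule.smul_mem _ _ (Submodule.subset_span (by simp))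
  · refine top_unique fun p _ => ?_
    rw [free_decomp O V p]
    refine Submodule.sum_mem _ fun k _ => Submodule.smul_mem _ _ (Submodule.subset_span ⟨freeVec O k U, ?_⟩)
    exact freeVec_res O k (homOfLE i)
  · have hcoord : ∀ (W : Opens T) (x : Sec (SheafOfModules.free (R := ModSite.ringSh O) I) W) (k : I),
        coordAt O W x k = secMap (coord O k) W x := fun W x k => rfl
    have hres : ∀ (x : Sec (SheafOfModules.free (R := ModSite.ringSh O) I) U) (k : I),
        coordAt O V (mRes _ i x) k = oRes O i (coordAt O U x k) := fun x k => by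
      rw [hcoord, secMap_mRes]
      rfl
    let e := Fintype.equivFin I
    have := hG.rels_vec i hU hV (Fintype.card I) q (fun j k => coordAt O U (s j) (e.symm k)) a
      fun k => by
        have h := congrArg (fun p => coordAt O V p (e.symm k)) ha
        simp only [hcoord, map_sum, map_smul, map_zero] at h
        refine Eq.trans (Finset.sum_congr rfl fun j _ => ?_) h
        rw [← hcoord, hres]
        rfl
    refine Submodule.span_mono (Set.image_mono fun y hy => ?_) this
    rw [SetLike.mem_coe, mem_relsOf] at hy ⊢
    refine free_ext O U fun k => ?_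
    have h := congrFun hy (e k)
    simp only [Finset.sum_apply, Pi.smul_apply, smul_eq_mul, Pi.zero_apply, Equiv.symm_apply_apply] at h
    simp only [hcoord, map_sum, map_smul, map_zero]
    exact h

/-- A kernel. -/
theorem GoodRing.isPC_kernel {M N : ModSite.Mod O} (hM : IsPC P M) (hN : IsPC P N) (f : M ⟶ N) :
    IsPC P (kernel f) := by
  refine ⟨fun U hU => ?_, fun U V i hU hV => ?_, fun U V i hU hV q s a ha => ?_⟩
  · haveI := hG.noeth U hU
    haveI := hM.finite U hU
    exact Module.Finite.of_injective (secMap (kernel.ι f) U) (kernel_sec_injective f U)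
  · haveI := hM.finite U hU
    refine top_unique fun x _ => ?_
    obtain ⟨n, g, hg⟩ := Module.Finite.exists_fin (R := O.obj.obj (op U)) (M := Sec M U)
    have hx : secMap (kernel.ι f) V x ∈ Submodule.span (O.obj.obj (op V))
        (Set.range fun j => mRes M i (g j)) := hM.span_range i hU hV g hg ▸ Submodule.mem_top
    obtain ⟨a, ha⟩ := (Submodule.mem_span_range_iff_exists_fun _).1 hx
    have h0 : ∑ j, a j • mRes N i (secMap f U (g j)) = 0 := by
      have := congrArg (secMap f V) ha
      rw [kernel_sec_condition, map_sum] at this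
      refine (Finset.sum_congr rfl fun j _ => ?_).trans this
      rw [map_smul, secMap_mRes]
    have h1 := hN.rels U V i hU hV n (fun j => secMap f U (g j)) a h0
    let Φ : (Fin n → O.obj.obj (op V)) →ₗ[O.obj.obj (op V)] Sec M V :=
      Fintype.linearCombination (O.obj.obj (op V)) fun j => mRes M i (g j)
    have h2 := Submodule.mem_map_of_mem (f := Φ) h1
    rw [Submodule.map_span, Fintype.linearCombination_apply, ha] at h2
    have h3 : secMap (kernel.ι f) V x ∈ Submodule.map (secMap (kernel.ι f) V)
        (Submodule.span (O.obj.obj (op V)) (Set.range (mRes (kernel f) i))) := by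
      refine Submodule.span_le.2 ?_ h2
      rintro _ ⟨_, ⟨z, hz, rfl⟩, rfl⟩
      obtain ⟨k, hk⟩ := exists_kernel_sec f U (∑ j, z j • g j) (by
        rw [map_sum, ← (mem_relsOf.1 hz : ∑ j, z j • secMap f U (g j) = 0)]
        exact Finset.sum_congr rfl fun j _ => map_smul _ _ _)
      refine ⟨mRes (kernel f) i k, Submodule.subset_span ⟨k, rfl⟩, ?_⟩
      rw [secMap_mRes, hk, map_sum, Fintype.linearCombination_apply]
      exact Finset.sum_congr rfl fun j _ => mRes_smul i _ _
    obtain ⟨y, hy, hyx⟩ := h3
    rwa [← kernel_sec_injective f V hyx]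
  · have h1 := hM.rels U V i hU hV q (fun j => secMap (kernel.ι f) U (s j)) a (by
      have := congrArg (secMap (kernel.ι f) V) ha
      rw [map_sum, map_zero] at this
      refine (Finset.sum_congr rfl fun j _ => ?_).trans this
      rw [map_smul, secMap_mRes])
    refine Submodule.span_mono (Set.image_mono fun y hy => ?_) h1
    rw [SetLike.mem_coe, mem_relsOf] at hy ⊢
    refine kernel_sec_injective f U ?_
    rw [map_sum, map_zero, ← hy]
    exact Finset.sum_congr rfl fun j _ => map_smul _ _ _

end Groth.Agent.FModLib
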