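import Groth.Agent.FModLib.Basis

/-!
# Exactness over a basis, and finite presentations

Morphisms are epi, mono, iso and short complexes exact as soon as they are so on sections over a basis; for
modules satisfying `IsPC` the converse holds, and such modules are of finite presentation.
-/

set_option autoImplicit false
set_option backward.isDefEq.respectTransparency false
set_option linter.unusedSectionVars false
set_option linter.style.haveILetI false

universe u

open CategoryTheory CategoryTheory.Limits Opposite TopologicalSpace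
open Groth.Agent.DerCompLib

namespace Groth.Agent.FModLib

variable {T : TopCat.{u}} {O : Sheaf (Opens.grothendieckTopology T) CommRingCat.{u}}

/-- An open inside `U` as an object over `U`. -/
abbrev ov {U V : Opens T} (i : V ≤ U) : Over U := Over.mk (homOfLE i)

/-- The top object over `U`. -/
abbrev ovTop (U : Opens T) : Over U := ov (le_refl U)

variable {P : Opens T → Prop}
  (hb : ∀ (U : Opens T) (x : T), x ∈ U → ∃ V : Opens T, P V ∧ x ∈ V ∧ V ≤ U)

include hb in
theorem exists_cover_of_forall {U : Opens T} (Q : ∀ ⦃W : Opens T⦄, (W ⟶ U) → Prop)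
    (hQ : ∀ ⦃W W' : Opens T⦄ (k : W ⟶ U) (j : W' ⟶ W), Q k → Q (j ≫ k))
    (h : ∀ (V : Opens T) (k : V ⟶ U), P V → Q k) :
    ∃ R ∈ Opens.grothendieckTopology T U, ∀ ⦃W : Opens T⦄ (k : W ⟶ U), R k → Q k := by
  refine ⟨⟨fun W => {k | Q k}, fun {W W'} k hk j => hQ k j hk⟩, fun x hx => ?_, fun W k hk => hk⟩
  obtain ⟨V, hV, hxV, hVU⟩ := hb U x hx
  exact ⟨V, homOfLE hVU, h V (homOfLE hVU) hV, hxV⟩

include hb in
theorem exists_over_cover_of_forall {U : Opens T} {V : Over U} (Q : ∀ ⦃W : Over U⦄, (W ⟶ V) → Prop)
    (hQ : ∀ ⦃W W' : Over U⦄ (k : W ⟶ V) (j : W' ⟶ W), Q k → Q (j ≫ k))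
    (h : ∀ (W : Over U) (k : W ⟶ V), P W.left → Q k) :
    ∃ R ∈ (Opens.grothendieckTopology T).over U V, ∀ ⦃W : Over U⦄ (k : W ⟶ V), R k → Q k := by
  refine ⟨⟨fun W => {k | Q k}, fun {W W'} k hk j => hQ k j hk⟩, ?_, fun W k hk => hk⟩
  rw [GrothendieckTopology.mem_over_iff]
  intro x hx
  obtain ⟨W, hW, hxW, hWV⟩ := hb V.left x hx
  refine ⟨W, homOfLE hWV, ?_, hxW⟩
  show (Sieve.overEquiv V) _ (homOfLE hWV)
  rw [Sieve.overEquiv_iff]
  exact h _ _ hW

theorem secRes_comp {C : Type u} [SmallCategory C] {J : GrothendieckTopology C}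
    {R : Sheaf J CommRingCat.{u}} (M : ModSite.Mod R) {U V W : C} (g : V ⟶ U) (g' : W ⟶ V) (x : Sec M U) :
    secRes M g' (secRes M g x) = secRes M (g' ≫ g) x := by
  refine (ConcreteCategory.comp_apply (M.val.presheaf.map g.op) (M.val.presheaf.map g'.op) x).symm.trans ?_
  rw [← M.val.presheaf.map_comp]
  rfl

include hb in
/-- Surjectivity over the basis gives an epimorphism. -/
theorem epi_of_forall {M N : ModSite.Mod O} (q : M ⟶ N)
    (h : ∀ V, P V → Function.Surjective (secMap q V)) : Epi q := by
  refine epi_of_locally q fun V b => ?_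
  obtain ⟨R, hR, hRQ⟩ := exists_cover_of_forall hb
    (fun {W} (k : W ⟶ V) => ∃ a, secMap q W a = secRes N k b)
    (fun W W' k j ⟨a, ha⟩ => ⟨secRes M j a, by rw [secMap_secRes', ha, secRes_comp]⟩)
    (fun W k hW => h W hW _)
  exact ⟨R, hR, hRQ⟩

include hb in
/-- Surjectivity over the basis gives an epimorphism, over an open. -/
theorem epi_over_of_forall {U : Opens T} {M N : ModSite.Mod (O.over U)} (q : M ⟶ N)
    (h : ∀ V : Over U, P V.left → Function.Surjective (secMap q V)) : Epi q := by
  refine epi_of_locally q fun V b => ?_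
  obtain ⟨R, hR, hRQ⟩ := exists_over_cover_of_forall hb
    (fun {W} (k : W ⟶ V) => ∃ a, secMap q W a = secRes N k b)
    (fun W W' k j ⟨a, ha⟩ => ⟨secRes M j a, by rw [secMap_secRes', ha, secRes_comp]⟩)
    (fun W k hW => h W hW _)
  exact ⟨R, hR, hRQ⟩

include hb in
/-- Exactness over the basis gives exactness. -/
theorem exact_of_forall (S : ShortComplex (ModSite.Mod O))
    (h : ∀ V, P V → ∀ b, secMap S.g V b = 0 → ∃ a, secMap S.f V a = b) : S.Exact := by
  refine exact_of_locally S fun V b hgb => ?_
  exact exists_cover_of_forall hb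
    (fun {W} (k : W ⟶ V) => ∃ a, secMap S.f W a = secRes S.X₂ k b)
    (fun W W' k j ⟨a, ha⟩ => ⟨secRes _ j a, by rw [secMap_secRes', ha, secRes_comp]⟩)
    (fun W k hW => h W hW _ (by rw [secMap_secRes', hgb, map_zero]))

include hb in
/-- Exactness over the basis gives exactness, over an open. -/
theorem exact_over_of_forall {U : Opens T} (S : ShortComplex (ModSite.Mod (O.over U)))
    (h : ∀ V : Over U, P V.left → ∀ b, secMap S.g V b = 0 → ∃ a, secMap S.f V a = b) : S.Exact := by
  refine exact_of_locally S fun V b hgb => ?_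
  exact exists_over_cover_of_forall hb
    (fun {W} (k : W ⟶ V) => ∃ a, secMap S.f W a = secRes S.X₂ k b)
    (fun W W' k j ⟨a, ha⟩ => ⟨secRes _ j a, by rw [secMap_secRes', ha, secRes_comp]⟩)
    (fun W k hW => h W hW _ (by rw [secMap_secRes', hgb, map_zero]))

include hb in
/-- Injectivity over the basis gives injectivity on all sections. -/
theorem injective_of_forall {M N : ModSite.Mod O} (q : M ⟶ N)
    (h : ∀ V, P V → Function.Injective (secMap q V)) (V : Opens T) : Function.Injective (secMap q V) := by
  rw [injective_iff_map_eq_zero]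
  intro x hx
  obtain ⟨R, hR, hRQ⟩ := exists_cover_of_forall hb
    (fun {W} (k : W ⟶ V) => secRes M k x = 0)
    (fun W W' k j hk => by rw [← secRes_comp, hk, map_zero])
    (fun W k hW => h W hW (by rw [secMap_secRes', hx, map_zero, map_zero]))
  exact DerCompLib.sec_ext M R hR x 0 fun W k hk => (hRQ k hk).trans (map_zero _).symm

include hb in
theorem mono_of_forall {M N : ModSite.Mod O} (q : M ⟶ N)
    (h : ∀ V, P V → Function.Injective (secMap q V)) : Mono q :=
  mono_of_injective_sec q (injective_of_forall hb q h)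

include hb in
theorem isIso_of_forall {M N : ModSite.Mod O} (q : M ⟶ N)
    (h : ∀ V, P V → Function.Bijective (secMap q V)) : IsIso q := by
  haveI := mono_of_forall hb q fun V hV => (h V hV).1
  haveI := epi_of_forall hb q fun V hV => (h V hV).2
  exact isIso_of_mono_of_epi q

/-- Monomorphisms are injective on sections. -/
theorem injective_of_mono {M N : ModSite.Mod O} (q : M ⟶ N) [Mono q] (V : Opens T) :
    Function.Injective (secMap q V) :=
  (ModuleCat.mono_iff_injective _).1
    (inferInstanceAs (Mono ((SheafOfModules.evaluation.{u} (ModSite.ringSh O) (op V)).map q)))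

/-- Epimorphisms are locally surjective. -/
theorem locally_surjective_of_epi {M N : ModSite.Mod O} (q : M ⟶ N) [Epi q] {U : Opens T}
    (b : Sec N U) {x : T} (hx : x ∈ U) :
    ∃ (V : Opens T) (i : V ≤ U), x ∈ V ∧ ∃ a, secMap q V a = mRes N i b := by
  haveI : Epi ((SheafOfModules.toSheaf.{u} (ModSite.ringSh O)).map q) := by
    haveI : PreservesColimitsOfSize.{u, u} (SheafOfModules.toSheaf.{u} (ModSite.ringSh O)) :=
      ⟨fun {S} _ => DerCompLib.preservesColimitsOfShape_toSheaf (O := O) S⟩
    haveI : PreservesColimitsOfSize.{0, 0} (SheafOfModules.toSheaf.{u} (ModSite.ringSh O)) :=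
      preservesColimitsOfSize_shrink _
    infer_instance
  haveI := (Sheaf.isLocallySurjective_iff_epi'
    (φ := (SheafOfModules.toSheaf.{u} (ModSite.ringSh O)).map q)).2 inferInstance
  obtain ⟨V, k, ⟨a, ha⟩, hxV⟩ := Presheaf.imageSieve_mem (Opens.grothendieckTopology T)
    ((SheafOfModules.toSheaf.{u} (ModSite.ringSh O)).map q).hom (U := op U) b x hx
  exact ⟨V, leOfHom k, hxV, a, ha⟩

variable (hG : GoodRing O P)
include hG

/-- Epimorphisms are surjective over the basis. -/
theorem GoodRing.surjective_of_epi {M N : ModSite.Mod O} (hM : IsPC P M) (hN : IsPC P N) (q : M ⟶ N)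
    [Epi q] {U : Opens T} (hU : P U) : Function.Surjective (secMap q U) := by
  haveI := hM.finite U hU
  intro b
  obtain ⟨n, g, hg⟩ := Module.Finite.exists_fin (R := O.obj.obj (op U)) (M := Sec M U)
  let R := LinearMap.range (secMap q U)
  let 𝔞 : Ideal (O.obj.obj (op U)) := R.comap (LinearMap.toSpanSingleton _ _ b)
  have h1 : 𝔞 = ⊤ := by
    refine hG.cover U hU 𝔞 fun x hx => ?_
    obtain ⟨V', i', hxV', a, ha⟩ := locally_surjective_of_epi q b hx
    obtain ⟨V, hV, hxV, hVV'⟩ := hG.basis V' x hxV'
    refine ⟨V, hVV'.trans i', hV, hxV, (Ideal.eq_top_iff_one _).2 ?_⟩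
    have hx' : mRes M hVV' a ∈ Submodule.span (O.obj.obj (op V))
        (Set.range fun j => mRes M (hVV'.trans i') (g j)) :=
      hM.span_range _ hU hV g hg ▸ Submodule.mem_top
    obtain ⟨c, hc⟩ := (Submodule.mem_span_range_iff_exists_fun _).1 hx'
    let i : V ≤ U := hVV'.trans i'
    let s : Fin (n + 1) → Sec N U := Fin.cons b fun j => secMap q U (g j)
    let α : Fin (n + 1) → O.obj.obj (op V) := Fin.cons 1 fun j => -c j
    have hα : ∑ j, α j • mRes N i (s j) = 0 := by
      rw [Fin.sum_univ_succ]
      simp only [α, s, Fin.cons_zero, Fin.cons_succ, one_smul, neg_smul, Finset.sum_neg_distrib]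
      rw [← sub_eq_add_neg, sub_eq_zero, ← mRes_mRes i' hVV' b, ← ha, ← secMap_mRes, ← hc, map_sum]
      exact Finset.sum_congr rfl fun j _ => by rw [map_smul, secMap_mRes]
    have h2 := hN.rels U V i hU hV (n + 1) s α hα
    have h3 := Submodule.mem_map_of_mem
      (f := (LinearMap.proj 0 : (Fin (n + 1) → O.obj.obj (op V)) →ₗ[O.obj.obj (op V)] O.obj.obj (op V))) h2
    rw [Submodule.map_span] at h3
    have h4 : (LinearMap.proj 0 : (Fin (n + 1) → O.obj.obj (op V)) →ₗ[O.obj.obj (op V)] O.obj.obj (op V)) α
        = 1 := by simp [α]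
    rw [h4] at h3
    refine Submodule.span_le.2 ?_ h3
    rintro _ ⟨_, ⟨y, hy, rfl⟩, rfl⟩
    refine Ideal.mem_map_of_mem _ ?_
    rw [SetLike.mem_coe, mem_relsOf, Fin.sum_univ_succ] at hy
    simp only [s, Fin.cons_zero, Fin.cons_succ] at hy
    show y 0 • b ∈ R
    rw [eq_neg_of_add_eq_zero_left hy]
    exact neg_mem (Submodule.sum_mem _ fun j _ => Submodule.smul_mem _ _ ⟨_, rfl⟩)
  have hone : (1 : O.obj.obj (op U)) ∈ 𝔞 := h1 ▸ Submodule.mem_top
  obtain ⟨a, ha⟩ := hone
  exact ⟨a, ha.trans (one_smul _ b)⟩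

/-- Exactness gives exactness over the basis. -/
theorem GoodRing.exact_sections {S : ShortComplex (ModSite.Mod O)} (hS : S.Exact) (h₁ : IsPC P S.X₁)
    (h₂ : IsPC P S.X₂) (h₃ : IsPC P S.X₃) {U : Opens T} (hU : P U) (b : Sec S.X₂ U)
    (hgb : secMap S.g U b = 0) : ∃ a, secMap S.f U a = b := by
  obtain ⟨k, hk⟩ := exists_kernel_sec S.g U b hgb
  haveI : Epi (kernel.lift S.g S.f S.zero) := S.exact_iff_epi_kernel_lift.1 hS
  obtain ⟨a, ha⟩ := hG.surjective_of_epi h₁ (hG.isPC_kernel h₂ h₃ S.g)
    (kernel.lift S.g S.f S.zero) hU k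
  refine ⟨a, ?_⟩
  rw [← hk, ← ha]
  exact (congrArg (fun φ => secMap φ U a) (kernel.lift_ι S.g S.f S.zero)).symm

theorem GoodRing.injective_iff_mono {M N : ModSite.Mod O} (q : M ⟶ N) :
    Mono q ↔ ∀ V, P V → Function.Injective (secMap q V) :=
  ⟨fun _ V _ => injective_of_mono q V, mono_of_forall hG.basis q⟩

theorem GoodRing.surjective_iff_epi {M N : ModSite.Mod O} (hM : IsPC P M) (hN : IsPC P N) (q : M ⟶ N) :
    Epi q ↔ ∀ V, P V → Function.Surjective (secMap q V) :=
  ⟨fun _ _ hV => hG.surjective_of_epi hM hN q hV, epi_of_forall hG.basis q⟩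

omit hG

section Over

variable {U : Opens T}

/-- The arrow to the top object. -/
abbrev toTop (V : Over U) : V ⟶ ovTop U := Over.homMk V.hom

/-- The sections extending a section over the top object. -/
noncomputable def mkSec (N : ModSite.Mod (O.over U)) (t : Sec N (ovTop U)) : N.sections :=
  N.val.sectionsMk (fun V => secRes N (toTop V.unop) t) (fun {V W} g => by
    refine (secRes_comp N _ g.unop t).trans ?_
    exact congrArg (fun k => secRes N k t) (Over.OverMorphism.ext (Subsingleton.elim _ _)))

theorem mkSec_val (N : ModSite.Mod (O.over U)) (t : Sec N (ovTop U)) (V : Over U) :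
    (mkSec N t).val (op V) = secRes N (toTop V) t := rfl

theorem secRes_toTop_self (N : ModSite.Mod (O.over U)) (t : Sec N (ovTop U)) :
    secRes N (toTop (ovTop U)) t = t := by
  rw [show toTop (ovTop U) = 𝟙 _ from Over.OverMorphism.ext (Subsingleton.elim _ _)]
  exact ConcreteCategory.congr_hom (N.val.presheaf.map_id (op (ovTop U))) t

theorem imgVec_mkSec (N : ModSite.Mod (O.over U)) {I : Type u} (t : I → Sec N (ovTop U)) (V : Over U) (k : I) :
    imgVec (O.over U) (N.freeHomEquiv.symm fun k => mkSec N (t k)) V k = secRes N (toTop V) (t k) := by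
  rw [imgVec_eq]
  exact congrArg (fun s : N.sections => s.val (op V)) (congrFun (N.freeHomEquiv.apply_symm_apply _) k)

include hb in
theorem epi_of_span (N : ModSite.Mod (O.over U)) {I : Type u} [Fintype I] (t : I → Sec N (ovTop U))
    (h : ∀ V : Over U, P V.left →
      Submodule.span ((O.over U).obj.obj (op V)) (Set.range fun k => secRes N (toTop V) (t k)) = ⊤) :
    Epi (N.freeHomEquiv.symm fun k => mkSec N (t k)) := by
  refine epi_over_of_forall hb _ fun V hV x => ?_
  obtain ⟨c, hc⟩ := (Submodule.mem_span_range_iff_exists_fun _).1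
    (show x ∈ Submodule.span ((O.over U).obj.obj (op V)) (Set.range fun k => secRes N (toTop V) (t k)) by
      rw [h V hV]; trivial)
  refine ⟨∑ k, c k • freeVec (O.over U) k V, ?_⟩
  rw [map_sum, ← hc]
  refine Finset.sum_congr rfl fun k _ => ?_
  rw [map_smul]
  exact congrArg (c k • ·) (imgVec_mkSec N t V k)

/-- The image in the sections of a combination of tautological vectors. -/
theorem secMap_comb {N : ModSite.Mod (O.over U)} {I : Type u} [Fintype I]
    (π : SheafOfModules.free (R := ModSite.ringSh (O.over U)) I ⟶ N) (V : Over U)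
    (y : I → (O.over U).obj.obj (op V)) :
    secMap π V (∑ k, y k • freeVec (O.over U) k V) = ∑ k, y k • imgVec (O.over U) π V k := by
  rw [map_sum]
  exact Finset.sum_congr rfl fun k _ => map_smul _ _ _

theorem coordAt_comb {I : Type u} [Fintype I] (V : Over U) (y : I → (O.over U).obj.obj (op V)) (i : I) :
    coordAt (O.over U) V (∑ k, y k • freeVec (O.over U) k V) i = y i := by
  classical
  show secMap (coord (O.over U) i) V _ = _
  rw [map_sum, Finset.sum_eq_single i]
  · rw [map_smul]
    exact (congrArg (y i • ·) ((coordAt_freeVec (O.over U) V i i).trans (if_pos rfl))).trans (mul_one (y i))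
  · intro k _ hk
    rw [map_smul]
    exact (congrArg (y k • ·) ((coordAt_freeVec (O.over U) V i k).trans (if_neg hk.symm))).trans (mul_zero (y k))
  · simp

/-- Restriction of functions from the top object. -/
noncomputable abbrev rT (V : Over U) : (O.over U).obj.obj (op (ovTop U)) →+* (O.over U).obj.obj (op V) :=
  ((O.over U).obj.map (toTop V).op).hom

theorem secRes_comb {I : Type u} [Fintype I] (V : Over U) (y : I → (O.over U).obj.obj (op (ovTop U))) :
    secRes _ (toTop V) (∑ k, y k • freeVec (O.over U) k (ovTop U)) =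
      ∑ k, rT V (y k) • freeVec (O.over U) k V := by
  rw [map_sum]
  exact Finset.sum_congr rfl fun k _ => by rw [secRes_smul', freeVec_res]

set_option maxHeartbeats 1500000 in
include hb in
/-- A presentation from generators and relations on the top object. -/
theorem exists_presentation_of_span (N : ModSite.Mod (O.over U)) {I L : Type u} [Fintype I] [Fintype L]
    (t : I → Sec N (ovTop U)) (r : L → I → (O.over U).obj.obj (op (ovTop U)))
    (hr : ∀ l, ∑ k, r l k • t k = 0)
    (hgen : ∀ V : Over U, P V.left →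
      Submodule.span ((O.over U).obj.obj (op V)) (Set.range fun k => secRes N (toTop V) (t k)) = ⊤)
    (hrel : ∀ V : Over U, P V.left → ∀ a : I → (O.over U).obj.obj (op V),
      ∑ k, a k • secRes N (toTop V) (t k) = 0 →
        a ∈ Submodule.span ((O.over U).obj.obj (op V)) (Set.range fun l => rT V ∘ r l)) :
    ∃ Pr : SheafOfModules.Presentation (M := N), Pr.IsFinite := by
  let π := N.freeHomEquiv.symm fun k => mkSec N (t k)
  haveI hepi : Epi π := epi_of_span hb N t hgen
  have hker : ∀ l, secMap π (ovTop U) (∑ k, r l k • freeVec (O.over U) k (ovTop U)) = 0 := fun l => by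
    rw [secMap_comb, ← hr l]
    refine Finset.sum_congr rfl fun k _ => congrArg (r l k • ·) ?_
    rw [imgVec_mkSec, secRes_toTop_self]
  choose κ hκ using fun l => exists_kernel_sec π (ovTop U) _ (hker l)
  have hepi' : Epi ((kernel π).freeHomEquiv.symm fun l => mkSec (kernel π) (κ l)) := by
    refine epi_of_span hb (kernel π) κ fun V hV => top_unique fun x _ => ?_
    let p := secMap (kernel.ι π) V x
    have ha : ∑ k, coordAt (O.over U) V p k • secRes N (toTop V) (t k) = 0 := by
      have := kernel_sec_condition π V x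
      rw [secMap_free (O.over U) π V p] at this
      simpa only [π, imgVec_mkSec] using this
    obtain ⟨c, hc⟩ := (Submodule.mem_span_range_iff_exists_fun _).1 (hrel V hV _ ha)
    refine (Submodule.mem_span_range_iff_exists_fun _).2 ⟨c, ?_⟩
    apply kernel_sec_injective π V
    refine free_ext (O.over U) V fun k => ?_
    refine (coordAt_map_comb (O.over U) (kernel.ι π) c _ (fun l k => rT V (r l k)) (fun l => ?_) k).trans ?_
    · rw [secMap_secRes', hκ, secRes_comb]
    have := congrFun hc k
    simp only [Finset.sum_apply, Pi.smul_apply, smul_eq_mul, Function.comp_apply] at this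
    exact this
  exact ⟨⟨⟨_, fun k => mkSec N (t k), hepi⟩, ⟨_, fun l => mkSec (kernel π) (κ l), hepi'⟩⟩,
    { isFiniteType_generators := ⟨inferInstanceAs (Finite I)⟩
      isFiniteType_relations := ⟨inferInstanceAs (Finite L)⟩ }⟩

/-- The restriction of a module to an open. -/
noncomputable abbrev overMod (M : ModSite.Mod O) (U : Opens T) : ModSite.Mod (O.over U) :=
  (ModSite.restr O U).obj M

end Over

include hG

/-- A module is of finite presentation over each member of the basis. -/
theorem GoodRing.exists_presentation {M : ModSite.Mod O} (hM : IsPC P M) {U : Opens T} (hU : P U) :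
    ∃ Pr : SheafOfModules.Presentation (M := overMod M U), Pr.IsFinite := by
  haveI := hM.finite U hU
  haveI := hG.noeth U hU
  obtain ⟨n, g, hg⟩ := Module.Finite.exists_fin (R := O.obj.obj (op U)) (M := Sec M U)
  obtain ⟨L, r, hr⟩ := Submodule.fg_iff_exists_fin_generating_family.1
    (IsNoetherian.noetherian (relsOf (O.obj.obj (op U)) g))
  refine exists_presentation_of_span hG.basis (overMod M U) (I := ULift.{u} (Fin n)) (L := ULift.{u} (Fin L))
    (fun k => g k.down) (fun l k => r l.down k.down) (fun l => ?_) (fun V hV => ?_) (fun V hV a ha => ?_)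
  · have hl : ∑ j, r l.down j • g j = 0 := mem_relsOf.1 (hr ▸ Submodule.subset_span ⟨l.down, rfl⟩)
    refine Eq.trans ?_ hl
    exact Finset.sum_bijective Equiv.ulift Equiv.ulift.bijective (by simp) fun k _ => rfl
  · have h1 := hM.span_range (leOfHom V.hom) hU hV g hg
    rw [← Equiv.ulift.{u}.surjective.range_comp] at h1
    exact h1
  · have h1 := hM.rels U V.left (leOfHom V.hom) hU hV n g (fun j => a ⟨j⟩) (by
      refine Eq.trans ?_ ha
      exact (Finset.sum_bijective Equiv.ulift Equiv.ulift.bijective (by simp) fun k _ => rfl).symm)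
    have h2 := Submodule.mem_map_of_mem
      (f := (LinearMap.funLeft (O.obj.obj (op V.left)) (O.obj.obj (op V.left))
        (ULift.down : ULift.{u} (Fin n) → Fin n))) h1
    rw [Submodule.map_span] at h2
    refine Submodule.span_le.2 ?_ h2
    rintro _ ⟨_, ⟨y, hy, rfl⟩, rfl⟩
    rw [SetLike.mem_coe, ← hr] at hy
    obtain ⟨c, rfl⟩ := (Submodule.mem_span_range_iff_exists_fun _).1 hy
    refine (Submodule.mem_span_range_iff_exists_fun _).2 ⟨fun l => oRes O (leOfHom V.hom) (c l.down), ?_⟩
    funext k
    simp only [Finset.sum_apply, Pi.smul_apply, smul_eq_mul, LinearMap.funLeft_apply, Function.comp_apply, map_sum, map_mul]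
    exact Finset.sum_bijective Equiv.ulift Equiv.ulift.bijective (by simp) fun l _ => rfl

/-- Such modules are of finite presentation. -/
theorem GoodRing.isFinitePresentation {M : ModSite.Mod O} (hM : IsPC P M) :
    SheafOfModules.IsFinitePresentation.{u} M := by
  choose Pr hPr using fun U : {U : Opens T // P U} => hG.exists_presentation hM U.2
  constructor
  refine ⟨{ I := {U : Opens T // P U}, X := fun U => U.1, coversTop := fun V x hx => ?_,
            presentation := Pr }, ?_⟩
  swap
  · constructor
    exact hPr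
  obtain ⟨W, hW, hxW, hWV⟩ := hG.basis V x hx
  exact ⟨W, homOfLE hWV, ⟨⟨W, hW⟩, ⟨𝟙 W⟩⟩, hxW⟩

end Groth.Agent.FModLib
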