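import Groth.Agent.FModLib.Systems
import Groth.Agent.FSchLib.Systems
import Groth.Agent.Coherent.QcohLocal
import Mathlib.RingTheory.AdicCompletion.Functoriality
import Mathlib.RingTheory.AdicCompletion.Exactness

/-!
# Completions of coherent modules on affine opens

Over the trace of an affine open `W` the sections of the completion of `F` are the completion of `Γ(F, W)`.
-/

set_option autoImplicit false
set_option backward.isDefEq.respectTransparency false
set_option linter.style.haveILetI false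
set_option linter.unusedSectionVars false

universe u

open CategoryTheory CategoryTheory.Limits AlgebraicGeometry Opposite TopologicalSpace
open Groth.Agent.FBlowLib Groth.Agent.DerCompLib Groth.Agent.Coherent Groth.Agent.PicLib

namespace Groth.Agent.FModLib

theorem pullbackCongr_app_pullSec {W X : Scheme.{u}} {a b : W ⟶ X} (hab : a = b) (M : X.Modules) {U : X.Opens}
    (m : Γ(M, U)) :
    ((Scheme.Modules.pullbackCongr hab).hom.app M).app (a ⁻¹ᵁ U) (pullSec a m) =
      resM ((Scheme.Modules.pullback b).obj M) (le_of_eq (by rw [hab])) (pullSec b m) := by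
  subst hab
  exact (congrArg (fun φ => φ (pullSec a m)) (((Scheme.Modules.pullback a).obj M).presheaf.map_id _)).symm

/-- The transition map of successive pullbacks on pulled back sections. -/
theorem homEquiv_comp_pullSec {W V X : Scheme.{u}} (f : W ⟶ V) (g : V ⟶ X) {b : W ⟶ X} (hab : f ≫ g = b)
    (M : X.Modules) {U : X.Opens} (m : Γ(M, U)) :
    (((Scheme.Modules.pullbackPushforwardAdjunction f).homEquiv _ _)
      ((Scheme.Modules.pullbackComp f g ≪≫ Scheme.Modules.pullbackCongr hab).app M).hom).app (g ⁻¹ᵁ U)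
        (pullSec g m) =
      resM ((Scheme.Modules.pullback b).obj M) (le_of_eq (by subst hab; rfl)) (pullSec b m) := by
  rw [Adjunction.homEquiv_unit]
  show ((Scheme.Modules.pullbackCongr hab).hom.app M).app _
    (((Scheme.Modules.pullbackComp f g).hom.app M).app _ (pullSec f (pullSec g m))) = _
  rw [← pullbackComp_inv_app_pullSec]
  have e := (Scheme.Modules.pullbackComp f g).inv_hom_id_app M
  refine (congrArg (((Scheme.Modules.pullbackCongr hab).hom.app M).app _) ?_).trans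
    (pullbackCongr_app_pullSec hab M m)
  exact congr(($e).app ((f ≫ g) ⁻¹ᵁ U) (pullSec (f ≫ g) m))

/-- Adjuncts on restricted sections. -/
theorem resM_homEquiv_app {W V : Scheme.{u}} (f : W ⟶ V) {N : V.Modules} {P : W.Modules}
    (α : (Scheme.Modules.pullback f).obj N ⟶ P) {U₁ V₁ : V.Opens} {W₁ : W.Opens} (e₁ : V₁ ≤ U₁)
    (e₂ : W₁ ≤ f ⁻¹ᵁ V₁) (z : Γ(N, U₁)) :
    resM P e₂ ((((Scheme.Modules.pullbackPushforwardAdjunction f).homEquiv _ _) α).app V₁ (resM N e₁ z)) =
      resM P (e₂.trans (Scheme.Hom.preimage_mono f e₁)) (α.app (f ⁻¹ᵁ U₁) (pullSec f z)) := by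
  rw [Adjunction.homEquiv_unit]
  show resM P e₂ (α.app _ (pullSec f (resM N e₁ z))) = _
  rw [← resM_pullSec f e₁, app_resM, resM_resM]

/-- The transition map of successive pullbacks, on restricted sections. -/
theorem resM_homEquiv_comp_pullSec {W V X : Scheme.{u}} (f : W ⟶ V) (g : V ⟶ X) {b : W ⟶ X} (hab : f ≫ g = b)
    (M : X.Modules) {U : X.Opens} (m : Γ(M, U)) {V₁ : V.Opens} {W₁ : W.Opens} (e₁ : V₁ ≤ g ⁻¹ᵁ U)
    (e₂ : W₁ ≤ f ⁻¹ᵁ V₁) (e₃ : W₁ ≤ b ⁻¹ᵁ U) :
    resM ((Scheme.Modules.pullback b).obj M) e₂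
        ((((Scheme.Modules.pullbackPushforwardAdjunction f).homEquiv _ _)
          ((Scheme.Modules.pullbackComp f g ≪≫ Scheme.Modules.pullbackCongr hab).app M).hom).app V₁
          (resM ((Scheme.Modules.pullback g).obj M) e₁ (pullSec g m))) =
      resM ((Scheme.Modules.pullback b).obj M) e₃ (pullSec b m) := by
  refine (resM_homEquiv_app f _ e₁ e₂ _).trans ?_
  have h1 := homEquiv_comp_pullSec f g hab M m
  rw [Adjunction.homEquiv_unit] at h1
  exact (congrArg (resM ((Scheme.Modules.pullback b).obj M) (e₂.trans (Scheme.Hom.preimage_mono f e₁))) h1).trans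
    (resM_resM _ _ _ _)

variable {X : Scheme.{u}} {𝔛 : FSch.Sys.{u}} (p : ∀ n, 𝔛.X n ⟶ X) (hp : ∀ n, 𝔛.ι n ≫ p (n + 1) = p n)
  (h : 𝔛.IsFormal) (F : X.Modules)

/-- The system of pullbacks of a module to the levels. -/
noncomputable abbrev pullSys : FSch.ModSys 𝔛 where
  F n := (Scheme.Modules.pullback (p n)).obj F
  e n := (Scheme.Modules.pullbackComp (𝔛.ι n) (p (n + 1)) ≪≫ Scheme.Modules.pullbackCongr (hp n)).app F

/-- Functoriality of the system of pullbacks. -/
noncomputable abbrev pullSysMap {G : X.Modules} (φ : F ⟶ G) : pullSys p hp F ⟶ pullSys p hp G :=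
  ⟨fun n => (Scheme.Modules.pullback (p n)).map φ, fun n =>
    (Scheme.Modules.pullbackComp (𝔛.ι n) (p (n + 1)) ≪≫ Scheme.Modules.pullbackCongr (hp n)).hom.naturality φ⟩


/-- The trace of an open on the common space. -/
noncomputable abbrev tr₀ (W : X.Opens) : (𝔛.X 0).Opens := p 0 ⁻¹ᵁ W

include hp in
theorem lvU_tr₀ (k : ℕ) (W : X.Opens) :
    p k ⁻¹ᵁ W = 𝔛.lvU h k (tr₀ p W) :=
  FSch.lvU_p 𝔛 h p hp k W

variable (hci : ∀ n, IsClosedImmersion (p n)) (𝓘 : X.IdealSheafData) (hker : ∀ n, (p n).ker = 𝓘 ^ (n + 1))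

include hci in
theorem isAffineOpen_tr₀ {W : X.Opens} (hW : IsAffineOpen W) : IsAffineOpen (tr₀ p W) :=
  haveI := hci 0
  hW.preimage (p 0)

include hci in
theorem basis_tr₀ (U : (𝔛.X 0).Opens) (x : 𝔛.X 0) (hx : x ∈ U) :
    ∃ V : (𝔛.X 0).Opens,
      (∃ W : X.Opens, IsAffineOpen W ∧ V = tr₀ p W) ∧ x ∈ V ∧ V ≤ U := by
  haveI := hci 0
  obtain ⟨O', hO', hOU⟩ := (p 0).isClosedEmbedding.isInducing.isOpen_iff.1 U.2
  have hxO : p 0 x ∈ (⟨O', hO'⟩ : X.Opens) := by
    have : x ∈ (p 0).base ⁻¹' O' := by rw [hOU]; exact hx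
    exact this
  obtain ⟨W, hW, hxW, hWO⟩ := exists_isAffineOpen_mem_and_subset hxO
  exact ⟨_, ⟨W, hW, rfl⟩, hxW, fun y hy => hOU.le (hWO hy)⟩

/-- A section of `F` in the level `k` of the completion. -/
noncomputable def eta (k : ℕ) (W : X.Opens) :
    Γ(F, W) →+ DerCompLib.Sec (up h k ((Scheme.Modules.pullback (p k)).obj F)) (tr₀ p W) :=
  (upVal h).symm.toAddMonoidHom.comp
    ((((Scheme.Modules.pullback (p k)).obj F).presheaf.map
        (homOfLE (lvU_tr₀ p hp h k W).ge).op).hom.comp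
      (((Scheme.Modules.pullbackPushforwardAdjunction (p k)).unit.app F).app W).hom)

theorem upVal_eta (k : ℕ) (W : X.Opens) (m : Γ(F, W)) :
    upVal h (eta p hp h F k W m) = resM ((Scheme.Modules.pullback (p k)).obj F)
      (lvU_tr₀ p hp h k W).ge (pullSec (p k) m) :=
  AddEquiv.apply_symm_apply _ _

include hci in
theorem appLE_surjective_tr₀ (k : ℕ) {W : X.Opens} (hW : IsAffineOpen W) :
    Function.Surjective ((p k).appLE W (𝔛.lvU h k (tr₀ p W))
      (lvU_tr₀ p hp h k W).ge) := by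
  intro y
  haveI := hci k
  haveI : IsIso ((𝔛.X k).presheaf.map (homOfLE (lvU_tr₀ p hp h k W).ge).op) := by
    rw [show homOfLE (lvU_tr₀ p hp h k W).ge = eqToHom (lvU_tr₀ p hp h k W).symm from Subsingleton.elim _ _]
    infer_instance
  obtain ⟨z, hz⟩ := (ConcreteCategory.bijective_of_isIso
    ((𝔛.X k).presheaf.map (homOfLE (lvU_tr₀ p hp h k W).ge).op)).2 y
  obtain ⟨x, hx⟩ := (p k).app_surjective W hW z
  exact ⟨x, (congrArg ((𝔛.X k).presheaf.map (homOfLE (lvU_tr₀ p hp h k W).ge).op) hx).trans hz⟩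

include hci hker in
theorem ker_appLE_tr₀ (k : ℕ) {W : X.Opens} (hW : IsAffineOpen W) :
    RingHom.ker ((p k).appLE W (𝔛.lvU h k (tr₀ p W))
      (lvU_tr₀ p hp h k W).ge).hom = 𝓘.ideal ⟨W, hW⟩ ^ (k + 1) := by
  haveI := hci k
  haveI : IsIso ((𝔛.X k).presheaf.map (homOfLE (lvU_tr₀ p hp h k W).ge).op) := by
    rw [show homOfLE (lvU_tr₀ p hp h k W).ge = eqToHom (lvU_tr₀ p hp h k W).symm from Subsingleton.elim _ _]
    infer_instance
  rw [Scheme.Hom.appLE, CommRingCat.hom_comp, RingHom.ker_comp_of_injective _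
    (ConcreteCategory.bijective_of_isIso _).1]
  refine (Scheme.Hom.ker_apply (p k) ⟨W, hW⟩).symm.trans ?_
  rw [hker, Scheme.IdealSheafData.ideal_pow]
  rfl

include hci in
theorem eta_surjective [Coh.IsQCoh F] (k : ℕ) {W : X.Opens} (hW : IsAffineOpen W) :
    Function.Surjective (eta p hp h F k W) := by
  intro y
  obtain ⟨m, hm⟩ := pullSec_surjective (M := F) (p k) hW
    (S13347.isAffineOpen_lvU _ h k _ (isAffineOpen_tr₀ p hci hW)) (lvU_tr₀ p hp h k W).ge
    (appLE_surjective_tr₀ p hp h hci k hW) (upVal h y)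
  exact ⟨m, (upVal h).injective ((upVal_eta p hp h F k W m).trans hm)⟩

include hci hker in
theorem eta_eq_zero_iff [Coh.IsQCoh F] (k : ℕ) {W : X.Opens} (hW : IsAffineOpen W) (m : Γ(F, W)) :
    eta p hp h F k W m = 0 ↔ m ∈ 𝓘.ideal ⟨W, hW⟩ ^ (k + 1) • (⊤ : Submodule Γ(X, W) Γ(F, W)) := by
  rw [← map_eq_zero_iff (upVal h) (upVal h).injective, upVal_eta]
  refine ⟨fun hm => ker_appLE_tr₀ p hp h hci 𝓘 hker k hW ▸ pullSec_ker (M := F) (p k) hW
    (S13347.isAffineOpen_lvU _ h k _ (isAffineOpen_tr₀ p hci hW)) (lvU_tr₀ p hp h k W).ge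
    (appLE_surjective_tr₀ p hp h hci k hW) m hm, fun hm => ?_⟩
  refine Submodule.smul_induction_on hm (fun r hr n _ => ?_) fun a b ha hb => ?_
  · rw [← ker_appLE_tr₀ p hp h hci 𝓘 hker k hW, RingHom.mem_ker] at hr
    rw [pullSec_smul, resM_smul]
    refine (congrArg (· • _) ?_).trans (zero_smul _ _)
    exact hr
  · have := congrArg₂ (· + ·) ha hb
    simp only [add_zero] at this
    refine Eq.trans ?_ this
    rw [← upVal_eta p hp h, ← upVal_eta p hp h, ← upVal_eta p hp h, map_add, map_add]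

theorem trSec_eta (k : ℕ) (W : X.Opens) (m : Γ(F, W)) :
    trSec h (pullSys p hp F).F (pullSys p hp F).toPush k (tr₀ p W) (eta p hp h F (k + 1) W m) =
      eta p hp h F k W m := by
  apply (upVal h).injective
  exact resM_homEquiv_comp_pullSec (𝔛.ι k) (p (k + 1)) (hp k) F m (lvU_tr₀ p hp h (k + 1) W).ge
    (𝔛.lvU_le h k (tr₀ p W)) (lvU_tr₀ p hp h k W).ge

variable [Coh.IsQCoh F] {W : X.Opens} (hW : IsAffineOpen W)

/-- The level `n` of an element of the completion, read in the level `k`. -/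
noncomputable def etaC (k : ℕ) :
    AdicCompletion (𝓘.ideal ⟨W, hW⟩) Γ(F, W) →+
      DerCompLib.Sec (up h k ((Scheme.Modules.pullback (p k)).obj F)) (tr₀ p W) :=
  (QuotientAddGroup.lift (G := Γ(F, W)) (𝓘.ideal ⟨W, hW⟩ ^ (k + 1) • (⊤ : Submodule Γ(X, W) Γ(F, W))).toAddSubgroup
    (eta p hp h F k W) (fun m hm => (eta_eq_zero_iff p hp h F hci 𝓘 hker k hW m).2 hm)).comp
    (AdicCompletion.eval (𝓘.ideal ⟨W, hW⟩) Γ(F, W) (k + 1)).toAddMonoidHom

theorem etaC_eq (k : ℕ) (x : AdicCompletion (𝓘.ideal ⟨W, hW⟩) Γ(F, W)) (m : Γ(F, W))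
    (hm : x.val (k + 1) = Submodule.Quotient.mk m) : etaC p hp h F hci 𝓘 hker hW k x = eta p hp h F k W m := by
  show QuotientAddGroup.lift (𝓘.ideal ⟨W, hW⟩ ^ (k + 1) • (⊤ : Submodule Γ(X, W) Γ(F, W))).toAddSubgroup
    (eta p hp h F k W) (fun m hm => (eta_eq_zero_iff p hp h F hci 𝓘 hker k hW m).2 hm) (x.val (k + 1)) = _
  rw [hm]
  rfl

theorem trSec_etaC (k : ℕ) (x : AdicCompletion (𝓘.ideal ⟨W, hW⟩) Γ(F, W)) :
    trSec h (pullSys p hp F).F (pullSys p hp F).toPush k (tr₀ p W) (etaC p hp h F hci 𝓘 hker hW (k + 1) x) =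
      etaC p hp h F hci 𝓘 hker hW k x := by
  obtain ⟨m, hm⟩ := Submodule.Quotient.mk_surjective _ (x.val (k + 2))
  rw [etaC_eq p hp h F hci 𝓘 hker hW (k + 1) x m hm.symm]
  refine (trSec_eta p hp h F k W m).trans (etaC_eq p hp h F hci 𝓘 hker hW k x m ?_).symm
  rw [← x.property (Nat.le_succ (k + 1)), ← hm]
  rfl

/-- The completion to sections of the completion. -/
theorem exists_complEquiv :
    ∃ e : AdicCompletion (𝓘.ideal ⟨W, hW⟩) Γ(F, W) ≃+
        DerCompLib.Sec ((pullSys p hp F).realMod h) (tr₀ p W),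
      ∀ x k, rproj h (pullSys p hp F).F (pullSys p hp F).toPush k (tr₀ p W) (e x) =
        etaC p hp h F hci 𝓘 hker hW k x := by
  choose e he using fun x => exists_rsec h (pullSys p hp F).F (pullSys p hp F).toPush
    (fun k => etaC p hp h F hci 𝓘 hker hW k x) (fun k => trSec_etaC p hp h F hci 𝓘 hker hW k x)
  let f : AdicCompletion (𝓘.ideal ⟨W, hW⟩) Γ(F, W) →+
      DerCompLib.Sec ((pullSys p hp F).realMod h) (tr₀ p W) :=
    AddMonoidHom.mk' e fun a b => rsec_ext h _ _ fun k => by rw [map_add, he, he, he, map_add]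
  have hinj : Function.Injective f := by
    rw [injective_iff_map_eq_zero]
    intro x hx
    refine AdicCompletion.ext fun n => ?_
    rcases n with _ | k
    · have hsub : Subsingleton (Γ(F, W) ⧸ (𝓘.ideal ⟨W, hW⟩ ^ 0 • (⊤ : Submodule Γ(X, W) Γ(F, W)))) :=
        Submodule.Quotient.subsingleton_iff.2 (by simp)
      exact Subsingleton.elim _ _
    obtain ⟨m, hm⟩ := Submodule.Quotient.mk_surjective _ (x.val (k + 1))
    rw [← hm, show (0 : AdicCompletion (𝓘.ideal ⟨W, hW⟩) Γ(F, W)).val (k + 1) = 0 from rfl,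
      Submodule.Quotient.mk_eq_zero]
    rw [← eta_eq_zero_iff p hp h F hci 𝓘 hker k hW, ← etaC_eq p hp h F hci 𝓘 hker hW k x m hm.symm, ← he]
    exact (congrArg (rproj h _ _ k _) hx).trans (map_zero _)
  have hsurj : Function.Surjective f := by
    intro z
    choose m hm using fun k => eta_surjective p hp h F hci k hW
      (rproj h (pullSys p hp F).F (pullSys p hp F).toPush k (tr₀ p W) z)
    have hc : ∀ k, m (k + 1) - m k ∈ 𝓘.ideal ⟨W, hW⟩ ^ (k + 1) • (⊤ : Submodule Γ(X, W) Γ(F, W)) := fun k => by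
      rw [← eta_eq_zero_iff p hp h F hci 𝓘 hker k hW, map_sub, ← trSec_eta p hp h F k W (m (k + 1)), hm, trSec_rproj, hm, sub_self]
    let s : ℕ → Γ(F, W) := fun n => m (n - 1)
    have hs : ∀ n, s (n + 1) - s n ∈ 𝓘.ideal ⟨W, hW⟩ ^ n • (⊤ : Submodule Γ(X, W) Γ(F, W)) := fun n => by
      rcases n with _ | j
      · simp
      · exact hc j
    let c : AdicCompletion (𝓘.ideal ⟨W, hW⟩) Γ(F, W) :=
      AdicCompletion.mk _ _ (AdicCompletion.AdicCauchySequence.mk _ _ s fun n => SModEq.sub_mem.2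
        ((Submodule.neg_mem_iff _).1 (by rw [neg_sub]; exact hs n)))
    refine ⟨c, rsec_ext h _ _ fun k => ?_⟩
    show rproj h _ _ k _ (e c) = _
    rw [he, etaC_eq p hp h F hci 𝓘 hker hW k c (s (k + 1)) rfl]
    exact hm k
  exact ⟨AddEquiv.ofBijective f ⟨hinj, hsurj⟩, fun x k => he x k⟩

theorem eta_natural {G : X.Modules} (φ : F ⟶ G) (k : ℕ) (W : X.Opens) (m : Γ(F, W)) :
    secMap ((FSch.levelMor _ h k).push.map ((pullSysMap p hp F φ).app k)) (tr₀ p W) (eta p hp h F k W m) =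
      eta p hp h G k W (φ.app W m) := by
  apply (upVal h).injective
  rw [upVal_map, upVal_eta, upVal_eta]
  refine (app_resM ((Scheme.Modules.pullback (p k)).map φ) _ _).trans (congrArg _ ?_)
  exact congr(($((Scheme.Modules.pullbackPushforwardAdjunction
    (p k)).unit.naturality φ)).app W m).symm

end Groth.Agent.FModLib
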