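import Groth.Agent.FModLib.Scheme

/-!
# Generators and relations of inverse images on affine opens
-/

set_option autoImplicit false
set_option backward.isDefEq.respectTransparency false
set_option linter.style.haveILetI false
set_option linter.unusedSectionVars false

universe u v w

open CategoryTheory CategoryTheory.Limits AlgebraicGeometry Opposite TopologicalSpace TensorProduct
open Groth.Agent.Coherent Groth.Agent.EGA43.InjFibre Groth.Agent.PicLib

namespace Groth.Agent.FModLib

section Alg

variable {A : Type u} [CommRing A] {L : Type v} [AddCommGroup L] [Module A L] {A' : Type u} [CommRing A']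
  [Algebra A A'] {L' : Type w} [AddCommGroup L'] [Module A L'] [Module A' L'] [IsScalarTower A A' L']
  {f : L →ₗ[A] L'}

/-- Relations of base changed generators. -/
theorem relsOf_le_span_of_isBaseChange_gen (h : IsBaseChange A' f) {ι : Type*}
    [Fintype ι] (x : ι → L) (hx : Submodule.span A (Set.range x) = ⊤) :
    relsOf A' (f ∘ x) ≤ Submodule.span A' ((fun v => algebraMap A A' ∘ v) '' (relsOf A x : Set (ι → A))) := by
  classical
  intro v hv
  let g := Fintype.linearCombination A x
  have hg : Function.Surjective g := fun y => (Submodule.mem_span_range_iff_exists_fun _).1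
    (show y ∈ Submodule.span A (Set.range x) by rw [hx]; trivial)
  let u : A' ⊗[A] (ι → A) := ∑ i, v i ⊗ₜ Pi.single i 1
  have hu : g.lTensor A' u = 0 := by
    refine h.equiv.injective ?_
    simp only [u, map_sum, LinearMap.lTensor_tmul, g, Fintype.linearCombination_apply_single, one_smul,
      h.equiv_tmul, map_zero]
    exact mem_relsOf.1 hv
  obtain ⟨t, ht⟩ := (lTensor_exact A' (LinearMap.exact_subtype_ker_map g) hg u).1 hu
  let Φ := TensorProduct.piScalarRight A A' A' ι
  have hΦ : Φ u = v := by
    funext j
    simp [u, Φ, Finset.sum_apply, Pi.single_apply]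
  rw [← hΦ, ← ht]
  clear ht
  induction t using TensorProduct.induction_on with
  | zero => simp
  | tmul r k =>
    rw [LinearMap.lTensor_tmul]
    have : Φ (r ⊗ₜ[A] (k : ι → A)) = r • (algebraMap A A' ∘ (k : ι → A)) := by
      funext i
      simp [Φ, Algebra.smul_def, mul_comm]
    erw [this]
    exact Submodule.smul_mem _ _ (Submodule.subset_span ⟨k, k.2, rfl⟩)
  | add a b ha hb => rw [map_add, map_add]; exact add_mem ha hb

end Alg

variable {X X' : Scheme.{u}} {M : X.Modules} [Coh.IsQCoh M] (f : X' ⟶ X) {U : X.Opens} {U' : X'.Opens}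
  (hU : IsAffineOpen U) (hU' : IsAffineOpen U') (e : U' ≤ f ⁻¹ᵁ U) {ι : Type*}
  (x : ι → Γ(M, U)) (hx : Submodule.span Γ(X, U) (Set.range x) = ⊤)

include hU hU' hx in
/-- Pullbacks of generators generate. -/
theorem span_pullSec :
    Submodule.span Γ(X', U') (Set.range fun j => resM ((Scheme.Modules.pullback f).obj M) e (pullSec f (x j))) = ⊤ := by
  letI := (f.appLE U U' e).hom.toAlgebra
  letI := Module.compHom Γ((Scheme.Modules.pullback f).obj M, U') (f.appLE U U' e).hom
  haveI : IsScalarTower Γ(X, U) Γ(X', U') Γ((Scheme.Modules.pullback f).obj M, U') :=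
    IsScalarTower.of_algebraMap_smul fun _ _ => rfl
  obtain ⟨μ, hμ, hμe⟩ := pullMap_isBaseChange f hU hU' e M
  have := FittLib.span_range_comp_isBaseChange hμ x hx
  rwa [show μ ∘ x = fun j => resM ((Scheme.Modules.pullback f).obj M) e (pullSec f (x j)) from
    funext fun j => (hμe _).trans (pullMap_eq_resM_pullSec ..)] at this

include hU hU' hx in
/-- Relations of pullbacks of generators come from the relations. -/
theorem rels_pullSec [Fintype ι] (a : ι → Γ(X', U'))
    (ha : ∑ j, a j • resM ((Scheme.Modules.pullback f).obj M) e (pullSec f (x j)) = 0) :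
    a ∈ Submodule.span Γ(X', U')
      ((fun y => (f.appLE U U' e).hom ∘ y) '' (relsOf Γ(X, U) x : Set (ι → Γ(X, U)))) := by
  letI := (f.appLE U U' e).hom.toAlgebra
  letI := Module.compHom Γ((Scheme.Modules.pullback f).obj M, U') (f.appLE U U' e).hom
  haveI : IsScalarTower Γ(X, U) Γ(X', U') Γ((Scheme.Modules.pullback f).obj M, U') :=
    IsScalarTower.of_algebraMap_smul fun _ _ => rfl
  obtain ⟨μ, hμ, hμe⟩ := pullMap_isBaseChange f hU hU' e M
  refine relsOf_le_span_of_isBaseChange_gen hμ x hx ?_
  rw [mem_relsOf]
  refine (Finset.sum_congr rfl fun j _ => ?_).trans ha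
  exact congrArg (a j • ·) ((hμe _).trans (pullMap_eq_resM_pullSec ..))

end Groth.Agent.FModLib
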