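import Groth.Agent.RSpace.PullIso
import Groth.Agent.FModLib.SchemePull
import Groth.Agent.FModLib.Compl
import Groth.Agent.ZClosLib.Descent
import Groth.Prelude.Def_FSch6

/-!
# The inverse image of the module of a coherent system is the module of the levelwise inverse images
-/

set_option autoImplicit false
set_option backward.isDefEq.respectTransparency false
set_option linter.style.haveILetI false
set_option linter.unusedSectionVars false

universe u

open CategoryTheory CategoryTheory.Limits AlgebraicGeometry Opposite TopologicalSpace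
open Groth.Agent.FBlowLib Groth.Agent.DerCompLib Groth.Agent.Coherent Groth.Agent.PicLib

namespace Groth.Agent.FModLib

/-- The transition of levelwise inverse images on pulled back sections. -/
theorem pullTrans_app_pullSec {W W₁ V V₁ : Scheme.{u}} (i : W ⟶ W₁) (g₁ : W₁ ⟶ V₁) (g : W ⟶ V) (j : V ⟶ V₁)
    (w : i ≫ g₁ = g ≫ j) (M₁ : V₁.Modules) (M₀ : V.Modules) (eM : (Scheme.Modules.pullback j).obj M₁ ⟶ M₀)
    {U₁ : V₁.Opens} (m : Γ(M₁, U₁)) :
    (((Scheme.Modules.pullbackComp i g₁).hom.app M₁ ≫ (Scheme.Modules.pullbackCongr w).hom.app M₁ ≫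
        (Scheme.Modules.pullbackComp g j).inv.app M₁) ≫ (Scheme.Modules.pullback g).map eM).app
          (i ⁻¹ᵁ g₁ ⁻¹ᵁ U₁) (pullSec i (pullSec g₁ m)) =
      resM ((Scheme.Modules.pullback g).obj M₀)
        (le_of_eq (show (i ≫ g₁) ⁻¹ᵁ U₁ = (g ≫ j) ⁻¹ᵁ U₁ by rw [w]))
        (pullSec g (eM.app (j ⁻¹ᵁ U₁) (pullSec j m))) := by
  show ((Scheme.Modules.pullback g).map eM).app _ (((Scheme.Modules.pullbackComp g j).inv.app M₁).app _
    (((Scheme.Modules.pullbackCongr w).hom.app M₁).app _ (((Scheme.Modules.pullbackComp i g₁).hom.app M₁).app _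
      (pullSec i (pullSec g₁ m))))) = _
  have e1 : ((Scheme.Modules.pullbackComp i g₁).hom.app M₁).app (i ⁻¹ᵁ g₁ ⁻¹ᵁ U₁) (pullSec i (pullSec g₁ m)) =
      pullSec (i ≫ g₁) m := by
    rw [← pullbackComp_inv_app_pullSec]
    have e := (Scheme.Modules.pullbackComp i g₁).inv_hom_id_app M₁
    exact congr(($e).app ((i ≫ g₁) ⁻¹ᵁ U₁) (pullSec (i ≫ g₁) m))
  rw [e1]
  refine (congrArg (fun z => ((Scheme.Modules.pullback g).map eM).app _
    (((Scheme.Modules.pullbackComp g j).inv.app M₁).app _ z)) (pullbackCongr_app_pullSec w M₁ m)).trans ?_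
  refine (congrArg (((Scheme.Modules.pullback g).map eM).app _)
    (app_resM ((Scheme.Modules.pullbackComp g j).inv.app M₁) _ (pullSec (g ≫ j) m))).trans ?_
  rw [pullbackComp_inv_app_pullSec]
  refine (app_resM ((Scheme.Modules.pullback g).map eM) _ (pullSec g (pullSec j m))).trans (congrArg _ ?_)
  exact congr(($((Scheme.Modules.pullbackPushforwardAdjunction g).unit.naturality eM)).app (j ⁻¹ᵁ U₁) (pullSec j m)).symm

theorem resM_pullSec_trans {Y T : Scheme.{u}} (σ : T ⟶ Y) {L : Y.Modules} {U V : Y.Opens} (h : V ≤ U)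
    {W : T.Opens} (e : W ≤ σ ⁻¹ᵁ V) (g : Γ(L, U)) :
    resM ((Scheme.Modules.pullback σ).obj L) e (pullSec σ (resM L h g)) =
      resM ((Scheme.Modules.pullback σ).obj L) (e.trans (Scheme.Hom.preimage_mono σ h)) (pullSec σ g) := by
  rw [← resM_pullSec σ h, resM_resM]

theorem pullTrans_app_resM {W W₁ V V₁ : Scheme.{u}} (i : W ⟶ W₁) (g₁ : W₁ ⟶ V₁) (g : W ⟶ V) (j : V ⟶ V₁)
    (w : i ≫ g₁ = g ≫ j) (M₁ : V₁.Modules) (M₀ : V.Modules) (eM : (Scheme.Modules.pullback j).obj M₁ ⟶ M₀)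
    {U₁ : V₁.Opens} (m : Γ(M₁, U₁)) {W₁' : W₁.Opens} {W₀ : W.Opens} {V₀ : V.Opens} (e₁ : W₁' ≤ g₁ ⁻¹ᵁ U₁)
    (e₂ : W₀ ≤ i ⁻¹ᵁ W₁') (e₃ : W₀ ≤ g ⁻¹ᵁ V₀) (e₄ : V₀ ≤ j ⁻¹ᵁ U₁) :
    (((Scheme.Modules.pullbackComp i g₁).hom.app M₁ ≫ (Scheme.Modules.pullbackCongr w).hom.app M₁ ≫
        (Scheme.Modules.pullbackComp g j).inv.app M₁) ≫ (Scheme.Modules.pullback g).map eM).app W₀
          (resM _ e₂ (pullSec i (resM _ e₁ (pullSec g₁ m)))) =
      resM ((Scheme.Modules.pullback g).obj M₀) e₃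
        (pullSec g (eM.app V₀ (resM _ e₄ (pullSec j m)))) := by
  refine (congrArg _ (resM_pullSec_trans i e₁ e₂ (pullSec g₁ m))).trans ((app_resM _ _ _).trans ?_)
  rw [pullTrans_app_pullSec, app_resM, resM_pullSec_trans]
  exact resM_resM ((Scheme.Modules.pullback g).obj M₀) _ _ _

variable {𝔛 𝔜 : FSch.Sys.{u}} (hX : 𝔛.IsFormal) (hY : 𝔜.IsFormal) (f : 𝔛 ⟶ 𝔜) (𝔐 : FSch.ModSys 𝔜)

/-- The continuous map. -/
noncomputable abbrev base₀ : (𝔛.X 0).carrier ⟶ (𝔜.X 0).carrier := ((f : FSch.Hom 𝔛 𝔜).app 0).base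

/-- The preimage of an open. -/
noncomputable abbrev pre₀ (U : (𝔜.X 0).Opens) : (𝔛.X 0).Opens := ((f : FSch.Hom 𝔛 𝔜).app 0) ⁻¹ᵁ U

/-- A section on the base pulled back to the level `k`. -/
noncomputable def etaF (k : ℕ) (U : (𝔜.X 0).Opens) :
    DerCompLib.Sec (up hY k (𝔐.F k)) U →+
      DerCompLib.Sec (up hX k ((FSch.ModSys.pullback f 𝔐).F k)) (pre₀ f U) :=
  (upVal hX).symm.toAddMonoidHom.comp (((((Scheme.Modules.pullback ((f : FSch.Hom 𝔛 𝔜).app k)).obj (𝔐.F k)).presheaf.map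
      (homOfLE (FSch.Hom.lvU_preimage f hX hY k U).ge).op).hom.comp
    (((Scheme.Modules.pullbackPushforwardAdjunction ((f : FSch.Hom 𝔛 𝔜).app k)).unit.app (𝔐.F k)).app
      (𝔜.lvU hY k U)).hom).comp (upVal hY).toAddMonoidHom)

theorem upVal_etaF (k : ℕ) (U : (𝔜.X 0).Opens) (z : DerCompLib.Sec (up hY k (𝔐.F k)) U) :
    upVal hX (etaF hX hY f 𝔐 k U z) = resM ((Scheme.Modules.pullback ((f : FSch.Hom 𝔛 𝔜).app k)).obj (𝔐.F k))
      (FSch.Hom.lvU_preimage f hX hY k U).ge (pullSec ((f : FSch.Hom 𝔛 𝔜).app k) (upVal hY z)) :=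
  AddEquiv.apply_symm_apply _ _

theorem trSec_etaF (k : ℕ) (U : (𝔜.X 0).Opens) (z : DerCompLib.Sec (up hY (k + 1) (𝔐.F (k + 1))) U) :
    trSec hX (FSch.ModSys.pullback f 𝔐).F (FSch.ModSys.pullback f 𝔐).toPush k (pre₀ f U)
        (etaF hX hY f 𝔐 (k + 1) U z) =
      etaF hX hY f 𝔐 k U (trSec hY 𝔐.F 𝔐.toPush k U z) := by
  apply (upVal hX).injective
  rw [upVal_trSec_toPush, upVal_etaF, upVal_etaF, upVal_trSec_toPush]
  exact pullTrans_app_resM (𝔛.ι k) ((f : FSch.Hom 𝔛 𝔜).app (k + 1)) ((f : FSch.Hom 𝔛 𝔜).app k) (𝔜.ι k)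
    ((f : FSch.Hom 𝔛 𝔜).comm k).symm (𝔐.F (k + 1)) (𝔐.F k) (𝔐.e k).hom (upVal hY z) _ _ _ _

theorem etaF_smul (k : ℕ) (U : (𝔜.X 0).Opens) (r : FBlowLib.Sec 𝔜 hY U)
    (z : DerCompLib.Sec (up hY k (𝔐.F k)) U) :
    etaF hX hY f 𝔐 k U (r • z) =
      RSpace.sm (base₀ f) (FSch.Hom.sharp f hX hY) U r • etaF hX hY f 𝔐 k U z := by
  apply (upVal hX).injective
  rw [upVal_etaF, upVal_smul, upVal_smul, upVal_etaF, pullSec_smul, resM_smul]
  refine congrArg (· • _) ?_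
  exact congrArg (fun φ => (φ : 𝔜.Osh hY ⟶ _).hom.app (op U) r) (FSch.Hom.sharp_proj f hX hY k).symm

theorem etaF_res (k : ℕ) {U U' : (𝔜.X 0).Opens} (i : U' ≤ U) (z : DerCompLib.Sec (up hY k (𝔐.F k)) U) :
    etaF hX hY f 𝔐 k U' (mRes (up hY k (𝔐.F k)) i z) =
      mRes (up hX k ((FSch.ModSys.pullback f 𝔐).F k)) (Scheme.Hom.preimage_mono ((f : FSch.Hom 𝔛 𝔜).app 0) i)
        (etaF hX hY f 𝔐 k U z) := by
  apply (upVal hX).injective
  rw [upVal_mRes, upVal_etaF, upVal_etaF, upVal_mRes, resM_pullSec_trans]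
  exact (resM_resM ((Scheme.Modules.pullback ((f : FSch.Hom 𝔛 𝔜).app k)).obj (𝔐.F k)) _ _ _).symm

theorem exists_psiF :
    ∃ ψ : 𝔐.realMod hY ⟶ (RSpace.pushR (base₀ f) (FSch.Hom.sharp f hX hY)).obj
        ((FSch.ModSys.pullback f 𝔐).realMod hX),
      ∀ k (U : (𝔜.X 0).Opens) (y : DerCompLib.Sec (𝔐.realMod hY) U),
        rproj hX (FSch.ModSys.pullback f 𝔐).F (FSch.ModSys.pullback f 𝔐).toPush k (pre₀ f U)
            (RSpace.pvR (base₀ f) (FSch.Hom.sharp f hX hY) (𝟙 ((RSpace.pushR (base₀ f) (FSch.Hom.sharp f hX hY)).obj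
              ((FSch.ModSys.pullback f 𝔐).realMod hX))) le_rfl (secMap ψ U y)) =
          etaF hX hY f 𝔐 k U (rproj hY 𝔐.F 𝔐.toPush k U y) := by
  choose w hw using fun (U : (𝔜.X 0).Opens) (y : DerCompLib.Sec (𝔐.realMod hY) U) =>
    exists_rsec hX (FSch.ModSys.pullback f 𝔐).F (FSch.ModSys.pullback f 𝔐).toPush
      (fun k => etaF hX hY f 𝔐 k U (rproj hY 𝔐.F 𝔐.toPush k U y))
      (fun k => (trSec_etaF hX hY f 𝔐 k U _).trans (congrArg _ (trSec_rproj hY 𝔐.F 𝔐.toPush k U y)))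
  let N₀ := (FSch.ModSys.pullback f 𝔐).realMod hX
  have hadd : ∀ U y y', w U (y + y') = w U y + w U y' := fun U y y' => rsec_ext hX _ _ fun k => by
    rw [map_add, hw, hw, hw, map_add, map_add]
  have hsmul : ∀ U (r : FBlowLib.Sec 𝔜 hY U) y,
      w U (r • y) = RSpace.sm (base₀ f) (FSch.Hom.sharp f hX hY) U r • w U y := fun U r y =>
    rsec_ext hX _ _ fun k => by rw [hw, map_smul, etaF_smul, map_smul, hw]
  have hres : ∀ {U U' : (𝔜.X 0).Opens} (i : U' ≤ U) (y : DerCompLib.Sec (𝔐.realMod hY) U),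
      w U' (mRes (𝔐.realMod hY) i y) =
        mRes N₀ (Scheme.Hom.preimage_mono ((f : FSch.Hom 𝔛 𝔜).app 0) i) (w U y) := fun {U U'} i y =>
    rsec_ext hX _ _ fun k => by
      rw [hw]
      refine Eq.trans ?_ (secMap_mRes (FSch.realProj 𝔛 hX _ _ k) _ (w U y)).symm
      refine (congrArg (etaF hX hY f 𝔐 k U') (secMap_mRes (FSch.realProj 𝔜 hY _ _ k) i y)).trans ?_
      rw [etaF_res]
      exact congrArg _ (hw U y k).symm
  refine ⟨⟨PresheafOfModules.homMk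
    { app := fun U => AddCommGrpCat.ofHom (AddMonoidHom.mk' (w U.unop) (hadd U.unop))
      naturality := fun U V i => AddCommGrpCat.ext fun y => hres (leOfHom i.unop) y }
    fun U r y => hsmul U.unop r y⟩, fun k U y => ?_⟩
  refine Eq.trans (congrArg (rproj hX _ _ k _) ?_) (hw U y k)
  exact ConcreteCategory.congr_hom (((FSch.ModSys.pullback f 𝔐).realMod hX).val.presheaf.map_id _) _

variable (hX' : 𝔛.IsLocNoethFormal) (hY' : 𝔜.IsLocNoethFormal) (hM : 𝔐.IsCoh)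

include hM in
theorem isCoh_pullback' : (FSch.ModSys.pullback f 𝔐).IsCoh := fun n =>
  ZClosLib.isCoh_pullback _ _ (hM n)

include hX' hY' hM in
theorem isPullPres (ψ : 𝔐.realMod hY ⟶ (RSpace.pushR (base₀ f) (FSch.Hom.sharp f hX hY)).obj
        ((FSch.ModSys.pullback f 𝔐).realMod hX))
    (hψ : ∀ k (U : (𝔜.X 0).Opens) (y : DerCompLib.Sec (𝔐.realMod hY) U),
        rproj hX (FSch.ModSys.pullback f 𝔐).F (FSch.ModSys.pullback f 𝔐).toPush k (pre₀ f U)
            (RSpace.pvR (base₀ f) (FSch.Hom.sharp f hX hY) (𝟙 _) le_rfl (secMap ψ U y)) =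
          etaF hX hY f 𝔐 k U (rproj hY 𝔐.F 𝔐.toPush k U y)) :
    RSpace.IsPullPres (base₀ f) (FSch.Hom.sharp f hX hY) ψ (AFF 𝔜) (AFF 𝔛) := by
  have hN := isCoh_pullback' f 𝔐 hM
  have hval : ∀ k (U : (𝔜.X 0).Opens) (V : (𝔛.X 0).Opens) (i : V ≤ pre₀ f U)
      (y : DerCompLib.Sec (𝔐.realMod hY) U),
      upVal hX (rproj hX (FSch.ModSys.pullback f 𝔐).F (FSch.ModSys.pullback f 𝔐).toPush k V
          (RSpace.pvR (base₀ f) (FSch.Hom.sharp f hX hY) ψ i y)) =
        resM ((Scheme.Modules.pullback ((f : FSch.Hom 𝔛 𝔜).app k)).obj (𝔐.F k))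
          ((FBlow.lvU_mono 𝔛 hX k i).trans (FSch.Hom.lvU_preimage f hX hY k U).ge)
          (pullSec ((f : FSch.Hom 𝔛 𝔜).app k) (upVal hY (rproj hY 𝔐.F 𝔐.toPush k U y))) := fun k U V i y => by
    have h1 : RSpace.pvR (base₀ f) (FSch.Hom.sharp f hX hY) ψ i y =
        mRes ((FSch.ModSys.pullback f 𝔐).realMod hX) i
          (RSpace.pvR (base₀ f) (FSch.Hom.sharp f hX hY) (𝟙 _) le_rfl (secMap ψ U y)) :=
      ((RSpace.mRes_pvR (base₀ f) (FSch.Hom.sharp f hX hY) (𝟙 _) (le_refl (pre₀ f U)) i (secMap ψ U y))).symm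
    rw [h1, rproj_mRes]
    refine (congrArg (fun z => resM ((FSch.ModSys.pullback f 𝔐).F k) _ (upVal hX z)) (hψ k U y)).trans ?_
    rw [upVal_etaF]
    exact resM_resM ((Scheme.Modules.pullback ((f : FSch.Hom 𝔛 𝔜).app k)).obj (𝔐.F k)) _ _ _
  refine ⟨fun U V i hU hV => ?_, fun U hU => (real_props hY hY' 𝔐 hM hU).1,
    fun U V i hU hV {ι} _ s hs a ha => ?_⟩
  · haveI : Coh.IsQCoh (𝔐.F 0) := (hM 0).1
    haveI := (real_props hX hX' _ hN hV).1
    refine span_eq_top_of_sup_smul (jdl_le_jacobson hX hX' hV) _ (top_unique fun x _ => ?_)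
    obtain ⟨n, g, hg⟩ := (finite_sections (𝔐.F 0) (locallyFinGen_of_isFT (𝔐.F 0) (hM 0).2)
      (S13347.isAffineOpen_lvU 𝔜 hY 0 U hU)).exists_fin
    choose g' hg' using fun j => ((real_props hY hY' 𝔐 hM hU).2 0).1 ((upVal hY).symm (g j))
    let e := (FBlow.lvU_mono 𝔛 hX 0 i).trans (FSch.Hom.lvU_preimage f hX hY 0 U).ge
    obtain ⟨c, hc⟩ := (Submodule.mem_span_range_iff_exists_fun _).1
      (show upVal hX (rproj hX (FSch.ModSys.pullback f 𝔐).F (FSch.ModSys.pullback f 𝔐).toPush 0 V x) ∈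
          Submodule.span _ (Set.range fun j =>
            resM ((Scheme.Modules.pullback ((f : FSch.Hom 𝔛 𝔜).app 0)).obj (𝔐.F 0)) e
              (pullSec ((f : FSch.Hom 𝔛 𝔜).app 0) (g j))) by
        rw [span_pullSec ((f : FSch.Hom 𝔛 𝔜).app 0) (S13347.isAffineOpen_lvU 𝔜 hY 0 U hU)
          (S13347.isAffineOpen_lvU 𝔛 hX 0 V hV) e g hg]
        trivial)
    choose c' hc' using fun j => ((sec_props hX hX' hV).2 0).1 (c j)
    refine Submodule.mem_sup.2 ⟨∑ j, c' j • RSpace.pvR (base₀ f) (FSch.Hom.sharp f hX hY) ψ i (g' j),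
      Submodule.sum_mem _ fun j _ => Submodule.smul_mem _ _ (Submodule.subset_span ⟨g' j, rfl⟩),
      x - ∑ j, c' j • RSpace.pvR (base₀ f) (FSch.Hom.sharp f hX hY) ψ i (g' j), ?_, add_sub_cancel _ _⟩
    have hk := ((real_props hX hX' _ hN hV).2 0).2
    rw [pow_one] at hk
    rw [← hk, LinearMap.mem_ker, map_sub, sub_eq_zero]
    apply (upVal hX).injective
    rw [map_sum, map_sum]
    refine hc.symm.trans (Finset.sum_congr rfl fun j _ => ?_)
    rw [map_smul, upVal_smul, hc']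
    refine congrArg (c j • ·) (Eq.symm ((hval 0 U V i (g' j)).trans ?_))
    rw [hg', AddEquiv.apply_symm_apply]
  · haveI := isNoetherianRing_sec hY hY' hU
    haveI := isNoetherianRing_sec hX hX' hV
    haveI := (real_props hY hY' 𝔐 hM hU).1
    let r := (res 𝔛 hX i).comp (RSpace.sm (base₀ f) (FSch.Hom.sharp f hX hY) U)
    let e := fun n => (FBlow.lvU_mono 𝔛 hX n i).trans (FSch.Hom.lvU_preimage f hX hY n U).ge
    have hcomm : ∀ n x, ((f : FSch.Hom 𝔛 𝔜).app n).appLE (𝔜.lvU hY n U) (𝔛.lvU hX n V) (e n) (proj 𝔜 hY n U x) =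
        proj 𝔛 hX n V (r x) := fun n x => by
      rw [RingHom.comp_apply, proj_res, ← Scheme.Hom.appLE_map ((f : FSch.Hom 𝔛 𝔜).app n)
        (FSch.Hom.lvU_preimage f hX hY n U).ge (homOfLE (FBlow.lvU_mono 𝔛 hX n i)).op]
      exact congrArg (((𝔛.X n).presheaf.map (homOfLE (FBlow.lvU_mono 𝔛 hX n i)).op))
        (congrArg (fun φ => (φ : 𝔜.Osh hY ⟶ _).hom.app (op U) x) (FSch.Hom.sharp_proj f hX hY n).symm)
    have hJ : (jdl hY U).map r ≤ jdl hX V := by
      rw [← pow_one (jdl hY U), ← pow_one (jdl hX V), ← ((sec_props hY hY' hU).2 0).2,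
        ← ((sec_props hX hX' hV).2 0).2, Ideal.map_le_iff_le_comap]
      intro x hx
      rw [Ideal.mem_comap, RingHom.mem_ker, ← hcomm]
      rw [RingHom.mem_ker] at hx
      rw [hx, map_zero]
    refine mem_span_rels_of_levels r (jdl hY U) (jdl hX V) hJ (jdl_le_jacobson hX hX' hV)
      (fun n => proj 𝔜 hY n U) (fun n => proj 𝔛 hX n V)
      (fun n => (((f : FSch.Hom 𝔛 𝔜).app n).appLE (𝔜.lvU hY n U) (𝔛.lvU hX n V) (e n)).hom)
      hcomm (fun n => ((sec_props hY hY' hU).2 n).1) (fun n => ((sec_props hX hX' hV).2 n).1)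
      (fun n => ((sec_props hX hX' hV).2 n).2.le.trans (Ideal.pow_le_pow_right n.le_succ)) s a
      (fun n => relsOf Γ(𝔜.X n, 𝔜.lvU hY n U) (fun j => upVal hY (rproj hY 𝔐.F 𝔐.toPush n U (s j))))
      (fun n y hy => ?_) (fun n => ?_)
    · refine Submodule.smul_mono (Ideal.pow_le_pow_right n.le_succ) le_rfl ?_
      rw [← ((real_props hY hY' 𝔐 hM hU).2 n).2, LinearMap.mem_ker]
      apply (upVal hY).injective
      rw [map_sum, map_sum, map_zero]
      refine Eq.trans ?_ (mem_relsOf.1 hy)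
      exact Finset.sum_congr rfl fun j _ => by rw [map_smul, upVal_smul]; rfl
    · haveI : Coh.IsQCoh (𝔐.F n) := (hM n).1
      refine rels_pullSec ((f : FSch.Hom 𝔛 𝔜).app n) (S13347.isAffineOpen_lvU 𝔜 hY n U hU)
        (S13347.isAffineOpen_lvU 𝔛 hX n V hV) (e n) _ ?_ _ ?_
      · refine top_unique fun z _ => ?_
        obtain ⟨y, hy⟩ := ((real_props hY hY' 𝔐 hM hU).2 n).1 ((upVal hY).symm z)
        obtain ⟨b, hb⟩ := (Submodule.mem_span_range_iff_exists_fun _).1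
          (show y ∈ Submodule.span _ (Set.range s) by rw [hs]; trivial)
        refine (Submodule.mem_span_range_iff_exists_fun _).2 ⟨fun j => proj 𝔜 hY n U (b j), ?_⟩
        refine Eq.trans ?_ ((congrArg (upVal hY) hy).trans (AddEquiv.apply_symm_apply _ _))
        rw [← hb, map_sum, map_sum]
        exact Finset.sum_congr rfl fun j _ => by rw [map_smul, upVal_smul]
      · have := congrArg (fun z => upVal hX (rproj hX (FSch.ModSys.pullback f 𝔐).F
          (FSch.ModSys.pullback f 𝔐).toPush n V z)) ha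
        simp only [map_sum, map_zero] at this
        refine (Finset.sum_congr rfl fun j _ => ?_).trans this
        rw [map_smul, upVal_smul]
        exact congrArg (proj 𝔛 hX n V (a j) • ·) (hval n U V i (s j)).symm

include hX' hY' hM in
/-- Inverse image of the module of a coherent system. -/
theorem exists_pullF_iso :
    ∃ e : (FSch.pullF f hX hY).obj (𝔐.realMod hY) ≅ (FSch.ModSys.pullback f 𝔐).realMod hX,
      ∀ k : ℕ, (FSch.homMor f hX hY).adj.homEquiv _ _ e.hom ≫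
          (FSch.pushF f hX hY).map (FSch.realProj 𝔛 hX _ _ k) ≫
          (FSch.lvPushSq f hX hY k).hom.app ((FSch.ModSys.pullback f 𝔐).F k) =
        FSch.realProj 𝔜 hY _ _ k ≫
          (FSch.levelMor 𝔜 hY k).push.map
            ((ModSite.RMor.ofScheme ((f : FSch.Hom _ _).app k)).adj.unit.app (𝔐.F k)) := by
  obtain ⟨ψ, hψ⟩ := exists_psiF hX hY f 𝔐
  have H := isPullPres hX hY f 𝔐 hX' hY' hM ψ hψ
  obtain ⟨e, he⟩ := RSpace.exists_pull_iso H (fun U s hs => basis_AFF U s hs) (fun U s hs => basis_AFF U s hs)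
    (FSch.homMor f hX hY) rfl ψ HEq.rfl
  refine ⟨e, fun k => ?_⟩
  rw [he]
  apply SheafOfModules.hom_ext
  apply PresheafOfModules.hom_ext
  intro U
  refine ModuleCat.hom_ext (LinearMap.ext fun y => ?_)
  have key : rproj hX (FSch.ModSys.pullback f 𝔐).F (FSch.ModSys.pullback f 𝔐).toPush k (pre₀ f U.unop)
      (secMap ψ U.unop y) = etaF hX hY f 𝔐 k U.unop (rproj hY 𝔐.F 𝔐.toPush k U.unop y) := by
    refine Eq.trans (congrArg (rproj hX _ _ k _) ?_) (hψ k U.unop y)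
    exact (ConcreteCategory.congr_hom (((FSch.ModSys.pullback f 𝔐).realMod hX).val.presheaf.map_id _) _).symm
  have key' := congrArg (upVal hX) key
  rw [upVal_etaF] at key'
  refine (congrArg (resM ((Scheme.Modules.pullback ((f : FSch.Hom 𝔛 𝔜).app k)).obj (𝔐.F k))
    (FSch.Hom.lvU_preimage f hX hY k U.unop).le) key').trans ((resM_resM _ _ _ _).trans ?_)
  exact ConcreteCategory.congr_hom (((Scheme.Modules.pullback ((f : FSch.Hom 𝔛 𝔜).app k)).obj (𝔐.F k)).presheaf.map_id _) _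

end Groth.Agent.FModLib
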