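import Groth.Agent.FModLib.PushFinite
import Groth.Agent.FModLib.SysPullIso

/-!
# Base change for direct images by closed immersions of formal schemes
-/

set_option autoImplicit false
set_option backward.isDefEq.respectTransparency false
set_option linter.style.haveILetI false
set_option linter.unusedSectionVars false

universe u

open CategoryTheory CategoryTheory.Limits AlgebraicGeometry Opposite TopologicalSpace
open Groth.Agent.FBlowLib Groth.Agent.DerCompLib Groth.Agent.Coherent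

namespace Groth.Agent.FModLib

section Invariance

variable {T S : TopCat.{u}} {O : Sheaf (Opens.grothendieckTopology T) CommRingCat.{u}}
  {O' : Sheaf (Opens.grothendieckTopology S) CommRingCat.{u}} (φ : T ⟶ S)
  (sharp : O' ⟶ (TopCat.Sheaf.pushforward CommRingCat.{u} φ).obj O)

theorem secMap_inv_hom {T : TopCat.{u}} {O : Sheaf (Opens.grothendieckTopology T) CommRingCat.{u}}
    {M N : ModSite.Mod O} (e : M ≅ N) (V : Opens T) (x : Sec N V) : secMap e.hom V (secMap e.inv V x) = x :=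
  congrArg (fun ω => secMap ω V x) e.inv_hom_id

theorem secMap_hom_inv {T : TopCat.{u}} {O : Sheaf (Opens.grothendieckTopology T) CommRingCat.{u}}
    {M N : ModSite.Mod O} (e : M ≅ N) (V : Opens T) (x : Sec M V) : secMap e.inv V (secMap e.hom V x) = x :=
  congrArg (fun ω => secMap ω V x) e.hom_inv_id

/-- Presentations of inverse images are invariant under isomorphisms. -/
theorem isPullPres_of_isos {M M' : ModSite.Mod O'} {N N' : ModSite.Mod O}
    (ψ : M ⟶ (RSpace.pushR φ sharp).obj N) (a : M' ≅ M) (b : N ≅ N') {PS : Opens S → Prop} {PT : Opens T → Prop}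
    (H : RSpace.IsPullPres φ sharp ψ PS PT) :
    RSpace.IsPullPres φ sharp (a.hom ≫ ψ ≫ (RSpace.pushR φ sharp).map b.hom) PS PT := by
  have hev : ∀ {U : Opens S} {V : Opens T} (i : V ≤ (Opens.map φ).obj U) (x : Sec M' U),
      RSpace.pvR φ sharp (a.hom ≫ ψ ≫ (RSpace.pushR φ sharp).map b.hom) i x =
        secMap b.hom V (RSpace.pvR φ sharp ψ i (secMap a.hom U x)) := fun i x =>
    (secMap_mRes b.hom i _).symm
  refine ⟨fun U V i hU hV => top_unique fun y _ => ?_, fun U hU => ?_, fun U V i hU hV {ι} _ s hs c hc => ?_⟩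
  · have hy : secMap b.inv V y ∈ Submodule.span (O.obj.obj (op V)) (Set.range (RSpace.pvR φ sharp ψ i)) := by
      rw [H.span U V i hU hV]; trivial
    have := Submodule.mem_map_of_mem (f := secMap b.hom V) hy
    rw [Submodule.map_span, secMap_inv_hom] at this
    refine Submodule.span_mono ?_ this
    rintro _ ⟨_, ⟨x, rfl⟩, rfl⟩
    exact ⟨secMap a.inv U x, by rw [hev, secMap_inv_hom]⟩
  · haveI := H.finite U hU
    exact Module.Finite.of_surjective (secMap a.inv U) fun x => ⟨_, secMap_hom_inv a U x⟩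
  · have hs' : Submodule.span (O'.obj.obj (op U)) (Set.range fun j => secMap a.hom U (s j)) = ⊤ := by
      rw [show (fun j => secMap a.hom U (s j)) = secMap a.hom U ∘ s from rfl, Set.range_comp, ← Submodule.map_span,
        hs, Submodule.map_top]
      exact LinearMap.range_eq_top.2 fun x => ⟨_, secMap_inv_hom a U x⟩
    refine Submodule.span_mono (Set.image_mono fun y hy => ?_) (H.rels U V i hU hV _ hs' c ?_)
    · rw [SetLike.mem_coe, mem_relsOf] at hy ⊢
      have := congrArg (secMap a.inv U) hy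
      rw [map_sum, map_zero] at this
      refine Eq.trans ?_ this
      exact Finset.sum_congr rfl fun j _ => by rw [map_smul, secMap_hom_inv]
    · have := congrArg (secMap b.inv V) hc
      rw [map_sum, map_zero] at this
      refine Eq.trans ?_ this
      exact Finset.sum_congr rfl fun j _ => by rw [map_smul, hev, secMap_hom_inv]

end Invariance

/-- The unit of the inverse image of a coherent module is a presentation on affine opens. -/
theorem isPullPres_unit {ℨ 𝔛 : FSch.Sys.{u}} (p : ℨ ⟶ 𝔛) (hZ : ℨ.IsFormal) (hX : 𝔛.IsFormal)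
    (hZ' : ℨ.IsLocNoethFormal) (hX' : 𝔛.IsLocNoethFormal) (F : ModSite.Mod (𝔛.Osh hX))
    (hF : FSch.IsCohF 𝔛 hX F) :
    RSpace.IsPullPres (base₀ p) (FSch.Hom.sharp p hZ hX) ((FSch.homMor p hZ hX).adj.unit.app F) (AFF 𝔛) (AFF ℨ) := by
  let 𝔐 := downSys hX F
  have hM := isCoh_down hX hX' F hF
  haveI := isIso_theta hX hX' F hF
  obtain ⟨ψ, hψ⟩ := exists_psiF hZ hX p 𝔐
  have H := isPullPres hZ hX p 𝔐 hZ' hX' hM ψ hψ
  obtain ⟨e, he⟩ := RSpace.exists_pull_iso H (fun U s hs => basis_AFF U s hs) (fun U s hs => basis_AFF U s hs)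
    (FSch.homMor p hZ hX) rfl ψ HEq.rfl
  let a := asIso (theta hX F)
  have h2 := isPullPres_of_isos (base₀ p) (FSch.Hom.sharp p hZ hX) ψ a
    (e.symm ≪≫ ((FSch.homMor p hZ hX).pull.mapIso a).symm) H
  refine (congrArg (fun u => RSpace.IsPullPres (base₀ p) (FSch.Hom.sharp p hZ hX) u (AFF 𝔛) (AFF ℨ)) ?_).mp h2
  show a.hom ≫ ψ ≫ (FSch.homMor p hZ hX).push.map (e.inv ≫ (FSch.homMor p hZ hX).pull.map a.inv) =
    (FSch.homMor p hZ hX).adj.unit.app F
  have h3 : ((FSch.homMor p hZ hX).adj.homEquiv _ _)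
      ((FSch.homMor p hZ hX).pull.map a.hom ≫ e.hom ≫ e.inv ≫ (FSch.homMor p hZ hX).pull.map a.inv) =
        (FSch.homMor p hZ hX).adj.unit.app F := by
    rw [Iso.hom_inv_id_assoc, ← Functor.map_comp, a.hom_inv_id, CategoryTheory.Functor.map_id,
      Adjunction.homEquiv_unit, CategoryTheory.Functor.map_id]
    exact Category.comp_id _
  refine Eq.trans ?_ h3
  refine Eq.trans ?_ ((FSch.homMor p hZ hX).adj.homEquiv_naturality_left _ _).symm
  refine Eq.trans ?_ (congrArg (a.hom ≫ ·) ((FSch.homMor p hZ hX).adj.homEquiv_naturality_right _ _).symm)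
  exact congrArg (fun u => a.hom ≫ u ≫ (FSch.homMor p hZ hX).push.map
    (e.inv ≫ (FSch.homMor p hZ hX).pull.map a.inv)) he.symm

/-- A commutative square of schemes on sections. -/
theorem appLE_sq {S X Y Z : Scheme.{u}} (p : Z ⟶ X) (f : X ⟶ S) (q : Z ⟶ Y) (g : Y ⟶ S) (w : p ≫ f = q ≫ g)
    {A : S.Opens} {B : X.Opens} {C C' : Z.Opens} {D D' : Y.Opens} (e₁ : B ≤ f ⁻¹ᵁ A) (e₂ : C ≤ p ⁻¹ᵁ B)
    (h : C' ≤ C) (e₃ : D ≤ g ⁻¹ᵁ A) (h' : D' ≤ D) (e₄ : C' ≤ q ⁻¹ᵁ D') :
    (f.appLE A B e₁ ≫ p.appLE B C e₂) ≫ Z.presheaf.map (homOfLE h).op =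
      (g.appLE A D e₃ ≫ Y.presheaf.map (homOfLE h').op) ≫ q.appLE D' C' e₄ := by
  have aux : ∀ {φ ψ : Z ⟶ S} (_ : φ = ψ) (e : C' ≤ φ ⁻¹ᵁ A) (e' : C' ≤ ψ ⁻¹ᵁ A),
      φ.appLE A C' e = ψ.appLE A C' e' := fun hφ _ _ => by subst hφ; rfl
  simp only [Scheme.Hom.appLE_map, Scheme.Hom.appLE_comp_appLE]
  exact aux w _ _

variable {𝔖 𝔛 𝔜 ℨ : FSch.Sys.{u}} (p : ℨ ⟶ 𝔛) (f : 𝔛 ⟶ 𝔖) (q : ℨ ⟶ 𝔜) (g : 𝔜 ⟶ 𝔖) (w : p ≫ f = q ≫ g)
  (hZ : ℨ.IsFormal) (hX : 𝔛.IsFormal) (hY : 𝔜.IsFormal) (hS : 𝔖.IsFormal)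
  (hZ' : ℨ.IsLocNoethFormal) (hX' : 𝔛.IsLocNoethFormal) (hY' : 𝔜.IsLocNoethFormal) (hS' : 𝔖.IsLocNoethFormal)
  (hf : FSch.IsAdicHom f) (hq : FSch.IsAdicHom q)
  [IsClosedImmersion ((f : FSch.Hom 𝔛 𝔖).app 0)] [IsClosedImmersion ((q : FSch.Hom ℨ 𝔜).app 0)]

include w in
theorem preimage_le {U : (𝔖.X 0).Opens} {V : (𝔜.X 0).Opens} (i : V ≤ preV g U) : preV q V ≤ preV p (preV f U) :=
  fun z hz => (FSch.Hom.sq_preimage p f q g w U).ge (i hz)

include w in
theorem shU_square {U : (𝔖.X 0).Opens} {V : (𝔜.X 0).Opens} (i : V ≤ preV g U) (r : Sec 𝔖 hS U) :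
    res ℨ hZ (preimage_le p f q g w i) (shU p hZ hX (preV f U) (shU f hX hS U r)) =
      shU q hZ hY V (res 𝔜 hY i (shU g hY hS U r)) := by
  refine sec_ext ℨ hZ fun n => ?_
  rw [proj_res, proj_shU, proj_shU, proj_shU, proj_res, proj_shU]
  exact DFunLike.congr_fun (congrArg (·.hom) (appLE_sq _ _ _ _ (FSch.Hom.sq_app p f q g w n)
    (FSch.Hom.lvU_preimage f hX hS n U).ge (FSch.Hom.lvU_preimage p hZ hX n (preV f U)).ge
    (FBlow.lvU_mono ℨ hZ n (preimage_le p f q g w i)) (FSch.Hom.lvU_preimage g hY hS n U).ge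
    (FBlow.lvU_mono 𝔜 hY n i) (FSch.Hom.lvU_preimage q hZ hY n V).ge)) (proj 𝔖 hS n U r)

variable (hpb : ∀ n, IsPullback ((p : FSch.Hom ℨ 𝔛).app n) ((q : FSch.Hom ℨ 𝔜).app n)
  ((f : FSch.Hom 𝔛 𝔖).app n) ((g : FSch.Hom 𝔜 𝔖).app n))

include hX' hS' hY' hZ' hf hq hpb in
set_option maxHeartbeats 1000000 in
/-- The kernel of the base change is generated by the kernel. -/
theorem ker_shU_le {U : (𝔖.X 0).Opens} {V : (𝔜.X 0).Opens} (i : V ≤ preV g U) (hU : IsAffineOpen U)
    (hV : IsAffineOpen V) :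
    RingHom.ker (shU q hZ hY V) ≤ (RingHom.ker (shU f hX hS U)).map ((res 𝔜 hY i).comp (shU g hY hS U)) := by
  haveI := isNoetherianRing_sec hY hY' hV
  intro a ha
  refine mem_of_forall_mem_sup_pow (L := Sec 𝔜 hY V) (jdl_le_jacobson hY hY' hV) _ fun k => ?_
  haveI := FSchLib.isClosedImmersion_app hS' hf k
  haveI := FSchLib.isClosedImmersion_app hY' hq k
  let eq' := (FSch.Hom.lvU_preimage q hZ hY k V).ge
  have hkerlv : ∀ {A B : FSch.Sys.{u}} (h : A ⟶ B) (hA : A.IsFormal) (hB : B.IsFormal) (W : (B.X 0).Opens)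
      (hW : IsAffineOpen W) [IsClosedImmersion ((h : FSch.Hom A B).app k)],
      RingHom.ker (shLv h hA hB k W) =
        ((h : FSch.Hom A B).app k).ker.ideal ⟨_, S13347.isAffineOpen_lvU B hB k W hW⟩ := by
    intro A B h hA hB W hW _
    have e := FSch.Hom.lvU_preimage h hA hB k W
    haveI : IsIso ((A.X k).presheaf.map (homOfLE e.ge).op) := by
      rw [show homOfLE e.ge = eqToHom e.symm from Subsingleton.elim _ _]
      infer_instance
    rw [Scheme.Hom.ker_apply, shLv, Scheme.Hom.appLE, CommRingCat.hom_comp]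
    exact RingHom.ker_comp_of_injective _ (ConcreteCategory.bijective_of_isIso _).1
  let eg : 𝔜.lvU hY k V ≤ ((g : FSch.Hom 𝔜 𝔖).app k) ⁻¹ᵁ 𝔖.lvU hS k U :=
    (FBlow.lvU_mono 𝔜 hY k i).trans (FSch.Hom.lvU_preimage g hY hS k U).ge
  have hK : RingHom.ker (shLv q hZ hY k V) =
      (RingHom.ker (shLv f hX hS k U)).map (((g : FSch.Hom 𝔜 𝔖).app k).appLE _ _ eg).hom := by
    rw [hkerlv q hZ hY V hV, hkerlv f hX hS U hU, FSchLib.ker_of_isPullback (hpb k).flip]
    exact FSchLib.ideal_comap_eq_map _ _ ⟨_, S13347.isAffineOpen_lvU 𝔜 hY k V hV⟩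
      ⟨_, S13347.isAffineOpen_lvU 𝔖 hS k U hU⟩ eg
  have hU' := isAffineOpen_preV f hU
  have hsurj : RingHom.ker (shLv f hX hS k U) = (RingHom.ker (shU f hX hS U)).map (proj 𝔖 hS k U) := by
    refine le_antisymm (fun z hz => ?_) (Ideal.map_le_iff_le_comap.2 fun x hx => ?_)
    · obtain ⟨x, rfl⟩ := ((sec_props hS hS' hU).2 k).1 z
      have h1 : shU f hX hS U x ∈ jdl hX (preV f U) ^ (k + 1) := by
        rw [← ((sec_props hX hX' hU').2 k).2, RingHom.mem_ker, proj_shU]
        exact hz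
      rw [← map_shU_jdl f hX hS hX' hS' hf hU, ← Ideal.map_pow] at h1
      obtain ⟨j, hj, hjx⟩ := (Ideal.mem_map_iff_of_surjective _
        (surjective_shU f hX hS hX' hS' hf hU)).1 h1
      rw [← ((sec_props hS hS' hU).2 k).2, RingHom.mem_ker] at hj
      have : proj 𝔖 hS k U (x - j) = proj 𝔖 hS k U x := by rw [map_sub, hj, sub_zero]
      rw [← this]
      exact Ideal.mem_map_of_mem _ (by rw [RingHom.mem_ker, map_sub, hjx, sub_self])
    · rw [Ideal.mem_comap, RingHom.mem_ker, ← proj_shU, RingHom.mem_ker.1 hx, map_zero]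
  have h2 : proj 𝔜 hY k V a ∈ RingHom.ker (shLv q hZ hY k V) := by
    rw [RingHom.mem_ker, ← proj_shU, RingHom.mem_ker.1 ha, map_zero]
  have hcomp : (((g : FSch.Hom 𝔜 𝔖).app k).appLE _ _ eg).hom.comp (proj 𝔖 hS k U) =
      (proj 𝔜 hY k V).comp ((res 𝔜 hY i).comp (shU g hY hS U)) := RingHom.ext fun x => by
    simp only [RingHom.comp_apply, proj_res, proj_shU]
    exact (DFunLike.congr_fun (congrArg (·.hom) (Scheme.Hom.appLE_map ((g : FSch.Hom 𝔜 𝔖).app k)
      (FSch.Hom.lvU_preimage g hY hS k U).ge (homOfLE (FBlow.lvU_mono 𝔜 hY k i)).op)) (proj 𝔖 hS k U x)).symm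
  rw [hK, hsurj, Ideal.map_map, hcomp, ← Ideal.map_map,
    Ideal.mem_map_iff_of_surjective _ ((sec_props hY hY' hV).2 k).1] at h2
  obtain ⟨b, hb, hba⟩ := h2
  refine Submodule.mem_sup.2 ⟨b, hb, a - b, ?_, add_sub_cancel b a⟩
  rw [smul_eq_mul, Ideal.mul_top]
  refine Ideal.pow_le_pow_right (Nat.le_succ k) ?_
  rw [← ((sec_props hY hY' hV).2 k).2, RingHom.mem_ker, map_sub, hba, sub_self]

/-- The transpose of the base-change morphism. -/
noncomputable abbrev bcPsi (F : ModSite.Mod (𝔛.Osh hX)) :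
    (FSch.pushF f hX hS).obj F ⟶ (FSch.pushF g hY hS).obj ((FSch.pushF q hZ hY).obj ((FSch.pullF p hZ hX).obj F)) :=
  (FSch.pushF f hX hS).map ((FSch.homMor p hZ hX).adj.unit.app F) ≫
    (FSch.pushSq p f q g w hZ hX hY hS).hom.app ((FSch.pullF p hZ hX).obj F)

theorem pvR_bcPsi (F : ModSite.Mod (𝔛.Osh hX)) {U : (𝔖.X 0).Opens} {V : (𝔜.X 0).Opens} (i : V ≤ preV g U)
    (x : DerCompLib.Sec ((FSch.pushF f hX hS).obj F) U) :
    RSpace.pvR (base₀ g) (FSch.Hom.sharp g hY hS) (bcPsi p f q g w hZ hX hY hS F) i x =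
      RSpace.pvR (base₀ p) (FSch.Hom.sharp p hZ hX) ((FSch.homMor p hZ hX).adj.unit.app F)
        (preimage_le p f q g w i) (show DerCompLib.Sec F (preV f U) from x) := by
  have hstep : ∀ (z : DerCompLib.Sec ((FSch.pullF p hZ hX).obj F) (preV p (preV f U))),
      ((FSch.pullF p hZ hX).obj F).val.presheaf.map (homOfLE (show preV q V ≤ preV q (preV g U) from fun t ht => i ht)).op
        (((FSch.pullF p hZ hX).obj F).val.presheaf.map
          (eqToHom (FSch.Hom.sq_preimage p f q g w U).symm).op z) =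
      ((FSch.pullF p hZ hX).obj F).val.presheaf.map (homOfLE (preimage_le p f q g w i)).op z := fun z => by
    rw [← ConcreteCategory.comp_apply, ← Functor.map_comp]
    rfl
  exact hstep _

include hX' hS' hY' hZ' hf hq hpb in
set_option maxHeartbeats 1000000 in
theorem isPullPres_bcPsi (F : ModSite.Mod (𝔛.Osh hX)) (hF : FSch.IsCohF 𝔛 hX F) :
    RSpace.IsPullPres (base₀ g) (FSch.Hom.sharp g hY hS) (bcPsi p f q g w hZ hX hY hS F) (AFF 𝔖) (AFF 𝔜) := by
  have Hp := isPullPres_unit p hZ hX hZ' hX' F hF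
  refine ⟨fun U V i hU hV => top_unique fun y _ => ?_, fun U hU => ?_, fun U V i hU hV {ι} _ s hs a ha => ?_⟩
  · have hU' : IsAffineOpen (preV f U) := isAffineOpen_preV f hU
    have hW : IsAffineOpen (preV q V) := isAffineOpen_preV q hV
    have hy : (show DerCompLib.Sec ((FSch.pullF p hZ hX).obj F) (preV q V) from y) ∈
        Submodule.span (Sec ℨ hZ (preV q V)) (Set.range (RSpace.pvR (base₀ p) (FSch.Hom.sharp p hZ hX)
          ((FSch.homMor p hZ hX).adj.unit.app F) (preimage_le p f q g w i))) := by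
      erw [Hp.span _ _ _ hU' hW]; trivial
    obtain ⟨c, hc⟩ := Finsupp.mem_span_range_iff_exists_finsupp.1 hy
    choose b hb using fun x => surjective_shU q hZ hY hZ' hY' hq hV (c x)
    rw [← hc]
    refine Submodule.sum_mem _ fun x _ => ?_
    have key : b x • RSpace.pvR (base₀ g) (FSch.Hom.sharp g hY hS) (bcPsi p f q g w hZ hX hY hS F) i x ∈
        Submodule.span _ (Set.range (RSpace.pvR (base₀ g) (FSch.Hom.sharp g hY hS)
          (bcPsi p f q g w hZ hX hY hS F) i)) :=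
      Submodule.smul_mem _ (b x) (Submodule.subset_span ⟨x, rfl⟩)
    rw [pvR_bcPsi p f q g w hZ hX hY hS F i x] at key
    rw [← hb x]
    exact key
  · have hU' : IsAffineOpen (preV f U) := isAffineOpen_preV f hU
    obtain ⟨S₀, hS₀⟩ := (show Module.Finite (Sec 𝔛 hX (preV f U)) (DerCompLib.Sec F (preV f U)) from
      Hp.finite _ hU').fg_top
    refine ⟨⟨S₀, top_unique fun y _ => ?_⟩⟩
    have hy : (show DerCompLib.Sec F (preV f U) from y) ∈ Submodule.span (Sec 𝔛 hX (preV f U)) (S₀ : Set _) := by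
      erw [hS₀]; trivial
    refine Submodule.span_induction (fun z hz => Submodule.subset_span hz) (zero_mem _)
      (fun z z' _ _ h h' => add_mem h h') (fun r z _ h => ?_) hy
    obtain ⟨r', rfl⟩ := surjective_shU f hX hS hX' hS' hf hU r
    exact Submodule.smul_mem _ r' h
  · classical
    have hU' : IsAffineOpen (preV f U) := isAffineOpen_preV f hU
    have hW : IsAffineOpen (preV q V) := isAffineOpen_preV q hV
    let s' : ι → DerCompLib.Sec F (preV f U) := s
    have hs' : Submodule.span (Sec 𝔛 hX (preV f U)) (Set.range s') = ⊤ := top_unique fun y _ => by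
      have hy : (show DerCompLib.Sec ((FSch.pushF f hX hS).obj F) U from y) ∈
          Submodule.span ((𝔖.Osh hS).obj.obj (op U)) (Set.range s) := by rw [hs]; trivial
      refine Submodule.span_induction (fun z hz => Submodule.subset_span hz) (zero_mem _)
        (fun z z' _ _ h h' => add_mem h h') (fun r z _ h => ?_) hy
      exact Submodule.smul_mem _ (shU f hX hS U r) h
    have hrel := Hp.rels _ _ (preimage_le p f q g w i) hU' hW s' hs' (fun j => shU q hZ hY V (a j)) (by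
      refine Eq.trans ?_ ha
      exact Finset.sum_congr rfl fun j _ =>
        congrArg (fun z => shU q hZ hY V (a j) • z) (pvR_bcPsi p f q g w hZ hX hY hS F i (s j)).symm)
    let G : Submodule (Sec 𝔜 hY V) (ι → Sec 𝔜 hY V) := Submodule.span (Sec 𝔜 hY V)
      ((fun y => fun j => oRes (𝔜.Osh hY) i (RSpace.sm (base₀ g) (FSch.Hom.sharp g hY hS) U (y j))) ''
        (relsOf ((𝔖.Osh hS).obj.obj (op U)) s : Set (ι → (𝔖.Osh hS).obj.obj (op U))))
    show a ∈ G
    have hker : ∀ k : ι → Sec 𝔜 hY V, (∀ j, shU q hZ hY V (k j) = 0) → k ∈ G := fun k hk => by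
      rw [← Finset.univ_sum_single k]
      refine Submodule.sum_mem _ fun j _ => ?_
      have hkj := ker_shU_le p f q g hZ hX hY hS hZ' hX' hY' hS' hf hq hpb i hU hV (RingHom.mem_ker.2 (hk j))
      refine Submodule.span_induction (p := fun x _ => (Pi.single j x : ι → Sec 𝔜 hY V) ∈ G) ?_ ?_ ?_ ?_ hkj
      · rintro _ ⟨κ, hκ, rfl⟩
        refine Submodule.subset_span ⟨Pi.single j κ, ?_, funext fun l => ?_⟩
        · rw [SetLike.mem_coe, mem_relsOf]
          refine Eq.trans (Finset.sum_eq_single j (fun l _ hl => by rw [Pi.single_eq_of_ne hl, zero_smul])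
            fun hj => (hj (Finset.mem_univ j)).elim) ?_
          rw [Pi.single_eq_same]
          show shU f hX hS U κ • s' j = (0 : DerCompLib.Sec F (preV f U))
          rw [RingHom.mem_ker.1 hκ, zero_smul]
        · exact (Pi.apply_single (fun _ => ((res 𝔜 hY i).comp (shU g hY hS U))) (fun _ => map_zero _) j κ l)
      · rw [Pi.single_zero]; exact zero_mem _
      · intro x y _ _ hx hy; rw [Pi.single_add]; exact add_mem hx hy
      · intro r x _ hx; rw [smul_eq_mul, ← smul_eq_mul, Pi.single_smul]; exact Submodule.smul_mem _ r hx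
    have key : ∀ b : ι → Sec ℨ hZ (preV q V), b ∈ Submodule.span (Sec ℨ hZ (preV q V))
        ((fun y => fun j => oRes (ℨ.Osh hZ) (preimage_le p f q g w i)
          (RSpace.sm (base₀ p) (FSch.Hom.sharp p hZ hX) (preV f U) (y j))) ''
          (relsOf (Sec 𝔛 hX (preV f U)) s' : Set (ι → Sec 𝔛 hX (preV f U)))) →
        ∃ n ∈ G, ∀ j, shU q hZ hY V (n j) = b j := by
      intro b hb
      refine Submodule.span_induction ?_ ⟨0, zero_mem _, fun j => map_zero _⟩ ?_ ?_ hb
      · rintro _ ⟨y, hy, rfl⟩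
        choose y' hy' using fun j => surjective_shU f hX hS hX' hS' hf hU (y j)
        refine ⟨_, Submodule.subset_span ⟨y', ?_, rfl⟩, fun j => ?_⟩
        · rw [SetLike.mem_coe, mem_relsOf] at hy ⊢
          refine Eq.trans (Finset.sum_congr rfl fun j _ => ?_) hy
          exact congrArg (fun c => c • s' j) (hy' j)
        · show shU q hZ hY V (res 𝔜 hY i (shU g hY hS U (y' j))) = _
          rw [← shU_square p f q g w hZ hX hY hS i, hy']
      · rintro b b' _ _ ⟨n, hn, e⟩ ⟨n', hn', e'⟩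
        exact ⟨n + n', add_mem hn hn', fun j => by rw [Pi.add_apply, map_add, e, e']; rfl⟩
      · rintro r b _ ⟨n, hn, e⟩
        obtain ⟨r', rfl⟩ := surjective_shU q hZ hY hZ' hY' hq hV r
        exact ⟨r' • n, Submodule.smul_mem _ _ hn, fun j => by
          rw [Pi.smul_apply, smul_eq_mul, map_mul, e]; rfl⟩
    obtain ⟨n, hn, e⟩ := key _ hrel
    have := hker (a - n) fun j => by rw [Pi.sub_apply, map_sub, e, sub_self]
    simpa using add_mem hn this

include hX' hS' hY' hZ' hf hq hpb in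
/-- The base-change morphism is an isomorphism on coherent modules. -/
theorem isIso_bcMapF (F : ModSite.Mod (𝔛.Osh hX)) (hF : FSch.IsCohF 𝔛 hX F) :
    IsIso (FSch.bcMapF p f q g w hZ hX hY hS F) := by
  obtain ⟨e, he⟩ := RSpace.exists_pull_iso
    (isPullPres_bcPsi p f q g w hZ hX hY hS hZ' hX' hY' hS' hf hq hpb F hF)
    (fun U s hs => basis_AFF U s hs) (fun U s hs => basis_AFF U s hs)
    (FSch.homMor g hY hS) rfl (bcPsi p f q g w hZ hX hY hS F) HEq.rfl
  have : FSch.bcMapF p f q g w hZ hX hY hS F = e.hom :=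
    ((FSch.homMor g hY hS).adj.homEquiv _ _).injective
      ((FSch.bcMapF_transpose p f q g w hZ hX hY hS F).trans he.symm)
  rw [this]
  infer_instance

end Groth.Agent.FModLib
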