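import Groth.Agent.FModLib.Push
import Mathlib.Algebra.Category.ModuleCat.Sheaf.PullbackFree

/-!
# Systems of coherent modules and their limits; the ideals of the levels
-/

set_option autoImplicit false
set_option backward.isDefEq.respectTransparency false
set_option linter.style.haveILetI false
set_option linter.unusedSectionVars false

universe u

open CategoryTheory CategoryTheory.Limits AlgebraicGeometry Opposite TopologicalSpace
open Groth.Agent.FBlowLib Groth.Agent.DerCompLib Groth.Agent.Coherent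

namespace Groth.Agent.FModLib

variable {𝔛 : FSch.Sys.{u}} (h : 𝔛.IsFormal) (hX : 𝔛.IsLocNoethFormal) (𝔐 𝔑 : FSch.ModSys 𝔛)
  (hM : 𝔐.IsCoh) (hN : 𝔑.IsCoh)

include hX hM in
theorem isIso_adjunct_realProj (k : ℕ) :
    IsIso (((FSch.levelMor 𝔛 h k).adj.homEquiv _ _).symm (FSch.realProj 𝔛 h 𝔐.F 𝔐.toPush k)) :=
  isIso_adjunct h hX k (FSch.realProj 𝔛 h 𝔐.F 𝔐.toPush k)
    (fun _ hV => ((real_props h hX 𝔐 hM hV).2 k).1)
    (fun _ hV x hx => ((real_props h hX 𝔐 hM hV).2 k).2.le hx)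

include hX hM in
theorem bijective_comp_realProj (k : ℕ) (G : (𝔛.X k).Modules) :
    Function.Bijective fun φ : 𝔐.F k ⟶ G =>
      FSch.realProj 𝔛 h 𝔐.F 𝔐.toPush k ≫ (FSch.levelMor 𝔛 h k).push.map φ :=
  bijective_comp_push h hX k (FSch.realProj 𝔛 h 𝔐.F 𝔐.toPush k)
    (fun _ hV => ((real_props h hX 𝔐 hM hV).2 k).1)
    (fun _ hV x hx => ((real_props h hX 𝔐 hM hV).2 k).2.le hx) G

include hX hM in
/-- Morphisms of the limits are the morphisms of systems. -/
theorem realModMap_bijective :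
    Function.Bijective fun φ : 𝔐 ⟶ 𝔑 => FSch.ModSys.realModMap h φ := by
  refine ⟨fun φ ψ e => FSch.ModSys.Hom.ext (funext fun k => (bijective_comp_realProj h hX 𝔐 hM k _).1 ?_),
    fun χ => ?_⟩
  · refine ((FSch.realLimMap_realProj 𝔛 h φ.app (FSch.ModSys.Hom.toPush_comm φ) k).symm.trans ?_).trans
      (FSch.realLimMap_realProj 𝔛 h ψ.app (FSch.ModSys.Hom.toPush_comm ψ) k)
    exact congrArg (· ≫ _) e
  · choose φ hφ using fun k => (bijective_comp_realProj h hX 𝔐 hM k _).2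
      (χ ≫ FSch.realProj 𝔛 h 𝔑.F 𝔑.toPush k)
    have hcomm : ∀ k, 𝔐.toPush k ≫ (Scheme.Modules.pushforward (𝔛.ι k)).map (φ k) =
        φ (k + 1) ≫ 𝔑.toPush k := by
      intro k
      haveI := epi_realProj h hX 𝔐 hM (k + 1)
      have nat : (FSch.levelMor 𝔛 h (k + 1)).push.map ((Scheme.Modules.pushforward (𝔛.ι k)).map (φ k)) ≫
          (FSch.pushCompare 𝔛 h k).app (𝔑.F k) =
          (FSch.pushCompare 𝔛 h k).app (𝔐.F k) ≫ (FSch.levelMor 𝔛 h k).push.map (φ k) :=
        (FSch.pushCompare 𝔛 h k).naturality (φ k)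
      refine push_faithful h (k + 1) ?_
      have hinj : ∀ {G : ModSite.Mod (𝔛.Osh h)}
          (a b : G ⟶ (FSch.levelMor 𝔛 h (k + 1)).push.obj ((Scheme.Modules.pushforward (𝔛.ι k)).obj (𝔑.F k))),
          a ≫ (FSch.pushCompare 𝔛 h k).app (𝔑.F k) = b ≫ (FSch.pushCompare 𝔛 h k).app (𝔑.F k) → a = b := by
        intro G a b hab
        have := congrArg (· ≫ (FSch.pushCompareInv 𝔛 h k).app (𝔑.F k)) hab
        simp only [Category.assoc] at this
        erw [FSch.pushCompare_pushCompareInv 𝔛 h k (𝔑.F k), Category.comp_id, Category.comp_id] at this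
        exact this
      refine hinj _ _ ((cancel_epi (FSch.realProj 𝔛 h 𝔐.F 𝔐.toPush (k + 1))).1 ?_)
      rw [Functor.map_comp, Functor.map_comp, Category.assoc, Category.assoc]
      erw [nat]
      have e1 := hφ k
      have e2 := hφ (k + 1)
      simp only at e1 e2
      calc _ = (FSch.realProj 𝔛 h 𝔐.F 𝔐.toPush (k + 1) ≫ ((FSch.levelMor 𝔛 h (k + 1)).push.map (𝔐.toPush k) ≫
            (FSch.pushCompare 𝔛 h k).app (𝔐.F k))) ≫ (FSch.levelMor 𝔛 h k).push.map (φ k) := by
            simp only [Category.assoc]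
        _ = χ ≫ FSch.realProj 𝔛 h 𝔑.F 𝔑.toPush k := by
            rw [FSch.realProj_map]; exact e1
        _ = χ ≫ (FSch.realProj 𝔛 h 𝔑.F 𝔑.toPush (k + 1) ≫ ((FSch.levelMor 𝔛 h (k + 1)).push.map (𝔑.toPush k) ≫
            (FSch.pushCompare 𝔛 h k).app (𝔑.F k))) := by rw [FSch.realProj_map]
        _ = _ := by
            rw [← Category.assoc]
            erw [← e2]
            simp only [Category.assoc]
    have hsys : ∀ k, (Scheme.Modules.pullback (𝔛.ι k)).map (φ (k + 1)) ≫ (𝔑.e k).hom =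
        (𝔐.e k).hom ≫ φ k := fun k => by
      apply ((Scheme.Modules.pullbackPushforwardAdjunction (𝔛.ι k)).homEquiv _ _).injective
      rw [Adjunction.homEquiv_naturality_left, Adjunction.homEquiv_naturality_right]
      exact (hcomm k).symm
    refine ⟨⟨φ, hsys⟩, ?_⟩
    refine limit.hom_ext fun j => ?_
    exact (FSch.realLimMap_realProj 𝔛 h φ (FSch.ModSys.Hom.toPush_comm ⟨φ, hsys⟩) j.unop).trans (hφ j.unop)

include hX in
/-- The ideal of definition restricts to the ideal of definition. -/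
theorem map_jdl_eq {U V : (𝔛.X 0).Opens} (i : V ≤ U) (hU : IsAffineOpen U) (hV : IsAffineOpen V) :
    (jdl h U).map (res 𝔛 h i) = jdl h V := by
  refine le_antisymm (map_jdl_le h i) ?_
  haveI := isNoetherianRing_sec h hX hV
  haveI := FSch.Sys.toX_isClosedImmersion 𝔛 h 1
  have hker : ∀ {W : (𝔛.X 0).Opens} (hW : IsAffineOpen W),
      RingHom.ker (toZero h 1 W) =
        (𝔛.toX 1).ker.ideal ⟨_, S13347.isAffineOpen_lvU 𝔛 h 1 W hW⟩ := by
    intro W hW
    have h0 : 𝔛.lvU h 0 W = 𝔛.toX 1 ⁻¹ᵁ 𝔛.lvU h 1 W := by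
      refine le_antisymm (lvU_le_toX h 1 W) fun x hx => ?_
      change (𝔛.gInv h 0) x ∈ W
      rw [show (𝔛.gInv h 0) x = x from ConcreteCategory.congr_hom (𝔛.toX_base_gInv h 0) x,
        ← show (𝔛.gInv h 1) ((𝔛.toX 1).base x) = x from
          ConcreteCategory.congr_hom (𝔛.toX_base_gInv h 1) x]
      exact hx
    haveI : IsIso ((𝔛.X 0).presheaf.map (homOfLE (lvU_le_toX h 1 W)).op) := by
      rw [show homOfLE (lvU_le_toX h 1 W) = eqToHom h0 from Subsingleton.elim _ _]
      infer_instance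
    rw [Scheme.Hom.ker_apply, toZero, Scheme.Hom.appLE, CommRingCat.hom_comp]
    exact RingHom.ker_comp_of_injective _ (ConcreteCategory.bijective_of_isIso _).1
  have hmap : (RingHom.ker (toZero h 1 U)).map (lres h 1 i) = RingHom.ker (toZero h 1 V) := by
    rw [hker hU, hker hV]
    exact Scheme.IdealSheafData.map_ideal _ (U := ⟨_, S13347.isAffineOpen_lvU 𝔛 h 1 V hV⟩)
      (V := ⟨_, S13347.isAffineOpen_lvU 𝔛 h 1 U hU⟩) (FBlow.lvU_mono 𝔛 h 1 i)
  have hj : ∀ (W : (𝔛.X 0).Opens), IsAffineOpen W → (jdl h W).map (proj 𝔛 h 1 W) = RingHom.ker (toZero h 1 W) := by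
    intro W hW
    rw [show jdl h W = (RingHom.ker (toZero h 1 W)).comap (proj 𝔛 h 1 W) from
      Ideal.ext fun s => by rw [Ideal.mem_comap, RingHom.mem_ker, RingHom.mem_ker, toZero_proj],
      Ideal.map_comap_of_surjective _ ((sec_props h hX hW).2 1).1]
  have h1 : jdl h V ≤ (jdl h U).map (res 𝔛 h i) ⊔ jdl h V • jdl h V := by
    intro s hs
    have h2 : proj 𝔛 h 1 V s ∈ ((jdl h U).map (res 𝔛 h i)).map (proj 𝔛 h 1 V) := by
      rw [Ideal.map_map, show (proj 𝔛 h 1 V).comp (res 𝔛 h i) = (lres h 1 i).comp (proj 𝔛 h 1 U) from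
        RingHom.ext fun a => proj_res 𝔛 h 1 i a, ← Ideal.map_map, hj U hU, hmap, ← hj V hV]
      exact Ideal.mem_map_of_mem _ hs
    obtain ⟨a, ha, hab⟩ := (Ideal.mem_map_iff_of_surjective _ ((sec_props h hX hV).2 1).1).1 h2
    refine Submodule.mem_sup.2 ⟨a, ha, s - a, ?_, add_sub_cancel a s⟩
    rw [smul_eq_mul, ← pow_two, ← ((sec_props h hX hV).2 1).2, RingHom.mem_ker, map_sub, hab, sub_self]
  exact Submodule.le_of_le_smul_of_le_jacobson_bot (IsNoetherian.noetherian _)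
    (jdl_le_jacobson h hX hV) h1

/-- The canonical map from `O_𝔛` to the structure sheaf of a level. -/
noncomputable def toLevel (k : ℕ) :
    FSch.unitF 𝔛 h ⟶ up h k (SheafOfModules.unit (𝔛.X k).ringCatSheaf) :=
  SheafOfModules.unitToPushforwardObjUnit (FSch.levelMor 𝔛 h k).sharpR

/-- Sections of the unit module are functions. -/
noncomputable def unitVal {U : (𝔛.X 0).Opens} :
    DerCompLib.Sec (FSch.unitF 𝔛 h) U ≃ₗ[FBlowLib.Sec 𝔛 h U] FBlowLib.Sec 𝔛 h U where
  toFun x := x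
  invFun x := x
  map_add' _ _ := rfl
  map_smul' _ _ := rfl
  left_inv _ := rfl
  right_inv _ := rfl

theorem upVal_toLevel (k : ℕ) {U : (𝔛.X 0).Opens} (s : DerCompLib.Sec (FSch.unitF 𝔛 h) U) :
    upVal h (secMap (toLevel h k) U s) = proj 𝔛 h k U (unitVal h s) := rfl

include hX in
theorem toLevel_props (k : ℕ) {V : (𝔛.X 0).Opens} (hV : IsAffineOpen V) :
    Function.Surjective (secMap (toLevel h k) V) ∧
      ∀ x : DerCompLib.Sec (FSch.unitF 𝔛 h) V,
        secMap (toLevel h k) V x = 0 ↔ unitVal h x ∈ jdl h V ^ (k + 1) := by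
  refine ⟨fun y => ?_, fun x => ?_⟩
  · obtain ⟨s, hs⟩ := ((sec_props h hX hV).2 k).1 (upVal h y)
    exact ⟨(unitVal h).symm s, (upVal h).injective hs⟩
  · rw [← ((sec_props h hX hV).2 k).2, RingHom.mem_ker, ← upVal_toLevel h k x]
    exact ⟨fun e => by rw [e, map_zero], fun e => (upVal h).injective (e.trans (map_zero _).symm)⟩

include hX in
theorem isIso_adjunct_toLevel (k : ℕ) :
    IsIso (((FSch.levelMor 𝔛 h k).adj.homEquiv _ _).symm (toLevel h k)) :=
  isIso_adjunct h hX k (toLevel h k) (fun _ hV => (toLevel_props h hX k hV).1) fun V hV x hx => by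
    have h1 := ((toLevel_props h hX k hV).2 x).1 hx
    rw [show x = unitVal h x • (unitVal h).symm 1 from (unitVal h).injective (by
      rw [map_smul, LinearEquiv.apply_symm_apply, smul_eq_mul, mul_one])]
    exact Submodule.smul_mem_smul h1 Submodule.mem_top

end Groth.Agent.FModLib
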