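import Groth.Agent.FModLib.Levels
import Groth.Agent.FModLib.Systems
import Groth.Agent.FModLib.BasisExact

/-!
# The truncations of a coherent module and the kernels of their transition maps

`F_k = u_{k,*} u_k^* M` is coherent, the kernel of `F_{k+1} ⟶ F_k` is a coherent module which is the direct
image of a coherent module on the smallest level.
-/

set_option autoImplicit false
set_option backward.isDefEq.respectTransparency false
set_option linter.style.haveILetI false
set_option linter.unusedSectionVars false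

universe u

open CategoryTheory CategoryTheory.Limits AlgebraicGeometry Opposite TopologicalSpace
open Groth.Agent.FBlowLib Groth.Agent.DerCompLib Groth.Agent.Coherent

namespace Groth.Agent.FModLib

section Quot

variable {T : TopCat.{u}} {O : Sheaf (Opens.grothendieckTopology T) CommRingCat.{u}}
  {P : Opens T → Prop} {M N : ModSite.Mod O}

/-- A quotient by a kernel generated by its sections over larger members of the basis. -/
theorem IsPC.quot (hM : IsPC P M) (f : M ⟶ N) (hsurj : ∀ U, P U → Function.Surjective (secMap f U))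
    (hker : ∀ (U V : Opens T) (i : V ≤ U), P U → P V → ∀ x, secMap f V x = 0 →
      x ∈ Submodule.span (O.obj.obj (op V)) (mRes M i '' {m | secMap f U m = 0})) : IsPC P N := by
  refine ⟨fun U hU => ?_, fun U V i hU hV => ?_, fun U V i hU hV q s a ha => ?_⟩
  · haveI := hM.finite U hU
    exact Module.Finite.of_surjective (secMap f U) (hsurj U hU)
  · refine top_unique fun y _ => ?_
    obtain ⟨x, rfl⟩ := hsurj V hV y
    have hx : x ∈ Submodule.span (O.obj.obj (op V)) (Set.range (mRes M i)) :=
      (hM.span U V i hU hV).symm ▸ Submodule.mem_top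
    have hfx := Submodule.mem_map_of_mem (f := secMap f V) hx
    rw [Submodule.map_span] at hfx
    refine Submodule.span_mono ?_ hfx
    rintro _ ⟨_, ⟨m, rfl⟩, rfl⟩
    exact ⟨secMap f U m, (secMap_mRes f i m).symm⟩
  · choose s' hs' using fun j => hsurj U hU (s j)
    have h0 : secMap f V (∑ j, a j • mRes M i (s' j)) = 0 := by
      rw [map_sum, ← ha]
      exact Finset.sum_congr rfl fun j _ => by rw [map_smul, secMap_mRes, hs']
    obtain ⟨n, c, g, hg⟩ := Submodule.mem_span_set'.1 (hker U V i hU hV _ h0)
    choose m hm using fun j => (g j).2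
    have hrel : ∑ j, Fin.append a (fun l => -c l) j • mRes M i (Fin.append s' m j) = 0 := by
      rw [Fin.sum_univ_add]
      simp only [Fin.append_left, Fin.append_right, neg_smul, Finset.sum_neg_distrib, (hm _).2, hg,
        add_neg_cancel]
    have h2 := Submodule.mem_map_of_mem
      (f := LinearMap.funLeft (O.obj.obj (op V)) (O.obj.obj (op V)) (Fin.castAdd n))
      (hM.rels U V i hU hV (q + n) (Fin.append s' m) (Fin.append a fun l => -c l) hrel)
    have ha' : LinearMap.funLeft (O.obj.obj (op V)) (O.obj.obj (op V)) (Fin.castAdd n)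
        (Fin.append a fun l => -c l) = a := funext fun j => by simp [LinearMap.funLeft_apply]
    rw [ha', Submodule.map_span] at h2
    refine Submodule.span_mono ?_ h2
    rintro _ ⟨_, ⟨y, hy, rfl⟩, rfl⟩
    refine ⟨fun j => y (Fin.castAdd n j), ?_, rfl⟩
    rw [SetLike.mem_coe, mem_relsOf, Fin.sum_univ_add] at hy
    have := congrArg (secMap f U) hy
    simp only [Fin.append_left, Fin.append_right, map_add, map_sum, map_smul, hs',
      show ∀ l, secMap f U (m l) = 0 from fun l => (hm l).1, smul_zero, Finset.sum_const_zero,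
      add_zero, map_zero] at this
    exact mem_relsOf.2 this

end Quot

variable {𝔛 : FSch.Sys.{u}} (h : 𝔛.IsFormal) (hX : 𝔛.IsLocNoethFormal) (M : ModSite.Mod (𝔛.Osh h))

include hX in
/-- The truncations of a coherent module. -/
theorem isPC_levelPush (hM : FSch.IsCohF 𝔛 h M) (k : ℕ) : IsPC (AFF 𝔛) (up h k (down h k M)) := by
  refine (isPC_of_isCohF h hX M hM).quot ((FSch.levelMor 𝔛 h k).adj.unit.app M) (fun V hV y => ?_)
    (fun U V i hU hV x hx => ?_)
  · obtain ⟨x, hx⟩ := (unitVec_props h hX hM hV k).1 (upVal h y)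
    exact ⟨x, (upVal h).injective hx⟩
  · have h1 : x ∈ jdl h V ^ (k + 1) • (⊤ : Submodule (FBlowLib.Sec 𝔛 h V) (DerCompLib.Sec M V)) :=
      ((unitVec_props h hX hM hV k).2 x).1 ((congrArg (upVal h) hx).trans (map_zero _))
    rw [← map_jdl_eq h hX i hU hV, ← Ideal.map_pow, ← (isPC_of_isCohF h hX M hM).span U V i hU hV,
      Ideal.map, Ideal.span, Submodule.span_smul_span] at h1
    refine Submodule.span_mono ?_ h1
    rintro _ ⟨_, ⟨r, hr, rfl⟩, _, ⟨m, rfl⟩, rfl⟩
    refine ⟨r • m, ?_, mRes_smul i r m⟩
    show secMap ((FSch.levelMor 𝔛 h k).adj.unit.app M) U (r • m) = 0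
    exact (upVal h).injective ((((unitVec_props h hX hM hU k).2 (r • m)).2
      (Submodule.smul_mem_smul hr Submodule.mem_top)).trans (map_zero _).symm)

/-- The transition map of the truncations. -/
noncomputable abbrev lt' (k : ℕ) : up h (k + 1) (down h (k + 1) M) ⟶ up h k (down h k M) :=
  FSch.levelTrans 𝔛 h M k

theorem secMap_levelTrans (k : ℕ) (V : (𝔛.X 0).Opens) :
    secMap (lt' h M k) V = trSec h (downSys h M).F (downSys h M).toPush k V := by
  show secMap ((FSch.levelMor 𝔛 h (k + 1)).push.map (downT h M k) ≫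
    (FSch.pushCompare 𝔛 h k).app (down h k M)) V = _
  rw [← downSys_toPush h M k]
  rfl

variable {M} (hM : FSch.IsCohF 𝔛 h M) {V : (𝔛.X 0).Opens} (hV : IsAffineOpen V)

include hX hM hV in
theorem levelTrans_props (k : ℕ) :
    Function.Surjective (secMap (lt' h M k) V) ∧
      LinearMap.ker (secMap (lt' h M k) V) = jdl h V ^ (k + 1) •
        (⊤ : Submodule (FBlowLib.Sec 𝔛 h V) (DerCompLib.Sec (up h (k + 1) (down h (k + 1) M)) V)) := by
  rw [secMap_levelTrans]
  exact ⟨trSec_surjective h (downSys h M) (isCoh_down h hX M hM) hV k,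
    ker_trSec h hX (downSys h M) (isCoh_down h hX M hM) hV k⟩

include hX hM in
theorem epi_levelTrans (k : ℕ) : Epi (lt' h M k) :=
  epi_of_forall basis_AFF _ fun _ hW => (levelTrans_props h hX hM hW k).1

variable (M) in
/-- The kernel of the transition map. -/
noncomputable abbrev lvK (k : ℕ) : ModSite.Mod (𝔛.Osh h) := kernel (lt' h M k)

include hX hM in
theorem isCohF_lvK (k : ℕ) : FSch.IsCohF 𝔛 h (lvK h M k) :=
  (goodRing h hX).isFinitePresentation
    ((goodRing h hX).isPC_kernel (isPC_levelPush h hX M hM (k + 1)) (isPC_levelPush h hX M hM k) _)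

include hX hM hV in
theorem jdl_kills_lvK (k : ℕ) :
    jdl h V • (⊤ : Submodule (FBlowLib.Sec 𝔛 h V) (DerCompLib.Sec (lvK h M k) V)) = ⊥ := by
  rw [eq_bot_iff, Submodule.smul_le]
  intro r hr z _
  rw [Submodule.mem_bot]
  refine kernel_sec_injective (lt' h M k) V ?_
  rw [map_smul, map_zero]
  have hz : secMap (kernel.ι (lt' h M k)) V z ∈ jdl h V ^ (k + 1) •
      (⊤ : Submodule (FBlowLib.Sec 𝔛 h V) (DerCompLib.Sec (up h (k + 1) (down h (k + 1) M)) V)) := by
    rw [← (levelTrans_props h hX hM hV k).2, LinearMap.mem_ker]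
    exact kernel_sec_condition _ V z
  have h2 := Submodule.smul_mem_smul hr hz
  rw [← Submodule.smul_assoc, smul_eq_mul, ← pow_succ',
    level_killed h hX hV (k + 1) (down h (k + 1) M)] at h2
  exact (Submodule.mem_bot _).1 h2

variable (M) in
/-- The unit at the smallest level. -/
noncomputable abbrev lvθ (k : ℕ) : lvK h M k ⟶ up h 0 (down h 0 (lvK h M k)) :=
  (FSch.levelMor 𝔛 h 0).adj.unit.app (lvK h M k)

include hX hM hV in
/-- The kernel lives on the smallest level. -/
theorem bijective_lvθ (k : ℕ) : Function.Bijective (secMap (lvθ h M k) V) := by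
  obtain ⟨hs, hk⟩ := unitVec_props h hX (isCohF_lvK h hX hM k) hV 0
  refine ⟨(injective_iff_map_eq_zero _).2 fun x hx => ?_, fun y => ?_⟩
  · have := (hk x).1 ((congrArg (upVal h) hx).trans (map_zero _))
    rw [pow_one, jdl_kills_lvK h hX hM hV k] at this
    exact (Submodule.mem_bot _).1 this
  · obtain ⟨x, hx⟩ := hs (upVal h y)
    exact ⟨x, (upVal h).injective hx⟩

include hX hM in
theorem isIso_lvθ (k : ℕ) : IsIso (lvθ h M k) :=
  isIso_of_forall basis_AFF _ fun _ hW => bijective_lvθ h hX hM hW k

end Groth.Agent.FModLib
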