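import Groth.Agent.EdgeIso14.Abstract
import Groth.Agent.SiteCoh.Derived
import Mathlib.CategoryTheory.Abelian.RightDerived

/-!
# Comparisons of cohomology followed by an exact functor
-/

set_option autoImplicit false
set_option linter.style.haveILetI false
set_option backward.isDefEq.respectTransparency false

universe v₁ v₂ v₃ v₄ u₁ u₂ u₃ u₄

open CategoryTheory CategoryTheory.Limits HomologicalComplex

namespace Groth.Agent.FModLib.EdgeComp

variable {A : Type u₁} [Category.{v₁} A] [Abelian A] [HasInjectiveResolutions A]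
  {B : Type u₂} [Category.{v₂} B] [Abelian B] {C : Type u₃} [Category.{v₃} C] [Abelian C]
  {D : Type u₄} [Category.{v₄} D] [Abelian D] (Ψ : B ⥤ C) [Ψ.Additive] [PreservesFiniteLimits Ψ]

theorem cyclesComparison_natural {ι' : Type*} {c : ComplexShape ι'} {K K' : HomologicalComplex B c}
    (φ : K ⟶ K') (i : ι') :
    HomologicalComplex.cyclesMap ((Ψ.mapHomologicalComplex c).map φ) i ≫ RDer.cyclesComparison Ψ K' i =
      RDer.cyclesComparison Ψ K i ≫ Ψ.map (HomologicalComplex.cyclesMap φ i) := by
  rw [← cancel_mono (Ψ.map (K'.iCycles i)), Category.assoc, Category.assoc, RDer.cyclesComparison_i,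
    HomologicalComplex.cyclesMap_i, ← Ψ.map_comp, HomologicalComplex.cyclesMap_i, Ψ.map_comp,
    RDer.cyclesComparison_i_assoc]
  rfl

theorem homologyComparison_natural {ι' : Type*} {c : ComplexShape ι'} {K K' : HomologicalComplex B c}
    (φ : K ⟶ K') (i : ι') :
    HomologicalComplex.homologyMap ((Ψ.mapHomologicalComplex c).map φ) i ≫ RDer.homologyComparison Ψ K' i =
      RDer.homologyComparison Ψ K i ≫ Ψ.map (HomologicalComplex.homologyMap φ i) := by
  rw [← cancel_epi (((Ψ.mapHomologicalComplex c).obj K).homologyπ i),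
    HomologicalComplex.homologyπ_naturality_assoc, RDer.homologyπ_homologyComparison,
    RDer.homologyπ_homologyComparison_assoc, ← Category.assoc, cyclesComparison_natural, Category.assoc,
    ← Ψ.map_comp, ← Ψ.map_comp, HomologicalComplex.homologyπ_naturality]

/-- The comparison `R^q (Φ ⋙ Ψ) ⟶ R^q Φ ⋙ Ψ`. -/
noncomputable def eOut (Φ : A ⥤ B) [Φ.Additive] (q : ℕ) :
    (Φ ⋙ Ψ).rightDerived q ⟶ Φ.rightDerived q ⋙ Ψ where
  app X := ((injectiveResolution X).isoRightDerivedObj (Φ ⋙ Ψ) q).hom ≫
    RDer.homologyComparison Ψ ((Φ.mapHomologicalComplex _).obj (injectiveResolution X).cocomplex) q ≫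
    Ψ.map ((injectiveResolution X).isoRightDerivedObj Φ q).inv
  naturality {X X'} g := by
    let I := injectiveResolution X
    let I' := injectiveResolution X'
    let φ := InjectiveResolution.desc g I' I
    have h₁ := InjectiveResolution.isoRightDerivedObj_hom_naturality g I I' φ
      (InjectiveResolution.desc_commutes_zero _ _ _) (Φ ⋙ Ψ) q
    have h₂ := InjectiveResolution.isoRightDerivedObj_inv_naturality g I I' φ
      (InjectiveResolution.desc_commutes_zero _ _ _) Φ q
    refine ((Category.assoc _ _ _).symm.trans ((congrArg (· ≫ _) h₁).trans (Category.assoc _ _ _))).trans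
      (Eq.trans ?_ (Category.assoc _ _ _).symm)
    refine congrArg ((I.isoRightDerivedObj (Φ ⋙ Ψ) q).hom ≫ ·) ?_
    refine (Category.assoc _ _ _).symm.trans ((congrArg (· ≫ _)
      (homologyComparison_natural Ψ ((Φ.mapHomologicalComplex _).map φ) q)).trans ?_)
    refine (Category.assoc _ _ _).trans (Eq.trans ?_ (Category.assoc _ _ _).symm)
    refine congrArg (RDer.homologyComparison Ψ _ q ≫ ·) ?_
    exact (Ψ.map_comp _ _).symm.trans ((congrArg Ψ.map h₂.symm).trans (Ψ.map_comp _ _))

variable (L : C ⥤ D) [L.Additive] [PreservesFiniteLimits L] [PreservesFiniteLimits (Ψ ⋙ L)]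

theorem homologyComparison_comp (K : CochainComplex B ℕ) (i : ℕ) :
    RDer.homologyComparison L ((Ψ.mapHomologicalComplex _).obj K) i ≫ L.map (RDer.homologyComparison Ψ K i) =
      RDer.homologyComparison (Ψ ⋙ L) K i := by
  have hc : RDer.cyclesComparison L ((Ψ.mapHomologicalComplex _).obj K) i ≫ L.map (RDer.cyclesComparison Ψ K i) =
      RDer.cyclesComparison (Ψ ⋙ L) K i := by
    haveI : Mono (L.map (Ψ.map (K.iCycles i))) := inferInstance
    rw [← cancel_mono (L.map (Ψ.map (K.iCycles i))), Category.assoc, ← L.map_comp, RDer.cyclesComparison_i,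
      RDer.cyclesComparison_i]
    exact (RDer.cyclesComparison_i (Ψ ⋙ L) K i).symm
  rw [← cancel_epi (((L.mapHomologicalComplex _).obj ((Ψ.mapHomologicalComplex _).obj K)).homologyπ i),
    RDer.homologyπ_homologyComparison_assoc, ← L.map_comp, RDer.homologyπ_homologyComparison, L.map_comp,
    ← Category.assoc, hc]
  exact (RDer.homologyπ_homologyComparison (Ψ ⋙ L) K i).symm

/-- Everything is acyclic for an exact functor. -/
theorem isAcyclicClass_top [PreservesFiniteColimits L] :
    EdgeIso14.IsAcyclicClass L (⊤ : ObjectProperty C) where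
  epi_map S hS _ := by
    haveI := hS.epi_g
    exact L.map_epi S.g
  ext _ _ _ _ := trivial
  quot _ _ _ _ := trivial

theorem isIso_map_homologyComparison [PreservesFiniteColimits L] (K : CochainComplex B ℕ) (i : ℕ)
    [IsIso (RDer.homologyComparison (Ψ ⋙ L) K i)] : IsIso (L.map (RDer.homologyComparison Ψ K i)) := by
  haveI := EdgeIso14.isIso_homologyComparison (isAcyclicClass_top L)
    (K := (Ψ.mapHomologicalComplex _).obj K) (fun _ => trivial) (fun _ => trivial) i
  exact IsIso.of_isIso_fac_left (homologyComparison_comp Ψ L K i)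

theorem isIso_map_eOut [PreservesFiniteColimits L] (Φ : A ⥤ B) [Φ.Additive] (q : ℕ) (X : A)
    [IsIso (RDer.homologyComparison (Ψ ⋙ L)
      ((Φ.mapHomologicalComplex _).obj (injectiveResolution X).cocomplex) q)] :
    IsIso (L.map ((eOut Ψ Φ q).app X)) := by
  haveI := isIso_map_homologyComparison Ψ L ((Φ.mapHomologicalComplex _).obj (injectiveResolution X).cocomplex) q
  rw [eOut, L.map_comp, L.map_comp]
  infer_instance

end Groth.Agent.FModLib.EdgeComp
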