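import Groth.Agent.FModLib.LevelRpush
import Groth.Agent.FModLib.EdgeComp

/-!
# Cohomology of preimages and sections of higher direct images
-/

set_option autoImplicit false
set_option backward.isDefEq.respectTransparency false
set_option linter.style.haveILetI false
set_option linter.unusedSectionVars false

universe u

open CategoryTheory CategoryTheory.Limits CategoryTheory.Abelian AlgebraicGeometry Opposite TopologicalSpace
open Groth.Agent.FBlowLib Groth.Agent.DerCompLib Groth.Agent.Coherent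

namespace Groth.Agent.FModLib

/-- Sections lift when the kernel has no first cohomology. -/
theorem surjective_app_of_subsingleton {T : TopCat.{u}} {S : ShortComplex (CohTop.Ab T)} (hS : S.ShortExact)
    (V : Opens T) (h : Subsingleton (CohTop.HU S.X₁ 1 V)) : Function.Surjective (S.g.hom.app (op V)) := fun a => by
  have h' : Subsingleton (Ext (freeSh V) S.X₁ 1) := h
  obtain ⟨b, hb⟩ := LimCohLib.exists_lift hS h' ((freeShEquiv V S.X₃).symm a)
  exact ⟨freeShEquiv V S.X₂ b, by rw [← freeShEquiv_comp, hb, AddEquiv.apply_symm_apply]⟩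

variable {𝔛 𝔜 : FSch.Sys.{u}} (f : 𝔛 ⟶ 𝔜) (hX : 𝔛.IsFormal) (hY : 𝔜.IsFormal)
  [HasInjectiveResolutions (FSch.ModF 𝔛 hX)] [EnoughInjectives (FSch.ModF 𝔛 hX)]
  [HasExt.{u} (FSch.ModF 𝔛 hX)]

/-- Underlying presheaves. -/
noncomputable abbrev evF : FSch.ModF 𝔜 hY ⥤ ((Opens (𝔜.X 0).toTopCat)ᵒᵖ ⥤ AddCommGrpCat.{u}) :=
  abF hY ⋙ sheafToPresheaf _ _

instance : PreservesFiniteLimits (evF (𝔜 := 𝔜) hY) :=
  haveI : PreservesLimitsOfSize.{u, u} (abF hY) :=
    ⟨fun {T} _ => S6160.preservesLimitsOfShape_toSheaf (ModSite.ringSh (𝔜.Osh hY)) T⟩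
  haveI : PreservesFiniteLimits (abF hY) := PreservesLimitsOfSize.preservesFiniteLimits _
  haveI : PreservesFiniteLimits (sheafToPresheaf (Opens.grothendieckTopology (𝔜.X 0).toTopCat) AddCommGrpCat.{u}) :=
    inferInstance
  comp_preservesFiniteLimits _ _

/-- The presheaves `V ↦ H^q(f⁻¹ V, -)`. -/
noncomputable abbrev cpF (q : ℕ) : FSch.ModF 𝔛 hX ⥤ ((Opens (𝔜.X 0).toTopCat)ᵒᵖ ⥤ AddCommGrpCat.{u}) :=
  ModRpush.cohPshF (FSch.homMor f hX hY) q

/-- Derived sections over preimages. -/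
noncomputable def srcIso (q : ℕ) : (FSch.pushF f hX hY ⋙ evF hY).rightDerived q ≅ cpF f hX hY q :=
  haveI : (FSch.pushF f hX hY).Additive := ⟨rfl⟩
  SiteCoh.rightDerivedCongr
    (show FSch.pushF f hX hY ⋙ evF hY ≅ SiteCoh.homGroups (SiteDer16.modFree (𝔛.Osh hX)) ⋙
        (Functor.whiskeringLeft _ _ AddCommGrpCat.{u}).obj (FSch.homMor f hX hY).fn.op from
      (show FSch.pushF f hX hY ⋙ evF hY ≅ (ModRpush.toAb (𝔛.Osh hX) ⋙ sheafToPresheaf _ _) ⋙
          (Functor.whiskeringLeft _ _ AddCommGrpCat.{u}).obj (FSch.homMor f hX hY).fn.op from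
        NatIso.ofComponents (fun _ => Iso.refl _)
          (fun _ => (Category.comp_id _).trans (Category.id_comp _).symm)) ≪≫
        Functor.isoWhiskerRight (ModRpush.homGroupsIso (𝔛.Osh hX)).symm _) q ≪≫
  SiteCoh.rightDerivedCompExactIso _ _ q ≪≫
  Functor.isoWhiskerRight (SiteCoh.rightDerivedHomGroupsIso (SiteDer16.modFree (𝔛.Osh hX)) q ≪≫
    ModRpush.extGroupsIso (𝔛.Osh hX) q) _

/-- From cohomology of preimages to sections of higher direct images. -/
noncomputable def cmp (q : ℕ) : cpF f hX hY q ⟶ FSch.RpushF f hX hY q ⋙ evF hY :=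
  haveI : (FSch.pushF f hX hY).Additive := ⟨rfl⟩
  (srcIso f hX hY q).inv ≫ EdgeComp.eOut (evF hY) (FSch.pushF f hX hY) q

/-- The comparison on sections. -/
noncomputable def cmpV (q : ℕ) (M : FSch.ModF 𝔛 hX) (V : (𝔜.X 0).Opens) :
    CohTop.HU ((abF hX).obj M) q (preV f V) →+ DerCompLib.Sec ((FSch.RpushF f hX hY q).obj M) V :=
  (((cmp f hX hY q).app M).app (op V)).hom

theorem cmpV_natural (q : ℕ) {M N : FSch.ModF 𝔛 hX} (g : M ⟶ N) (V : (𝔜.X 0).Opens)
    (x : CohTop.HU ((abF hX).obj M) q (preV f V)) :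
    secMap ((FSch.RpushF f hX hY q).map g) V (cmpV f hX hY q M V x) =
      cmpV f hX hY q N V (CohTop.HUmap ((abF hX).map g) q (preV f V) x) :=
  (ConcreteCategory.congr_hom (congr_app ((cmp f hX hY q).naturality g) (op V)) x).symm

theorem cmpV_res (q : ℕ) (M : FSch.ModF 𝔛 hX) {V W : (𝔜.X 0).Opens} (i : W ≤ V)
    (x : CohTop.HU ((abF hX).obj M) q (preV f V)) :
    mRes ((FSch.RpushF f hX hY q).obj M) i (cmpV f hX hY q M V x) =
      cmpV f hX hY q M W (CohTop.res ((abF hX).obj M) q (Scheme.Hom.preimage_mono _ i) x) :=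
  (ConcreteCategory.congr_hom (((cmp f hX hY q).app M).naturality (homOfLE i).op) x).symm

theorem isIso_sheafify_cmp (q : ℕ) (M : FSch.ModF 𝔛 hX) :
    IsIso ((presheafToSheaf (Opens.grothendieckTopology (𝔜.X 0).toTopCat) AddCommGrpCat.{u}).map
      ((cmp f hX hY q).app M)) := by
  haveI : (FSch.pushF f hX hY).Additive := ⟨rfl⟩
  let L := presheafToSheaf (Opens.grothendieckTopology (𝔜.X 0).toTopCat) AddCommGrpCat.{u}
  let e : abF hY ≅ evF hY ⋙ L :=
    Functor.isoWhiskerLeft (abF hY) (sheafificationNatIso (Opens.grothendieckTopology (𝔜.X 0).toTopCat) AddCommGrpCat.{u})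
  haveI : PreservesFiniteColimits (abF hY) := SiteDer16.preservesFiniteColimits_toSheaf _
  haveI : PreservesFiniteLimits (evF hY ⋙ L) := comp_preservesFiniteLimits _ _
  haveI : PreservesFiniteColimits (evF hY ⋙ L) := preservesFiniteColimits_of_natIso e
  haveI := EdgeIso14.isIso_homologyComparison (EdgeComp.isAcyclicClass_top (evF hY ⋙ L))
    (K := ((FSch.pushF f hX hY).mapHomologicalComplex _).obj (injectiveResolution M).cocomplex)
    (fun _ => trivial) (fun _ => trivial) q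
  haveI := EdgeComp.isIso_map_eOut (evF hY) L (FSch.pushF f hX hY) q M
  rw [cmp, NatTrans.comp_app, Functor.map_comp]
  infer_instance

/-- No higher cohomology over an open. -/
def acV (V : (𝔜.X 0).Opens) : ObjectProperty (FSch.ModF 𝔜 hY) := fun N =>
  ∀ j : ℕ, Subsingleton (CohTop.HU ((abF hY).obj N) (j + 1) V)

instance (V : (𝔜.X 0).Opens) : (acV (𝔜 := 𝔜) hY V).IsClosedUnderIsomorphisms where
  of_iso {N N'} e h j := by
    haveI := h j
    exact Function.Surjective.subsingleton (f := CohTop.HUmap ((abF hY).map e.hom) (j + 1) V) fun x =>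
      ⟨CohTop.HUmap ((abF hY).map e.inv) (j + 1) V x, by
        show Ext.comp (Ext.comp x (Ext.mk₀ ((abF hY).map e.inv)) (add_zero _)) (Ext.mk₀ ((abF hY).map e.hom))
          (add_zero _) = x
        rw [Ext.comp_assoc_of_third_deg_zero, Ext.mk₀_comp_mk₀, ← Functor.map_comp, e.inv_hom_id,
          CategoryTheory.Functor.map_id, Ext.comp_mk₀_id]⟩

/-- The underlying sequence of sheaves. -/
theorem shortExact_abF {S : ShortComplex (FSch.ModF 𝔜 hY)} (hS : S.ShortExact) :
    (S.map (abF hY)).ShortExact := shortExact_toSheaf hS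

/-- Sections over an open. -/
noncomputable abbrev evV (V : (𝔜.X 0).Opens) : FSch.ModF 𝔜 hY ⥤ AddCommGrpCat.{u} :=
  evF hY ⋙ (evaluation (Opens (𝔜.X 0).toTopCat)ᵒᵖ AddCommGrpCat.{u}).obj (op V)

instance (V : (𝔜.X 0).Opens) : PreservesFiniteLimits (evV (𝔜 := 𝔜) hY V) := comp_preservesFiniteLimits _ _

theorem acV_ext (V : (𝔜.X 0).Opens) {S : ShortComplex (FSch.ModF 𝔜 hY)} (hS : S.ShortExact)
    (h1 : acV hY V S.X₁) (h3 : acV hY V S.X₃) : acV hY V S.X₂ := fun j => by
  haveI : Subsingleton (Ext (freeSh V) (S.map (abF hY)).X₁ (j + 1)) := h1 j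
  haveI : Subsingleton (Ext (freeSh V) (S.map (abF hY)).X₃ (j + 1)) := h3 j
  show Subsingleton (Ext (freeSh V) (S.map (abF hY)).X₂ (j + 1))
  refine subsingleton_of_forall_eq 0 fun x => ?_
  obtain ⟨y, rfl⟩ := Ext.covariant_sequence_exact₂ _ (shortExact_abF hY hS) x (Subsingleton.elim _ _)
  rw [Subsingleton.elim y 0, Ext.zero_comp]

theorem acV_quot (V : (𝔜.X 0).Opens) {S : ShortComplex (FSch.ModF 𝔜 hY)} (hS : S.ShortExact)
    (h1 : acV hY V S.X₁) (h2 : acV hY V S.X₂) : acV hY V S.X₃ := fun j => by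
  haveI : Subsingleton (Ext (freeSh V) (S.map (abF hY)).X₁ (j + 1 + 1)) := h1 (j + 1)
  haveI : Subsingleton (Ext (freeSh V) (S.map (abF hY)).X₂ (j + 1)) := h2 j
  show Subsingleton (Ext (freeSh V) (S.map (abF hY)).X₃ (j + 1))
  refine subsingleton_of_forall_eq 0 fun x => ?_
  obtain ⟨y, rfl⟩ := Ext.covariant_sequence_exact₃ _ (shortExact_abF hY hS) x (rfl : j + 1 + 1 = j + 2)
    (Subsingleton.elim _ _)
  rw [Subsingleton.elim y 0, Ext.zero_comp]

theorem epi_evV_map (V : (𝔜.X 0).Opens) {S : ShortComplex (FSch.ModF 𝔜 hY)} (hS : S.ShortExact)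
    (h1 : acV hY V S.X₁) : Epi ((evV hY V).map S.g) :=
  (AddCommGrpCat.epi_iff_surjective _).2 (surjective_app_of_subsingleton (shortExact_abF hY hS) V (h1 0))

theorem isAcyclicClass_acV (V : (𝔜.X 0).Opens) : EdgeIso14.IsAcyclicClass (evV hY V) (acV hY V) where
  epi_map _ hS h1 := epi_evV_map hY V hS h1
  ext _ hS h1 h3 := acV_ext hY V hS h1 h3
  quot _ hS h1 h2 := acV_quot hY V hS h1 h2

omit [HasExt.{u} (FSch.ModF 𝔛 hX)] [EnoughInjectives (FSch.ModF 𝔛 hX)] [HasInjectiveResolutions (FSch.ModF 𝔛 hX)] in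
theorem acV_push_injective (V : (𝔜.X 0).Opens) (I : FSch.ModF 𝔛 hX) [Injective I] :
    acV hY V ((FSch.pushF f hX hY).obj I) := fun j => by
  have hG : AcyclicOverBasis (X := (𝔛.X 0).toTopCat) (Y := (𝔜.X 0).toTopCat)
      ((f : FSch.Hom 𝔛 𝔜).app 0).base Set.univ ((abF hX).obj I) := fun W _ m =>
    S0864.result _ (SiteDer16.ModAcyclic.isTotallyAcyclic_toSheaf (ModSite.ringSh (𝔛.Osh hX)) I)
      (((f : FSch.Hom 𝔛 𝔜).app 0) ⁻¹ᵁ W) m
  have := hG V trivial j
  exact (H'PushEquiv (X := (𝔛.X 0).toTopCat) (Y := (𝔜.X 0).toTopCat) (f := ((f : FSch.Hom 𝔛 𝔜).app 0).base)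
    (B := Set.univ) (Opens.isBasis_iff_nbhd.2 fun {U x} hx => ⟨U, trivial, hx, le_rfl⟩)
    ((abF hX).obj I) hG V (j + 1)).symm.toEquiv.subsingleton

theorem acV_resolution_X (V : (𝔜.X 0).Opens) (M : FSch.ModF 𝔛 hX) [(FSch.pushF f hX hY).Additive] (n : ℕ) :
    acV hY V ((((FSch.pushF f hX hY).mapHomologicalComplex (ComplexShape.up ℕ)).obj
      (injectiveResolution M).cocomplex).X n) :=
  haveI := (injectiveResolution M).injective n
  acV_push_injective f hX hY V ((injectiveResolution M).cocomplex.X n)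

theorem acV_resolution_homology (V : (𝔜.X 0).Opens) (M : FSch.ModF 𝔛 hX) [(FSch.pushF f hX hY).Additive]
    (hac : ∀ j, acV hY V ((FSch.RpushF f hX hY j).obj M)) (n : ℕ) :
    acV hY V ((((FSch.pushF f hX hY).mapHomologicalComplex (ComplexShape.up ℕ)).obj
      (injectiveResolution M).cocomplex).homology n) :=
  (acV hY V).prop_of_iso ((injectiveResolution M).isoRightDerivedObj (FSch.pushF f hX hY) n) (hac n)

theorem isIso_eval_cmp (q : ℕ) (M : FSch.ModF 𝔛 hX) (V : (𝔜.X 0).Opens)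
    (hac : ∀ j, acV hY V ((FSch.RpushF f hX hY j).obj M)) :
    IsIso (((evaluation (Opens (𝔜.X 0).toTopCat)ᵒᵖ AddCommGrpCat.{u}).obj (op V)).map
      ((cmp f hX hY q).app M)) := by
  haveI : (FSch.pushF f hX hY).Additive := ⟨rfl⟩
  haveI : IsIso (RDer.homologyComparison (evV hY V)
      (((FSch.pushF f hX hY).mapHomologicalComplex _).obj (injectiveResolution M).cocomplex) q) :=
    EdgeIso14.isIso_homologyComparison (isAcyclicClass_acV hY V)
      (K := ((FSch.pushF f hX hY).mapHomologicalComplex _).obj (injectiveResolution M).cocomplex)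
      (acV_resolution_X f hX hY V M) (acV_resolution_homology f hX hY V M hac) q
  haveI : PreservesFiniteLimits (evF hY ⋙ (evaluation (Opens (𝔜.X 0).toTopCat)ᵒᵖ AddCommGrpCat.{u}).obj (op V)) :=
    comp_preservesFiniteLimits _ _
  haveI := EdgeComp.isIso_map_eOut (evF hY)
    ((evaluation (Opens (𝔜.X 0).toTopCat)ᵒᵖ AddCommGrpCat.{u}).obj (op V)) (FSch.pushF f hX hY) q M
  rw [cmp, NatTrans.comp_app, Functor.map_comp]
  infer_instance

theorem bijective_cmpV (q : ℕ) (M : FSch.ModF 𝔛 hX) (V : (𝔜.X 0).Opens)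
    (hac : ∀ j, acV hY V ((FSch.RpushF f hX hY j).obj M)) :
    Function.Bijective (cmpV f hX hY q M V) :=
  haveI : IsIso (((cmp f hX hY q).app M).app (op V)) := isIso_eval_cmp f hX hY q M V hac
  ConcreteCategory.bijective_of_isIso (((cmp f hX hY q).app M).app (op V))

end Groth.Agent.FModLib
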