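import Groth.Agent.FModLib.FormalRpushD
import Groth.Agent.FModLib.RpushCmp
import Groth.Agent.FModLib.LevelCoh

/-!
# Coherent modules on a locally Noetherian formal scheme form a weak Serre subcategory
-/

set_option autoImplicit false
set_option backward.isDefEq.respectTransparency false
set_option linter.style.haveILetI false
set_option linter.unusedSectionVars false

universe u

open CategoryTheory CategoryTheory.Limits AlgebraicGeometry Opposite TopologicalSpace
open Groth.Agent.FBlowLib Groth.Agent.DerCompLib Groth.Agent.Coherent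

namespace Groth.Agent.FModLib

section Generic

variable {T : TopCat.{u}} {O : Sheaf (Opens.grothendieckTopology T) CommRingCat.{u}} {P : Opens T → Prop}

/-- The image of sections along a kernel. -/
theorem exists_sec_of_shortExact {S : ShortComplex (ModSite.Mod O)} (hS : S.ShortExact) {V : Opens T}
    (x : Sec S.X₂ V) (hx : secMap S.g V x = 0) : ∃ y, secMap S.f V y = x := by
  obtain ⟨k, hk⟩ := exists_kernel_sec S.g V x hx
  let l := hS.fIsKernel.lift (KernelFork.ofι (kernel.ι S.g) (kernel.condition S.g))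
  have hl : l ≫ S.f = kernel.ι S.g := hS.fIsKernel.fac _ WalkingParallelPair.zero
  exact ⟨secMap l V k, (congrArg (fun φ => secMap φ V k) hl).trans hk⟩

/-- A quotient by a kernel with finite sections. -/
theorem IsPC.quot_kernel {M N : ModSite.Mod O} (hM : IsPC P M) (f : M ⟶ N) (hK : IsPC P (kernel f))
    (hsurj : ∀ U, P U → Function.Surjective (secMap f U)) : IsPC P N := by
  refine hM.quot f hsurj fun U V i hU hV x hx => ?_
  obtain ⟨k, rfl⟩ := exists_kernel_sec f V x hx
  have hk : k ∈ Submodule.span (O.obj.obj (op V)) (Set.range (mRes (kernel f) i)) :=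
    (hK.span U V i hU hV).symm ▸ Submodule.mem_top
  have h := Submodule.mem_map_of_mem (f := secMap (kernel.ι f) V) hk
  rw [Submodule.map_span] at h
  refine Submodule.span_mono ?_ h
  rintro _ ⟨_, ⟨m, rfl⟩, rfl⟩
  exact ⟨secMap (kernel.ι f) U m, kernel_sec_condition f U m, (secMap_mRes _ i m).symm⟩

variable (hlift : ∀ S : ShortComplex (ModSite.Mod O), S.ShortExact → IsPC P S.X₁ → ∀ V, P V →
  Function.Surjective (secMap S.g V))

include hlift in
/-- A quotient by a kernel with finite sections, from the lifting of sections. -/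
theorem IsPC.quot_epi {M N : ModSite.Mod O} (hM : IsPC P M) (f : M ⟶ N) [Epi f] (hK : IsPC P (kernel f)) :
    IsPC P N :=
  hM.quot_kernel f hK fun U hU => hlift (ShortComplex.mk (kernel.ι f) f (kernel.condition f))
    { exact := ShortComplex.exact_of_f_is_kernel _ (kernelIsKernel f) } hK U hU

include hlift in
/-- A cokernel. -/
theorem GoodRing.isPC_cokernel (hG : GoodRing O P) {M N : ModSite.Mod O} (hM : IsPC P M) (hN : IsPC P N)
    (φ : M ⟶ N) : IsPC P (cokernel φ) := by
  have hK : IsPC P (kernel (Abelian.factorThruImage φ)) :=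
    (hG.isPC_kernel hM hN φ).of_iso
      (kernelIsoOfEq (Abelian.image.fac φ).symm ≪≫ kernelCompMono _ (Abelian.image.ι φ))
  exact hN.quot_epi hlift (cokernel.π φ) (hM.quot_epi hlift (Abelian.factorThruImage φ) hK)

include hlift in
/-- An extension. -/
theorem GoodRing.isPC_extension (hG : GoodRing O P) {S : ShortComplex (ModSite.Mod O)} (hS : S.ShortExact)
    (h₁ : IsPC P S.X₁) (h₃ : IsPC P S.X₃) : IsPC P S.X₂ := by
  haveI := hS.mono_f
  have hsurj := fun V hV => hlift S hS h₁ V hV
  have hex : ∀ (V : Opens T), LinearMap.ker (secMap S.g V) = LinearMap.range (secMap S.f V) := fun V => by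
    refine le_antisymm (fun x hx => exists_sec_of_shortExact hS x hx) ?_
    rintro _ ⟨y, rfl⟩
    show secMap S.g V (secMap S.f V y) = 0
    rw [← secMap_comp_apply, S.zero]
    rfl
  refine ⟨fun U hU => ?_, fun U V i hU hV => ?_, fun U V i hU hV q s a ha => ?_⟩
  · haveI := hG.noeth U hU
    haveI := h₁.finite U hU
    haveI := h₃.finite U hU
    haveI : Module.Finite (O.obj.obj (op U)) (LinearMap.ker (secMap S.g U)) := by
      rw [hex U]
      exact Module.Finite.range _
    haveI : Module.Finite (O.obj.obj (op U)) (Sec S.X₂ U ⧸ LinearMap.ker (secMap S.g U)) :=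
      Module.Finite.equiv (LinearMap.quotKerEquivOfSurjective _ (hsurj U hU)).symm
    exact Module.Finite.of_submodule_quotient (LinearMap.ker (secMap S.g U))
  · refine top_unique fun x _ => ?_
    have hgx : secMap S.g V x ∈ Submodule.span (O.obj.obj (op V)) (Set.range (mRes S.X₃ i)) :=
      (h₃.span U V i hU hV).symm ▸ Submodule.mem_top
    have hle : Submodule.span (O.obj.obj (op V)) (Set.range (mRes S.X₃ i)) ≤
        (Submodule.span (O.obj.obj (op V)) (Set.range (mRes S.X₂ i))).map (secMap S.g V) := by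
      rw [Submodule.map_span]
      refine Submodule.span_mono ?_
      rintro _ ⟨z, rfl⟩
      obtain ⟨b, rfl⟩ := hsurj U hU z
      exact ⟨_, ⟨b, rfl⟩, secMap_mRes S.g i b⟩
    obtain ⟨x', hx', hxx⟩ := hle hgx
    obtain ⟨y, hy⟩ := exists_sec_of_shortExact hS (x - x') (by rw [map_sub, hxx, sub_self])
    have hy' := Submodule.mem_map_of_mem (f := secMap S.f V)
      ((h₁.span U V i hU hV).symm ▸ Submodule.mem_top : y ∈ Submodule.span (O.obj.obj (op V)) (Set.range (mRes S.X₁ i)))
    rw [Submodule.map_span, hy] at hy'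
    have h' : x - x' ∈ Submodule.span (O.obj.obj (op V)) (Set.range (mRes S.X₂ i)) := by
      refine Submodule.span_mono ?_ hy'
      rintro _ ⟨_, ⟨m, rfl⟩, rfl⟩
      exact ⟨secMap S.f U m, (secMap_mRes S.f i m).symm⟩
    simpa using add_mem h' hx'
  · have h0 : ∑ j, a j • mRes S.X₃ i (secMap S.g U (s j)) = 0 := by
      have := congrArg (secMap S.g V) ha
      rw [map_sum, map_zero] at this
      refine (Finset.sum_congr rfl fun j _ => ?_).trans this
      rw [map_smul, secMap_mRes]
    obtain ⟨n, c, y, hy⟩ := Submodule.mem_span_set'.1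
      (h₃.rels U V i hU hV q (fun j => secMap S.g U (s j)) a h0)
    choose y' hy' hyy' using fun l => (y l).2
    choose m hm using fun l => exists_sec_of_shortExact hS (∑ j, y' l j • s j) (by
      rw [map_sum, ← (mem_relsOf.1 (hy' l) : ∑ j, y' l j • secMap S.g U (s j) = 0)]
      exact Finset.sum_congr rfl fun j _ => map_smul _ _ _)
    have hc : ∑ l, c l • mRes S.X₁ i (m l) = 0 := by
      apply injective_of_mono S.f V
      rw [map_sum, map_zero, ← ha]
      calc ∑ l, secMap S.f V (c l • mRes S.X₁ i (m l))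
          = ∑ l, ∑ j, (c l * oRes O i (y' l j)) • mRes S.X₂ i (s j) := by
            refine Finset.sum_congr rfl fun l _ => ?_
            rw [map_smul, secMap_mRes, hm, map_sum, Finset.smul_sum]
            exact Finset.sum_congr rfl fun j _ => by rw [mRes_smul, smul_smul]
        _ = ∑ j, a j • mRes S.X₂ i (s j) := by
            rw [Finset.sum_comm]
            refine Finset.sum_congr rfl fun j _ => ?_
            rw [← Finset.sum_smul, ← hy, Finset.sum_apply]
            refine congrArg (· • _) (Finset.sum_congr rfl fun l _ => ?_)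
            rw [Pi.smul_apply, ← hyy' l, smul_eq_mul]
            rfl
    let Φ : (Fin n → O.obj.obj (op V)) →ₗ[O.obj.obj (op V)] (Fin q → O.obj.obj (op V)) :=
      Fintype.linearCombination (O.obj.obj (op V)) fun l => ((y l : _) : Fin q → O.obj.obj (op V))
    have h2 := Submodule.mem_map_of_mem (f := Φ) (h₁.rels U V i hU hV n m c hc)
    rw [Submodule.map_span, Fintype.linearCombination_apply, hy] at h2
    refine Submodule.span_mono ?_ h2
    rintro _ ⟨_, ⟨z, hz, rfl⟩, rfl⟩
    refine ⟨∑ l, z l • y' l, ?_, ?_⟩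
    · rw [SetLike.mem_coe, mem_relsOf]
      calc ∑ j, (∑ l, z l • y' l) j • s j = ∑ l, z l • ∑ j, y' l j • s j := by
            simp only [Finset.sum_apply, Pi.smul_apply, smul_eq_mul, Finset.sum_smul, Finset.smul_sum,
              smul_smul]
            exact Finset.sum_comm
        _ = secMap S.f U (∑ l, z l • m l) := by simp only [map_sum, map_smul, hm]
        _ = 0 := by rw [mem_relsOf.1 hz, map_zero]
    · funext j
      simp only [Φ, Fintype.linearCombination_apply, Function.comp_apply, Finset.sum_apply, Pi.smul_apply,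
        smul_eq_mul, map_sum, map_mul, ← hyy']

end Generic

variable {𝔛 : FSch.Sys.{u}} (h : 𝔛.IsFormal) (hX : 𝔛.IsLocNoethFormal)

include hX in
/-- Sections over affine opens lift along a coherent kernel. -/
theorem surjective_secMap_of_isPC (S : ShortComplex (FSch.ModF 𝔛 h)) (hS : S.ShortExact)
    (h₁ : IsPC (AFF 𝔛) S.X₁) (V : (𝔛.X 0).Opens) (hV : IsAffineOpen V) :
    Function.Surjective (secMap S.g V) := by
  haveI : PreservesFiniteLimits (abF h) :=
    haveI : PreservesLimitsOfSize.{u, u} (abF h) :=
      ⟨fun {T} _ => S6160.preservesLimitsOfShape_toSheaf (ModSite.ringSh (𝔛.Osh h)) T⟩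
    PreservesLimitsOfSize.preservesFiniteLimits _
  haveI : PreservesFiniteColimits (abF h) :=
    haveI : PreservesColimitsOfSize.{u, u} (abF h) :=
      ⟨fun {T} _ => DerCompLib.preservesColimitsOfShape_toSheaf (O := 𝔛.Osh h) T⟩
    haveI : PreservesColimitsOfSize.{0, 0} (abF h) := preservesColimitsOfSize_shrink _
    inferInstance
  exact surjective_app_of_subsingleton (hS.map_of_exact (abF h)) V
    (subsingleton_HU_of_isCohF h hX _ ((goodRing h hX).isFinitePresentation h₁) hV 0)

include hX in
/-- Coherent modules form a weak Serre subcategory. -/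
theorem isWeakSerre_isCohF :
    WSerre.IsWeakSerre (fun G : FSch.ModF 𝔛 h => FSch.IsCohF 𝔛 h G : ObjectProperty (FSch.ModF 𝔛 h)) := by
  haveI : ObjectProperty.ContainsZero
      (fun G : FSch.ModF 𝔛 h => FSch.IsCohF 𝔛 h G : ObjectProperty (FSch.ModF 𝔛 h)) := by
    obtain ⟨Z, hZ⟩ := HasZeroObject.zero (C := FSch.ModF 𝔛 h)
    exact ⟨⟨Z, hZ, isCohF_of_isZero h hX hZ⟩⟩
  haveI : ObjectProperty.IsClosedUnderKernels
      (fun G : FSch.ModF 𝔛 h => FSch.IsCohF 𝔛 h G : ObjectProperty (FSch.ModF 𝔛 h)) :=
    ⟨by
      rintro _ ⟨φ, k, hk, hM, hN⟩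
      exact (goodRing h hX).isFinitePresentation
        (((goodRing h hX).isPC_kernel (isPC_of_isCohF h hX _ hM) (isPC_of_isCohF h hX _ hN) φ).of_iso
          ((kernelIsKernel φ).conePointUniqueUpToIso hk))⟩
  haveI : ObjectProperty.IsClosedUnderCokernels
      (fun G : FSch.ModF 𝔛 h => FSch.IsCohF 𝔛 h G : ObjectProperty (FSch.ModF 𝔛 h)) :=
    ⟨by
      rintro _ ⟨φ, k, hk, hM, hN⟩
      exact (goodRing h hX).isFinitePresentation
        (((goodRing h hX).isPC_cokernel (surjective_secMap_of_isPC h hX) (isPC_of_isCohF h hX _ hM)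
          (isPC_of_isCohF h hX _ hN) φ).of_iso ((cokernelIsCokernel φ).coconePointUniqueUpToIso hk))⟩
  haveI : ObjectProperty.IsClosedUnderExtensions
      (fun G : FSch.ModF 𝔛 h => FSch.IsCohF 𝔛 h G : ObjectProperty (FSch.ModF 𝔛 h)) :=
    ⟨fun {_} hS h₁ h₃ => (goodRing h hX).isFinitePresentation
      ((goodRing h hX).isPC_extension (surjective_secMap_of_isPC h hX) hS (isPC_of_isCohF h hX _ h₁)
        (isPC_of_isCohF h hX _ h₃))⟩
  exact {}

end Groth.Agent.FModLib
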