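import Groth.Agent.FModLib.PullIso

/-!
# The inverse image of a coherent module to the completion
-/

set_option autoImplicit false
set_option backward.isDefEq.respectTransparency false
set_option linter.style.haveILetI false
set_option linter.unusedSectionVars false

universe u

open CategoryTheory CategoryTheory.Limits AlgebraicGeometry Opposite TopologicalSpace
open Groth.Agent.FBlowLib Groth.Agent.DerCompLib Groth.Agent.Coherent Groth.Agent.PicLib

namespace Groth.Agent.FModLib

variable {X : Scheme.{u}} {𝔛 : FSch.Sys.{u}} (p : ∀ n, 𝔛.X n ⟶ X) (hp : ∀ n, 𝔛.ι n ≫ p (n + 1) = p n)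
  (h : 𝔛.IsFormal) (F : X.Modules)

theorem psi_proj (k : ℕ) :
    psi p hp h F ≫ (FSch.toSchemeMor 𝔛 h p hp).push.map
        (FSch.realProj 𝔛 h (pullSys p hp F).F (pullSys p hp F).toPush k) =
      (Scheme.Modules.pullbackPushforwardAdjunction (p k)).unit.app F ≫
        (FSch.schPushCompare 𝔛 h p hp k).app _ := by
  apply SheafOfModules.hom_ext
  apply PresheafOfModules.hom_ext
  intro U
  refine ModuleCat.hom_ext (LinearMap.ext fun m => ?_)
  show rproj h (pullSys p hp F).F (pullSys p hp F).toPush k (tr₀ p U.unop) (etaL p hp h F U.unop m) = _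
  rw [rproj_etaL]
  rfl

variable (hX : 𝔛.IsLocNoethFormal) (hci : ∀ n, IsClosedImmersion (p n)) (𝓘 : X.IdealSheafData)
  (hker : ∀ n, (p n).ker = 𝓘 ^ (n + 1)) [IsLocallyNoetherian X] (hF : Coh.IsCoh F)

include hX hci hker hF in
/-- Inverse image to the completion is completion. -/
theorem exists_pull_iso :
    ∃ e : (FSch.toSchemeMor 𝔛 h p hp).pull.obj F ≅ (pullSys p hp F).realMod h,
      ∀ k, ((FSch.toSchemeMor 𝔛 h p hp).adj.homEquiv _ _ e.hom) ≫ (FSch.toSchemeMor 𝔛 h p hp).push.map
          (FSch.realProj 𝔛 h (pullSys p hp F).F (pullSys p hp F).toPush k) =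
        (Scheme.Modules.pullbackPushforwardAdjunction (p k)).unit.app F ≫
          (FSch.schPushCompare 𝔛 h p hp k).app _ := by
  let f := FSch.toSchemeMor 𝔛 h p hp
  let a := (f.adj.homEquiv F (cMod p hp h F)).symm (psi p hp h F)
  haveI : IsIso a := isIso_of_coyoneda_map_bijective a fun N => by
    have hcomp : (f.adj.homEquiv F N) ∘ (fun x : cMod p hp h F ⟶ N => a ≫ x) =
        fun α => psi p hp h F ≫ f.push.map α := funext fun α => by
      rw [Function.comp_apply, f.adj.homEquiv_naturality_right, Equiv.apply_symm_apply]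
    refine (Function.Bijective.of_comp_iff' (f.adj.homEquiv F N).bijective _).1 ?_
    rw [hcomp]
    exact bijective_psi_comp p hp h F hX hci 𝓘 hker hF N
  refine ⟨asIso a, fun k => ?_⟩
  rw [asIso_hom, Equiv.apply_symm_apply]
  exact psi_proj p hp h F k

variable (T : ∀ n, Scheme.Modules.pullback (p (n + 1)) ⋙ Scheme.Modules.pullback (𝔛.ι n) ≅ Scheme.Modules.pullback (p n))

include hX hci hker hF in
/-- Inverse image to the completion is completion, for given transition isomorphisms. -/
theorem exists_pull_iso_T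
    (hT : ∀ n, T n = Scheme.Modules.pullbackComp (𝔛.ι n) (p (n + 1)) ≪≫ Scheme.Modules.pullbackCongr (hp n)) :
    ∃ e : (FSch.toSchemeMor 𝔛 h p hp).pull.obj F ≅ (pullSysT p T F).realMod h,
      ∀ k, ((FSch.toSchemeMor 𝔛 h p hp).adj.homEquiv _ _ e.hom) ≫ (FSch.toSchemeMor 𝔛 h p hp).push.map
          (FSch.realProj 𝔛 h (pullSysT p T F).F (pullSysT p T F).toPush k) =
        (Scheme.Modules.pullbackPushforwardAdjunction (p k)).unit.app F ≫
          (FSch.schPushCompare 𝔛 h p hp k).app _ := by
  obtain rfl : T = fun n =>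
      Scheme.Modules.pullbackComp (𝔛.ι n) (p (n + 1)) ≪≫ Scheme.Modules.pullbackCongr (hp n) := funext hT
  exact exists_pull_iso p hp h F hX hci 𝓘 hker hF

end Groth.Agent.FModLib
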