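import Groth.Agent.FModLib.RealCoh
import Groth.Agent.FModLib.PullIsoT
import Groth.Agent.Formal2Lib.ComplModFF
import Groth.Agent.Formal2Lib.ProCohom
import Groth.Agent.LimCohLib.Modules

/-!
# Cohomology of the completion of a coherent module
-/

set_option autoImplicit false
set_option backward.isDefEq.respectTransparency false
set_option linter.style.haveILetI false
set_option linter.unusedSectionVars false

universe u

open CategoryTheory CategoryTheory.Limits AlgebraicGeometry Opposite TopologicalSpace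
open Groth.Agent.FBlowLib Groth.Agent.DerCompLib Groth.Agent.Coherent

namespace Groth.Agent.FModLib

variable {X : Scheme.{u}} {𝔛 : FSch.Sys.{u}} (p : ∀ n, 𝔛.X n ⟶ X) (hp : ∀ n, 𝔛.ι n ≫ p (n + 1) = p n)
  (h : 𝔛.IsFormal)

theorem isIso_schPushCompare_app (k : ℕ) (G : (𝔛.X k).Modules) :
    IsIso ((FSch.schPushCompare 𝔛 h p hp k).app G) := by
  refine (Scheme.Modules.Hom.isIso_iff_isIso_app (X := X)).2 fun U => ?_
  rw [ConcreteCategory.isIso_iff_bijective]
  have e : 𝔛.lvU h k (p 0 ⁻¹ᵁ U) = p k ⁻¹ᵁ U := (FSch.lvU_p 𝔛 h p hp k U).symm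
  haveI : IsIso (homOfLE e.le) := by
    rw [show homOfLE e.le = eqToHom e from Subsingleton.elim _ _]
    infer_instance
  exact ConcreteCategory.bijective_of_isIso (G.presheaf.map (homOfLE e.le).op)

variable {A : Type u} [CommRing A] [X.Over (Spec (CommRingCat.of A))] (I : Ideal A) (F : X.Modules)

/-- The completion of a coherent module is the direct image of the levels of its inverse image. -/
theorem nonempty_completion_iso_push
    (T : ∀ n, Scheme.Modules.pullback (p (n + 1)) ⋙ Scheme.Modules.pullback (𝔛.ι n) ≅ Scheme.Modules.pullback (p n))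
    (hci : ∀ n, IsClosedImmersion (p n))
    (hk : ∀ n, ClSub.KilledByIdeal (p n).ker (Formal.modPow I (n + 1) F))
    (hkill : ∀ n (N : (𝔛.X n).Modules), Formal.KilledBy (I ^ (n + 1)) ((Coh.push (p n)).obj N))
    (e : (FSch.toSchemeMor 𝔛 h p hp).pull.obj F ≅ (pullSysT p T F).realMod h)
    (he : ∀ k, ((FSch.toSchemeMor 𝔛 h p hp).adj.homEquiv _ _ e.hom) ≫ (FSch.toSchemeMor 𝔛 h p hp).push.map
          (FSch.realProj 𝔛 h (pullSysT p T F).F (pullSysT p T F).toPush k) =
        (Scheme.Modules.pullbackPushforwardAdjunction (p k)).unit.app F ≫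
          (FSch.schPushCompare 𝔛 h p hp k).app _) :
    Nonempty (Formal.completion I F ≅
      FSch.levelSysOf 𝔛 h (pullSysT p T F).F (pullSysT p T F).toPush ⋙ (FSch.toSchemeMor 𝔛 h p hp).push) := by
  let P := fun n => Scheme.Modules.pullback (p n)
  let π := fun n => Formal.modPowπ I (n + 1) F
  haveI : ∀ n, IsIso ((P n).map (π n)) := fun n =>
    haveI := hci n
    Formal2Lib.ModSysAlgz.isIso_pullback_modPowπ I (n + 1) (p n) (hkill n) F
  haveI : ∀ n, IsIso (clUnit (p n) (Formal.modPow I (n + 1) F)) := fun n =>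
    haveI := hci n
    isIso_clUnit (p n) (hk n)
  let d : ∀ n, Formal.modPow I (n + 1) F ⟶ (Coh.push (p n)).obj ((P n).obj F) := fun n =>
    clUnit (p n) (Formal.modPow I (n + 1) F) ≫ (Coh.push (p n)).map (inv ((P n).map (π n)))
  have hd : ∀ n, π n ≫ d n = (Scheme.Modules.pullbackPushforwardAdjunction (p n)).unit.app F := fun n => by
    refine (Category.assoc _ _ _).symm.trans ?_
    refine (congrArg (· ≫ _) ((Scheme.Modules.pullbackPushforwardAdjunction (p n)).unit.naturality (π n))).trans ?_
    refine (Category.assoc _ _ _).trans ?_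
    refine (congrArg ((Scheme.Modules.pullbackPushforwardAdjunction (p n)).unit.app F ≫ ·) ?_).trans
      (Category.comp_id _)
    show (Coh.push (p n)).map ((P n).map (π n)) ≫ (Coh.push (p n)).map (inv ((P n).map (π n))) = _
    rw [← Functor.map_comp, IsIso.hom_inv_id, CategoryTheory.Functor.map_id]
    rfl
  let f := FSch.toSchemeMor 𝔛 h p hp
  let c : ∀ n, Formal.modPow I (n + 1) F ⟶ f.push.obj ((FSch.levelMor 𝔛 h n).push.obj ((P n).obj F)) := fun n =>
    d n ≫ (FSch.schPushCompare 𝔛 h p hp n).app ((P n).obj F)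
  haveI : ∀ n, IsIso (d n) := fun n => inferInstance
  haveI := fun n => isIso_schPushCompare_app p hp h n ((P n).obj F)
  have hc : ∀ n, π n ≫ c n = (f.adj.homEquiv _ _ e.hom) ≫
      f.push.map (FSch.realProj 𝔛 h (pullSysT p T F).F (pullSysT p T F).toPush n) := fun n => by
    refine (Category.assoc _ _ _).symm.trans ?_
    rw [hd n]
    exact (he n).symm
  let τ : Formal.completion I F ⟶ FSch.levelSysOf 𝔛 h (pullSysT p T F).F (pullSysT p T F).toPush ⋙ f.push :=
    NatTrans.ofOpSequence c fun n => by
      rw [Functor.comp_map, FSch.levelSysOf_map_succ,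
        show (Formal.completion I F).map (homOfLE (Nat.le_add_right n 1)).op = Formal.modPowTrans I (n + 1) F from
          Functor.ofOpSequence_map_homOfLE_succ _ n]
      refine (cancel_epi (π (n + 1))).1 ?_
      refine (Category.assoc _ _ _).symm.trans ((congrArg (· ≫ c n) (Formal.modPowπ_trans I (n + 1) F)).trans ?_)
      refine (hc n).trans ?_
      refine Eq.trans ?_ (Category.assoc _ _ _)
      refine Eq.trans ?_ (congrArg (· ≫ _) (hc (n + 1))).symm
      refine Eq.trans ?_ (Category.assoc _ _ _).symm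
      refine congrArg (f.adj.homEquiv _ _ e.hom ≫ ·) ?_
      refine Eq.trans ?_ (f.push.map_comp _ _)
      exact congrArg f.push.map (FSch.realProj_map 𝔛 h _ _ n).symm
  haveI : ∀ j, IsIso (τ.app j) := fun j => inferInstanceAs (IsIso (d j.unop ≫ _))
  haveI : IsIso τ := NatIso.isIso_of_isIso_app τ
  exact ⟨asIso τ⟩

variable (hX : 𝔛.IsLocNoethFormal)

include hX in
/-- Cohomology of the completion is that of the limit of the completion. -/
theorem nonempty_HF_completion (T : ∀ n, Scheme.Modules.pullback (p (n + 1)) ⋙ Scheme.Modules.pullback (𝔛.ι n) ≅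
      Scheme.Modules.pullback (p n))
    (hT : ∀ n, T n = Scheme.Modules.pullbackComp (𝔛.ι n) (p (n + 1)) ≪≫ Scheme.Modules.pullbackCongr (hp n))
    (hci : ∀ n, IsClosedImmersion (p n)) (𝓘 : X.IdealSheafData) (hker : ∀ n, (p n).ker = 𝓘 ^ (n + 1))
    [IsLocallyNoetherian X] (hF : Coh.IsCoh F)
    (hk : ∀ n, ClSub.KilledByIdeal (p n).ker (Formal.modPow I (n + 1) F))
    (hkill : ∀ n (N : (𝔛.X n).Modules), Formal.KilledBy (I ^ (n + 1)) ((Coh.push (p n)).obj N)) (q : ℕ) :
    Nonempty (FSch.HF 𝔛 h ((FSch.toSchemeMor 𝔛 h p hp).pull.obj F) q ≃+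
      Coh.HH X (limit (Formal.completion I F)) q) := by
  obtain ⟨e, he⟩ := exists_pull_iso_T p hp h F hX hci 𝓘 hker hF T hT
  obtain ⟨c⟩ := nonempty_completion_iso_push p hp h I F T hci hk hkill e he
  have hM : (pullSysT p T F).IsCoh := fun n => ZClosLib.isCoh_pullback (p n) F hF
  haveI := hci 0
  obtain ⟨a⟩ := nonempty_HF_push h p hp ((pullSysT p T F).realMod h)
    (fun V hV m => subsingleton_H'_realMod h hX _ hM hV m) q
  let f := FSch.toSchemeMor 𝔛 h p hp
  haveI : PreservesLimitsOfSize.{0, 0} f.push := f.adj.rightAdjoint_preservesLimits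
  let i : f.push.obj ((pullSysT p T F).realMod h) ≅ limit (Formal.completion I F) :=
    preservesLimitIso f.push (FSch.levelSysOf 𝔛 h (pullSysT p T F).F (pullSysT p T F).toPush) ≪≫
      (HasLimit.isoOfNatIso c).symm
  let H₀ := Sheaf.functorH (Opens.grothendieckTopology (𝔛.X 0).toTopCat) q
  let H₁ := Sheaf.functorH (Opens.grothendieckTopology X.toTopCat) q
  exact ⟨((H₀.mapIso ((SheafOfModules.toSheaf _).mapIso e)).addCommGroupIsoToAddEquiv.trans a).trans
    (H₁.mapIso ((SheafOfModules.toSheaf _).mapIso i)).addCommGroupIsoToAddEquiv⟩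

/-- The cohomology of the limit of the completion of a module is the limit of cohomology, if the derived
limit vanishes. -/
theorem nonempty_HH_limit_completion [IsNoetherianRing A] [IsNoetherian X] (hF : Coh.IsCoh F)
    (hfin : ∀ q : ℕ, Module.Finite A (HA (baseHom A X) F (⊤ : X.Opens) q)) (q : ℕ) :
    Nonempty (Coh.HH X (limit (Formal.completion I F)) q ≃+ Formal.HHlim I F q) := by
  have hq : ∀ n, Coh.IsQCoh ((Formal.completion I F).obj (op n)) := fun n => (isCoh_modPow I hF (n + 1)).1
  have hs : ∀ n, (Formal.completion I F).map (homOfLE (Nat.le_succ n)).op = Formal.modPowTrans I (n + 1) F :=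
    fun n => Functor.ofOpSequence_map_homOfLE_succ _ n
  have hepi : ∀ n, Epi ((Formal.completion I F).map (homOfLE (Nat.le_succ n)).op) := fun n => by
    rw [hs]
    haveI : Epi (Formal.modPowπ I (n + 1) F) := inferInstanceAs (Epi (cokernel.π _))
    exact epi_of_epi_fac (Formal.modPowπ_trans I (n + 1) F)
  have hmap : ∀ p n x, Formal2.HHsysMap (Formal.completion I F) p n x = Formal.HHmodPowTrans I F p n x :=
    fun p n x => congrArg (fun g => Sheaf.H.map ((SheafOfModules.toSheaf _).map g) p x) (hs n)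
  let β : Coh.HH X (limit (Formal.completion I F)) q →+ Formal.HHlim I F q :=
    (AddMonoidHom.pi fun n =>
      Sheaf.H.map ((SheafOfModules.toSheaf _).map (limit.π (Formal.completion I F) (op n))) q).codRestrict _
      fun x n => by
        refine (hmap q n _).symm.trans ((Sheaf.H.map_comp_apply _ _ _).symm.trans ?_)
        refine congrArg (fun g => Sheaf.H.map g q x) ?_
        refine ((SheafOfModules.toSheaf _).map_comp _ _).symm.trans ?_
        exact congrArg _ (limit.w (Formal.completion I F) (homOfLE (Nat.le_succ n)).op)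
  refine ⟨AddEquiv.ofBijective β ⟨(injective_iff_map_eq_zero _).2 fun η hη => ?_, fun y => ?_⟩⟩
  · have hη' : ∀ k, Sheaf.H.map ((SheafOfModules.toSheaf _).map (limit.π (Formal.completion I F) (op k))) q η = 0 :=
      fun k => congrFun (congrArg Subtype.val hη) k
    cases q with
    | zero =>
      obtain ⟨g, rfl⟩ := (Abelian.Ext.mk₀_bijective _ _).2 η
      have hg : g = 0 := by
        have : Mono (LimCohLib.limAbIso (Formal.completion I F)).hom := inferInstance
        rw [← cancel_mono (LimCohLib.limAbIso (Formal.completion I F)).hom, zero_comp]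
        refine limit.hom_ext fun j => ?_
        obtain ⟨k⟩ := j
        rw [Category.assoc, LimCohLib.limAbIso_π, zero_comp]
        refine (Abelian.Ext.mk₀_bijective _ _).1 ?_
        rw [← Abelian.Ext.mk₀_comp_mk₀, Abelian.Ext.mk₀_zero]
        exact hη' k
      rw [hg, Abelian.Ext.mk₀_zero]
    | succ p =>
      obtain ⟨α, -, hα⟩ := LimCohLib.exists_HH_limOne (Formal.completion I F) hq hepi p
      obtain ⟨c, rfl⟩ := (hα η).2 hη'
      obtain ⟨b, rfl⟩ := QuotientAddGroup.mk_surjective c
      obtain ⟨a, ha⟩ := Formal2Lib.towerDiff_surjective hF hfin I p b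
      refine (congrArg α ((QuotientAddGroup.eq_zero_iff b).2 ⟨a, funext fun n => ?_⟩)).trans (map_zero α)
      exact (congrArg (fun z => (a n : Formal.HHmodPow I F p n) - z) (hmap p n (a (n + 1)))).trans (congrFun ha n)
  · obtain ⟨η, hη⟩ := LimCohLib.exists_HH_limit (Formal.completion I F) hq hepi q y.1
      fun n => (hmap q n _).trans (y.2 n)
    exact ⟨η, Subtype.ext (funext hη)⟩

end Groth.Agent.FModLib
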