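import Groth.Agent.FModLib.Compl
import Groth.Agent.Coherent.FiniteType

/-!
# Exactness of completion
-/

set_option autoImplicit false
set_option backward.isDefEq.respectTransparency false
set_option linter.style.haveILetI false
set_option linter.unusedSectionVars false

universe u

open CategoryTheory CategoryTheory.Limits AlgebraicGeometry Opposite TopologicalSpace
open Groth.Agent.FBlowLib Groth.Agent.DerCompLib Groth.Agent.Coherent Groth.Agent.PicLib

namespace Groth.Agent.FModLib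

variable {X : Scheme.{u}} {𝔛 : FSch.Sys.{u}} (p : ∀ n, 𝔛.X n ⟶ X) (hp : ∀ n, 𝔛.ι n ≫ p (n + 1) = p n)
  (h : 𝔛.IsFormal) (hci : ∀ n, IsClosedImmersion (p n)) (𝓘 : X.IdealSheafData)
  (hker : ∀ n, (p n).ker = 𝓘 ^ (n + 1)) {F G : X.Modules}

theorem secMap_realModMap (φ : F ⟶ G) (k : ℕ) {V : (𝔛.X 0).Opens}
    (z : DerCompLib.Sec ((pullSys p hp F).realMod h) V) :
    rproj h (pullSys p hp G).F (pullSys p hp G).toPush k V
        (secMap (FSch.ModSys.realModMap h (pullSysMap p hp F φ)) V z) =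
      secMap ((FSch.levelMor 𝔛 h k).push.map ((Scheme.Modules.pullback (p k)).map φ)) V
        (rproj h (pullSys p hp F).F (pullSys p hp F).toPush k V z) :=
  congrArg (fun ψ => secMap ψ V z)
    (FSch.realLimMap_realProj 𝔛 h (pullSysMap p hp F φ).app (FSch.ModSys.Hom.toPush_comm _) k)

variable [Coh.IsQCoh F] [Coh.IsQCoh G] {W : X.Opens} (hW : IsAffineOpen W)

theorem etaC_natural (φ : F ⟶ G) (k : ℕ) (x : AdicCompletion (𝓘.ideal ⟨W, hW⟩) Γ(F, W)) :
    secMap ((FSch.levelMor 𝔛 h k).push.map ((Scheme.Modules.pullback (p k)).map φ)) (tr₀ p W)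
        (etaC p hp h F hci 𝓘 hker hW k x) =
      etaC p hp h G hci 𝓘 hker hW k (AdicCompletion.map (𝓘.ideal ⟨W, hW⟩) (appLin φ W) x) := by
  obtain ⟨m, hm⟩ := Submodule.Quotient.mk_surjective _ (x.val (k + 1))
  rw [etaC_eq p hp h F hci 𝓘 hker hW k x m hm.symm]
  refine (eta_natural p hp h F φ k W m).trans (etaC_eq p hp h G hci 𝓘 hker hW k _ (φ.app W m) ?_).symm
  rw [AdicCompletion.map_val_apply, ← hm]
  rfl

/-- The map induced on the completions of sections. -/
theorem exists_complEquiv_natural (φ : F ⟶ G)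
    (eF : AdicCompletion (𝓘.ideal ⟨W, hW⟩) Γ(F, W) ≃+ DerCompLib.Sec ((pullSys p hp F).realMod h) (tr₀ p W))
    (heF : ∀ x k, rproj h (pullSys p hp F).F (pullSys p hp F).toPush k (tr₀ p W) (eF x) =
      etaC p hp h F hci 𝓘 hker hW k x)
    (eG : AdicCompletion (𝓘.ideal ⟨W, hW⟩) Γ(G, W) ≃+ DerCompLib.Sec ((pullSys p hp G).realMod h) (tr₀ p W))
    (heG : ∀ x k, rproj h (pullSys p hp G).F (pullSys p hp G).toPush k (tr₀ p W) (eG x) =
      etaC p hp h G hci 𝓘 hker hW k x) (x : AdicCompletion (𝓘.ideal ⟨W, hW⟩) Γ(F, W)) :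
    secMap (FSch.ModSys.realModMap h (pullSysMap p hp F φ)) (tr₀ p W) (eF x) =
      eG (AdicCompletion.map (𝓘.ideal ⟨W, hW⟩) (appLin φ W) x) :=
  rsec_ext h _ _ fun k => (secMap_realModMap p hp h φ k (eF x)).trans
    ((congrArg (secMap ((FSch.levelMor 𝔛 h k).push.map ((Scheme.Modules.pullback (p k)).map φ)) (tr₀ p W))
      (heF x k)).trans ((etaC_natural p hp h hci 𝓘 hker hW φ k x).trans (heG _ k).symm))

include hci hker in
/-- Completion is exact on coherent modules. -/
theorem shortExact_pullSys [IsLocallyNoetherian X] (S : ShortComplex X.Modules) (hS : S.ShortExact)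
    (h1 : Coh.IsCoh S.X₁) (h2 : Coh.IsCoh S.X₂) (h3 : Coh.IsCoh S.X₃) :
    ∃ w : FSch.ModSys.realModMap h (pullSysMap p hp S.X₁ S.f) ≫
        FSch.ModSys.realModMap h (pullSysMap p hp S.X₂ S.g) = 0,
      (ShortComplex.mk _ _ w).ShortExact := by
  haveI : Coh.IsQCoh S.X₁ := h1.1
  haveI : Coh.IsQCoh S.X₂ := h2.1
  haveI : Coh.IsQCoh S.X₃ := h3.1
  let f := FSch.ModSys.realModMap h (pullSysMap p hp S.X₁ S.f)
  let g := FSch.ModSys.realModMap h (pullSysMap p hp S.X₂ S.g)
  have key : ∀ V : (𝔛.X 0).Opens, (∃ W : X.Opens, IsAffineOpen W ∧ V = tr₀ p W) →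
      (∀ a, secMap g V (secMap f V a) = 0) ∧ Function.Injective (secMap f V) ∧
        Function.Surjective (secMap g V) ∧ ∀ b, secMap g V b = 0 → ∃ a, secMap f V a = b := by
    rintro V ⟨W, hW, rfl⟩
    haveI : IsNoetherianRing Γ(X, W) := IsLocallyNoetherian.component_noetherian ⟨W, hW⟩
    haveI : Module.Finite Γ(X, W) Γ(S.X₂, W) :=
      finite_sections S.X₂ (locallyFinGen_of_isFT S.X₂ h2.2) hW
    let I := 𝓘.ideal ⟨W, hW⟩
    have hf : Function.Injective (appLin S.f W) := sections_injective hS W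
    have hg : Function.Surjective (appLin S.g W) := sections_surjective hS hW
    have hfg : Function.Exact (appLin S.f W) (appLin S.g W) := fun s =>
      ⟨fun hs => sections_exact hS s hs, fun ⟨t, ht⟩ => ht ▸ sections_zero W t⟩
    obtain ⟨e1, he1⟩ := exists_complEquiv p hp h S.X₁ hci 𝓘 hker hW
    obtain ⟨e2, he2⟩ := exists_complEquiv p hp h S.X₂ hci 𝓘 hker hW
    obtain ⟨e3, he3⟩ := exists_complEquiv p hp h S.X₃ hci 𝓘 hker hW
    have hnf : ∀ x, secMap f (tr₀ p W) (e1 x) = e2 (AdicCompletion.map I (appLin S.f W) x) :=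
      exists_complEquiv_natural p hp h hci 𝓘 hker hW S.f e1 he1 e2 he2
    have hng : ∀ x, secMap g (tr₀ p W) (e2 x) = e3 (AdicCompletion.map I (appLin S.g W) x) :=
      exists_complEquiv_natural p hp h hci 𝓘 hker hW S.g e2 he2 e3 he3
    have hex := AdicCompletion.map_exact (I := I) hf hfg hg
    refine ⟨fun a => ?_, fun a a' haa => ?_, fun c => ?_, fun b hb => ?_⟩
    · obtain ⟨a, rfl⟩ := e1.surjective a
      rw [hnf, hng, hex.apply_apply_eq_zero, map_zero]
    · obtain ⟨a, rfl⟩ := e1.surjective a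
      obtain ⟨a', rfl⟩ := e1.surjective a'
      rw [hnf, hnf] at haa
      rw [AdicCompletion.map_injective I hf (e2.injective haa)]
    · obtain ⟨c, rfl⟩ := e3.surjective c
      obtain ⟨b, rfl⟩ := AdicCompletion.map_surjective I hg c
      exact ⟨e2 b, hng b⟩
    · obtain ⟨b, rfl⟩ := e2.surjective b
      rw [hng, map_eq_zero_iff e3 e3.injective] at hb
      obtain ⟨a, rfl⟩ := (hex b).1 hb
      exact ⟨e1 a, hnf a⟩
  have hb := basis_tr₀ p hci
  have w : f ≫ g = 0 := by
    apply SheafOfModules.hom_ext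
    apply PresheafOfModules.hom_ext
    intro V
    refine ModuleCat.hom_ext (LinearMap.ext fun x => ?_)
    obtain ⟨R, hR, hR'⟩ := exists_cover_of_forall hb
      (fun {U} (k : U ⟶ V.unop) => secRes _ k (secMap (f ≫ g) V.unop x) = 0)
      (fun U U' k j hk => by rw [← secRes_comp, hk, map_zero])
      (fun U k hU => (secMap_secRes' (f ≫ g) k x).symm.trans ((key U hU).1 _))
    exact DerCompLib.sec_ext _ R hR _ 0 fun U k hk => (hR' k hk).trans (map_zero _).symm
  exact ⟨w, { exact := exact_of_forall hb _ fun V hV b hb' => (key V hV).2.2.2 b hb'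
              mono_f := mono_of_forall hb f fun V hV => (key V hV).2.1
              epi_g := epi_of_forall hb g fun V hV => (key V hV).2.2.1 }⟩

section Trans

variable (T : ∀ n, Scheme.Modules.pullback (p (n + 1)) ⋙ Scheme.Modules.pullback (𝔛.ι n) ≅ Scheme.Modules.pullback (p n))

/-- The system of pullbacks, for given transition isomorphisms. -/
noncomputable abbrev pullSysT (F : X.Modules) : FSch.ModSys 𝔛 where
  F n := (Scheme.Modules.pullback (p n)).obj F
  e n := (T n).app F

/-- Its functoriality. -/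
noncomputable abbrev pullSysTMap {F G : X.Modules} (φ : F ⟶ G) : pullSysT p T F ⟶ pullSysT p T G :=
  ⟨fun n => (Scheme.Modules.pullback (p n)).map φ, fun n => (T n).hom.naturality φ⟩

include hci hker in
/-- Completion is exact, for given transition isomorphisms. -/
theorem shortExact_pullSysT
    (hT : ∀ n, T n = Scheme.Modules.pullbackComp (𝔛.ι n) (p (n + 1)) ≪≫ Scheme.Modules.pullbackCongr (hp n))
    [IsLocallyNoetherian X] (S : ShortComplex X.Modules) (hS : S.ShortExact)
    (h1 : Coh.IsCoh S.X₁) (h2 : Coh.IsCoh S.X₂) (h3 : Coh.IsCoh S.X₃) :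
    ∃ w : FSch.ModSys.realModMap h (pullSysTMap p T S.f) ≫ FSch.ModSys.realModMap h (pullSysTMap p T S.g) = 0,
      (ShortComplex.mk _ _ w).ShortExact := by
  obtain rfl : T = fun n =>
      Scheme.Modules.pullbackComp (𝔛.ι n) (p (n + 1)) ≪≫ Scheme.Modules.pullbackCongr (hp n) := funext hT
  exact shortExact_pullSys p hp h hci 𝓘 hker S hS h1 h2 h3

end Trans

/-- The transition isomorphism of a completion is the canonical one. -/
theorem complTransIso_eq {X : Scheme.{u}} (𝓘 : X.IdealSheafData) (n : ℕ) : FSch.complTransIso 𝓘 n =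
    Scheme.Modules.pullbackComp ((FSch.completionAlong X 𝓘).ι n) (FSch.completionToX X 𝓘 (n + 1)) ≪≫
      Scheme.Modules.pullbackCongr (FSch.completionToX_comm X 𝓘 n) := rfl

end Groth.Agent.FModLib
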