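import Groth.Agent.FModLib.ComplExact

/-!
# Exactness of completion on a basis of affine opens, without finiteness on the scheme
-/

set_option autoImplicit false
set_option backward.isDefEq.respectTransparency false
set_option linter.style.haveILetI false
set_option linter.unusedSectionVars false

universe u

open CategoryTheory CategoryTheory.Limits AlgebraicGeometry Opposite TopologicalSpace
open Groth.Agent.FBlowLib Groth.Agent.DerCompLib Groth.Agent.Coherent Groth.Agent.PicLib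

namespace Groth.Agent.FModLib

variable {X : Scheme.{u}} {𝔛 : FSch.Sys.{u}} (p : ∀ n, 𝔛.X n ⟶ X) (hp : ∀ n, 𝔛.ι n ≫ p (n + 1) = p n)
  (h : 𝔛.IsFormal) (hci : ∀ n, IsClosedImmersion (p n)) (𝓘 : X.IdealSheafData)
  (hker : ∀ n, (p n).ker = 𝓘 ^ (n + 1))

include hci hker in
/-- Completion is exact on coherent modules. -/
theorem shortExact_pullSys_of_basis (P : X.Opens → Prop) (hPaff : ∀ W, P W → IsAffineOpen W)
    (hP : ∀ (U : X.Opens) (x : X), x ∈ U → ∃ W, P W ∧ x ∈ W ∧ W ≤ U) (S : ShortComplex X.Modules) (hS : S.ShortExact)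
    [Coh.IsQCoh S.X₁] [Coh.IsQCoh S.X₂] [Coh.IsQCoh S.X₃]
    (hAR : ∀ (W : X.Opens) (hW : IsAffineOpen W), P W →
      Function.Injective (AdicCompletion.map (𝓘.ideal ⟨W, hW⟩) (appLin S.f W)) ∧
        Function.Exact (AdicCompletion.map (𝓘.ideal ⟨W, hW⟩) (appLin S.f W))
          (AdicCompletion.map (𝓘.ideal ⟨W, hW⟩) (appLin S.g W))) :
    ∃ w : FSch.ModSys.realModMap h (pullSysMap p hp S.X₁ S.f) ≫
        FSch.ModSys.realModMap h (pullSysMap p hp S.X₂ S.g) = 0,
      (ShortComplex.mk _ _ w).ShortExact := by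
  let f := FSch.ModSys.realModMap h (pullSysMap p hp S.X₁ S.f)
  let g := FSch.ModSys.realModMap h (pullSysMap p hp S.X₂ S.g)
  have key : ∀ V : (𝔛.X 0).Opens, (∃ W : X.Opens, P W ∧ V = tr₀ p W) →
      (∀ a, secMap g V (secMap f V a) = 0) ∧ Function.Injective (secMap f V) ∧
        Function.Surjective (secMap g V) ∧ ∀ b, secMap g V b = 0 → ∃ a, secMap f V a = b := by
    rintro V ⟨W, hPW, rfl⟩
    have hW := hPaff W hPW
    let I := 𝓘.ideal ⟨W, hW⟩
    have hf : Function.Injective (appLin S.f W) := sections_injective hS W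
    have hg : Function.Surjective (appLin S.g W) := sections_surjective hS hW
    have hfg : Function.Exact (appLin S.f W) (appLin S.g W) := fun s =>
      ⟨fun hs => sections_exact hS s hs, fun ⟨t, ht⟩ => ht ▸ sections_zero W t⟩
    obtain ⟨e1, he1⟩ := exists_complEquiv p hp h S.X₁ hci 𝓘 hker hW
    obtain ⟨e2, he2⟩ := exists_complEquiv p hp h S.X₂ hci 𝓘 hker hW
    obtain ⟨e3, he3⟩ := exists_complEquiv p hp h S.X₃ hci 𝓘 hker hW
    have hnf : ∀ x, secMap f (tr₀ p W) (e1 x) = e2 (AdicCompletion.map I (appLin S.f W) x) :=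
      exists_complEquiv_natural p hp h hci 𝓘 hker hW S.f e1 he1 e2 he2
    have hng : ∀ x, secMap g (tr₀ p W) (e2 x) = e3 (AdicCompletion.map I (appLin S.g W) x) :=
      exists_complEquiv_natural p hp h hci 𝓘 hker hW S.g e2 he2 e3 he3
    obtain ⟨hinj, hex⟩ := hAR W hW hPW
    refine ⟨fun a => ?_, fun a a' haa => ?_, fun c => ?_, fun b hb => ?_⟩
    · obtain ⟨a, rfl⟩ := e1.surjective a
      rw [hnf, hng, hex.apply_apply_eq_zero, map_zero]
    · obtain ⟨a, rfl⟩ := e1.surjective a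
      obtain ⟨a', rfl⟩ := e1.surjective a'
      rw [hnf, hnf] at haa
      rw [hinj (e2.injective haa)]
    · obtain ⟨c, rfl⟩ := e3.surjective c
      obtain ⟨b, rfl⟩ := AdicCompletion.map_surjective I hg c
      exact ⟨e2 b, hng b⟩
    · obtain ⟨b, rfl⟩ := e2.surjective b
      rw [hng, map_eq_zero_iff e3 e3.injective] at hb
      obtain ⟨a, rfl⟩ := (hex b).1 hb
      exact ⟨e1 a, hnf a⟩
  have hb : ∀ (U : (𝔛.X 0).Opens) (x : 𝔛.X 0), x ∈ U →
      ∃ V : (𝔛.X 0).Opens, (∃ W : X.Opens, P W ∧ V = tr₀ p W) ∧ x ∈ V ∧ V ≤ U := fun U x hx => by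
    obtain ⟨_, ⟨W, -, rfl⟩, hxW, hWU⟩ := basis_tr₀ p hci U x hx
    obtain ⟨W', hPW', hxW', hle⟩ := hP W (p 0 x) hxW
    exact ⟨_, ⟨W', hPW', rfl⟩, hxW', fun y hy => hWU (hle hy)⟩
  have w : f ≫ g = 0 := by
    apply SheafOfModules.hom_ext
    apply PresheafOfModules.hom_ext
    intro V
    refine ModuleCat.hom_ext (LinearMap.ext fun x => ?_)
    obtain ⟨R, hR, hR'⟩ := exists_cover_of_forall hb
      (fun {U} (k : U ⟶ V.unop) => secRes _ k (secMap (f ≫ g) V.unop x) = 0)
      (fun U U' k j hk => by rw [← secRes_comp, hk, map_zero])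
      (fun U k hU => (secMap_secRes' (f ≫ g) k x).symm.trans ((key U hU).1 _))
    exact DerCompLib.sec_ext _ R hR _ 0 fun U k hk => (hR' k hk).trans (map_zero _).symm
  exact ⟨w, { exact := exact_of_forall hb _ fun V hV b hb' => (key V hV).2.2.2 b hb'
              mono_f := mono_of_forall hb f fun V hV => (key V hV).2.1
              epi_g := epi_of_forall hb g fun V hV => (key V hV).2.2.1 }⟩

end Groth.Agent.FModLib
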