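import Groth.Agent.FModLib.PullIso
import Groth.Agent.Coherent.CohOps
import Mathlib.RingTheory.Nakayama

/-!
# Completion detects monomorphisms and epimorphisms near the closed subset
-/

set_option autoImplicit false
set_option backward.isDefEq.respectTransparency false
set_option linter.style.haveILetI false
set_option linter.unusedSectionVars false

universe u

open CategoryTheory CategoryTheory.Limits AlgebraicGeometry Opposite TopologicalSpace
open Groth.Agent.FBlowLib Groth.Agent.DerCompLib Groth.Agent.Coherent Groth.Agent.PicLib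

namespace Groth.Agent.FModLib

/-- A coherent module with `M = IM` on an affine open vanishes at the points of `V(I)`. -/
theorem stalk_subsingleton_of_smul_top {X : Scheme.{u}} [IsLocallyNoetherian X] (K : X.Modules)
    (hK : Coh.IsCoh K) (𝓘 : X.IdealSheafData) {W : X.Opens} (hW : IsAffineOpen W)
    (hI : (⊤ : Submodule Γ(X, W) Γ(K, W)) ≤ 𝓘.ideal ⟨W, hW⟩ • ⊤) {x : X} (hxW : x ∈ W) (hx : x ∈ 𝓘.support) :
    Subsingleton (K.presheaf.stalk x) := by
  haveI : Coh.IsQCoh K := hK.1
  haveI hfin := finite_sections K (locallyFinGen_of_isFT K hK.2) hW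
  obtain ⟨r, hr, hr0⟩ := Submodule.exists_sub_one_mem_and_smul_eq_zero_of_fg_of_le_smul
    (𝓘.ideal ⟨W, hW⟩) (⊤ : Submodule Γ(X, W) Γ(K, W)) Module.Finite.fg_top hI
  have hxr : x ∈ X.basicOpen r := by
    have h1 := (Scheme.IdealSheafData.mem_support_iff_of_mem (I := 𝓘) (U := ⟨W, hW⟩) hxW).1 hx
    rw [Scheme.mem_zeroLocus_iff] at h1
    have h2 : ¬ IsUnit (X.presheaf.germ W x hxW (r - 1)) := fun hu =>
      h1 (r - 1) hr ((Scheme.mem_basicOpen X (r - 1) x hxW).2 hu)
    rw [Scheme.mem_basicOpen X r x hxW]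
    rcases IsLocalRing.isUnit_or_isUnit_one_sub_self (X.presheaf.germ W x hxW r) with hu | hu
    · exact hu
    · refine absurd ?_ h2
      rw [map_sub, map_one, ← neg_sub]
      exact hu.neg
  obtain ⟨n, g, hg⟩ := hfin.exists_fin
  refine ⟨fun a b => ?_⟩
  have key : ∀ a : ToType (K.presheaf.stalk x), a = 0 := fun a => by
    obtain ⟨V, hxV, s, rfl⟩ := TopCat.Presheaf.exists_germ_eq K.presheaf (x := x) a
    obtain ⟨W', hW', hxW', hle⟩ := exists_isAffineOpen_mem_and_subset (x := x) (U := V ⊓ X.basicOpen r) ⟨hxV, hxr⟩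
    have hWW : W' ≤ W := fun y hy => X.basicOpen_le r (hle hy).2
    have hunit : IsUnit (X.presheaf.map (homOfLE hWW).op r) := by
      have := (X.toRingedSpace.isUnit_res_basicOpen r).map
        (X.presheaf.map (homOfLE (show W' ≤ X.basicOpen r from fun y hy => (hle hy).2)).op).hom
      convert this using 1
      exact ConcreteCategory.congr_hom (X.presheaf.map_comp (homOfLE (X.basicOpen_le r)).op
        (homOfLE (show W' ≤ X.basicOpen r from fun y hy => (hle hy).2)).op) r
    have hz : ∀ z : Γ(K, W'), z = 0 := fun z => by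
      obtain ⟨c, hc⟩ := (Submodule.mem_span_range_iff_exists_fun _).1
        (show z ∈ Submodule.span _ (Set.range fun j => resM K hWW (g j)) by
          rw [span_resM hW hW' hWW g hg]; trivial)
      rw [← hc]
      refine Finset.sum_eq_zero fun j _ => ?_
      have h0 : X.presheaf.map (homOfLE hWW).op r • resM K hWW (g j) = 0 := by
        refine (resM_smul K hWW r (g j)).symm.trans ?_
        rw [hr0 (g j) trivial, map_zero]
      rw [hunit.smul_eq_zero.1 h0, smul_zero]
    rw [← TopCat.Presheaf.germ_res_apply K.presheaf (homOfLE (show W' ≤ V from fun y hy => (hle hy).1)) x hxW' s]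
    exact (congrArg (K.presheaf.germ W' x hxW') (hz _)).trans (map_zero _)
  exact (key a).trans (key b).symm

variable {X : Scheme.{u}} {𝔛 : FSch.Sys.{u}} (p : ∀ n, 𝔛.X n ⟶ X) (hp : ∀ n, 𝔛.ι n ≫ p (n + 1) = p n)
  (h : 𝔛.IsFormal) (hci : ∀ n, IsClosedImmersion (p n)) (𝓘 : X.IdealSheafData)
  (hker : ∀ n, (p n).ker = 𝓘 ^ (n + 1)) [IsLocallyNoetherian X]
  (T : ∀ n, Scheme.Modules.pullback (p (n + 1)) ⋙ Scheme.Modules.pullback (𝔛.ι n) ≅ Scheme.Modules.pullback (p n))

include hci in
theorem realMap_comp_eq_zero {A B C : X.Modules} (a : A ⟶ B) (b : B ⟶ C) (hab : a ≫ b = 0) :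
    FSch.ModSys.realModMap h (pullSysMap p hp A a) ≫ FSch.ModSys.realModMap h (pullSysMap p hp B b) = 0 := by
  apply SheafOfModules.hom_ext
  apply PresheafOfModules.hom_ext
  intro U
  refine ModuleCat.hom_ext (LinearMap.ext fun z => rsec_ext h _ _ fun k => ?_)
  refine (secMap_realModMap p hp h b k (secMap (FSch.ModSys.realModMap h (pullSysMap p hp A a)) U.unop z)).trans ?_
  rw [secMap_realModMap p hp h a k z]
  refine Eq.trans ?_ (map_zero _).symm
  apply (upVal h).injective
  rw [upVal_map, upVal_map, map_zero]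
  rw [← ConcreteCategory.comp_apply, ← Scheme.Modules.Hom.comp_app, ← Functor.map_comp, hab]
  haveI := (Scheme.Modules.pullbackPushforwardAdjunction (p k)).leftAdjoint_preservesColimits
  rw [show (Scheme.Modules.pullback (p k)).map (0 : A ⟶ C) = 0 from
    (haveI := (Scheme.Modules.pullbackPushforwardAdjunction (p k)).left_adjoint_additive; Functor.map_zero _ _ _)]
  rfl

include hci hker in
theorem smul_top_of_etaL_eq_zero (K : X.Modules) (hK : Coh.IsCoh K) {W : X.Opens} (hW : IsAffineOpen W)
    (hz : ∀ m : Γ(K, W), etaL p hp h K W m = 0) :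
    (⊤ : Submodule Γ(X, W) Γ(K, W)) ≤ 𝓘.ideal ⟨W, hW⟩ • ⊤ := fun m _ => by
  haveI : Coh.IsQCoh K := hK.1
  have h1 := rproj_etaL p hp h K W m 0
  rw [hz, map_zero] at h1
  have h2 := (eta_eq_zero_iff p hp h K hci 𝓘 hker 0 hW m).1 h1.symm
  rwa [pow_one] at h2

include hci hker in
/-- Completion detects monomorphisms near the closed subset. -/
theorem stalk_kernel_of_mono {F G : X.Modules} (hF : Coh.IsCoh F) (hG : Coh.IsCoh G) (u : F ⟶ G)
    (hu : Mono (FSch.ModSys.realModMap h (pullSysMap p hp F u))) {x : X} (hx : x ∈ 𝓘.support) :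
    Subsingleton ((kernel u).presheaf.stalk x) := by
  have hK := isCoh_kernel u hF hG.1
  obtain ⟨W, hW, hxW, -⟩ := exists_isAffineOpen_mem_and_subset (x := x) (U := (⊤ : X.Opens)) trivial
  refine stalk_subsingleton_of_smul_top (kernel u) hK 𝓘 hW
    (smul_top_of_etaL_eq_zero p hp h hci 𝓘 hker _ hK hW fun m => ?_) hxW hx
  have hC := isCoh_cokernel (kernel.ι u) hK.1 hF
  obtain ⟨w, hw⟩ := shortExact_pullSys p hp h hci 𝓘 hker
    (ShortComplex.mk (kernel.ι u) (cokernel.π (kernel.ι u)) (cokernel.condition _))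
    { exact := ShortComplex.exact_cokernel _
      mono_f := inferInstanceAs (Mono (kernel.ι u))
      epi_g := inferInstanceAs (Epi (cokernel.π (kernel.ι u))) } hK hF hC
  haveI : Mono (FSch.ModSys.realModMap h (pullSysMap p hp _ (kernel.ι u))) := hw.mono_f
  haveI := hu
  refine injective_of_mono (FSch.ModSys.realModMap h (pullSysMap p hp _ (kernel.ι u))) (tr₀ p W) ?_
  refine injective_of_mono (FSch.ModSys.realModMap h (pullSysMap p hp F u)) (tr₀ p W) ?_
  have h0 := realMap_comp_eq_zero p hp h hci (kernel.ι u) u (kernel.condition u)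
  rw [map_zero, map_zero]
  exact congrArg (fun φ => secMap φ (tr₀ p W) (etaL p hp h (kernel u) W m)) h0

include hci hker in
/-- Completion detects epimorphisms near the closed subset. -/
theorem stalk_cokernel_of_epi {F G : X.Modules} (hF : Coh.IsCoh F) (hG : Coh.IsCoh G) (u : F ⟶ G)
    (hu : Epi (FSch.ModSys.realModMap h (pullSysMap p hp F u))) {x : X} (hx : x ∈ 𝓘.support) :
    Subsingleton ((cokernel u).presheaf.stalk x) := by
  have hC := isCoh_cokernel u hF.1 hG
  have hK := isCoh_kernel (cokernel.π u) hG hC.1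
  obtain ⟨W, hW, hxW, -⟩ := exists_isAffineOpen_mem_and_subset (x := x) (U := (⊤ : X.Opens)) trivial
  refine stalk_subsingleton_of_smul_top (cokernel u) hC 𝓘 hW
    (smul_top_of_etaL_eq_zero p hp h hci 𝓘 hker _ hC hW fun m => ?_) hxW hx
  obtain ⟨w, hw⟩ := shortExact_pullSys p hp h hci 𝓘 hker
    (ShortComplex.mk (kernel.ι (cokernel.π u)) (cokernel.π u) (kernel.condition _))
    { exact := ShortComplex.exact_kernel _
      mono_f := inferInstanceAs (Mono (kernel.ι (cokernel.π u)))
      epi_g := inferInstanceAs (Epi (cokernel.π u)) } hK hG hC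
  haveI : Epi (FSch.ModSys.realModMap h (pullSysMap p hp _ (cokernel.π u))) := hw.epi_g
  haveI := hu
  have h0 : FSch.ModSys.realModMap h (pullSysMap p hp _ (cokernel.π u)) = 0 := by
    rw [← cancel_epi (FSch.ModSys.realModMap h (pullSysMap p hp F u))]
    exact (realMap_comp_eq_zero p hp h hci u (cokernel.π u) (cokernel.condition u)).trans comp_zero.symm
  have hzero : IsZero ((pullSys p hp (cokernel u)).realMod h) := by
    refine (IsZero.iff_id_eq_zero _).2 ?_
    rw [← cancel_epi (FSch.ModSys.realModMap h (pullSysMap p hp _ (cokernel.π u)))]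
    rw [h0, zero_comp, zero_comp]
  exact congrArg (fun φ => secMap φ (tr₀ p W) (etaL p hp h (cokernel u) W m))
    ((IsZero.iff_id_eq_zero _).1 hzero)

include hci hker in
/-- The statement for given transition isomorphisms. -/
theorem stalks_of_completion
    (hT : ∀ n, T n = Scheme.Modules.pullbackComp (𝔛.ι n) (p (n + 1)) ≪≫ Scheme.Modules.pullbackCongr (hp n))
    {F G : X.Modules} (hF : Coh.IsCoh F) (hG : Coh.IsCoh G) (u : F ⟶ G) :
    (Mono (FSch.ModSys.realModMap h (pullSysTMap p T u)) →
      ∀ x : X, x ∈ 𝓘.support → Subsingleton ((kernel u).presheaf.stalk x)) ∧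
    (Epi (FSch.ModSys.realModMap h (pullSysTMap p T u)) →
      ∀ x : X, x ∈ 𝓘.support → Subsingleton ((cokernel u).presheaf.stalk x)) ∧
    (Mono u → Mono (FSch.ModSys.realModMap h (pullSysTMap p T u))) ∧
    (Epi u → Epi (FSch.ModSys.realModMap h (pullSysTMap p T u))) := by
  obtain rfl : T = fun n =>
      Scheme.Modules.pullbackComp (𝔛.ι n) (p (n + 1)) ≪≫ Scheme.Modules.pullbackCongr (hp n) := funext hT
  refine ⟨fun hu x hx => stalk_kernel_of_mono p hp h hci 𝓘 hker hF hG u hu hx,
    fun hu x hx => stalk_cokernel_of_epi p hp h hci 𝓘 hker hF hG u hu hx, fun _ => ?_, fun _ => ?_⟩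
  · obtain ⟨w, hw⟩ := shortExact_pullSys p hp h hci 𝓘 hker
      (ShortComplex.mk u (cokernel.π u) (cokernel.condition _))
      { exact := ShortComplex.exact_cokernel _
        mono_f := inferInstanceAs (Mono u)
        epi_g := inferInstanceAs (Epi (cokernel.π u)) } hF hG (isCoh_cokernel u hF.1 hG)
    exact hw.mono_f
  · obtain ⟨w, hw⟩ := shortExact_pullSys p hp h hci 𝓘 hker
      (ShortComplex.mk (kernel.ι u) u (kernel.condition _))
      { exact := ShortComplex.exact_kernel _
        mono_f := inferInstanceAs (Mono (kernel.ι u))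
        epi_g := inferInstanceAs (Epi u) } (isCoh_kernel u hF hG.1) hF hG
    exact hw.epi_g

end Groth.Agent.FModLib
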