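import Groth.Agent.FModLib.PullIso
import Groth.Agent.RSpace.FlatBasis
import Mathlib.RingTheory.AdicCompletion.AsTensorProduct

/-!
# Flatness of the completion morphism
-/

set_option autoImplicit false
set_option backward.isDefEq.respectTransparency false
set_option linter.style.haveILetI false
set_option linter.unusedSectionVars false

universe u

open CategoryTheory CategoryTheory.Limits AlgebraicGeometry Opposite TopologicalSpace
open Groth.Agent.FBlowLib

namespace Groth.Agent.FModLib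

variable {X : Scheme.{u}} {𝔛 : FSch.Sys.{u}} (p : ∀ n, 𝔛.X n ⟶ X) (hp : ∀ n, 𝔛.ι n ≫ p (n + 1) = p n)
  (h : 𝔛.IsFormal) (hci : ∀ n, IsClosedImmersion (p n)) (𝓘 : X.IdealSheafData)
  (hker : ∀ n, (p n).ker = 𝓘 ^ (n + 1)) [IsLocallyNoetherian X]

include hci hker in
/-- Functions on the completion over an affine open are flat over functions on the scheme. -/
theorem flat_sharp {W : X.Opens} (hW : IsAffineOpen W) : (sharp p hp h W).Flat := by
  haveI : IsNoetherianRing Γ(X, W) := IsLocallyNoetherian.component_noetherian ⟨W, hW⟩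
  let I := 𝓘.ideal ⟨W, hW⟩
  let π : ∀ k, Γ(X, W) →+* Γ(𝔛.X k, 𝔛.lvU h k (tr₀ p W)) := fun k =>
    ((p k).appLE W (𝔛.lvU h k (tr₀ p W)) (lvU_tr₀ p hp h k W).ge).hom
  have hπ : ∀ k, RingHom.ker (π k) = I ^ (k + 1) := fun k => ker_appLE_tr₀ p hp h hci 𝓘 hker k hW
  have hπs : ∀ k, Function.Surjective (π k) := fun k => appLE_surjective_tr₀ p hp h hci k hW
  have hπt : ∀ k a, (𝔛.ι k).appLE (𝔛.lvU h (k + 1) (tr₀ p W)) (𝔛.lvU h k (tr₀ p W))
      (𝔛.lvU_le h k (tr₀ p W)) (π (k + 1) a) = π k a := fun k a => by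
    have hs := proj_succ 𝔛 h k (tr₀ p W) (sharp p hp h W a)
    rw [proj_sharp, proj_sharp] at hs
    exact hs
  have hmem : ∀ k a, a ∈ (I ^ (k + 1) • ⊤ : Submodule Γ(X, W) Γ(X, W)) ↔ π k a = 0 := fun k a => by
    rw [← RingHom.mem_ker, hπ, smul_eq_mul, Ideal.mul_top]
  let ev : ∀ k, AdicCompletion I Γ(X, W) →+ Γ(𝔛.X k, 𝔛.lvU h k (tr₀ p W)) := fun k =>
    (QuotientAddGroup.lift (G := Γ(X, W)) (I ^ (k + 1) • (⊤ : Submodule Γ(X, W) Γ(X, W))).toAddSubgroup
      (π k).toAddMonoidHom fun a ha => (hmem k a).1 ha).comp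
        (AdicCompletion.eval I Γ(X, W) (k + 1)).toAddMonoidHom
  have hev : ∀ k x a, x.val (k + 1) = Submodule.Quotient.mk a → ev k x = π k a := fun k x a ha =>
    (congrArg (QuotientAddGroup.lift (G := Γ(X, W)) (I ^ (k + 1) • (⊤ : Submodule Γ(X, W) Γ(X, W))).toAddSubgroup
      (π k).toAddMonoidHom fun a ha => (hmem k a).1 ha) ha).trans rfl
  choose g hg using fun x => exists_sec 𝔛 h (fun k => ev k x) fun k => by
    obtain ⟨a, ha⟩ := Submodule.Quotient.mk_surjective _ (x.val (k + 2))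
    rw [hev (k + 1) x a ha.symm, hπt]
    exact (hev k x a (by rw [← x.property (Nat.le_succ (k + 1)), ← ha]; rfl)).symm
  letI := (sharp p hp h W).toAlgebra
  let L : AdicCompletion I Γ(X, W) →ₗ[Γ(X, W)] FBlowLib.Sec 𝔛 h (tr₀ p W) :=
    { toFun := g
      map_add' := fun x y => sec_ext 𝔛 h fun k => by rw [map_add, hg, hg, hg, map_add]
      map_smul' := fun r x => sec_ext 𝔛 h fun k => by
        obtain ⟨a, ha⟩ := Submodule.Quotient.mk_surjective _ (x.val (k + 1))
        rw [RingHom.id_apply, show r • g x = sharp p hp h W r * g x from rfl, map_mul, hg, hg, hev k x a ha.symm,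
          hev k (r • x) (r * a) (by rw [AdicCompletion.val_smul_apply, ← ha]; rfl), map_mul]
        exact congrArg (· * _) (proj_sharp p hp h k W r).symm }
  have hinj : Function.Injective L := (injective_iff_map_eq_zero L).2 fun x hx => AdicCompletion.ext fun n => by
    rcases n with _ | k
    · haveI : Subsingleton (Γ(X, W) ⧸ (I ^ 0 • (⊤ : Submodule Γ(X, W) Γ(X, W)))) :=
        Submodule.Quotient.subsingleton_iff.2 (by simp)
      exact Subsingleton.elim _ _
    obtain ⟨a, ha⟩ := Submodule.Quotient.mk_surjective _ (x.val (k + 1))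
    rw [← ha, show (0 : AdicCompletion I Γ(X, W)).val (k + 1) = 0 from rfl, Submodule.Quotient.mk_eq_zero, hmem,
      ← hev k x a ha.symm, ← hg]
    exact (congrArg (proj 𝔛 h k _) hx).trans (map_zero _)
  have hsurj : Function.Surjective L := fun z => by
    choose a ha using fun k => hπs k (proj 𝔛 h k (tr₀ p W) z)
    have hc : ∀ k, a (k + 1) - a k ∈ (I ^ (k + 1) • ⊤ : Submodule Γ(X, W) Γ(X, W)) := fun k => by
      rw [hmem, map_sub, ← hπt k (a (k + 1)), ha, ha, proj_succ 𝔛 h k, sub_self]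
    let s : ℕ → Γ(X, W) := fun n => a (n - 1)
    have hs : ∀ n, s (n + 1) - s n ∈ (I ^ n • ⊤ : Submodule Γ(X, W) Γ(X, W)) := fun n => by
      rcases n with _ | j
      · simp
      · exact hc j
    refine ⟨AdicCompletion.mk _ _ (AdicCompletion.AdicCauchySequence.mk _ _ s fun n => SModEq.sub_mem.2
        ((Submodule.neg_mem_iff _).1 (by rw [neg_sub]; exact hs n))), sec_ext 𝔛 h fun k => ?_⟩
    show proj 𝔛 h k _ (g _) = _
    rw [hg, hev k _ (s (k + 1)) rfl]
    exact ha k
  exact Module.Flat.of_linearEquiv (LinearEquiv.ofBijective L ⟨hinj, hsurj⟩).symm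

include hci hker in
/-- The morphism from the completion is flat. -/
theorem isFlat_toSchemeMor : ModSite.RMor.IsFlat (FSch.toSchemeMor 𝔛 h p hp) := by
  refine RSpace.isFlat_of_flat_stalk (p 0).base (FSch.schSharp 𝔛 h p hp) _ rfl fun y => ?_
  refine RSpace.flat_stalkSharp_of_basis (p 0).base (FSch.schSharp 𝔛 h p hp) (fun V => IsAffineOpen V)
    (fun U s hs => ?_) (fun U t ht => ?_) (fun V hV => flat_sharp p hp h hci 𝓘 hker hV) y
  · obtain ⟨V, hV, hsV, hVU⟩ := exists_isAffineOpen_mem_and_subset hs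
    exact ⟨V, hV, hsV, hVU⟩
  · obtain ⟨_, ⟨V, hV, rfl⟩, htV, hVU⟩ := basis_tr₀ p hci U t ht
    exact ⟨V, hV, htV, hVU⟩

end Groth.Agent.FModLib
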