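import Groth.Agent.FModLib.ComplExact
import Groth.Agent.FModLib.Systems
import Groth.Agent.FSchLib.Systems
import Groth.Agent.Coherent.CohOps
import Groth.Agent.ZClosLib.Descent

/-!
# Completion as a functor into modules on the formal completion, and its kernels, images and cokernels
-/

set_option autoImplicit false
set_option backward.isDefEq.respectTransparency false
set_option linter.style.haveILetI false
set_option linter.unusedSectionVars false

universe u

open CategoryTheory CategoryTheory.Limits AlgebraicGeometry Opposite TopologicalSpace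
open Groth.Agent.Coherent

namespace Groth.Agent.FModLib

theorem realModMap_id {𝔛 : FSch.Sys.{u}} (h : 𝔛.IsFormal) (𝔐 : FSch.ModSys 𝔛) :
    FSch.ModSys.realModMap h (𝟙 𝔐) = 𝟙 (𝔐.realMod h) := limit.hom_ext fun j => by
  obtain ⟨k⟩ := j
  refine (FSch.realLimMap_realProj 𝔛 h _ (FSch.ModSys.Hom.toPush_comm _) k).trans ?_
  show _ ≫ (FSch.levelMor 𝔛 h k).push.map (𝟙 _) = _
  rw [CategoryTheory.Functor.map_id, Category.comp_id]
  exact (Category.id_comp _).symm

theorem realModMap_comp {𝔛 : FSch.Sys.{u}} (h : 𝔛.IsFormal) {𝔐 𝔑 𝔓 : FSch.ModSys 𝔛} (φ : 𝔐 ⟶ 𝔑) (ψ : 𝔑 ⟶ 𝔓) :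
    FSch.ModSys.realModMap h (φ ≫ ψ) = FSch.ModSys.realModMap h φ ≫ FSch.ModSys.realModMap h ψ :=
  limit.hom_ext fun j => by
    obtain ⟨k⟩ := j
    refine (FSch.realLimMap_realProj 𝔛 h _ (FSch.ModSys.Hom.toPush_comm _) k).trans ?_
    refine Eq.trans ?_ (Category.assoc _ _ _).symm
    refine Eq.trans ?_ (congrArg (FSch.ModSys.realModMap h φ ≫ ·)
      (FSch.realLimMap_realProj 𝔛 h _ (FSch.ModSys.Hom.toPush_comm ψ) k)).symm
    refine Eq.trans ?_ (Category.assoc _ _ _)
    refine Eq.trans ?_ (congrArg (· ≫ _) (FSch.realLimMap_realProj 𝔛 h _ (FSch.ModSys.Hom.toPush_comm φ) k)).symm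
    refine Eq.trans ?_ (Category.assoc _ _ _).symm
    exact congrArg _ ((FSch.levelMor 𝔛 h k).push.map_comp _ _)

/-- An isomorphism of systems gives an isomorphism of their limits. -/
noncomputable def realModIso {𝔛 : FSch.Sys.{u}} (h : 𝔛.IsFormal) {𝔐 𝔑 : FSch.ModSys 𝔛} (e : 𝔐 ≅ 𝔑) :
    𝔐.realMod h ≅ 𝔑.realMod h where
  hom := FSch.ModSys.realModMap h e.hom
  inv := FSch.ModSys.realModMap h e.inv
  hom_inv_id := by rw [← realModMap_comp, e.hom_inv_id, realModMap_id]
  inv_hom_id := by rw [← realModMap_comp, e.inv_hom_id, realModMap_id]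

section Functor

variable {X : Scheme.{u}} (𝓘 : X.IdealSheafData) (hX : (FSch.completionAlong X 𝓘).IsFormal)

theorem complModMap_id (F : X.Modules) : FSch.complModMap 𝓘 (𝟙 F) = 𝟙 _ :=
  FSch.ModSys.Hom.ext (funext fun _ => CategoryTheory.Functor.map_id _ _)

theorem complModMap_comp {F G H : X.Modules} (φ : F ⟶ G) (ψ : G ⟶ H) :
    FSch.complModMap 𝓘 (φ ≫ ψ) = FSch.complModMap 𝓘 φ ≫ FSch.complModMap 𝓘 ψ :=
  FSch.ModSys.Hom.ext (funext fun _ => CategoryTheory.Functor.map_comp _ _ _)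

/-- The completion functor. -/
noncomputable def complF : X.Modules ⥤ FSch.ModF (FSch.completionAlong X 𝓘) hX where
  obj F := (FSch.complMod 𝓘 F).realMod hX
  map φ := FSch.ModSys.realModMap hX (FSch.complModMap 𝓘 φ)
  map_id F := by rw [complModMap_id, realModMap_id]
  map_comp φ ψ := by rw [complModMap_comp, realModMap_comp]

theorem isCoh_complMod {F : X.Modules} (hF : Coh.IsCoh F) : (FSch.complMod 𝓘 F).IsCoh := fun n =>
  ZClosLib.isCoh_pullback (FSch.completionToX X 𝓘 n) F hF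

variable [IsLocallyNoetherian X]

theorem isCohF_complF {F : X.Modules} (hF : Coh.IsCoh F) :
    FSch.IsCohF (FSch.completionAlong X 𝓘) hX ((complF 𝓘 hX).obj F) :=
  (goodRing hX (FSchLib.isLocNoethFormal_completionAlong 𝓘)).isFinitePresentation
    (isPC_realMod hX (FSchLib.isLocNoethFormal_completionAlong 𝓘) _ (isCoh_complMod 𝓘 hF))

theorem shortExact_complF (S : ShortComplex X.Modules) (hS : S.ShortExact)
    (h1 : Coh.IsCoh S.X₁) (h2 : Coh.IsCoh S.X₂) (h3 : Coh.IsCoh S.X₃) :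
    ∃ w : (complF 𝓘 hX).map S.f ≫ (complF 𝓘 hX).map S.g = 0, (ShortComplex.mk _ _ w).ShortExact :=
  shortExact_pullSysT (FSch.completionToX X 𝓘) (FSch.completionToX_comm X 𝓘) hX
    (fun n => inferInstanceAs (IsClosedImmersion (𝓘 ^ (n + 1)).subschemeι)) 𝓘
    (fun n => Scheme.IdealSheafData.ker_subschemeι _) (FSch.complTransIso 𝓘) (complTransIso_eq 𝓘) S hS h1 h2 h3

/-- Morphisms of completions of coherent modules are morphisms of systems. -/
theorem bijective_realModMap_complMod {F G : X.Modules} (hF : Coh.IsCoh F) :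
    Function.Bijective (fun φ : FSch.complMod 𝓘 F ⟶ FSch.complMod 𝓘 G =>
      (FSch.ModSys.realModMap hX φ : (complF 𝓘 hX).obj F ⟶ (complF 𝓘 hX).obj G)) :=
  realModMap_bijective hX (FSchLib.isLocNoethFormal_completionAlong 𝓘) _ _ (isCoh_complMod 𝓘 hF)

end Functor

section Abstract

variable {C : Type*} [Category C] [Abelian C]

/-- Kernel, image and cokernel of a composite of the maps of two short exact sequences, up to isomorphisms. -/
theorem nonempty_iso_of_factorisation {K I Q A B A' B' : C} {i : K ⟶ A} {e : A ⟶ I} {m : I ⟶ B} {p : B ⟶ Q}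
    {w₁ : i ≫ e = 0} (h₁ : (ShortComplex.mk i e w₁).ShortExact)
    {w₂ : m ≫ p = 0} (h₂ : (ShortComplex.mk m p w₂).ShortExact)
    (a : A' ≅ A) (b : B ≅ B') (u : A' ⟶ B') (hu : u = a.hom ≫ (e ≫ m) ≫ b.hom) :
    Nonempty (kernel u ≅ K) ∧ Nonempty (Abelian.image u ≅ I) ∧ Nonempty (cokernel u ≅ Q) := by
  subst hu
  haveI : Mono m := h₂.mono_f
  haveI : Epi e := h₁.epi_g
  refine ⟨⟨kernelIsIsoComp a.hom _ ≪≫ kernelCompMono _ b.hom ≪≫ kernelCompMono e m ≪≫
      (kernelIsKernel e).conePointUniqueUpToIso h₁.fIsKernel⟩, ?_,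
    ⟨cokernelEpiComp a.hom _ ≪≫ cokernelCompIsIso _ b.hom ≪≫ cokernelEpiComp e m ≪≫
      (cokernelIsCokernel m).coconePointUniqueUpToIso h₂.gIsCokernel⟩⟩
  haveI : StrongEpi (a.hom ≫ e) := strongEpi_of_epi _
  exact ⟨Abelian.imageIsoImage _ ≪≫ (image.isoStrongEpiMono (a.hom ≫ e) (m ≫ b.hom) (by simp)).symm⟩

end Abstract

variable {X : Scheme.{u}} (𝓘 : X.IdealSheafData) (hX : (FSch.completionAlong X 𝓘).IsFormal) [IsLocallyNoetherian X]

/-- Completion commutes with kernels, images and cokernels of maps of coherent modules. -/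
theorem kernel_image_cokernel_complF {F G : X.Modules} (hF : Coh.IsCoh F) (hG : Coh.IsCoh G) (φ : F ⟶ G)
    {A' B' : FSch.ModF (FSch.completionAlong X 𝓘) hX} (a : A' ≅ (complF 𝓘 hX).obj F)
    (b : (complF 𝓘 hX).obj G ≅ B') (u : A' ⟶ B') (hu : u = a.hom ≫ (complF 𝓘 hX).map φ ≫ b.hom) :
    Nonempty (kernel u ≅ (complF 𝓘 hX).obj (kernel φ)) ∧
    Nonempty (Abelian.image u ≅ (complF 𝓘 hX).obj (Abelian.image φ)) ∧
    Nonempty (cokernel u ≅ (complF 𝓘 hX).obj (cokernel φ)) := by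
  have hQ : Coh.IsCoh (cokernel φ) := isCoh_cokernel φ hF.1 hG
  have hI : Coh.IsCoh (Abelian.image φ) := isCoh_kernel (cokernel.π φ) hG hQ.1
  have hK : Coh.IsCoh (kernel φ) := isCoh_kernel φ hF hG.1
  have h0 : kernel.ι φ ≫ Abelian.factorThruImage φ = 0 := by
    rw [← cancel_mono (Abelian.image.ι φ), Category.assoc, kernel.lift_ι, kernel.condition, zero_comp]
  have hS₁ : (ShortComplex.mk (kernel.ι φ) (Abelian.factorThruImage φ) h0).ShortExact :=
    { exact := (ShortComplex.exact_iff_of_epi_of_isIso_of_mono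
        (S₁ := ShortComplex.mk (kernel.ι φ) (Abelian.factorThruImage φ) h0)
        (S₂ := ShortComplex.mk (kernel.ι φ) φ (kernel.condition φ))
        { τ₁ := 𝟙 _, τ₂ := 𝟙 _, τ₃ := Abelian.image.ι φ }).2 (ShortComplex.exact_kernel φ)
      mono_f := inferInstanceAs (Mono (kernel.ι φ))
      epi_g := inferInstanceAs (Epi (Abelian.factorThruImage φ)) }
  have hS₂ : (ShortComplex.mk (Abelian.image.ι φ) (cokernel.π φ) (kernel.condition _)).ShortExact :=
    { exact := ShortComplex.exact_kernel (cokernel.π φ)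
      mono_f := inferInstanceAs (Mono (Abelian.image.ι φ))
      epi_g := inferInstanceAs (Epi (cokernel.π φ)) }
  obtain ⟨w₁, hw₁⟩ := shortExact_complF 𝓘 hX _ hS₁ hK hF hI
  obtain ⟨w₂, hw₂⟩ := shortExact_complF 𝓘 hX _ hS₂ hI hG hQ
  refine nonempty_iso_of_factorisation hw₁ hw₂ a b u (hu.trans ?_)
  rw [← Functor.map_comp, kernel.lift_ι]

end Groth.Agent.FModLib
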