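import Groth.Agent.FModLib.PullIso

/-!
# Homomorphisms between completions on an affine scheme
-/

set_option autoImplicit false
set_option backward.isDefEq.respectTransparency false
set_option linter.style.haveILetI false
set_option linter.unusedSectionVars false

universe u

open CategoryTheory CategoryTheory.Limits AlgebraicGeometry Opposite TopologicalSpace
open Groth.Agent.FBlowLib Groth.Agent.DerCompLib Groth.Agent.Coherent Groth.Agent.PicLib

namespace Groth.Agent.FModLib

variable {X : Scheme.{u}} {𝔛 : FSch.Sys.{u}} (p : ∀ n, 𝔛.X n ⟶ X) (hp : ∀ n, 𝔛.ι n ≫ p (n + 1) = p n)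
  (h : 𝔛.IsFormal) (hci : ∀ n, IsClosedImmersion (p n)) (𝓘 : X.IdealSheafData)
  (hker : ∀ n, (p n).ker = 𝓘 ^ (n + 1)) (F : X.Modules) [Coh.IsQCoh F] {W : X.Opens} (hW : IsAffineOpen W)

include hci hker hW in
/-- Sections of the completion are generated by generators of the sections, without finiteness on the scheme. -/
theorem span_etaL_gen {ι : Type*} [Fintype ι] (g : ι → Γ(F, W)) (hg : Submodule.span Γ(X, W) (Set.range g) = ⊤) :
    Submodule.span (FBlowLib.Sec 𝔛 h (tr₀ p W)) (Set.range fun j => etaL p hp h F W (g j)) = ⊤ := by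
  refine top_unique fun y _ => ?_
  let I := 𝓘.ideal ⟨W, hW⟩
  let P : ℕ → (ι → Γ(X, W)) → Prop := fun k c =>
    eta p hp h F k W (∑ j, c j • g j) = rproj h (pullSys p hp F).F (pullSys p hp F).toPush k (tr₀ p W) y
  have h0 : ∃ c, P 0 c := by
    obtain ⟨m, hm⟩ := eta_surjective p hp h F hci 0 hW
      (rproj h (pullSys p hp F).F (pullSys p hp F).toPush 0 (tr₀ p W) y)
    obtain ⟨c, hc⟩ := (Submodule.mem_span_range_iff_exists_fun _).1
      (show m ∈ Submodule.span Γ(X, W) (Set.range g) by rw [hg]; trivial)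
    exact ⟨c, by show eta p hp h F 0 W _ = _; rw [hc, hm]⟩
  have hstep : ∀ k (c : {c // P k c}), ∃ c' : {c' // P (k + 1) c'}, ∀ j, c'.1 j - c.1 j ∈ I ^ (k + 1) := by
    rintro k ⟨c, hc⟩
    obtain ⟨m, hm⟩ := eta_surjective p hp h F hci (k + 1) hW
      (rproj h (pullSys p hp F).F (pullSys p hp F).toPush (k + 1) (tr₀ p W) y)
    have hd : m - ∑ j, c j • g j ∈ I ^ (k + 1) • (⊤ : Submodule Γ(X, W) Γ(F, W)) := by
      rw [← eta_eq_zero_iff p hp h F hci 𝓘 hker k hW, map_sub, ← trSec_eta p hp h F k W m, hm, trSec_rproj,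
        show eta p hp h F k W (∑ j, c j • g j) = _ from hc, sub_self]
    rw [← hg, Submodule.mem_ideal_smul_span_iff_exists_sum] at hd
    obtain ⟨df, hdI, hdm⟩ := hd
    replace hdm : ∑ j, df j • g j = m - ∑ j, c j • g j :=
      (Finsupp.sum_fintype df (fun i a => a • g i) fun i => zero_smul _ _).symm.trans hdm
    refine ⟨⟨fun j => c j + df j, ?_⟩, fun j => by simpa using hdI j⟩
    show eta p hp h F (k + 1) W _ = _
    simp only [add_smul, Finset.sum_add_distrib, hdm, add_sub_cancel, hm]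
  choose nx hnx using hstep
  let cs : ∀ k, {c // P k c} := fun k =>
    Nat.rec (motive := fun k => {c // P k c}) ⟨h0.choose, h0.choose_spec⟩ (fun k c => nx k c) k
  have hcs : ∀ k j, (cs (k + 1)).1 j - (cs k).1 j ∈ I ^ (k + 1) := fun k j => hnx k (cs k) j
  choose b hb using fun j => exists_sec 𝔛 h
    (fun k => (p k).appLE W (𝔛.lvU h k (tr₀ p W)) (lvU_tr₀ p hp h k W).ge ((cs k).1 j)) fun k => by
      have hs := proj_succ 𝔛 h k (tr₀ p W) (sharp p hp h W ((cs (k + 1)).1 j))
      rw [proj_sharp, proj_sharp] at hs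
      refine hs.trans (sub_eq_zero.1 ?_)
      rw [← map_sub]
      have := hcs k j
      rw [← ker_appLE_tr₀ p hp h hci 𝓘 hker k hW, RingHom.mem_ker] at this
      exact this
  refine (Submodule.mem_span_range_iff_exists_fun _).2 ⟨b, rsec_ext h _ _ fun k => ?_⟩
  rw [map_sum]
  refine Eq.trans ?_ (cs k).2
  rw [map_sum]
  refine Finset.sum_congr rfl fun j _ => ?_
  rw [map_smul, rproj_etaL, eta_smul]
  apply (upVal h).injective
  rw [upVal_smul, upVal_smul, hb, proj_sharp]

include hci hker hW in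
/-- On an affine open with complete sections, sections of the completion are the sections. -/
theorem etaL_bijective [IsAdicComplete (𝓘.ideal ⟨W, hW⟩) Γ(F, W)] : Function.Bijective (etaL p hp h F W) := by
  refine ⟨(injective_iff_map_eq_zero _).2 fun m hm => ?_, fun y => ?_⟩
  · refine IsHausdorff.haus (inferInstance : IsHausdorff (𝓘.ideal ⟨W, hW⟩) Γ(F, W)) m fun n => ?_
    rw [SModEq.sub_mem, sub_zero]
    rcases n with _ | k
    · rw [pow_zero, Ideal.one_eq_top, Submodule.top_smul]; trivial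
    refine (eta_eq_zero_iff p hp h F hci 𝓘 hker k hW m).1 ?_
    rw [← rproj_etaL, hm, map_zero]
  · choose m hm using fun k => eta_surjective p hp h F hci k hW
      (rproj h (pullSys p hp F).F (pullSys p hp F).toPush k (tr₀ p W) y)
    let I := 𝓘.ideal ⟨W, hW⟩
    have hc : ∀ k, m (k + 1) - m k ∈ I ^ (k + 1) • (⊤ : Submodule Γ(X, W) Γ(F, W)) := fun k => by
      rw [← eta_eq_zero_iff p hp h F hci 𝓘 hker k hW, map_sub, ← trSec_eta p hp h F k W (m (k + 1)), hm,
        trSec_rproj, hm, sub_self]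
    let s : ℕ → Γ(F, W) := fun n => m (n - 1)
    have hs : ∀ n, s (n + 1) - s n ∈ I ^ n • (⊤ : Submodule Γ(X, W) Γ(F, W)) := fun n => by
      rcases n with _ | j
      · simp
      · exact hc j
    obtain ⟨L, hL⟩ := IsPrecomplete.prec (inferInstance : IsPrecomplete I Γ(F, W)) (f := s) fun {a b} hab => by
      induction b, hab using Nat.le_induction with
      | base => rfl
      | succ b hab ih =>
        exact ih.trans (SModEq.sub_mem.2 (Submodule.smul_mono_left (Ideal.pow_le_pow_right hab)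
          ((Submodule.neg_mem_iff _).1 (by rw [neg_sub]; exact hs b))))
    refine ⟨L, rsec_ext h _ _ fun k => ?_⟩
    rw [rproj_etaL]
    refine Eq.trans ?_ (hm k)
    rw [← sub_eq_zero, ← map_sub, eta_eq_zero_iff p hp h F hci 𝓘 hker k hW, ← neg_sub, Submodule.neg_mem_iff]
    exact SModEq.sub_mem.1 (hL (k + 1))


/-- Completion of morphisms on sections. -/
theorem realMap_etaL {G : X.Modules} (φ : F ⟶ G) (W : X.Opens) (m : Γ(F, W)) :
    secMap (FSch.ModSys.realModMap h (pullSysMap p hp F φ)) (tr₀ p W) (etaL p hp h F W m) =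
      etaL p hp h G W (φ.app W m) :=
  rsec_ext h _ _ fun k => by
    rw [secMap_realModMap p hp h φ k, rproj_etaL, rproj_etaL]
    exact eta_natural p hp h F φ k W m

include hci hker in
/-- Morphisms out of a completion on an affine scheme are determined on global sections. -/
theorem hom_ext_top [IsAffine X] [Module.Finite Γ(X, ⊤) Γ(F, ⊤)] {N : ModSite.Mod (𝔛.Osh h)}
    (a b : (pullSys p hp F).realMod h ⟶ N)
    (hab : ∀ m : Γ(F, ⊤), secMap a (tr₀ p ⊤) (etaL p hp h F ⊤ m) = secMap b (tr₀ p ⊤) (etaL p hp h F ⊤ m)) :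
    a = b := by
  have hb := basis_tr₀ p hci
  apply SheafOfModules.hom_ext
  apply PresheafOfModules.hom_ext
  intro U
  refine ModuleCat.hom_ext (LinearMap.ext fun x => sec_ext_basis hb (N := N) _ _ ?_)
  rintro V i ⟨W, hW, rfl⟩
  show mRes N i (secMap a U.unop x) = mRes N i (secMap b U.unop x)
  rw [← secMap_mRes, ← secMap_mRes]
  obtain ⟨n, g, hg⟩ := Module.Finite.exists_fin (R := Γ(X, ⊤)) (M := Γ(F, ⊤))
  have hsp := span_etaL_gen p hp h hci 𝓘 hker F hW (fun j => resM F (le_top : W ≤ ⊤) (g j))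
    (span_resM (isAffineOpen_top X) hW le_top g hg)
  generalize mRes (cMod p hp h F) i x = z
  obtain ⟨c, rfl⟩ := (Submodule.mem_span_range_iff_exists_fun _).1
    (show z ∈ Submodule.span _ _ by rw [hsp]; trivial)
  rw [map_sum, map_sum]
  refine Finset.sum_congr rfl fun j _ => ?_
  rw [map_smul, map_smul]
  refine congrArg (c j • ·) ?_
  rw [etaL_res, secMap_mRes, secMap_mRes, hab]

end Groth.Agent.FModLib
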