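import Groth.Agent.FModLib.PullIso
import Groth.Agent.Coherent.Existence.FullFaithful
import Groth.Agent.Coherent.Existence.Restrict
import Groth.Agent.Coherent.FormalFunctions
import Groth.Agent.Coherent.FinMor
import Groth.Agent.Formal2Lib.KerSys
import Groth.Agent.TwistLib.G.Map
import Groth.Agent.RelVALib.UPProp

/-!
# Formal functions for sections over an open proper over an affine base

For an open `U` of `X` proper over `Spec R`, whose traces of the ideal come from `I ⊆ R`, the kernels of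
`Γ(U, F) → Γ(U, F_k)` are adically small and compatible families lift levelwise.
-/

set_option autoImplicit false
set_option backward.isDefEq.respectTransparency false
set_option linter.style.haveILetI false
set_option linter.unusedSectionVars false
set_option maxHeartbeats 1000000

universe u

open CategoryTheory CategoryTheory.Limits AlgebraicGeometry Opposite TopologicalSpace
open Groth.Agent.FBlowLib Groth.Agent.DerCompLib Groth.Agent.Coherent Groth.Agent.PicLib
open Groth.Agent.Coherent.Existence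

namespace Groth.Agent.FModLib

variable {X : Scheme.{u}} {𝔛 : FSch.Sys.{u}} (p : ∀ n, 𝔛.X n ⟶ X) (hp : ∀ n, 𝔛.ι n ≫ p (n + 1) = p n)
  (h : 𝔛.IsFormal) (F : X.Modules)

/-- A level of the completion, pushed to the scheme. -/
noncomputable abbrev lvPush (n : ℕ) : X.Modules :=
  (FSch.toSchemeMor 𝔛 h p hp).push.obj (up h n ((Scheme.Modules.pullback (p n)).obj F))

/-- The map to a level. -/
noncomputable def aMap (n : ℕ) : F ⟶ lvPush p hp h F n :=
  psi p hp h F ≫ (FSch.toSchemeMor 𝔛 h p hp).push.map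
    (FSch.realProj 𝔛 h (pullSys p hp F).F (pullSys p hp F).toPush n)

theorem aMap_app (n : ℕ) (W : X.Opens) (m : Γ(F, W)) :
    (aMap p hp h F n).app W m = eta p hp h F n W m :=
  rproj_etaL p hp h F W m n

/-- The transition between levels. -/
noncomputable def tMap (n : ℕ) : lvPush p hp h F (n + 1) ⟶ lvPush p hp h F n :=
  (FSch.toSchemeMor 𝔛 h p hp).push.map
    ((FSch.levelMor 𝔛 h (n + 1)).push.map ((pullSys p hp F).toPush n) ≫
      (FSch.pushCompare 𝔛 h n).app ((Scheme.Modules.pullback (p n)).obj F))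

theorem aMap_tMap (n : ℕ) : aMap p hp h F (n + 1) ≫ tMap p hp h F n = aMap p hp h F n := by
  refine (Category.assoc _ _ _).trans (congrArg (psi p hp h F ≫ ·) ?_)
  refine ((FSch.toSchemeMor 𝔛 h p hp).push.map_comp _ _).symm.trans ?_
  exact congrArg (FSch.toSchemeMor 𝔛 h p hp).push.map
    (FSch.realProj_map 𝔛 h (pullSys p hp F).F (pullSys p hp F).toPush n)

theorem tMap_app (n : ℕ) (W : X.Opens)
    (z : DerCompLib.Sec (up h (n + 1) ((Scheme.Modules.pullback (p (n + 1))).obj F)) (tr₀ p W)) :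
    (tMap p hp h F n).app W z = trSec h (pullSys p hp F).F (pullSys p hp F).toPush n (tr₀ p W) z := rfl

theorem restrict_map_app {V : X.Opens} {M N : X.Modules} (φ : M ⟶ N) (W : (V : Scheme.{u}).Opens)
    (y : Γ(M, V.ι ''ᵁ W)) :
    ((Scheme.Modules.restrictFunctor V.ι).map φ).app W y = φ.app (V.ι ''ᵁ W) y := rfl

theorem mem_of_mem_restrict {V : X.Opens} (M : X.Modules) (W : (V : Scheme.{u}).Opens)
    (J : Ideal Γ(X, V.ι ''ᵁ W)) (y : Γ(M.restrict V.ι, W))
    (hy : y ∈ (show Ideal Γ((V : Scheme.{u}), W) from J) •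
      (⊤ : Submodule Γ((V : Scheme.{u}), W) Γ(M.restrict V.ι, W))) :
    (show Γ(M, V.ι ''ᵁ W) from y) ∈ J • (⊤ : Submodule Γ(X, V.ι ''ᵁ W) Γ(M, V.ι ''ᵁ W)) := by
  refine Submodule.smul_induction_on (p := fun z : Γ(M.restrict V.ι, W) =>
    (show Γ(M, V.ι ''ᵁ W) from z) ∈ _) hy (fun c hc w _ => ?_) fun a b ha hb => add_mem ha hb
  refine (congrArg (fun z : Γ(M, V.ι ''ᵁ W) => z ∈ _) (restrict_smul M W c w).symm).mp ?_
  exact Submodule.smul_mem_smul (N := (⊤ : Submodule Γ(X, V.ι ''ᵁ W) Γ(M, V.ι ''ᵁ W)))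
    (n := (show Γ(M, V.ι ''ᵁ W) from w)) hc trivial

variable (hci : ∀ n, IsClosedImmersion (p n)) (𝓘 : X.IdealSheafData) (hker : ∀ n, (p n).ker = 𝓘 ^ (n + 1))
  [IsLocallyNoetherian X] (hF : Coh.IsCoh F) (U : X.Opens) {R : Type u} [CommRing R] [IsNoetherianRing R]
  [(U : Scheme.{u}).Over (Spec (CommRingCat.of R))]
  [IsProper ((U : Scheme.{u}) ↘ Spec (CommRingCat.of R))] (I : Ideal R)
  (hI : ∀ (O : (U : Scheme.{u}).Opens) (hO : IsAffineOpen O),
    (show Ideal Γ((U : Scheme.{u}), O) from 𝓘.ideal ⟨U.ι ''ᵁ O, hO.image_of_isOpenImmersion U.ι⟩) =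
      openIdeal I O)

include hci hker hF hI in
/-- Modulo powers of the ideal is the level. -/
theorem exists_modPow_iso (n : ℕ) :
    ∃ θ : Formal.modPow I (n + 1) (F.restrict U.ι) ⟶ (lvPush p hp h F n).restrict U.ι, IsIso θ ∧
      Formal.modPowπ I (n + 1) (F.restrict U.ι) ≫ θ =
        (Scheme.Modules.restrictFunctor U.ι).map (aMap p hp h F n) := by
  haveI : Coh.IsQCoh F := hF.1
  haveI : IsLocallyNoetherian (U : Scheme.{u}) := isLocallyNoetherian_of_isOpenImmersion U.ι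
  have hF' := isCoh_restrict U hF
  let a' := (Scheme.Modules.restrictFunctor U.ι).map (aMap p hp h F n)
  have hker' : ∀ (O : (U : Scheme.{u}).Opens) (_ : IsAffineOpen O) (y : Γ(F.restrict U.ι, O)),
      a'.app O y = 0 ↔ y ∈ openIdeal I O ^ (n + 1) • (⊤ : Submodule Γ((U : Scheme.{u}), O) _) := by
    intro O hO y
    rw [← hI O hO]
    refine (Iff.of_eq (congrArg (· = 0) (aMap_app p hp h F n (U.ι ''ᵁ O) y))).trans
      ((eta_eq_zero_iff p hp h F hci 𝓘 hker n (hO.image_of_isOpenImmersion U.ι) y).trans ?_)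
    exact ⟨mem_restrict_of_mem F O (𝓘.ideal ⟨U.ι ''ᵁ O, hO.image_of_isOpenImmersion U.ι⟩ ^ (n + 1)) y,
      mem_of_mem_restrict F O (𝓘.ideal ⟨U.ι ''ᵁ O, hO.image_of_isOpenImmersion U.ι⟩ ^ (n + 1)) y⟩
  obtain ⟨θ, hθ⟩ := Formal2Lib.exists_desc_modPowπ (I := I) (n := n + 1) a' fun c hc => by
    refine RelVALib.hom_ext_affine _ _ fun O hO x => ?_
    show a'.app O ((Formal.smulMod R (F.restrict U.ι) c).app O x) = 0
    rw [smulMod_app]
    refine (hker' O hO _).2 (Submodule.smul_mem_smul ?_ trivial)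
    rw [openIdeal, ← Ideal.map_pow]
    exact Ideal.mem_map_of_mem _ hc
  refine ⟨θ, ?_, hθ⟩
  refine TwistLib.G.isIso_of_bijective_on_basis θ (fun O => IsAffineOpen O)
    (fun O y hy => by
      obtain ⟨V, hV, hyV, hVO⟩ := exists_isAffineOpen_mem_and_subset (x := y) (U := O) hy
      exact ⟨V, hV, hyV, hVO⟩) fun O hO => ⟨?_, ?_⟩
  · rw [injective_iff_map_eq_zero]
    intro z hz
    obtain ⟨y, rfl⟩ := modPowπ_app_surjective' I hF' (n + 1) hO z
    exact (modPowπ_app_eq_zero_iff I hF' (n + 1) hO y).2 ((hker' O hO y).1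
      ((app_congr hθ O y).symm.trans ((comp_app_eq (Formal.modPowπ I (n + 1) (F.restrict U.ι)) θ O y).trans hz)))
  · intro z
    obtain ⟨m, hm⟩ := eta_surjective p hp h F hci n (hO.image_of_isOpenImmersion U.ι) z
    refine ⟨(Formal.modPowπ I (n + 1) (F.restrict U.ι)).app O m, ?_⟩
    refine ((comp_app_eq (Formal.modPowπ I (n + 1) (F.restrict U.ι)) θ O m).symm.trans (app_congr hθ O m)).trans ?_
    exact (aMap_app p hp h F n (U.ι ''ᵁ O) m).trans hm

/-- The scalars of the affine base. -/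
noncomputable def scalHom : R →+* Γ(X, U.ι ''ᵁ (⊤ : (U : Scheme.{u}).Opens)) := baseHom R (U : Scheme.{u})

theorem hSec_smul (M : (U : Scheme.{u}).Modules) (a : R) (x : Coh.HH (U : Scheme.{u}) M 0) :
    hSec M (a • x) = baseHom R (U : Scheme.{u}) a • hSec M x := by
  refine (hSec_map (Formal.smulMod R M a) x).trans ?_
  rw [smulMod_app]
  congr 1
  exact ConcreteCategory.congr_hom ((U : Scheme.{u}).presheaf.map_id _) _

include hci hker hF hI in
/-- The kernels are adically small. -/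
theorem exists_eta_ker_le : ∃ c : ℕ, ∀ k : ℕ, c ≤ k → ∀ m : Γ(F, U.ι ''ᵁ (⊤ : (U : Scheme.{u}).Opens)),
    eta p hp h F k (U.ι ''ᵁ ⊤) m = 0 →
      m ∈ (I.map (scalHom U : R →+* _)) ^ (k - c) • (⊤ : Submodule Γ(X, U.ι ''ᵁ ⊤) Γ(F, U.ι ''ᵁ ⊤)) := by
  have hF' := isCoh_restrict U hF
  obtain ⟨c, hc⟩ := exists_imPow_le I hF' 0
  refine ⟨c, fun k hk m hm => ?_⟩
  obtain ⟨θ, hθiso, hθ⟩ := exists_modPow_iso p hp h F hci 𝓘 hker hF U I hI k
  let x : Coh.HH (U : Scheme.{u}) (F.restrict U.ι) 0 := (hSec (F.restrict U.ι)).symm m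
  have h1 : (Formal.modPowπ I (k + 1) (F.restrict U.ι)).app ⊤ m = 0 := by
    refine (ConcreteCategory.bijective_of_isIso (θ.app ⊤)).1 ?_
    rw [map_zero]
    refine ((comp_app_eq (Formal.modPowπ I (k + 1) (F.restrict U.ι)) θ ⊤ m).symm.trans (app_congr hθ ⊤ m)).trans ?_
    exact (aMap_app p hp h F k _ m).trans hm
  have h2 : Formal.toHHmodPow I (F.restrict U.ι) 0 k x = 0 := by
    refine (hSec _).injective ?_
    rw [map_zero]
    refine (hSec_map _ x).trans ?_
    rw [AddEquiv.apply_symm_apply]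
    exact h1
  have h3 : x ∈ I ^ (k - c) • (⊤ : Submodule R (Coh.HH (U : Scheme.{u}) (F.restrict U.ι) 0)) :=
    Submodule.smul_mono_left (Ideal.pow_le_pow_right (by omega))
      (hc (k + 1) (by omega) ((mem_imPow_succ_iff I (F.restrict U.ι) 0 k x).2 h2))
  have h4 : (show Γ(F, U.ι ''ᵁ ⊤) from hSec (F.restrict U.ι) x) ∈
      (I.map (scalHom U : R →+* _)) ^ (k - c) • (⊤ : Submodule Γ(X, U.ι ''ᵁ ⊤) Γ(F, U.ι ''ᵁ ⊤)) := by
    refine Submodule.smul_induction_on (p := fun y => (show Γ(F, U.ι ''ᵁ ⊤) from hSec (F.restrict U.ι) y) ∈ _)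
      h3 (fun a ha y _ => ?_) fun a b ha hb => ?_
    · rw [hSec_smul, ← Ideal.map_pow]
      refine (congrArg (fun z : Γ(F, U.ι ''ᵁ ⊤) => z ∈ _)
        (restrict_smul F ⊤ (scalHom U a) (hSec (F.restrict U.ι) y))).mpr ?_
      exact Submodule.smul_mem_smul (Ideal.mem_map_of_mem _ ha) trivial
    · rw [map_add]
      exact add_mem ha hb
  rwa [AddEquiv.apply_symm_apply] at h4

include hci hker hF hI in
/-- Compatible families lift levelwise. -/
theorem exists_eta_eq
    (z : ∀ k, DerCompLib.Sec (up h k ((Scheme.Modules.pullback (p k)).obj F))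
      (tr₀ p (U.ι ''ᵁ (⊤ : (U : Scheme.{u}).Opens))))
    (hz : ∀ k, trSec h (pullSys p hp F).F (pullSys p hp F).toPush k (tr₀ p _) (z (k + 1)) = z k) (n : ℕ) :
    ∃ m : Γ(F, U.ι ''ᵁ (⊤ : (U : Scheme.{u}).Opens)), eta p hp h F n _ m = z n := by
  have hF' := isCoh_restrict U hF
  choose θ hθiso hθ using exists_modPow_iso p hp h F hci 𝓘 hker hF U I hI
  choose y hy using fun k => (ConcreteCategory.bijective_of_isIso ((θ k).app ⊤)).2 (z k)
  have hθt : ∀ k, Formal.modPowTrans I (k + 1) (F.restrict U.ι) ≫ θ k =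
      θ (k + 1) ≫ (Scheme.Modules.restrictFunctor U.ι).map (tMap p hp h F k) := fun k => by
    haveI : Epi (Formal.modPowπ I (k + 1 + 1) (F.restrict U.ι)) := inferInstanceAs (Epi (cokernel.π _))
    rw [← cancel_epi (Formal.modPowπ I (k + 1 + 1) (F.restrict U.ι)), ← Category.assoc, ← Category.assoc,
      Formal.modPowπ_trans, hθ, hθ, ← Functor.map_comp, aMap_tMap]
  have hyc : ∀ k, (Formal.modPowTrans I (k + 1) (F.restrict U.ι)).app ⊤ (y (k + 1)) = y k := fun k => by
    refine (ConcreteCategory.bijective_of_isIso ((θ k).app ⊤)).1 ?_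
    refine ((comp_app_eq _ (θ k) ⊤ _).symm.trans (app_congr (hθt k) ⊤ _)).trans ?_
    refine (comp_app_eq _ _ ⊤ _).trans ?_
    rw [hy k]
    refine (congrArg (((Scheme.Modules.restrictFunctor U.ι).map (tMap p hp h F k)).app ⊤) (hy (k + 1))).trans ?_
    refine (restrict_map_app (tMap p hp h F k) ⊤ (z (k + 1))).trans ?_
    exact (tMap_app p hp h F k (U.ι ''ᵁ (⊤ : (U : Scheme.{u}).Opens)) (z (k + 1))).trans (hz k)
  let ξ : Formal.HHlim I (F.restrict U.ι) 0 := ⟨fun k => (hSec _).symm (y k), fun k => by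
    refine (hSec _).injective ?_
    refine (hSec_map _ _).trans ?_
    rw [AddEquiv.apply_symm_apply, AddEquiv.apply_symm_apply]
    exact hyc k⟩
  obtain ⟨w, hw⟩ := exists_lifts I hF' 0 ξ
  refine ⟨hSec (F.restrict U.ι) (w n), ?_⟩
  refine (aMap_app p hp h F n _ _).symm.trans ?_
  refine ((app_congr (hθ n) ⊤ _).symm.trans (comp_app_eq _ (θ n) ⊤ _)).trans ?_
  refine (congrArg ((θ n).app ⊤) ?_).trans (hy n)
  refine (hSec_map _ (w n)).symm.trans ((congrArg (hSec _) (hw n)).trans ?_)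
  exact AddEquiv.apply_symm_apply _ _

end Groth.Agent.FModLib
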