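import Groth.Agent.FModLib.Rings
import Groth.Agent.FModLib.BasisExact

/-!
# The affine basis of a locally Noetherian formal scheme

The rings of sections of `O_𝔛` on affine opens satisfy `GoodRing`.
-/

set_option autoImplicit false
set_option backward.isDefEq.respectTransparency false
set_option linter.style.haveILetI false
set_option linter.unusedSectionVars false

universe u

open CategoryTheory CategoryTheory.Limits AlgebraicGeometry Opposite TopologicalSpace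
open Groth.Agent.FBlowLib

namespace Groth.Agent.FModLib

variable (𝔛 : FSch.Sys.{u})

/-- The affine opens of the common space. -/
abbrev AFF : Opens (𝔛.X 0).carrier → Prop := fun U => IsAffineOpen (X := 𝔛.X 0) U

variable {𝔛} (h : 𝔛.IsFormal) (hX : 𝔛.IsLocNoethFormal)

theorem basis_AFF (U : Opens (𝔛.X 0).carrier) (x : (𝔛.X 0).carrier) (hx : x ∈ U) :
    ∃ V : Opens (𝔛.X 0).carrier, AFF 𝔛 V ∧ x ∈ V ∧ V ≤ U :=
  Opens.isBasis_iff_nbhd.mp (𝔛.X 0).isBasis_affineOpens hx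

theorem lres_tr (n : ℕ) {U V : (𝔛.X 0).Opens} (i : V ≤ U) (x : Γ(𝔛.X (n + 1), 𝔛.lvU h (n + 1) U)) :
    lres h n i (tr h n U x) = tr h n V (lres h (n + 1) i x) := by
  change ((𝔛.ι n).appLE _ _ _ ≫ (𝔛.X n).presheaf.map _) x =
    ((𝔛.X (n + 1)).presheaf.map _ ≫ (𝔛.ι n).appLE _ _ _) x
  rw [Scheme.Hom.appLE_map, Scheme.Hom.map_appLE]

include hX in
theorem flat_AFF {U V : (𝔛.X 0).Opens} (i : V ≤ U) (hU : IsAffineOpen U) (hV : IsAffineOpen V)
    (q : ℕ) (f : Fin q → Sec 𝔛 h U) (a : Fin q → Sec 𝔛 h V)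
    (ha : ∑ j, a j * res 𝔛 h i (f j) = 0) :
    a ∈ Submodule.span (Sec 𝔛 h V)
      ((fun y => res 𝔛 h i ∘ y) '' (relsOf (Sec 𝔛 h U) f : Set (Fin q → Sec 𝔛 h U))) := by
  haveI := isNoetherianRing_sec h hX hU
  haveI := isNoetherianRing_sec h hX hV
  obtain ⟨-, hpU⟩ := sec_props h hX hU
  obtain ⟨-, hpV⟩ := sec_props h hX hV
  refine mem_span_rels_of_levels (res 𝔛 h i) (jdl h U) (jdl h V) (map_jdl_le h i)
    (jdl_le_jacobson h hX hV) (fun n => proj 𝔛 h n U) (fun n => proj 𝔛 h n V)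
    (fun n => lres h n i) (fun n x => (proj_res 𝔛 h n i x).symm) (fun n => (hpU n).1) (fun n => (hpV n).1)
    (fun n => (hpV n).2.le.trans (Ideal.pow_le_pow_right n.le_succ)) f a
    (fun n => relsOf Γ(𝔛.X n, 𝔛.lvU h n U) (fun j => proj 𝔛 h n U (f j)))
    (fun n y hy => ?_) (fun n => ?_)
  · have h0 : ∑ j, y j • f j ∈ jdl h U ^ (n + 1) := by
      rw [← (hpU n).2, RingHom.mem_ker, map_sum]
      refine Eq.trans ?_ (mem_relsOf.1 hy)
      exact Finset.sum_congr rfl fun j _ => map_mul _ _ _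
    rw [show (jdl h U ^ n • (⊤ : Ideal (Sec 𝔛 h U))) = jdl h U ^ n from Ideal.mul_top _]
    exact Ideal.pow_le_pow_right n.le_succ h0
  · haveI : Module.Flat Γ(𝔛.X n, 𝔛.lvU h n U) Γ(𝔛.X n, 𝔛.lvU h n U) := inferInstance
    letI := (lres h n i).toAlgebra
    haveI : Module.Flat Γ(𝔛.X n, 𝔛.lvU h n U) Γ(𝔛.X n, 𝔛.lvU h n V) := by
      have h1 := HasRingHomProperty.appLE @Flat (𝟙 (𝔛.X n)) inferInstance
        ⟨_, S13347.isAffineOpen_lvU 𝔛 h n U hU⟩ ⟨_, S13347.isAffineOpen_lvU 𝔛 h n V hV⟩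
        (FBlow.lvU_mono 𝔛 h n i)
      simp only [Scheme.Hom.appLE, Scheme.Hom.id_app, Category.id_comp] at h1
      exact h1
    refine relsOf_le_span_of_isBaseChange
      (IsBaseChange.of_equiv (f := Algebra.linearMap _ _) (TensorProduct.AlgebraTensorModule.rid _ _ _)
        (fun x => by simp [Algebra.smul_def]))
      (fun j => proj 𝔛 h n U (f j)) ?_
    rw [mem_relsOf]
    have := congrArg (proj 𝔛 h n V) ha
    rw [map_sum, map_zero] at this
    refine (Finset.sum_congr rfl fun j _ => ?_).trans this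
    rw [map_mul, proj_res]
    rfl

include hX in
theorem cover_AFF {U : (𝔛.X 0).Opens} (hU : IsAffineOpen U) (𝔞 : Ideal (Sec 𝔛 h U))
    (hc : ∀ x : 𝔛.X 0, x ∈ U → ∃ (V : (𝔛.X 0).Opens) (i : V ≤ U),
      IsAffineOpen V ∧ x ∈ V ∧ 𝔞.map (res 𝔛 h i) = ⊤) : 𝔞 = ⊤ := by
  let W := 𝔛.lvU h 0 U
  have hW : IsAffineOpen W := S13347.isAffineOpen_lvU 𝔛 h 0 U hU
  have hmem : ∀ {Z : (𝔛.X 0).Opens} {x : 𝔛.X 0}, x ∈ 𝔛.lvU h 0 Z ↔ x ∈ Z := fun {Z x} => by
    have : 𝔛.gInv h 0 x = x := ConcreteCategory.congr_hom (𝔛.toX_base_gInv h 0) x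
    show 𝔛.gInv h 0 x ∈ Z ↔ _
    rw [this]
  let S : Set Γ(𝔛.X 0, W) := proj 𝔛 h 0 U '' 𝔞
  have hS : Ideal.span S = ⊤ := by
    rw [← hW.self_le_iSup_basicOpen_iff]
    intro x hx
    obtain ⟨V, i, -, hxV, h1⟩ := hc x (hmem.1 hx)
    by_contra hno
    have hle : 𝔞.map (((𝔛.X 0).presheaf.germ (𝔛.lvU h 0 V) x (hmem.2 hxV)).hom.comp
        ((proj 𝔛 h 0 V).comp (res 𝔛 h i))) ≤ IsLocalRing.maximalIdeal _ := by
      refine Ideal.map_le_iff_le_comap.2 fun a ha => ?_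
      rw [Ideal.mem_comap, IsLocalRing.mem_maximalIdeal, mem_nonunits_iff]
      intro hu
      refine hno (Opens.mem_iSup.2 ⟨⟨_, a, ha, rfl⟩, ?_⟩)
      rw [Scheme.mem_basicOpen _ _ _ hx]
      rw [RingHom.comp_apply, RingHom.comp_apply, proj_res] at hu
      exact (TopCat.Presheaf.germ_res_apply (𝔛.X 0).presheaf
        (homOfLE (FBlow.lvU_mono 𝔛 h 0 i)) x (hmem.2 hxV) _) ▸ hu
    rw [← Ideal.map_map, ← Ideal.map_map, h1, Ideal.map_top, Ideal.map_top, top_le_iff] at hle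
    exact (IsLocalRing.maximalIdeal.isMaximal _).ne_top hle
  have h2 : 𝔞 ⊔ jdl h U = ⊤ := by
    show 𝔞 ⊔ Ideal.comap (proj 𝔛 h 0 U) ⊥ = ⊤
    rw [← Ideal.comap_map_of_surjective _ ((sec_props h hX hU).2 0).1, Ideal.map, hS, Ideal.comap_top]
  exact Ideal.eq_top_iff_one _ |>.2 (by
    obtain ⟨a, ha, b, hb, hab⟩ := Submodule.mem_sup.1 ((Ideal.eq_top_iff_one _).1 h2)
    have hu : IsUnit a := by
      rw [show a = 1 - b by rw [← hab]; ring]
      simpa using Ideal.isUnit_of_sub_one_mem_jacobson_bot (1 - b) (by simpa using neg_mem (jdl_le_jacobson h hX hU hb))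
    obtain ⟨u, rfl⟩ := hu
    simpa using 𝔞.mul_mem_left (↑u⁻¹) ha)

include hX in
theorem goodRing : GoodRing (𝔛.Osh h) (AFF 𝔛) where
  basis := basis_AFF
  noeth := fun U hU => isNoetherianRing_sec h hX hU
  flat := fun U V i hU hV q f a ha => flat_AFF h hX i hU hV q f a ha
  cover := fun U hU 𝔞 hc => cover_AFF h hX hU 𝔞 hc

end Groth.Agent.FModLib
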