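import Groth.Agent.FModLib.IndRpushZero
import Groth.Agent.Coherent.Vanishing
import Groth.Agent.S0015
import Mathlib.Topology.NoetherianSpace

/-!
# Cohomological dimension of direct images for modules acyclic on affine opens
-/

set_option autoImplicit false
set_option backward.isDefEq.respectTransparency false
set_option linter.style.haveILetI false
set_option linter.unusedSectionVars false

universe u

open CategoryTheory CategoryTheory.Limits AlgebraicGeometry Opposite TopologicalSpace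
open Groth.Agent.FBlowLib Groth.Agent.DerCompLib Groth.Agent.Coherent

namespace Groth.Agent.FModLib

/-- The preimage of an affine open of an affine open meets affine opens over it in affine opens. -/
theorem isAffineOpen_inf_preimage {X Y : Scheme.{u}} (g : X ⟶ Y) {V' V : Y.Opens} (hV' : IsAffineOpen V')
    (hV : IsAffineOpen V) (hVV' : V ≤ V') {W : X.Opens} (hW : IsAffineOpen W) (hWV : W ≤ g ⁻¹ᵁ V') :
    IsAffineOpen (W ⊓ g ⁻¹ᵁ V) := by
  haveI : IsAffine V'.toScheme := hV'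
  haveI : IsAffine W.toScheme := hW
  have e0 : V'.ι ''ᵁ (V'.ι ⁻¹ᵁ V) = V := by
    rw [Scheme.Hom.image_preimage_eq_opensRange_inf, Scheme.Opens.opensRange_ι]
    exact inf_eq_right.2 hVV'
  have h1 : IsAffineOpen (V'.ι ⁻¹ᵁ V) := V'.ι.isAffineOpen_iff_of_isOpenImmersion.1 (by rw [e0]; exact hV)
  have h2 := (h1.preimage (g.resLE V' W hWV)).image_of_isOpenImmersion W.ι
  rw [Scheme.Hom.resLE_preimage, e0, Scheme.Hom.image_preimage_eq_opensRange_inf, Scheme.Opens.opensRange_ι] at h2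
  exact h2

/-- Quasi-compact opens have bounded cohomological dimension for sheaves acyclic on affine opens, uniformly in
opens meeting affine opens in affine opens. -/
theorem exists_bound_of_acyclic {X : Scheme.{u}} [CompactSpace X] [QuasiSeparatedSpace X] (U : X.Opens)
    (hU : IsCompact (U : Set X)) :
    ∃ d, ∀ F : CohTop.Ab X.toTopCat,
      (∀ W : X.Opens, IsAffineOpen W → ∀ k : ℕ, Subsingleton (Sheaf.H' F (k + 1) W)) →
      ∀ O : X.Opens, (∀ W : X.Opens, IsAffineOpen W → W ≤ U → IsAffineOpen (W ⊓ O)) →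
        ∀ p : ℕ, d ≤ p → Subsingleton (Sheaf.H' F p (U ⊓ O)) := by
  refine Groth.Agent.S0015.result X (fun U => ∃ d, ∀ F : CohTop.Ab X.toTopCat,
      (∀ W : X.Opens, IsAffineOpen W → ∀ k : ℕ, Subsingleton (Sheaf.H' F (k + 1) W)) →
      ∀ O : X.Opens, (∀ W : X.Opens, IsAffineOpen W → W ≤ U → IsAffineOpen (W ⊓ O)) →
        ∀ p : ℕ, d ≤ p → Subsingleton (Sheaf.H' F p (U ⊓ O))) (fun U hU => ⟨1, fun F hF O hO p hp => ?_⟩) ?_ U hU
  · obtain ⟨k, rfl⟩ := Nat.exists_eq_add_of_le hp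
    rw [Nat.add_comm]
    exact hF _ (hO U hU le_rfl) k
  · rintro U V - - ⟨a, ha⟩ ⟨b, hb⟩ ⟨c, hc⟩
    refine ⟨max a (max b c) + 1, fun F hF O hO p hp => ?_⟩
    obtain ⟨q, rfl⟩ := Nat.exists_eq_add_of_le hp
    rw [inf_sup_right, show max a (max b c) + 1 + q = max a (max b c) + q + 1 by omega]
    refine subsingleton_H'_sup (X := X.toTopCat) _
      (ha F hF O (fun W hW hWU => hO W hW (hWU.trans le_sup_left)) _ (by omega))
      (hb F hF O (fun W hW hWV => hO W hW (hWV.trans le_sup_right)) _ (by omega)) ?_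
    rw [← inf_inf_distrib_right]
    exact hc F hF O (fun W hW hWUV => hO W hW (hWUV.trans (inf_le_left.trans le_sup_left))) _ (by omega)

variable {𝔛 𝔜 : FSch.Sys.{u}} (f : 𝔛 ⟶ 𝔜) (hX : 𝔛.IsFormal) (hY : 𝔜.IsFormal)

/-- A basis of the base with preimages of uniformly bounded cohomological dimension for filtered colimits of
coherent modules. -/
theorem exists_basis_bound (hX' : 𝔛.IsLocNoethFormal) [CompactSpace (𝔛.X 0)] [CompactSpace (𝔜.X 0)] :
    ∃ (e : ℕ) (B : (𝔜.X 0).Opens → Prop),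
      (∀ (U : (𝔜.X 0).Opens) (x : 𝔜.X 0), x ∈ U → ∃ V, B V ∧ x ∈ V ∧ V ≤ U) ∧
      ∀ M : FSch.ModF 𝔛 hX, (ObjectProperty.ind.{u} fun G : FSch.ModF 𝔛 hX => FSch.IsCohF 𝔛 hX G) M →
        ∀ V, B V → ∀ p : ℕ, e < p → Subsingleton (CohTop.HU ((abF hX).obj M) p (preV f V)) := by
  classical
  haveI := hX'.2.2 0
  haveI : NoetherianSpace (𝔛.X 0) := by
    haveI : IsNoetherian (𝔛.X 0) := {}
    infer_instance
  obtain ⟨t, ht⟩ := CompactSpace.isCompact_univ.elim_finite_subcover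
    (fun V : (𝔜.X 0).affineOpens => (V.1 : Set (𝔜.X 0))) (fun V => V.1.2) (fun z _ => by
      obtain ⟨V, hV, hz, -⟩ := Opens.isBasis_iff_nbhd.mp (𝔜.X 0).isBasis_affineOpens (Opens.mem_top z)
      exact Set.mem_iUnion.2 ⟨⟨V, hV⟩, hz⟩)
  choose d hd using fun V : (𝔜.X 0).affineOpens =>
    exists_bound_of_acyclic (X := 𝔛.X 0) (preV f V.1) (NoetherianSpace.isCompact _)
  refine ⟨t.sup d, fun V => IsAffineOpen V ∧ ∃ V' ∈ t, V ≤ V'.1, fun U x hx => ?_, fun M hM V hV p hp => ?_⟩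
  · obtain ⟨V', hV't, hxV'⟩ := Set.mem_iUnion₂.1 (ht (Set.mem_univ x))
    obtain ⟨W, hW, hxW, hWU⟩ := Opens.isBasis_iff_nbhd.mp (𝔜.X 0).isBasis_affineOpens
      (show x ∈ U ⊓ V'.1 from ⟨hx, hxV'⟩)
    exact ⟨W, ⟨hW, V', hV't, hWU.trans inf_le_right⟩, hxW, hWU.trans inf_le_left⟩
  · obtain ⟨hVa, V', hV't, hVV'⟩ := hV
    have h := hd V' ((abF hX).obj M) (fun W hW k => subsingleton_HU_of_indCohF hX hX' M hM hW k) (preV f V)
      (fun W hW hWU => isAffineOpen_inf_preimage ((f : FSch.Hom 𝔛 𝔜).app 0) V'.2 hVa hVV' hW hWU) p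
      ((Finset.le_sup hV't).trans hp.le)
    rwa [inf_eq_right.2 (Scheme.Hom.preimage_mono _ hVV')] at h

variable [HasInjectiveResolutions (FSch.ModF 𝔛 hX)]

/-- Higher direct images vanish when cohomology of preimages of members of a basis does. -/
theorem isZero_rpushF_of_basis (M : FSch.ModF 𝔛 hX) (q : ℕ) {B : (𝔜.X 0).Opens → Prop}
    (hb : ∀ (U : (𝔜.X 0).Opens) (x : 𝔜.X 0), x ∈ U → ∃ V, B V ∧ x ∈ V ∧ V ≤ U)
    (h : ∀ V, B V → Subsingleton (CohTop.HU ((abF hX).obj M) q (preV f V))) :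
    IsZero ((FSch.RpushF f hX hY q).obj M) := by
  haveI := Groth.Agent.SpecSeq.enoughInjectives_of_hasInjectiveResolutions (FSch.ModF 𝔛 hX)
  haveI : HasExt.{u} (FSch.ModF 𝔛 hX) := hasExt_of_enoughInjectives _
  haveI := isIso_sheafify_cmp f hX hY q M
  have h0 : IsZero ((presheafToSheaf (Opens.grothendieckTopology (𝔜.X 0).toTopCat) AddCommGrpCat.{u}).obj
      ((cpF f hX hY q).obj M)) :=
    isZero_sheafify_of_basis (T := (𝔜.X 0).toTopCat) _ (B := B) hb h
  have h1 := h0.of_iso (asIso ((presheafToSheaf (Opens.grothendieckTopology (𝔜.X 0).toTopCat) AddCommGrpCat.{u}).map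
    ((cmp f hX hY q).app M))).symm
  have h2 : IsZero ((abF hY).obj ((FSch.RpushF f hX hY q).obj M)) := h1.of_iso
    ((sheafificationNatIso (Opens.grothendieckTopology (𝔜.X 0).toTopCat) AddCommGrpCat.{u}).app _)
  rw [IsZero.iff_id_eq_zero]
  refine (abF hY).map_injective ?_
  rw [CategoryTheory.Functor.map_id, Functor.map_zero]
  exact h2.eq_of_src _ _

end Groth.Agent.FModLib
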