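import Groth.Agent.FModLib.WeakTrunc
import Groth.Agent.FModLib.FormalBound
import Groth.Agent.FModLib.LevelCoh

/-!
# Bounded amplitude of derived direct images on formal schemes
-/

set_option autoImplicit false
set_option backward.isDefEq.respectTransparency false
set_option linter.style.haveILetI false
set_option linter.unusedSectionVars false

universe u

open CategoryTheory CategoryTheory.Limits AlgebraicGeometry Opposite TopologicalSpace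
open Groth.Agent.FBlowLib Groth.Agent.DerCompLib Groth.Agent.Coherent

attribute [local instance] HasDerivedCategory.standard

namespace Groth.Agent.FModLib

variable {𝔛 𝔜 : FSch.Sys.{u}} (f : 𝔛 ⟶ 𝔜) (hX : 𝔛.IsFormal) (hY : 𝔜.IsFormal) (hX' : 𝔛.IsLocNoethFormal)

/-- Filtered colimits of coherent modules. -/
abbrev indCoh : ObjectProperty (FSch.ModF 𝔛 hX) :=
  ObjectProperty.ind.{u} fun G : FSch.ModF 𝔛 hX => FSch.IsCohF 𝔛 hX G

include hX' in
theorem isCohF_of_isZero {Z : FSch.ModF 𝔛 hX} (hZ : IsZero Z) : FSch.IsCohF 𝔛 hX Z := by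
  let F : FSch.ModF 𝔛 hX := SheafOfModules.free (R := ModSite.ringSh (𝔛.Osh hX)) PEmpty.{u + 1}
  have h := (goodRing hX hX').isPC_kernel ((goodRing hX hX').isPC_free PEmpty.{u + 1})
    ((goodRing hX hX').isPC_free PEmpty.{u + 1}) (𝟙 F)
  exact (goodRing hX hX').isFinitePresentation
    (h.of_iso ((isZero_kernel_of_mono (𝟙 F)).iso hZ))

include hX' in
theorem containsZero_indCoh : (indCoh (𝔛 := 𝔛) hX).ContainsZero :=
  by
  obtain ⟨Z, hZ⟩ := HasZeroObject.zero (C := FSch.ModF 𝔛 hX)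
  exact ⟨⟨Z, hZ, ObjectProperty.le_ind _ _ (isCohF_of_isZero hX hX' hZ)⟩⟩

theorem closed_indCoh : (indCoh (𝔛 := 𝔛) hX).IsClosedUnderIsomorphisms where
  of_iso {X Y} e := fun ⟨J, _, _, pres, h⟩ => ⟨J, ‹_›, ‹_›, pres.ofIso e, h⟩

theorem preimage_subsingleton_HU {B : (𝔜.X 0).Opens → Prop} {e : ℕ}
    (hacy : ∀ M : FSch.ModF 𝔛 hX, indCoh hX M → ∀ V, B V → ∀ p : ℕ, e < p →
      Subsingleton (CohTop.HU ((abF hX).obj M) p (preV f V)))
    (M : FSch.ModF 𝔛 hX) (hM : indCoh hX M) {V : (𝔜.X 0).Opens} (hV : B V) (p : ℕ) (hp : e < p) :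
    Subsingleton (ModSite.HU (𝔛.Osh hX) M p ((FSch.homMor f hX hY).fn.obj V)) :=
  hacy M hM V hV p hp

theorem affine_subsingleton_HU (hX' : 𝔛.IsLocNoethFormal) (M : FSch.ModF 𝔛 hX) (hM : indCoh hX M)
    {V : (𝔛.X 0).Opens} (hV : IsAffineOpen V) (p : ℕ) (hp : 0 < p) :
    Subsingleton (ModSite.HU (𝔛.Osh hX) M p V) := by
  obtain ⟨k, rfl⟩ := Nat.exists_eq_succ_of_ne_zero hp.ne'
  exact subsingleton_HU_of_indCohF hX hX' M hM hV k

/-- A basis gives cofinal coverings. -/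
theorem exists_cover_of_basis {T : TopCat.{u}} {B : Opens T → Prop}
    (hb : ∀ (U : Opens T) (x : T), x ∈ U → ∃ V : Opens T, B V ∧ x ∈ V ∧ V ≤ U) (U : Opens T)
    (S : Sieve U) (hS : S ∈ Opens.grothendieckTopology T U) :
    ∃ (ι : Type u) (Y : ι → Opens T) (g : ∀ i, Y i ⟶ U),
      (∀ i, S.arrows (g i)) ∧ Sieve.ofArrows Y g ∈ Opens.grothendieckTopology T U ∧ ∀ i, B (Y i) := by
  have h : ∀ x : (U : Set T), ∃ (V : Opens T) (i : V ⟶ U), S.arrows i ∧ B V ∧ x.1 ∈ V := fun x => by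
    obtain ⟨V', i', hi', hx'⟩ := hS x.1 x.2
    obtain ⟨V, hV, hxV, hVV'⟩ := hb V' x.1 hx'
    exact ⟨V, homOfLE hVV' ≫ i', S.downward_closed hi' _, hV, hxV⟩
  choose V i hi hB hx using h
  refine ⟨(U : Set T), V, i, hi, fun x hxU => ⟨V ⟨x, hxU⟩, i _, ?_, hx ⟨x, hxU⟩⟩, hB⟩
  exact (Sieve.mem_ofArrows_iff _ _ _).2 ⟨⟨x, hxU⟩, 𝟙 _, Subsingleton.elim _ _⟩

variable [HasInjectiveResolutions (FSch.ModF 𝔛 hX)] [SiteCmp.HasRpushD (FSch.homMor f hX hY)]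

include hX' in
theorem isZero_hMod_rpushD {B : (𝔜.X 0).Opens → Prop}
    (hb : ∀ (U : (𝔜.X 0).Opens) (x : 𝔜.X 0), x ∈ U → ∃ V, B V ∧ x ∈ V ∧ V ≤ U) {e : ℕ}
    (hacy : ∀ M : FSch.ModF 𝔛 hX, indCoh hX M → ∀ V, B V → ∀ p : ℕ, e < p →
      Subsingleton (CohTop.HU ((abF hX).obj M) p (preV f V)))
    (G : DerivedCategory (FSch.ModF 𝔛 hX)) (hG : ∀ i : ℤ, indCoh hX (SiteCmp.HMod G i))
    (b : ℤ) (hb' : ∀ i : ℤ, b < i → IsZero (SiteCmp.HMod G i)) (i : ℤ) (hi : b + e < i) :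
    IsZero (SiteCmp.HMod ((SiteCmp.RpushD (FSch.homMor f hX hY)).obj G) i) := by
  haveI := containsZero_indCoh hX hX'
  haveI := closed_indCoh (𝔛 := 𝔛) hX
  refine WeakTrunc.isZero_homology_rpushD_of_cohIn (FSch.homMor f hX hY) (indCoh hX)
    {V : Opens (𝔛.X 0).toTopCat | IsAffineOpen (X := 𝔛.X 0) V} ?_ ?_ (e : ℤ) ?_ G hG
    {V : Opens (𝔜.X 0).toTopCat | B V} ?_ ?_ b hb' i hi
  · intro U
    obtain ⟨ι, Y, g, -, h2, h3⟩ := exists_cover_of_basis (T := (𝔛.X 0).toTopCat)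
      (B := fun V => IsAffineOpen (X := 𝔛.X 0) V) basis_AFF U ⊤ (GrothendieckTopology.top_mem _ _)
    exact ⟨ι, Y, g, h2, h3⟩
  · intro V _
    refine ⟨0, fun T hT => ?_⟩
    obtain ⟨ι, Y, g, h1, h2, h3⟩ := exists_cover_of_basis (T := (𝔛.X 0).toTopCat)
      (B := fun V => IsAffineOpen (X := 𝔛.X 0) V) basis_AFF V T hT
    exact ⟨ι, Y, g, h1, h2, fun j M hM k hk => affine_subsingleton_HU hX hX' M hM (h3 j) k hk⟩
  · exact fun M hM p hp => isZero_rpushF_of_basis f hX hY M p (B := B) hb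
      fun V hV => hacy M hM V hV p (by exact_mod_cast hp)
  · intro U
    obtain ⟨ι, Y, g, -, h2, h3⟩ := exists_cover_of_basis (T := (𝔜.X 0).toTopCat) (B := B) hb U ⊤
      (GrothendieckTopology.top_mem _ _)
    exact ⟨ι, Y, g, h2, h3⟩
  · intro V _
    refine ⟨e, fun T hT => ?_⟩
    obtain ⟨ι, Y, g, h1, h2, h3⟩ := exists_cover_of_basis (T := (𝔜.X 0).toTopCat) (B := B) hb V T hT
    exact ⟨ι, Y, g, h1, h2, fun j M hM k hk => preimage_subsingleton_HU f hX hY hacy M hM (h3 j) k hk⟩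

end Groth.Agent.FModLib
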