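import Groth.Agent.FModLib.RpushCmp

/-!
# Sections of higher direct images and `Ext` out of free modules, linearly in the scalars of the base
-/

set_option autoImplicit false
set_option backward.isDefEq.respectTransparency false
set_option linter.style.haveILetI false
set_option linter.unusedSectionVars false

universe u

open CategoryTheory CategoryTheory.Limits CategoryTheory.Abelian AlgebraicGeometry Opposite TopologicalSpace
open Groth.Agent.FBlowLib Groth.Agent.DerCompLib Groth.Agent.Coherent Groth.Agent.SiteDer16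

namespace Groth.Agent.FModLib

section Free

variable {T : TopCat.{u}} (O : Sheaf (Opens.grothendieckTopology T) CommRingCat.{u})

/-- Sections as morphisms out of the free module. -/
noncomputable def gEquiv (W : Opens T) (N : ModSite.Mod O) :
    ((modFree O).obj W ⟶ N) ≃+ DerCompLib.Sec N W :=
  modHomEquiv O W N

theorem gEquiv_comp {W : Opens T} {N N' : ModSite.Mod O} (x : (modFree O).obj W ⟶ N) (g : N ⟶ N') :
    gEquiv O W N' (x ≫ g) = secMap g W (gEquiv O W N x) :=
  modHomEquiv₀_postcomp O x g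

theorem gEquiv_symm_secMap {W : Opens T} {N N' : ModSite.Mod O} (s : DerCompLib.Sec N W) (g : N ⟶ N') :
    (gEquiv O W N).symm s ≫ g = (gEquiv O W N').symm (secMap g W s) := by
  apply (gEquiv O W N').injective
  rw [gEquiv_comp, AddEquiv.apply_symm_apply, AddEquiv.apply_symm_apply]

/-- Multiplication on the free module. -/
noncomputable def freeScl (W : Opens T) (r : O.obj.obj (op W)) : (modFree O).obj W ⟶ (modFree O).obj W :=
  (gEquiv O W _).symm (r • gEquiv O W _ (𝟙 _))

theorem gEquiv_freeScl (W : Opens T) (r : O.obj.obj (op W)) {N : ModSite.Mod O}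
    (x : (modFree O).obj W ⟶ N) : gEquiv O W N (freeScl O W r ≫ x) = r • gEquiv O W N x := by
  rw [gEquiv_comp, freeScl, AddEquiv.apply_symm_apply, map_smul, ← gEquiv_comp, Category.id_comp]

theorem gEquiv_symm_smul (W : Opens T) (r : O.obj.obj (op W)) {N : ModSite.Mod O} (s : DerCompLib.Sec N W) :
    (gEquiv O W N).symm (r • s) = freeScl O W r ≫ (gEquiv O W N).symm s := by
  apply (gEquiv O W N).injective
  rw [gEquiv_freeScl, AddEquiv.apply_symm_apply, AddEquiv.apply_symm_apply]

end Free

variable {𝔛 𝔜 : FSch.Sys.{u}} (f : 𝔛 ⟶ 𝔜) (hX : 𝔛.IsFormal) (hY : 𝔜.IsFormal)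
  [HasInjectiveResolutions (FSch.ModF 𝔛 hX)] [EnoughInjectives (FSch.ModF 𝔛 hX)]
  [HasExt.{u} (FSch.ModF 𝔛 hX)]

instance additive_pushF : (FSch.pushF f hX hY).Additive := ⟨rfl⟩

theorem push_smul (N : FSch.ModF 𝔛 hX) (V : (𝔜.X 0).Opens) (a : FBlowLib.Sec 𝔜 hY V)
    (s : DerCompLib.Sec ((FSch.pushF f hX hY).obj N) V) :
    (show DerCompLib.Sec N (preV f V) from a • s) =
      shU f hX hY V a • (show DerCompLib.Sec N (preV f V) from s) := rfl

section Res

variable {M : FSch.ModF 𝔛 hX} (R : InjectiveResolution M) (q : ℕ) (V : (𝔜.X 0).Opens)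

/-- The complex computing higher direct images. -/
noncomputable abbrev pCx : CochainComplex (FSch.ModF 𝔜 hY) ℕ :=
  ((FSch.pushF f hX hY).mapHomologicalComplex _).obj R.cocomplex

/-- A cocycle as a section over the preimage. -/
noncomputable def iCyc :
    DerCompLib.Sec ((pCx f hX hY R).cycles q) V →+ DerCompLib.Sec (R.cocomplex.X q) (preV f V) :=
  (secMap ((pCx f hX hY R).iCycles q) V).toAddMonoidHom

theorem iCyc_smul (a : FBlowLib.Sec 𝔜 hY V) (w : DerCompLib.Sec ((pCx f hX hY R).cycles q) V) :
    iCyc f hX hY R q V (a • w) = shU f hX hY V a • iCyc f hX hY R q V w :=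
  (secMap ((pCx f hX hY R).iCycles q) V).map_smul a w

theorem iCyc_injective : Function.Injective (iCyc f hX hY R q V) :=
  (AddCommGrpCat.mono_iff_injective ((evV hY V).map ((pCx f hX hY R).iCycles q))).1 inferInstance

theorem iCyc_d (w : DerCompLib.Sec ((pCx f hX hY R).cycles q) V) :
    secMap (R.cocomplex.d q (q + 1)) (preV f V) (iCyc f hX hY R q V w) = 0 :=
  congrArg (fun φ => secMap φ V w) ((pCx f hX hY R).iCycles_d q (q + 1))

theorem exists_iCyc (s : DerCompLib.Sec (R.cocomplex.X q) (preV f V))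
    (hs : secMap (R.cocomplex.d q (q + 1)) (preV f V) s = 0) : ∃ w, iCyc f hX hY R q V w = s := by
  have hk := KernelFork.mapIsLimit _ ((pCx f hX hY R).cyclesIsKernel q (q + 1) (by simp)) (evV hY V)
  let S := ShortComplex.mk ((evV hY V).map ((pCx f hX hY R).iCycles q))
    ((evV hY V).map ((pCx f hX hY R).d q (q + 1)))
    (by rw [← Functor.map_comp, HomologicalComplex.iCycles_d, Functor.map_zero])
  have hex : S.Exact := S.exact_of_f_is_kernel hk
  exact (ShortComplex.ab_exact_iff S).1 hex s hs

theorem gEquiv_symm_iCyc_d (w : DerCompLib.Sec ((pCx f hX hY R).cycles q) V) :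
    (gEquiv (𝔛.Osh hX) (preV f V) _).symm (iCyc f hX hY R q V w) ≫ R.cocomplex.d q (q + 1) = 0 := by
  rw [gEquiv_symm_secMap, iCyc_d, map_zero]

/-- From cocycles to `Ext` out of the free module. -/
noncomputable def eV :
    DerCompLib.Sec ((pCx f hX hY R).cycles q) V →+
      Ext.{u} ((modFree (𝔛.Osh hX)).obj (preV f V)) M q :=
  AddMonoidHom.mk' (fun w => R.extMk ((gEquiv (𝔛.Osh hX) (preV f V) _).symm (iCyc f hX hY R q V w))
      (q + 1) rfl (gEquiv_symm_iCyc_d f hX hY R q V w))
    (fun w w' => by simp only [map_add, InjectiveResolution.add_extMk])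

theorem eV_apply (w : DerCompLib.Sec ((pCx f hX hY R).cycles q) V) :
    eV f hX hY R q V w = R.extMk ((gEquiv (𝔛.Osh hX) (preV f V) _).symm (iCyc f hX hY R q V w))
      (q + 1) rfl (gEquiv_symm_iCyc_d f hX hY R q V w) := rfl

theorem eV_surjective : Function.Surjective (eV f hX hY R q V) := by
  intro α
  obtain ⟨g, hg, rfl⟩ := R.extMk_surjective α (q + 1) rfl
  obtain ⟨w, hw⟩ := exists_iCyc f hX hY R q V (gEquiv (𝔛.Osh hX) (preV f V) _ g) (by
    rw [← gEquiv_comp, hg, map_zero])
  exact ⟨w, by simp only [eV_apply, hw, AddEquiv.symm_apply_apply]⟩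

theorem eV_smul (a : FBlowLib.Sec 𝔜 hY V) (w : DerCompLib.Sec ((pCx f hX hY R).cycles q) V) :
    eV f hX hY R q V (a • w) =
      (Ext.mk₀ (freeScl (𝔛.Osh hX) (preV f V) (shU f hX hY V a))).comp (eV f hX hY R q V w) (zero_add q) := by
  rw [eV_apply, eV_apply, R.mk₀_comp_extMk]
  congr 1
  rw [iCyc_smul, gEquiv_symm_smul]

/-- From cocycles to sections of the higher direct image. -/
noncomputable def pV :
    DerCompLib.Sec ((pCx f hX hY R).cycles q) V →ₗ[FBlowLib.Sec 𝔜 hY V]
      DerCompLib.Sec ((FSch.RpushF f hX hY q).obj M) V :=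
  secMap ((pCx f hX hY R).homologyπ q ≫ (R.isoRightDerivedObj (FSch.pushF f hX hY) q).inv) V

variable (hac : ∀ j, acV hY V ((FSch.RpushF f hX hY j).obj M))

theorem acV_pCx_X (n : ℕ) : acV hY V ((pCx f hX hY R).X n) :=
  haveI := R.injective n
  acV_push_injective f hX hY V (R.cocomplex.X n)

include hac in
theorem acV_pCx_homology (n : ℕ) : acV hY V ((pCx f hX hY R).homology n) :=
  (acV hY V).prop_of_iso (R.isoRightDerivedObj (FSch.pushF f hX hY) n) (hac n)

include hac in
theorem isIso_comparison :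
    IsIso (RDer.homologyComparison (evV hY V) (pCx f hX hY R) q) :=
  EdgeIso14.isIso_homologyComparison (isAcyclicClass_acV hY V) (K := pCx f hX hY R)
    (acV_pCx_X f hX hY R V) (acV_pCx_homology f hX hY R V hac) q

/-- The complex of sections. -/
noncomputable abbrev vCx : CochainComplex AddCommGrpCat.{u} ℕ :=
  ((evV hY V).mapHomologicalComplex _).obj (pCx f hX hY R)

theorem pV_comparison (z : (vCx f hX hY R V).cycles q) :
    pV f hX hY R q V ((RDer.cyclesComparison (evV hY V) (pCx f hX hY R) q).hom z) =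
      secMap (R.isoRightDerivedObj (FSch.pushF f hX hY) q).inv V
        ((RDer.homologyComparison (evV hY V) (pCx f hX hY R) q).hom (((vCx f hX hY R V).homologyπ q).hom z)) := by
  refine (DerCompLib.secMap_comp _ _ V _).trans (congrArg _ ?_)
  exact (ConcreteCategory.congr_hom (RDer.homologyπ_homologyComparison (evV hY V) (pCx f hX hY R) q) z).symm

include hac in
theorem pV_surjective : Function.Surjective (pV f hX hY R q V) := by
  haveI := isIso_comparison f hX hY R q V hac
  intro y
  obtain ⟨v, hv⟩ := (ConcreteCategory.bijective_of_isIso (RDer.homologyComparison (evV hY V) (pCx f hX hY R) q)).2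
    (secMap (R.isoRightDerivedObj (FSch.pushF f hX hY) q).hom V y)
  obtain ⟨z, rfl⟩ := (AddCommGrpCat.epi_iff_surjective ((vCx f hX hY R V).homologyπ q)).1 inferInstance v
  refine ⟨(RDer.cyclesComparison (evV hY V) (pCx f hX hY R) q).hom z, ?_⟩
  rw [pV_comparison]
  refine (congrArg _ hv).trans ?_
  exact congrArg (fun φ => secMap φ V y) (R.isoRightDerivedObj (FSch.pushF f hX hY) q).hom_inv_id

include hac in
theorem eV_eq_zero (w : DerCompLib.Sec ((pCx f hX hY R).cycles q) V) (hw : pV f hX hY R q V w = 0) :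
    eV f hX hY R q V w = 0 := by
  haveI := isIso_comparison f hX hY R q V hac
  obtain ⟨z, hz⟩ : ∃ z : (vCx f hX hY R V).cycles q, ((vCx f hX hY R V).iCycles q).hom z =
      (show (vCx f hX hY R V).X q from iCyc f hX hY R q V w) := by
    have hk := (vCx f hX hY R V).cyclesIsKernel q (q + 1) (by simp)
    let S := ShortComplex.mk ((vCx f hX hY R V).iCycles q) ((vCx f hX hY R V).d q (q + 1))
      ((vCx f hX hY R V).iCycles_d q (q + 1))
    exact (ShortComplex.ab_exact_iff S).1 (S.exact_of_f_is_kernel hk) _ (iCyc_d f hX hY R q V w)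
  have hcz : (RDer.cyclesComparison (evV hY V) (pCx f hX hY R) q).hom z = w := iCyc_injective f hX hY R q V
    ((ConcreteCategory.congr_hom (RDer.cyclesComparison_i (evV hY V) (pCx f hX hY R) q) z).trans hz)
  rw [← hcz, pV_comparison] at hw
  have h0 : ((vCx f hX hY R V).homologyπ q).hom z = 0 := by
    refine (ConcreteCategory.bijective_of_isIso (RDer.homologyComparison (evV hY V) (pCx f hX hY R) q)).1
      (Eq.trans ?_ (map_zero (RDer.homologyComparison (evV hY V) (pCx f hX hY R) q).hom).symm)
    refine Eq.trans ?_ ((congrArg (secMap (R.isoRightDerivedObj (FSch.pushF f hX hY) q).hom V) hw).trans (map_zero _))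
    exact (congrArg (fun φ => secMap φ V _) (R.isoRightDerivedObj (FSch.pushF f hX hY) q).inv_hom_id).symm
  have hex : (ShortComplex.mk ((vCx f hX hY R V).toCycles ((ComplexShape.up ℕ).prev q) q)
      ((vCx f hX hY R V).homologyπ q) (by simp)).Exact :=
    ShortComplex.exact_of_g_is_cokernel _ ((vCx f hX hY R V).homologyIsCokernel _ q rfl)
  obtain ⟨b, hb⟩ := (ShortComplex.ab_exact_iff _).1 hex z h0
  let b' : DerCompLib.Sec (R.cocomplex.X ((ComplexShape.up ℕ).prev q)) (preV f V) := b
  have hwb : iCyc f hX hY R q V w =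
      secMap (R.cocomplex.d ((ComplexShape.up ℕ).prev q) q) (preV f V) b' := by
    refine hz.symm.trans ((congrArg ((vCx f hX hY R V).iCycles q).hom hb).symm.trans ?_)
    exact ConcreteCategory.congr_hom ((vCx f hX hY R V).toCycles_i ((ComplexShape.up ℕ).prev q) q) b
  by_cases hp : (ComplexShape.up ℕ).prev q + 1 = q
  · rw [eV_apply, R.extMk_eq_zero_iff _ _ _ _ _ hp]
    exact ⟨(gEquiv (𝔛.Osh hX) (preV f V) _).symm b', by rw [gEquiv_symm_secMap, hwb]⟩
  · simp only [eV_apply, hwb, R.cocomplex.shape _ q hp]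
    simp only [show secMap (0 : R.cocomplex.X ((ComplexShape.up ℕ).prev q) ⟶ R.cocomplex.X q) (preV f V) b' = 0
      from rfl, map_zero, InjectiveResolution.extMk_zero]

include hac in
theorem pV_eq_zero (w : DerCompLib.Sec ((pCx f hX hY R).cycles q) V) (hw : eV f hX hY R q V w = 0) :
    pV f hX hY R q V w = 0 := by
  rw [eV_apply] at hw
  cases q with
  | zero =>
    have h0 := SiteCoh.extMk_zero_eq_zero R _ _ hw
    rw [AddEquiv.map_eq_zero_iff, ← map_zero (iCyc f hX hY R 0 V)] at h0
    rw [iCyc_injective f hX hY R 0 V h0, map_zero]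
  | succ p =>
    obtain ⟨g, hg⟩ := (R.extMk_eq_zero_iff _ _ _ _ p rfl).1 hw
    let b : DerCompLib.Sec ((pCx f hX hY R).X p) V := gEquiv (𝔛.Osh hX) (preV f V) _ g
    have hb : secMap ((pCx f hX hY R).toCycles p (p + 1)) V b = w := iCyc_injective f hX hY R (p + 1) V (by
      refine (congrArg (fun φ => secMap φ V b) ((pCx f hX hY R).toCycles_i p (p + 1))).trans ?_
      show secMap (R.cocomplex.d p (p + 1)) (preV f V) (gEquiv (𝔛.Osh hX) (preV f V) _ g) = _
      rw [← gEquiv_comp, hg, AddEquiv.apply_symm_apply])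
    rw [← hb]
    show secMap ((pCx f hX hY R).homologyπ (p + 1) ≫ _) V _ = 0
    rw [← DerCompLib.secMap_comp, HomologicalComplex.toCycles_comp_homologyπ_assoc, zero_comp]
    rfl

end Res

variable (q : ℕ) (V : (𝔜.X 0).Opens)

/-- Modules whose higher direct images have no higher cohomology over an open. -/
abbrev acM (M : FSch.ModF 𝔛 hX) : Prop := ∀ j, acV hY V ((FSch.RpushF f hX hY j).obj M)

/-- Sections of higher direct images as `Ext` out of the free module. -/
noncomputable def secExt {M : FSch.ModF 𝔛 hX} (hac : acM f hX hY V M) :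
    DerCompLib.Sec ((FSch.RpushF f hX hY q).obj M) V →+
      Ext.{u} ((modFree (𝔛.Osh hX)).obj (preV f V)) M q :=
  AddMonoidHom.liftOfSurjective (pV f hX hY (injectiveResolution M) q V).toAddMonoidHom
    (pV_surjective f hX hY (injectiveResolution M) q V hac)
    ⟨eV f hX hY (injectiveResolution M) q V, fun w hw => eV_eq_zero f hX hY _ q V hac w hw⟩

theorem secExt_pV {M : FSch.ModF 𝔛 hX} (hac : acM f hX hY V M)
    (w : DerCompLib.Sec ((pCx f hX hY (injectiveResolution M)).cycles q) V) :
    secExt f hX hY q V hac (pV f hX hY (injectiveResolution M) q V w) =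
      eV f hX hY (injectiveResolution M) q V w :=
  AddMonoidHom.liftOfRightInverse_comp_apply _ _ _ _ _

theorem bijective_secExt {M : FSch.ModF 𝔛 hX} (hac : acM f hX hY V M) :
    Function.Bijective (secExt f hX hY q V hac) := by
  refine ⟨(injective_iff_map_eq_zero _).2 fun y hy => ?_, fun α => ?_⟩
  · obtain ⟨w, rfl⟩ := pV_surjective f hX hY (injectiveResolution M) q V hac y
    rw [secExt_pV] at hy
    exact pV_eq_zero f hX hY _ q V hac w hy
  · obtain ⟨w, rfl⟩ := eV_surjective f hX hY (injectiveResolution M) q V α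
    exact ⟨_, secExt_pV f hX hY q V hac w⟩

theorem secExt_smul {M : FSch.ModF 𝔛 hX} (hac : acM f hX hY V M) (a : FBlowLib.Sec 𝔜 hY V)
    (y : DerCompLib.Sec ((FSch.RpushF f hX hY q).obj M) V) :
    secExt f hX hY q V hac (a • y) =
      (Ext.mk₀ (freeScl (𝔛.Osh hX) (preV f V) (shU f hX hY V a))).comp (secExt f hX hY q V hac y)
        (zero_add q) := by
  obtain ⟨w, rfl⟩ := pV_surjective f hX hY (injectiveResolution M) q V hac y
  rw [← map_smul, secExt_pV, secExt_pV, eV_smul]

theorem secExt_natural {M N : FSch.ModF 𝔛 hX} (hM : acM f hX hY V M) (hN : acM f hX hY V N) (g : M ⟶ N)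
    (y : DerCompLib.Sec ((FSch.RpushF f hX hY q).obj M) V) :
    secExt f hX hY q V hN (secMap ((FSch.RpushF f hX hY q).map g) V y) =
      (secExt f hX hY q V hM y).comp (Ext.mk₀ g) (add_zero q) := by
  obtain ⟨w, rfl⟩ := pV_surjective f hX hY (injectiveResolution M) q V hM y
  let I := injectiveResolution M
  let I' := injectiveResolution N
  let φ : InjectiveResolution.Hom I I' g :=
    { hom := InjectiveResolution.desc g I' I
      ι_f_zero_comp_hom_f_zero := by
        rw [InjectiveResolution.desc_commutes_zero, CochainComplex.single₀_map_f_zero] }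
  let c := HomologicalComplex.cyclesMap (((FSch.pushF f hX hY).mapHomologicalComplex _).map φ.hom) q
  have h1 : secMap ((FSch.RpushF f hX hY q).map g) V (pV f hX hY I q V w) =
      pV f hX hY I' q V (secMap c V w) := by
    show secMap ((FSch.RpushF f hX hY q).map g) V (secMap (_ ≫ _) V w) = secMap (_ ≫ _) V (secMap c V w)
    rw [← DerCompLib.secMap_comp, ← DerCompLib.secMap_comp, Category.assoc]
    refine congrArg (fun ψ => secMap ψ V w) ?_
    have e1 := InjectiveResolution.isoRightDerivedObj_inv_naturality g I I' φ.hom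
      (InjectiveResolution.desc_commutes_zero _ _ _) (FSch.pushF f hX hY) q
    refine (congrArg (fun z => (pCx f hX hY I).homologyπ q ≫ z) e1).trans ?_
    refine (Category.assoc _ _ _).symm.trans ((congrArg (fun z => z ≫ _) ?_).trans (Category.assoc _ _ _))
    exact HomologicalComplex.homologyπ_naturality (((FSch.pushF f hX hY).mapHomologicalComplex _).map φ.hom) q
  rw [h1, secExt_pV, secExt_pV, eV_apply, eV_apply, InjectiveResolution.extMk_comp_mk₀ _ _ _ _ φ]
  congr 1
  rw [gEquiv_symm_secMap]
  refine congrArg _ ?_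
  exact (congrArg (fun ψ => secMap ψ V w) (HomologicalComplex.cyclesMap_i
    (((FSch.pushF f hX hY).mapHomologicalComplex _).map φ.hom) q))

end Groth.Agent.FModLib
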