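import Groth.Agent.FModLib.RpushSys
import Groth.Agent.FModLib.RpushSec

/-!
# Sections of higher direct images as cohomology over the preimage, linearly

The cohomology over the preimage carries the scalars of the base through the multiplication maps of the sheaves.
-/

set_option autoImplicit false
set_option backward.isDefEq.respectTransparency false
set_option linter.style.haveILetI false
set_option linter.unusedSectionVars false

universe u w w' v v' u₁ u₂

open CategoryTheory CategoryTheory.Limits CategoryTheory.Abelian AlgebraicGeometry Opposite TopologicalSpace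
open Groth.Agent.FBlowLib Groth.Agent.DerCompLib Groth.Agent.Coherent Groth.Agent.SiteDer16

namespace Groth.Agent.FModLib

section NatTrans

variable {A : Type u₁} [Category.{v} A] [Abelian A] [HasExt.{w} A] [EnoughInjectives A]
  {B : Type u₂} [Category.{v'} B] [Abelian B] [HasExt.{w'} B] {G G' : A ⥤ B}
  [G.Additive] [PreservesFiniteLimits G] [PreservesFiniteColimits G]
  [G'.Additive] [PreservesFiniteLimits G'] [PreservesFiniteColimits G']

/-- Natural transformations of exact functors commute with their maps of `Ext`. -/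
theorem mapExactFunctor_natTrans (τ : G ⟶ G') {P : A} (n : ℕ) :
    ∀ (F : A) (x : Ext.{w} P F n),
      (Ext.mk₀ (τ.app P)).comp (x.mapExactFunctor G') (zero_add n) =
        (x.mapExactFunctor G).comp (Ext.mk₀ (τ.app F)) (add_zero n) := by
  induction n with
  | zero =>
    intro F x
    obtain ⟨g, rfl⟩ := (Ext.mk₀_bijective _ _).2 x
    rw [Ext.mapExactFunctor_mk₀, Ext.mapExactFunctor_mk₀, Ext.mk₀_comp_mk₀, Ext.mk₀_comp_mk₀]
    exact congrArg Ext.mk₀ (τ.naturality g).symm
  | succ n ih =>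
    intro F x
    let S := SiteCoh.injEmbed F
    have hS : S.ShortExact := SiteCoh.injEmbed_shortExact F
    haveI : Injective S.X₂ := inferInstanceAs (Injective (Injective.under F))
    obtain ⟨y, rfl⟩ := Ext.covariant_sequence_exact₁ P hS x (Ext.eq_zero_of_injective _) rfl
    let e : S.map G ⟶ S.map G' :=
      { τ₁ := τ.app S.X₁
        τ₂ := τ.app S.X₂
        τ₃ := τ.app S.X₃
        comm₁₂ := (τ.naturality S.f).symm
        comm₂₃ := (τ.naturality S.g).symm }
    have hnat : (hS.map_of_exact G).extClass.comp (Ext.mk₀ (τ.app S.X₁)) (add_zero 1) =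
        (Ext.mk₀ (τ.app S.X₃)).comp (hS.map_of_exact G').extClass (zero_add 1) :=
      ShortComplex.ShortExact.extClass_naturality _ _ e
    rw [Ext.mapExactFunctor_comp, Ext.mapExactFunctor_comp, Ext.mapExactFunctor_extClass,
      Ext.mapExactFunctor_extClass, Ext.comp_assoc_of_third_deg_zero]
    refine Eq.trans (Ext.comp_assoc _ _ _ (zero_add n) rfl (by omega)).symm
      ((congrArg (fun z => Ext.comp z (hS.map_of_exact G').extClass rfl) (ih S.X₃ y)).trans ?_)
    refine (Ext.comp_assoc_of_second_deg_zero _ _ _ _).trans ?_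
    exact congrArg (fun z => Ext.comp (Ext.mapExactFunctor G y) z rfl) hnat.symm

end NatTrans

namespace Rel

variable {𝔛 : FSch.Sys.{u}} (h : 𝔛.IsFormal) (U : (𝔛.X 0).Opens) {A : Type u} [CommRing A]
  (φ : A →+* FBlowLib.Sec 𝔛 h U)

instance additive_rAb : (rAb h U).Additive := inferInstance

instance preservesFiniteLimits_rAb : PreservesFiniteLimits (rAb h U) :=
  haveI : PreservesLimitsOfSize.{u, u} (abF h) :=
    ⟨fun {T} _ => S6160.preservesLimitsOfShape_toSheaf (ModSite.ringSh (𝔛.Osh h)) T⟩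
  haveI : PreservesFiniteLimits (abF h) := PreservesLimitsOfSize.preservesFiniteLimits _
  comp_preservesFiniteLimits _ _

instance preservesFiniteColimits_rAb : PreservesFiniteColimits (rAb h U) :=
  haveI : PreservesFiniteColimits (abF h) := SiteDer16.preservesFiniteColimits_toSheaf _
  haveI : PreservesFiniteColimits (restrictSh (X := (𝔛.X 0).toTopCat) (U := U.toScheme.toTopCat)
      U.ι.isOpenEmbedding) := inferInstance
  comp_preservesFiniteColimits _ _

/-- Multiplication as a natural transformation. -/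
noncomputable def sclNat (a : A) : rAb h U ⟶ rAb h U where
  app G := scl h U φ a G
  naturality _ _ ψ := (scl_natural h U φ a ψ).symm

theorem top_im : U ≤ im U ⊤ := U.ι_image_top.ge

/-- The unit section of the free module on `U`. -/
noncomputable def etaU : constZ U.toScheme.toTopCat ⟶ (rAb h U).obj ((modFree (𝔛.Osh h)).obj U) :=
  (constZEquiv ((rAb h U).obj ((modFree (𝔛.Osh h)).obj U))).symm
    (show DerCompLib.Sec ((modFree (𝔛.Osh h)).obj U) (im U ⊤) from
      mRes _ (im_le U ⊤) (gEquiv (𝔛.Osh h) U _ (𝟙 _)))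

theorem constZEquiv_etaU {N : ModSite.Mod (𝔛.Osh h)} (g : (modFree (𝔛.Osh h)).obj U ⟶ N) :
    constZEquiv ((rAb h U).obj N) (etaU h U ≫ (rAb h U).map g) =
      (show DerCompLib.Sec N (im U ⊤) from mRes N (im_le U ⊤) (gEquiv (𝔛.Osh h) U N g)) := by
  rw [constZEquiv_comp, etaU, AddEquiv.apply_symm_apply]
  show secMap g (im U ⊤) (mRes _ (im_le U ⊤) (gEquiv (𝔛.Osh h) U _ (𝟙 _))) = _
  rw [secMap_mRes, ← gEquiv_comp, Category.id_comp]

theorem bijective_etaU (N : ModSite.Mod (𝔛.Osh h)) :
    Function.Bijective fun g : (modFree (𝔛.Osh h)).obj U ⟶ N => etaU h U ≫ (rAb h U).map g := by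
  have hb : Function.Bijective (mRes N (im_le U ⊤)) := by
    haveI : IsIso (N.val.presheaf.map (homOfLE (im_le U ⊤)).op) := by
      haveI : IsIso (homOfLE (im_le U ⊤)) := ⟨homOfLE (top_im U), Subsingleton.elim _ _, Subsingleton.elim _ _⟩
      infer_instance
    exact ConcreteCategory.bijective_of_isIso (N.val.presheaf.map (homOfLE (im_le U ⊤)).op)
  refine (Function.Bijective.of_comp_iff' (constZEquiv ((rAb h U).obj N)).bijective _).1 ?_
  rw [show (constZEquiv ((rAb h U).obj N) ∘ fun g => etaU h U ≫ (rAb h U).map g) =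
    fun g => (show DerCompLib.Sec N (im U ⊤) from mRes N (im_le U ⊤) (gEquiv (𝔛.Osh h) U N g)) from
      funext fun g => constZEquiv_etaU h U g]
  exact hb.comp (gEquiv (𝔛.Osh h) U N).bijective

theorem etaU_freeScl (a : A) :
    etaU h U ≫ (rAb h U).map (freeScl (𝔛.Osh h) U (φ a)) =
      etaU h U ≫ scl h U φ a ((modFree (𝔛.Osh h)).obj U) := by
  apply (constZEquiv ((rAb h U).obj ((modFree (𝔛.Osh h)).obj U))).injective
  rw [constZEquiv_etaU, constZEquiv_comp, etaU, AddEquiv.apply_symm_apply]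
  show mRes _ (im_le U ⊤) (gEquiv (𝔛.Osh h) U _ (freeScl (𝔛.Osh h) U (φ a))) =
    act h U φ ⊤ a • mRes _ (im_le U ⊤) (gEquiv (𝔛.Osh h) U _ (𝟙 _))
  rw [← Category.comp_id (freeScl (𝔛.Osh h) U (φ a)), gEquiv_freeScl, mRes_smul]
  rfl

variable [EnoughInjectives (ModSite.Mod (𝔛.Osh h))] [HasExt.{u} (ModSite.Mod (𝔛.Osh h))]

/-- `Ext` out of the free module as cohomology on `U`. -/
noncomputable def extH (G : ModSite.Mod (𝔛.Osh h)) (n : ℕ) :
    Ext.{u} ((modFree (𝔛.Osh h)).obj U) G n →+ Sheaf.H ((rAb h U).obj G) n :=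
  extCompare (rAb h U) (etaU h U) G n

theorem bijective_extH (G : ModSite.Mod (𝔛.Osh h)) (n : ℕ) : Function.Bijective (extH h U G n) :=
  bijective_extCompare (rAb h U) (etaU h U) (bijective_etaU h U) (fun I hI m => by
    haveI : Subsingleton (CohTop.HU ((abF h).obj I) (m + 1) U) :=
      S0864.result _ (SiteDer16.ModAcyclic.isTotallyAcyclic_toSheaf (ModSite.ringSh (𝔛.Osh h)) I) U m
    exact (rhoU h U I (m + 1)).symm.toEquiv.subsingleton) n G

theorem extH_natural {G G' : ModSite.Mod (𝔛.Osh h)} (g : G ⟶ G') (n : ℕ)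
    (x : Ext.{u} ((modFree (𝔛.Osh h)).obj U) G n) :
    extH h U G' n (x.comp (Ext.mk₀ g) (add_zero n)) = Sheaf.H.map ((rAb h U).map g) n (extH h U G n x) := by
  show extCompare (rAb h U) (etaU h U) G' n (x.comp (Ext.mk₀ g) (add_zero n)) =
    (extCompare (rAb h U) (etaU h U) G n x).comp (Ext.mk₀ ((rAb h U).map g)) (add_zero n)
  rw [extCompare_apply, extCompare_apply, Ext.mapExactFunctor_comp, Ext.mapExactFunctor_mk₀]
  exact (Ext.comp_assoc_of_third_deg_zero _ _ _ _).symm

/-- Multiplication on the free module is multiplication on the sheaf. -/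
theorem extH_freeScl (a : A) (G : ModSite.Mod (𝔛.Osh h)) (n : ℕ)
    (x : Ext.{u} ((modFree (𝔛.Osh h)).obj U) G n) :
    extH h U G n ((Ext.mk₀ (freeScl (𝔛.Osh h) U (φ a))).comp x (zero_add n)) =
      Sheaf.H.map (scl h U φ a G) n (extH h U G n x) := by
  show extCompare (rAb h U) (etaU h U) G n _ =
    (extCompare (rAb h U) (etaU h U) G n x).comp (Ext.mk₀ ((sclNat h U φ a).app G)) (add_zero n)
  rw [extCompare_apply, extCompare_apply, Ext.mapExactFunctor_comp, Ext.mapExactFunctor_mk₀,
    Ext.mk₀_comp_mk₀_assoc, etaU_freeScl, ← Ext.mk₀_comp_mk₀_assoc]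
  refine Eq.trans ?_ (Ext.comp_assoc_of_third_deg_zero _ _ _ _).symm
  exact congrArg (fun z => Ext.comp (Ext.mk₀ (etaU h U)) z (zero_add n))
    (mapExactFunctor_natTrans (sclNat h U φ a) n G x)

end Rel

variable {𝔛 𝔜 : FSch.Sys.{u}} (f : 𝔛 ⟶ 𝔜) (hX : 𝔛.IsFormal) (hY : 𝔜.IsFormal)
  [HasInjectiveResolutions (FSch.ModF 𝔛 hX)] [EnoughInjectives (FSch.ModF 𝔛 hX)]
  [HasExt.{u} (FSch.ModF 𝔛 hX)] (q : ℕ) (V : (𝔜.X 0).Opens)

/-- Sections of higher direct images as cohomology over the preimage. -/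
noncomputable def secH {G : FSch.ModF 𝔛 hX} (hac : acM f hX hY V G) :
    DerCompLib.Sec ((FSch.RpushF f hX hY q).obj G) V ≃+ Sheaf.H ((Rel.rAb hX (preV f V)).obj G) q :=
  AddEquiv.ofBijective ((Rel.extH hX (preV f V) G q).comp (secExt f hX hY q V hac))
    ((Rel.bijective_extH hX (preV f V) G q).comp (bijective_secExt f hX hY q V hac))

theorem secH_apply {G : FSch.ModF 𝔛 hX} (hac : acM f hX hY V G)
    (y : DerCompLib.Sec ((FSch.RpushF f hX hY q).obj G) V) :
    secH f hX hY q V hac y = Rel.extH hX (preV f V) G q (secExt f hX hY q V hac y) := rfl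

theorem secH_smul {G : FSch.ModF 𝔛 hX} (hac : acM f hX hY V G) (a : FBlowLib.Sec 𝔜 hY V)
    (y : DerCompLib.Sec ((FSch.RpushF f hX hY q).obj G) V) :
    secH f hX hY q V hac (a • y) =
      Sheaf.H.map (Rel.scl hX (preV f V) (shU f hX hY V) a G) q (secH f hX hY q V hac y) := by
  rw [secH_apply, secH_apply, secExt_smul, Rel.extH_freeScl]

theorem secH_natural {G G' : FSch.ModF 𝔛 hX} (hac : acM f hX hY V G) (hac' : acM f hX hY V G') (g : G ⟶ G')
    (y : DerCompLib.Sec ((FSch.RpushF f hX hY q).obj G) V) :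
    secH f hX hY q V hac' (secMap ((FSch.RpushF f hX hY q).map g) V y) =
      Sheaf.H.map ((Rel.rAb hX (preV f V)).map g) q (secH f hX hY q V hac y) := by
  rw [secH_apply, secH_apply, secExt_natural f hX hY q V hac hac', Rel.extH_natural]

end Groth.Agent.FModLib
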