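import Groth.Agent.Coherent.GradedSystem
import Groth.Agent.FModLib.Alg
import Mathlib

/-!
# Finiteness of the limit of a tower with eventually generated kernels

A tower of finite modules over a complete Noetherian ring, killed by increasing powers of the ideal of
definition, with raising operators lifting the multiplication by generators of the ideal, and kernels
covered by an eventually generated finite system: the limit is finite and its filtration is the adic one.
-/

set_option autoImplicit false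
set_option linter.unusedSectionVars false
set_option linter.style.haveILetI false

universe u v w x

open Groth.Agent.Coherent

namespace Groth.Agent.FModLib.TowerFinite

variable {A : Type u} [CommRing A] {J : Ideal A} {L : Type v} [AddCommGroup L] [Module A L]
  {P : ℕ → Type w} [∀ n, AddCommGroup (P n)] [∀ n, Module A (P n)]
  (π : ∀ n, L →ₗ[A] P n) (hkill : ∀ n, J ^ (n + 1) • (⊤ : Submodule A (P n)) = ⊥)

include hkill in
theorem pow_smul_le_ker (n : ℕ) : J ^ (n + 1) • (⊤ : Submodule A L) ≤ LinearMap.ker (π n) := by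
  rw [Submodule.smul_le]
  intro a ha z _
  rw [LinearMap.mem_ker, map_smul, ← Submodule.mem_bot A, ← hkill n]
  exact Submodule.smul_mem_smul ha Submodule.mem_top

theorem exists_coeff {s : ℕ} (g : Fin s → L) (I : Ideal A) {z : L}
    (hz : z ∈ I • Submodule.span A (Set.range g)) :
    ∃ c : Fin s → A, (∀ l, c l ∈ I) ∧ ∑ l, c l • g l = z := by
  obtain ⟨c, hc⟩ := Submodule.mem_ideal_smul_span_iff_exists_sum I g z |>.1 hz
  obtain ⟨hc1, hc2⟩ := hc
  refine ⟨fun l => c l, fun l => hc1 l, ?_⟩
  exact (Finsupp.sum_fintype c (fun i b => b • g i) fun i => zero_smul A (g i)).symm.trans hc2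

include hkill in
/-- Successive approximations in a separated tower converge. -/
theorem mem_smul_of_approx [IsAdicComplete J A] (hinj : ∀ z, (∀ n, π n z = 0) → z = 0)
    (hmono : ∀ n z, π (n + 1) z = 0 → π n z = 0) {s : ℕ}
    (g : Fin s → L) (F : ℕ → Submodule A L) (c : ℕ) (hF : ∀ j, F j ≤ LinearMap.ker (π (c + j)))
    (hstep : ∀ j, F j ≤ J ^ j • Submodule.span A (Set.range g) ⊔ F (j + 1)) :
    ∀ m, F m ≤ J ^ m • Submodule.span A (Set.range g) := by
  have hle : ∀ i j, i ≤ j → LinearMap.ker (π j) ≤ LinearMap.ker (π i) := by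
    intro i j hij
    induction j, hij using Nat.le_induction with
    | base => exact le_rfl
    | succ j _ ih => exact fun z hz => ih (hmono j z hz)
  intro m x hx
  have hex : ∀ j (w : F (m + j)), ∃ (d : Fin s → A) (w' : F (m + (j + 1))), (∀ l, d l ∈ J ^ (m + j)) ∧
      ∑ l, d l • g l + w'.1 = w.1 := by
    intro j w
    obtain ⟨y, hy, w', hw', hyw⟩ := Submodule.mem_sup.1 (hstep (m + j) w.2)
    obtain ⟨d, hd, rfl⟩ := exists_coeff g _ hy
    exact ⟨d, ⟨w', hw'⟩, hd, hyw⟩
  choose d nx hd hsum using hex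
  let w : ∀ j, F (m + j) := fun j => Nat.rec (motive := fun j => F (m + j)) ⟨x, hx⟩ (fun j v => nx j v) j
  let e : ℕ → Fin s → A := fun j l => ∑ i ∈ Finset.range j, d i (w i) l
  have he : ∀ j, ∑ l, e j l • g l + (w j).1 = x := by
    intro j
    induction j with
    | zero => simp [e, w]
    | succ j ih =>
      refine Eq.trans ?_ ih
      simp only [e, Finset.sum_range_succ, add_smul, Finset.sum_add_distrib]
      rw [add_assoc]
      exact congrArg _ (hsum j (w j))
  have hcau : ∀ l {i j : ℕ}, i ≤ j → e j l - e i l ∈ J ^ (m + i) := by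
    intro l i j hij
    induction j, hij using Nat.le_induction with
    | base => simp
    | succ j hij ih =>
      have : e (j + 1) l - e i l = d j (w j) l + (e j l - e i l) := by
        simp only [e, Finset.sum_range_succ]; abel
      rw [this]
      exact add_mem (Ideal.pow_le_pow_right (by omega) (hd j (w j) l)) ih
  have hlim : ∀ l, ∃ cl, ∀ j, e j l - cl ∈ J ^ j := by
    intro l
    obtain ⟨cl, hcl⟩ := IsPrecomplete.prec (I := J) inferInstance (f := fun j => e j l) fun {i j} hij => by
      rw [SModEq.sub_mem, smul_eq_mul, Ideal.mul_top, ← neg_sub]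
      exact neg_mem (Ideal.pow_le_pow_right (by omega) (hcau l hij))
    exact ⟨cl, fun j => by simpa [SModEq.sub_mem, smul_eq_mul, Ideal.mul_top] using hcl j⟩
  choose cl hcl using hlim
  have hclm : ∀ l, cl l ∈ J ^ m := fun l => by
    have h1 : e m l ∈ J ^ m := Submodule.sum_mem _ fun i _ =>
      Ideal.pow_le_pow_right (Nat.le_add_right m i) (hd i (w i) l)
    simpa using sub_mem h1 (hcl l m)
  suffices hx' : x = ∑ l, cl l • g l by
    rw [hx']
    exact Submodule.sum_mem _ fun l _ => Submodule.smul_mem_smul (hclm l) (Submodule.subset_span ⟨l, rfl⟩)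
  refine sub_eq_zero.1 (hinj _ fun n => ?_)
  have e1 : x - ∑ l, cl l • g l = ∑ l, (e (n + 1) l - cl l) • g l + (w (n + 1)).1 := by
    simp only [sub_smul, Finset.sum_sub_distrib]
    rw [← he (n + 1)]
    abel
  rw [e1, map_add, show π n (w (n + 1)).1 = 0 from hle n _ (by omega) (hF _ (w (n + 1)).2), add_zero]
  exact (pow_smul_le_ker π hkill n) (Submodule.sum_mem _ fun l _ =>
    Submodule.smul_mem_smul (hcl l (n + 1)) Submodule.mem_top)

variable (t : ∀ n, P (n + 1) →ₗ[A] P n) (hπ : ∀ n z, t n (π (n + 1) z) = π n z)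
  (hinj : ∀ z, (∀ n, π n z = 0) → z = 0) {ι : Type} [Fintype ι] (a : ι → A)
  (ha : Ideal.span (Set.range a) = J) (μ : ι → ∀ n, P n →+ P (n + 1))
  (hμ : ∀ i n z, μ i n (t n z) = a i • z) {K : ℕ → Type x} [∀ n, AddCommGroup (K n)] [∀ n, Module A (K n)]
  (γ : ∀ n, K n →ₗ[A] P (n + 1)) (hγ : ∀ n z, t n z = 0 → ∃ y, γ n y = z)
  (ν : ι → ∀ n, K n →ₗ[A] K (n + 1)) (hν : ∀ i n y, γ (n + 1) (ν i n y) = μ i (n + 1) (γ n y))
  (hcomm : ∀ i j n (y : K n), ν i (n + 1) (ν j n y) = ν j (n + 1) (ν i n y))

include hπ hμ in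
theorem smul_mem_ker (i : ι) (n : ℕ) {z : L} (hz : π n z = 0) : π (n + 1) (a i • z) = 0 := by
  rw [map_smul, ← hμ, hπ, hz, map_zero]

include hkill hπ hinj ha hμ hγ hν hcomm in
/-- The limit is finite and its filtration is adic up to a shift. -/
theorem finite_and_ker_le [IsNoetherianRing A] [IsAdicComplete J A] (hP : ∀ n, Module.Finite A (P n))
    (hK : ∀ n, Module.Finite A (K n)) (hEG : EG ν) :
    Module.Finite A L ∧ ∃ c, ∀ m, LinearMap.ker (π (c + m)) ≤ J ^ m • (⊤ : Submodule A L) := by
  let F : ℕ → Submodule A L := fun n => LinearMap.ker (π n)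
  let U : ∀ n, Submodule A (K n) := fun n => (Submodule.map (π (n + 1)) (F n)).comap (γ n)
  have hU : ∀ i n, ∀ y ∈ U n, ν i n y ∈ U (n + 1) := by
    intro i n y hy
    obtain ⟨h, hh, hhy⟩ := hy
    refine ⟨a i • h, smul_mem_ker π t hπ a μ hμ i n hh, ?_⟩
    rw [hν, ← hhy, map_smul, ← hμ, hπ]
  obtain ⟨n₀, hn₀⟩ := hEG.sub (K := fun n => U n) (S := fun i n => (ν i n).restrict (hU i n))
    hK hcomm (fun n => (U n).subtype) (fun n => Subtype.val_injective) (fun i n y => rfl)
  have hmono : ∀ n z, π (n + 1) z = 0 → π n z = 0 := fun n z hz => by rw [← hπ, hz, map_zero]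
  have hgen : ∀ k, n₀ ≤ k → F (k + 1) ≤ J • F k ⊔ F (k + 2) := by
    intro k hk x hx
    obtain ⟨y, hy⟩ := hγ (k + 1) (π (k + 2) x) ((hπ (k + 1) x).trans hx)
    obtain ⟨c, hc⟩ := hn₀ k hk ⟨y, ⟨x, hx, hy.symm⟩⟩
    choose h hh hhy using fun i => (c i).2
    have e : y = ∑ i, ν i k (c i).1 := by
      simpa only [Submodule.coe_sum, LinearMap.restrict_apply] using congrArg Subtype.val hc
    refine Submodule.mem_sup.2 ⟨∑ i, a i • h i, Submodule.sum_mem _ fun i _ => Submodule.smul_mem_smul
      (ha.le (Ideal.subset_span ⟨i, rfl⟩)) (hh i), x - ∑ i, a i • h i, ?_, add_sub_cancel _ _⟩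
    rw [LinearMap.mem_ker, map_sub, sub_eq_zero, ← hy, e, map_sum, map_sum]
    refine Finset.sum_congr rfl fun i _ => ?_
    rw [hν, ← hhy i, map_smul, ← hμ, hπ]
  have hJF : ∀ k, J • F k ≤ F (k + 1) := fun k => by
    rw [← ha, Submodule.smul_le]
    intro b hb z hz
    induction hb using Submodule.span_induction with
    | mem b hb =>
      obtain ⟨i, rfl⟩ := hb
      exact smul_mem_ker π t hπ a μ hμ i k hz
    | zero => rw [zero_smul]; exact zero_mem _
    | add b b' _ _ h h' => rw [add_smul]; exact add_mem h h'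
    | smul r b _ h => rw [smul_eq_mul, mul_smul]; exact Submodule.smul_mem _ r h
  haveI := hP (n₀ + 1)
  obtain ⟨s, q, hq⟩ := Submodule.fg_iff_exists_fin_generating_family.1
    (IsNoetherian.noetherian (Submodule.map (π (n₀ + 1)) (F n₀)))
  choose g hg hgq using fun l => (show q l ∈ Submodule.map (π (n₀ + 1)) (F n₀) from
    hq.le (Submodule.subset_span ⟨l, rfl⟩))
  have hstep : ∀ j, F (n₀ + j) ≤ J ^ j • Submodule.span A (Set.range g) ⊔ F (n₀ + (j + 1)) := by
    intro j
    induction j with
    | zero =>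
      intro x hx
      have h1 : π (n₀ + 1) x ∈ Submodule.span A (Set.range q) := hq.ge ⟨x, hx, rfl⟩
      obtain ⟨c, hc⟩ := (Submodule.mem_span_range_iff_exists_fun _).1 h1
      refine Submodule.mem_sup.2 ⟨∑ l, c l • g l, ?_, x - ∑ l, c l • g l, ?_, add_sub_cancel _ _⟩
      · rw [pow_zero, Ideal.one_eq_top, Submodule.top_smul]
        exact Submodule.sum_mem _ fun l _ => Submodule.smul_mem _ _ (Submodule.subset_span ⟨l, rfl⟩)
      · rw [LinearMap.mem_ker, map_sub, sub_eq_zero, map_sum, ← hc]
        exact Finset.sum_congr rfl fun l _ => by rw [map_smul, hgq]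
    | succ j ih =>
      refine (hgen (n₀ + j) (by omega)).trans (sup_le ?_ le_sup_right)
      refine (Submodule.smul_mono le_rfl ih).trans ?_
      rw [Submodule.smul_sup, ← Submodule.smul_assoc, smul_eq_mul, ← pow_succ']
      exact sup_le_sup_left (hJF _) _
  have hle := mem_smul_of_approx π hkill hinj hmono g (fun j => F (n₀ + j)) n₀ (fun j => le_rfl) hstep
  refine ⟨⟨?_⟩, n₀, fun m => (hle m).trans (Submodule.smul_mono le_rfl le_top)⟩
  haveI := hP n₀
  refine Submodule.fg_of_fg_map_of_fg_inf_ker (π n₀) (IsNoetherian.noetherian _) ?_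
  rw [top_inf_eq]
  have h0 : F n₀ = Submodule.span A (Set.range g) := le_antisymm
    (fun x hx => by
      have := hle 0 hx
      rwa [pow_zero, Ideal.one_eq_top, Submodule.top_smul] at this)
    (Submodule.span_le.2 (by rintro _ ⟨l, rfl⟩; exact hg l))
  show (F n₀).FG
  rw [h0]
  exact Submodule.fg_span (Set.finite_range g)

end Groth.Agent.FModLib.TowerFinite
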