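import Groth.Agent.FModLib.LimRpush
import Groth.Agent.FModLib.RpushLin
import Groth.Agent.FModLib.TowerFinite

/-!
# Higher direct images of coherent modules under proper morphisms of formal schemes are coherent
-/

set_option autoImplicit false
set_option backward.isDefEq.respectTransparency false
set_option linter.style.haveILetI false
set_option linter.unusedSectionVars false
set_option linter.deprecated false

universe u

open CategoryTheory CategoryTheory.Limits CategoryTheory.Abelian AlgebraicGeometry Opposite TopologicalSpace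
open Groth.Agent.FBlowLib Groth.Agent.DerCompLib Groth.Agent.Coherent

namespace Groth.Agent.FModLib

variable {𝔛 𝔜 : FSch.Sys.{u}} (f : 𝔛 ⟶ 𝔜) (hX : 𝔛.IsFormal) (hY : 𝔜.IsFormal)
  (hX' : 𝔛.IsLocNoethFormal) (hY' : 𝔜.IsLocNoethFormal) [HasInjectiveResolutions (FSch.ModF 𝔛 hX)]
  [EnoughInjectives (FSch.ModF 𝔛 hX)] [HasExt.{u} (FSch.ModF 𝔛 hX)]
  {M : FSch.ModF 𝔛 hX}

section Trans

variable (M) (q : ℕ) (V : (𝔜.X 0).Opens)

/-- The transition map between two levels, on sections. -/
noncomputable def tSec {i j : ℕ} (hij : i ≤ j) :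
    DerCompLib.Sec (rPush f hX hY M q j) V → DerCompLib.Sec (rPush f hX hY M q i) V :=
  secMap ((Functor.ofOpSequence (X := rPush f hX hY M q) (rPushTr f hX hY M q)).map (homOfLE hij).op) V

theorem tSec_refl {i : ℕ} (x : DerCompLib.Sec (rPush f hX hY M q i) V) :
    tSec f hX hY M q V (le_refl i) x = x := by
  show secMap ((Functor.ofOpSequence (X := rPush f hX hY M q) (rPushTr f hX hY M q)).map (𝟙 (op i))) V x = x
  rw [CategoryTheory.Functor.map_id]
  rfl

theorem tSec_trans {i j k : ℕ} (hij : i ≤ j) (hjk : j ≤ k) (x : DerCompLib.Sec (rPush f hX hY M q k) V) :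
    tSec f hX hY M q V hij (tSec f hX hY M q V hjk x) = tSec f hX hY M q V (hij.trans hjk) x := by
  refine (DerCompLib.secMap_comp _ _ V x).symm.trans (congrArg (fun φ => secMap φ V x) ?_)
  rw [← Functor.map_comp]
  rfl

theorem tSec_succ {n : ℕ} (hn : n ≤ n + 1) (x : DerCompLib.Sec (rPush f hX hY M q (n + 1)) V) :
    tSec f hX hY M q V hn x = secMap (rPushTr f hX hY M q n) V x := by
  rw [tSec, Functor.ofOpSequence_map_homOfLE_succ]
  rfl

theorem tSec_rPushC (s k : ℕ) (x : DerCompLib.Sec (rPush f hX hY M q (k + s)) V) :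
    secMap (rPushC f hX hY M q s k) V x = tSec f hX hY M q V (Nat.le_add_right k s) x := by
  induction s with
  | zero => exact (tSec_refl f hX hY M q V x).symm
  | succ s ih =>
    refine (DerCompLib.secMap_comp (rPushTr f hX hY M q (k + s)) (rPushC f hX hY M q s k) V x).trans ?_
    rw [ih, ← tSec_succ f hX hY M q V (Nat.le_add_right (k + s) 1), tSec_trans]

/-- The projection of the limit to a level, on sections. -/
noncomputable abbrev piSec (k : ℕ) :
    DerCompLib.Sec (rLim f hX hY M q) V →ₗ[FBlowLib.Sec 𝔜 hY V] DerCompLib.Sec (rPush f hX hY M q k) V :=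
  secMap (limit.π (Functor.ofOpSequence (X := rPush f hX hY M q) (rPushTr f hX hY M q)) (op k)) V

theorem tSec_piSec {i j : ℕ} (hij : i ≤ j) (x : DerCompLib.Sec (rLim f hX hY M q) V) :
    tSec f hX hY M q V hij (piSec f hX hY M q V j x) = piSec f hX hY M q V i x :=
  (DerCompLib.secMap_comp _ _ V x).symm.trans (congrArg (fun φ => secMap φ V x)
    (limit.w (Functor.ofOpSequence (X := rPush f hX hY M q) (rPushTr f hX hY M q)) (homOfLE hij).op))

/-- Stable images come from the limit. -/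
theorem exists_piSec_eq (r : ℕ) (hr : ∀ k s, r ≤ s → ∀ x, ∃ y,
      secMap (rPushC f hX hY M q (s + 1) k) V y = secMap (rPushC f hX hY M q s k) V x)
    (k : ℕ) (w : DerCompLib.Sec (rPush f hX hY M q (k + r)) V) :
    ∃ x, piSec f hX hY M q V k x = secMap (rPushC f hX hY M q r k) V w := by
  let Good : ∀ n, DerCompLib.Sec (rPush f hX hY M q n) V → Prop := fun n v =>
    ∃ (m : ℕ) (h : n ≤ m) (w : DerCompLib.Sec (rPush f hX hY M q m) V), n + r ≤ m ∧ tSec f hX hY M q V h w = v
  have step : ∀ n (v : {v // Good n v}), ∃ v' : {v' // Good (n + 1) v'},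
      secMap (rPushTr f hX hY M q n) V v'.1 = v.1 := by
    rintro n ⟨v, m, h, w, hm, rfl⟩
    obtain ⟨y, hy⟩ := hr n r le_rfl (tSec f hX hY M q V hm w)
    refine ⟨⟨tSec f hX hY M q V (show n + 1 ≤ n + (r + 1) by omega) y, _, _, y, by omega, rfl⟩, ?_⟩
    rw [← tSec_succ f hX hY M q V (Nat.le_add_right n 1), tSec_trans]
    rw [tSec_rPushC, tSec_rPushC, tSec_trans] at hy
    exact hy
  choose nx hnx using step
  let v : ∀ j, {v // Good (k + j) v} := fun j => Nat.rec (motive := fun j => {v // Good (k + j) v})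
    ⟨tSec f hX hY M q V (Nat.le_add_right k r) w, k + r, _, w, le_rfl, rfl⟩ (fun j v => nx (k + j) v) j
  have hv : ∀ j, tSec f hX hY M q V (Nat.le_add_right (k + j) 1) (v (j + 1)).1 = (v j).1 := fun j =>
    (tSec_succ f hX hY M q V _ _).trans (hnx (k + j) (v j))
  obtain ⟨x, hx⟩ := exists_limSec hY (rPush f hX hY M q) (rPushTr f hX hY M q)
    (fun n => tSec f hX hY M q V (Nat.le_add_left n k) (v n).1) fun n => by
      rw [← tSec_succ f hX hY M q V (Nat.le_add_right n 1), tSec_trans, ← hv n, tSec_trans]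
  refine ⟨x, (hx k).trans ?_⟩
  have : ∀ j, tSec f hX hY M q V (Nat.le_add_right k j) (v j).1 =
      tSec f hX hY M q V (Nat.le_add_right k r) w := by
    intro j
    induction j with
    | zero => exact tSec_refl f hX hY M q V _
    | succ j ih => rw [← ih, ← hv j, tSec_trans]
  rw [this k, tSec_rPushC]

end Trans

variable (hp : FSch.IsProperHom f) (hM : FSch.IsCohF 𝔛 hX M) (q : ℕ) {V : (𝔜.X 0).Opens} (hV : IsAffineOpen V)

include hX' hY' hp hM hV in
theorem acM_level (k : ℕ) : acM f hX hY V (up hX k (down hX k M)) := fun j =>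
  acV_rpush_up f hX hY hY' hp k _ (isCoh_down hX hX' M hM k) j hV

include hX' hY' hp hM hV in
theorem rPush_killed (k : ℕ) :
    jdl hY V ^ (k + 1) • (⊤ : Submodule (FBlowLib.Sec 𝔜 hY V) (DerCompLib.Sec (rPush f hX hY M q k) V)) = ⊥ := by
  obtain ⟨G', -, ⟨e⟩⟩ := exists_iso_up f hX hY hY' hp k (down hX k M) (isCoh_down hX hX' M hM k) q
  rw [eq_bot_iff, Submodule.smul_le]
  intro r hr z _
  rw [Submodule.mem_bot]
  have h0 : secMap e.hom V (r • z) = 0 := by
    rw [map_smul]
    exact (Submodule.mem_bot _).1 ((level_killed hY hY' hV k G').le (Submodule.smul_mem_smul hr Submodule.mem_top))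
  refine Eq.trans ?_ ((congrArg (secMap e.inv V) h0).trans (map_zero _))
  exact ((DerCompLib.secMap_comp e.hom e.inv V (r • z)).symm.trans
    (congrArg (fun φ => secMap φ V (r • z)) e.hom_inv_id)).symm

/-- Sections of the truncated higher direct images as cohomology on the preimage. -/
noncomputable abbrev eLv (k : ℕ) :=
  secH f hX hY q V (acM_level f hX hY hX' hY' hp hM hV k)

theorem eLv_tr (k : ℕ) (x : DerCompLib.Sec (rPush f hX hY M q (k + 1)) V) :
    eLv f hX hY hX' hY' hp hM q hV k (secMap (rPushTr f hX hY M q k) V x) =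
      Sheaf.H.map ((Rel.rAb hX (preV f V)).map (lt' hX M k)) q (eLv f hX hY hX' hY' hp hM q hV (k + 1) x) :=
  secH_natural f hX hY q V _ _ (lt' hX M k) x

/-- Multiplication raising the level, on sections. -/
noncomputable def muLv (a : jdl hY V) (k : ℕ) :
    DerCompLib.Sec (rPush f hX hY M q k) V →+ DerCompLib.Sec (rPush f hX hY M q (k + 1)) V :=
  ((eLv f hX hY hX' hY' hp hM q hV (k + 1)).symm.toAddMonoidHom.comp
    (Sheaf.H.map (Rel.mu hX (preV f V) (shU f hX hY V) hX' (hJ_preV f hX hY hX' hY' hp.1 hV) hM a k) q)).comp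
    (eLv f hX hY hX' hY' hp hM q hV k).toAddMonoidHom

theorem eLv_muLv (a : jdl hY V) (k : ℕ) (x : DerCompLib.Sec (rPush f hX hY M q k) V) :
    eLv f hX hY hX' hY' hp hM q hV (k + 1) (muLv f hX hY hX' hY' hp hM q hV a k x) =
      Sheaf.H.map (Rel.mu hX (preV f V) (shU f hX hY V) hX' (hJ_preV f hX hY hX' hY' hp.1 hV) hM a k) q
        (eLv f hX hY hX' hY' hp hM q hV k x) :=
  (eLv f hX hY hX' hY' hp hM q hV (k + 1)).apply_symm_apply _

theorem muLv_tr (a : jdl hY V) (k : ℕ) (x : DerCompLib.Sec (rPush f hX hY M q (k + 1)) V) :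
    muLv f hX hY hX' hY' hp hM q hV a k (secMap (rPushTr f hX hY M q k) V x) = (a : FBlowLib.Sec 𝔜 hY V) • x := by
  refine (eLv f hX hY hX' hY' hp hM q hV (k + 1)).injective ?_
  rw [eLv_muLv, eLv_tr, secH_smul, ← Sheaf.H.map_comp_apply, Rel.lt_mu]

variable (M) in
/-- The cohomology of the kernels, on the smallest level. -/
noncomputable abbrev kLv (V : (𝔜.X 0).Opens) (k : ℕ) : Type u :=
  HA (Rel.phi0 hX (preV f V) (shU f hX hY V)) (Rel.lvNU hX (preV f V) M k) (⊤ : (preV f V).toScheme.Opens) q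

/-- The inclusion of the kernels, on the smallest level. -/
noncomputable abbrev iotaK (k : ℕ) :
    Coh.toAb (Rel.lvNU hX (preV f V) M k) ⟶ (Rel.rAb hX (preV f V)).obj (up hX (k + 1) (down hX (k + 1) M)) :=
  (Rel.thU hX (preV f V) hX' hM k).inv ≫ (Rel.rAb hX (preV f V)).map (kernel.ι (lt' hX M k))

/-- From the cohomology of the kernels to sections, additively. -/
noncomputable def gamAux (k : ℕ) :
    kLv f hX hY M q V k →+ DerCompLib.Sec (rPush f hX hY M q (k + 1)) V :=
  ((eLv f hX hY hX' hY' hp hM q hV (k + 1)).symm.toAddMonoidHom.comp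
    (Sheaf.H.map (iotaK f hX hX' hM (V := V) k) q)).comp
    (Rel.toHA (Rel.phi0 hX (preV f V) (shU f hX hY V)) (Rel.lvNU hX (preV f V) M k) q).symm.toAddMonoidHom

theorem eLv_gamAux (k : ℕ) (y : kLv f hX hY M q V k) :
    eLv f hX hY hX' hY' hp hM q hV (k + 1) (gamAux f hX hY hX' hY' hp hM q hV k y) =
      Sheaf.H.map (iotaK f hX hX' hM (V := V) k) q
        ((Rel.toHA (Rel.phi0 hX (preV f V) (shU f hX hY V)) (Rel.lvNU hX (preV f V) M k) q).symm y) :=
  (eLv f hX hY hX' hY' hp hM q hV (k + 1)).apply_symm_apply _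

theorem toHA_symm_post {X : Scheme.{u}} {A : Type u} [CommRing A] (ψ : A →+* Γ(X, ⊤)) {N N' : X.Modules}
    (g : N ⟶ N') (n : ℕ) (y : HA ψ N (⊤ : X.Opens) n) :
    (Rel.toHA ψ N' n).symm (postA ψ g ⊤ n y) = Sheaf.H.map ((toAbFunctor X).map g) n ((Rel.toHA ψ N n).symm y) := by
  apply (Rel.toHA ψ N' n).injective
  rw [AddEquiv.apply_symm_apply, Rel.toHA_natural, AddEquiv.apply_symm_apply]

theorem iotaK_scl (a : FBlowLib.Sec 𝔜 hY V) (k : ℕ) :
    (toAbFunctor (preV f V).toScheme).map (Formal.smulModΓ (Rel.lvNU hX (preV f V) M k)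
        (Rel.phi0 hX (preV f V) (shU f hX hY V) a)) ≫ iotaK f hX hX' hM (V := V) k =
      iotaK f hX hX' hM (V := V) k ≫ Rel.scl hX (preV f V) (shU f hX hY V) a _ := by
  rw [iotaK, Category.assoc, ← Rel.scl_natural, ← Category.assoc, ← Category.assoc]
  refine congrArg (· ≫ _) ?_
  rw [Iso.eq_inv_comp, ← Category.assoc, ← Rel.scl_thU, Category.assoc, Iso.hom_inv_id, Category.comp_id]

theorem gamAux_smul (a : FBlowLib.Sec 𝔜 hY V) (k : ℕ) (y : kLv f hX hY M q V k) :
    gamAux f hX hY hX' hY' hp hM q hV k (a • y) = a • gamAux f hX hY hX' hY' hp hM q hV k y := by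
  refine (eLv f hX hY hX' hY' hp hM q hV (k + 1)).injective ?_
  rw [secH_smul, eLv_gamAux, eLv_gamAux, ← Rel.postA_smulModΓ', toHA_symm_post]
  exact ((Sheaf.H.map_comp_apply _ _ _).symm.trans
    (congrArg (fun φ => Sheaf.H.map φ q _) (iotaK_scl f hX hY hX' hM a k))).trans (Sheaf.H.map_comp_apply _ _ _)

/-- From the cohomology of the kernels to sections. -/
noncomputable def gamLv (k : ℕ) :
    kLv f hX hY M q V k →ₗ[FBlowLib.Sec 𝔜 hY V] DerCompLib.Sec (rPush f hX hY M q (k + 1)) V :=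
  { gamAux f hX hY hX' hY' hp hM q hV k with
    map_smul' := fun a y => gamAux_smul f hX hY hX' hY' hp hM q hV a k y }

theorem exists_gamLv (k : ℕ) (z : DerCompLib.Sec (rPush f hX hY M q (k + 1)) V)
    (hz : secMap (rPushTr f hX hY M q k) V z = 0) : ∃ y, gamLv f hX hY hX' hY' hp hM q hV k y = z := by
  have h0 := (eLv_tr f hX hY hX' hY' hp hM q hV k z).symm.trans ((congrArg _ hz).trans (map_zero _))
  obtain ⟨x, hx⟩ := Ext.covariant_sequence_exact₂ _ (Rel.shortExact_seq hX (preV f V) hX' hM k)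
    (eLv f hX hY hX' hY' hp hM q hV (k + 1) z) h0
  refine ⟨Rel.toHA (Rel.phi0 hX (preV f V) (shU f hX hY V)) (Rel.lvNU hX (preV f V) M k) q
    (Sheaf.H.map (Rel.thU hX (preV f V) hX' hM k).hom q x), ?_⟩
  refine (eLv f hX hY hX' hY' hp hM q hV (k + 1)).injective ((eLv_gamAux f hX hY hX' hY' hp hM q hV k _).trans ?_)
  rw [AddEquiv.symm_apply_apply]
  refine (Sheaf.H.map_comp_apply _ _ _).symm.trans ((congrArg (fun φ => Sheaf.H.map φ q x)
    ((Rel.thU hX (preV f V) hX' hM k).hom_inv_id_assoc _)).trans hx)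

theorem gamLv_nu (a : jdl hY V) (k : ℕ) (y : kLv f hX hY M q V k) :
    gamLv f hX hY hX' hY' hp hM q hV (k + 1)
        (postA (Rel.phi0 hX (preV f V) (shU f hX hY V))
          (Rel.nu hX (preV f V) (shU f hX hY V) hX' hM (hJ_preV f hX hY hX' hY' hp.1 hV) a k) ⊤ q y) =
      muLv f hX hY hX' hY' hp hM q hV a (k + 1) (gamLv f hX hY hX' hY' hp hM q hV k y) := by
  refine (eLv f hX hY hX' hY' hp hM q hV (k + 1 + 1)).injective ?_
  refine (eLv_gamAux f hX hY hX' hY' hp hM q hV (k + 1) _).trans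
    (Eq.trans ?_ ((eLv_muLv f hX hY hX' hY' hp hM q hV a (k + 1) _).trans
      (congrArg _ (eLv_gamAux f hX hY hX' hY' hp hM q hV k y))).symm)
  rw [toHA_symm_post]
  refine ((Sheaf.H.map_comp_apply _ _ _).symm.trans
    (congrArg (fun φ => Sheaf.H.map φ q _) ?_)).trans (Sheaf.H.map_comp_apply _ _ _)
  rw [iotaK, iotaK, Category.assoc, ← Rel.muK_ι, ← Category.assoc, ← Category.assoc]
  refine congrArg (· ≫ _) ?_
  rw [Iso.eq_inv_comp, ← Category.assoc, ← Rel.muK_thU, Category.assoc, Iso.hom_inv_id, Category.comp_id]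

include hX' hY' hp hM hV in
/-- Sections of the limit over an affine open are finite and its filtration is adic up to a shift. -/
theorem finite_rLim :
    Module.Finite (FBlowLib.Sec 𝔜 hY V) (DerCompLib.Sec (rLim f hX hY M q) V) ∧
      ∃ c, ∀ m, LinearMap.ker (piSec f hX hY M q V (c + m)) ≤
        jdl hY V ^ m • (⊤ : Submodule (FBlowLib.Sec 𝔜 hY V) (DerCompLib.Sec (rLim f hX hY M q) V)) := by
  haveI := isNoetherianRing_sec hY hY' hV
  haveI := (sec_props hY hY' hV).1
  haveI := hp.2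
  haveI := compactSpace_preV f hY' hV
  obtain ⟨r, a, ha⟩ := Submodule.fg_iff_exists_fin_generating_family.1 (IsNoetherian.noetherian (jdl hY V))
  let a' : Fin r → jdl hY V := fun i => ⟨a i, ha.le (Submodule.subset_span ⟨i, rfl⟩)⟩
  haveI := hX'.2.2 0
  haveI : IsLocallyNoetherian (preV f V).toScheme := isLocallyNoetherian_of_isOpenImmersion (preV f V).ι
  have hfin := finCoh_preV f hX hY hY' hV
  have hJ := hJ_preV f hX hY hX' hY' hp.1 hV
  have hN : ∀ k, Coh.IsCoh (Rel.lvNU hX (preV f V) M k) := fun k =>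
    isCoh_restrict (preV f V) (isCoh_down hX hX' _ (isCohF_lvK hX hX' hM k) 0)
  have hEG := eg_HA (Rel.phi0 hX (preV f V) (shU f hX hY V)) Set.univ (fun N hN _ n => hfin N hN n) r
    (fun k => Rel.lvNU hX (preV f V) M k) hN (fun k => Set.subset_univ _)
    (fun i k => Rel.nu hX (preV f V) (shU f hX hY V) hX' hM hJ (a' i) k)
    (fun i j k => Rel.nu_comm hX (preV f V) (shU f hX hY V) hX' hM hJ (a' i) (a' j) k)
    (Rel.secEG_nu hX (preV f V) (shU f hX hY V) hX' hM hJ a' ha) q
  refine TowerFinite.finite_and_ker_le (fun k => piSec f hX hY M q V k)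
    (rPush_killed f hX hY hX' hY' hp hM q hV) (fun k => secMap (rPushTr f hX hY M q k) V)
    (fun k z => limSec_map hY _ (rPushTr f hX hY M q) k z)
    (fun z hz => limSec_ext hY _ (rPushTr f hX hY M q) fun k => (hz k).trans (map_zero _).symm)
    a ha (fun i k => muLv f hX hY hX' hY' hp hM q hV (a' i) k)
    (fun i k z => muLv_tr f hX hY hX' hY' hp hM q hV (a' i) k z)
    (fun k => gamLv f hX hY hX' hY' hp hM q hV k) (exists_gamLv f hX hY hX' hY' hp hM q hV)
    (fun i k => postA (Rel.phi0 hX (preV f V) (shU f hX hY V))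
      (Rel.nu hX (preV f V) (shU f hX hY V) hX' hM hJ (a' i) k) ⊤ q)
    (fun i k y => gamLv_nu f hX hY hX' hY' hp hM q hV (a' i) k y) (fun i j k y => ?_)
    (fun k => (isPC_rpush_up f hX hY hY' hp k _ (isCoh_down hX hX' M hM k) q).finite V hV)
    (fun k => hfin _ (hN k) q) hEG
  rw [← postA_comp, ← postA_comp, Rel.nu_comm]

include hX' hY' hp hM in
/-- The limit of the higher direct images of the truncations is compatible with base change. -/
theorem isPC_rLim : IsPC (AFF 𝔜) (rLim f hX hY M q) := by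
  refine ⟨fun U hU => (finite_rLim f hX hY hX' hY' hp hM q hU).1, fun U V i hU hV => ?_,
    fun U V i hU hV n s a ha => ?_⟩
  · haveI := (finite_rLim f hX hY hX' hY' hp hM q hV).1
    obtain ⟨c, hc⟩ := (finite_rLim f hX hY hX' hY' hp hM q hV).2
    obtain ⟨r, hr⟩ := exists_stable_sec f hX hY hX' hY' hp hM q hU
    refine span_eq_top_of_sup_smul (jdl_le_jacobson hY hY' hV) _ (top_unique fun x _ => ?_)
    let N := Submodule.span (FBlowLib.Sec 𝔜 hY V) (Set.range (mRes (rLim f hX hY M q) i))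
    have hx : piSec f hX hY M q V (c + 1 + r) x ∈ Submodule.span (FBlowLib.Sec 𝔜 hY V)
        (Set.range (mRes (rPush f hX hY M q (c + 1 + r)) i)) :=
      ((isPC_rpush_up f hX hY hY' hp (c + 1 + r) _ (isCoh_down hX hX' M hM (c + 1 + r)) q).span U V i hU hV).symm ▸
        Submodule.mem_top
    have h2 : piSec f hX hY M q V (c + 1) x ∈ Submodule.map (piSec f hX hY M q V (c + 1)) N := by
      rw [← tSec_piSec f hX hY M q V (Nat.le_add_right (c + 1) r) x, ← tSec_rPushC]
      have h3 := Submodule.mem_map_of_mem (f := secMap (rPushC f hX hY M q r (c + 1)) V) hx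
      rw [Submodule.map_span] at h3
      refine Submodule.span_le.2 ?_ h3
      rintro _ ⟨_, ⟨y, rfl⟩, rfl⟩
      obtain ⟨z, hz⟩ := exists_piSec_eq f hX hY M q U r hr (c + 1) y
      refine ⟨mRes _ i z, Submodule.subset_span ⟨z, rfl⟩, ?_⟩
      rw [secMap_mRes, ← hz]
      exact secMap_mRes _ i z
    obtain ⟨w, hw, hwx⟩ := h2
    refine Submodule.mem_sup.2 ⟨w, hw, x - w, ?_, add_sub_cancel w x⟩
    have h4 : x - w ∈ LinearMap.ker (piSec f hX hY M q V (c + 1)) := by
      rw [LinearMap.mem_ker, map_sub, hwx, sub_self]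
    simpa using hc 1 h4
  · haveI := isNoetherianRing_sec hY hY' hU
    haveI := isNoetherianRing_sec hY hY' hV
    haveI := (finite_rLim f hX hY hX' hY' hp hM q hU).1
    obtain ⟨c, hc⟩ := (finite_rLim f hX hY hX' hY' hp hM q hU).2
    refine mem_span_rels_of_forall (res 𝔜 hY i) (jdl hY U) (jdl hY V) (map_jdl_le hY i)
      (jdl_le_jacobson hY hY' hV) s a fun k => Submodule.mem_sup_left ?_
    have h0 : ∑ j, a j • mRes (rPush f hX hY M q (c + k)) i (piSec f hX hY M q U (c + k) (s j)) = 0 := by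
      have h1 := congrArg (piSec f hX hY M q V (c + k)) ha
      rw [map_sum, map_zero] at h1
      refine (Finset.sum_congr rfl fun j _ => ?_).trans h1
      rw [map_smul]
      exact congrArg (a j • ·) (secMap_mRes _ i (s j)).symm
    have hker : ∀ y : Fin n → FBlowLib.Sec 𝔜 hY U,
        ∑ j, y j • piSec f hX hY M q U (c + k) (s j) = 0 →
          ∑ j, y j • s j ∈ LinearMap.ker (piSec f hX hY M q U (c + k)) := fun y hy => by
      rw [LinearMap.mem_ker, map_sum]
      exact (Finset.sum_congr rfl fun j _ => map_smul _ _ _).trans hy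
    have hrels := (isPC_rpush_up f hX hY hY' hp (c + k) _ (isCoh_down hX hX' M hM (c + k)) q).rels U V i hU hV n
      (fun j => piSec f hX hY M q U (c + k) (s j)) a h0
    have hsub : (relsOf (FBlowLib.Sec 𝔜 hY U) (fun j => piSec f hX hY M q U (c + k) (s j)) :
          Set (Fin n → FBlowLib.Sec 𝔜 hY U)) ⊆
        {y : Fin n → FBlowLib.Sec 𝔜 hY U | ∑ j, y j • s j ∈ jdl hY U ^ k •
          (⊤ : Submodule (FBlowLib.Sec 𝔜 hY U) (DerCompLib.Sec (rLim f hX hY M q) U))} :=
      fun y hy => hc k (hker y ((mem_relsOf (A := FBlowLib.Sec 𝔜 hY U)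
        (s := fun j => piSec f hX hY M q U (c + k) (s j))).1 hy))
    exact Submodule.span_mono (Set.image_mono hsub) hrels

include hX' hY' hp hM in
/-- Higher direct images of coherent modules are coherent. -/
theorem isCohF_rpush : FSch.IsCohF 𝔜 hY ((FSch.RpushF f hX hY q).obj M) := by
  haveI := isIso_toRLim f hX hY hX' hY' hp hM q
  exact (goodRing hY hY').isFinitePresentation
    ((isPC_rLim f hX hY hX' hY' hp hM q).of_iso (asIso (toRLim f hX hY M q)).symm)

end Groth.Agent.FModLib
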