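import Groth.Agent.FModLib.CohSerre
import Groth.Agent.FModLib.RpushFinite

/-!
# Derived direct images with coherent cohomology along proper morphisms of formal schemes
-/

set_option autoImplicit false
set_option backward.isDefEq.respectTransparency false
set_option linter.style.haveILetI false
set_option linter.unusedSectionVars false

universe u

open CategoryTheory CategoryTheory.Limits AlgebraicGeometry Opposite TopologicalSpace
open Groth.Agent.FBlowLib Groth.Agent.DerCompLib Groth.Agent.Coherent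

attribute [local instance] HasDerivedCategory.standard

namespace Groth.Agent.FModLib

variable {𝔛 𝔜 : FSch.Sys.{u}} (f : 𝔛 ⟶ 𝔜) (hX : 𝔛.IsFormal) (hY : 𝔜.IsFormal)
  [HasInjectiveResolutions (FSch.ModF 𝔛 hX)] [SiteCmp.HasRpushD (FSch.homMor f hX hY)]

/-- Coherence of the cohomology of derived direct images. -/
theorem isCohF_hMod_rpushD (hX' : 𝔛.IsLocNoethFormal) (hY' : 𝔜.IsLocNoethFormal) (hp : FSch.IsProperHom f)
    [CompactSpace (𝔛.X 0)] [CompactSpace (𝔜.X 0)] (G : DerivedCategory (FSch.ModF 𝔛 hX))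
    (hG : ∀ i : ℤ, FSch.IsCohF 𝔛 hX (SiteCmp.HMod G i)) (i : ℤ) :
    FSch.IsCohF 𝔜 hY (SiteCmp.HMod ((SiteCmp.RpushD (FSch.homMor f hX hY)).obj G) i) := by
  haveI := isWeakSerre_isCohF hX hX'
  haveI := isWeakSerre_isCohF hY hY'
  obtain ⟨e, B, hb, hacy⟩ := exists_basis_bound f hX hX'
  refine (SiteDer16.rpushD_cohIn_and_isIso (FSch.homMor f hX hY)
    (fun G : FSch.ModF 𝔛 hX => FSch.IsCohF 𝔛 hX G : ObjectProperty (FSch.ModF 𝔛 hX))
    {V : Opens (𝔛.X 0).toTopCat | IsAffineOpen (X := 𝔛.X 0) V} ?_ ?_ (e : ℤ) ?_ G hG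
    (fun G : FSch.ModF 𝔜 hY => FSch.IsCohF 𝔜 hY G : ObjectProperty (FSch.ModF 𝔜 hY))
    {V : Opens (𝔜.X 0).toTopCat | IsAffineOpen (X := 𝔜.X 0) V} ?_ ?_ ?_).1 i
  · intro U
    obtain ⟨ι, Y, g, -, h2, h3⟩ := exists_cover_of_basis (T := (𝔛.X 0).toTopCat)
      (B := fun V => IsAffineOpen (X := 𝔛.X 0) V) basis_AFF U ⊤ (GrothendieckTopology.top_mem _ _)
    exact ⟨ι, Y, g, h2, h3⟩
  · intro V _
    refine ⟨0, fun T hT => ?_⟩
    obtain ⟨ι, Y, g, h1, h2, h3⟩ := exists_cover_of_basis (T := (𝔛.X 0).toTopCat)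
      (B := fun V => IsAffineOpen (X := 𝔛.X 0) V) basis_AFF V T hT
    exact ⟨ι, Y, g, h1, h2,
      fun j M hM k hk => affine_subsingleton_HU hX hX' M (ObjectProperty.le_ind _ _ hM) (h3 j) k hk⟩
  · exact fun M hM p hp' => isZero_rpushF_of_basis f hX hY M p (B := B) hb
      fun V hV => hacy M (ObjectProperty.le_ind _ _ hM) V hV p (by exact_mod_cast hp')
  · intro U
    obtain ⟨ι, Y, g, -, h2, h3⟩ := exists_cover_of_basis (T := (𝔜.X 0).toTopCat)
      (B := fun V => IsAffineOpen (X := 𝔜.X 0) V) basis_AFF U ⊤ (GrothendieckTopology.top_mem _ _)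
    exact ⟨ι, Y, g, h2, h3⟩
  · intro V _
    refine ⟨0, fun T hT => ?_⟩
    obtain ⟨ι, Y, g, h1, h2, h3⟩ := exists_cover_of_basis (T := (𝔜.X 0).toTopCat)
      (B := fun V => IsAffineOpen (X := 𝔜.X 0) V) basis_AFF V T hT
    exact ⟨ι, Y, g, h1, h2,
      fun j M hM k hk => affine_subsingleton_HU hY hY' M (ObjectProperty.le_ind _ _ hM) (h3 j) k hk⟩
  · exact fun M hM p => isCohF_rpush f hX hY hX' hY' hp hM p

end Groth.Agent.FModLib
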