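import Groth.Agent.FModLib.LocalIso
import Groth.Agent.DerCompLib.LocalLift

/-!
# Sections of free modules over an open are locally finite combinations

Consequences for modules with a presentation by arbitrary families.
-/

set_option autoImplicit false
set_option backward.isDefEq.respectTransparency false
set_option linter.unusedSectionVars false
set_option linter.style.haveILetI false

universe u

open CategoryTheory CategoryTheory.Limits Opposite TopologicalSpace
open Groth.Agent.DerCompLib

namespace Groth.Agent.FModLib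

variable {T : TopCat.{u}} {O : Sheaf (Opens.grothendieckTopology T) CommRingCat.{u}} {U : Opens T}

theorem secRes_of_preimage {C : Type u} [SmallCategory C] {J : GrothendieckTopology C}
    {R : Sheaf J CommRingCat.{u}} {F G : ModSite.Mod R} (r : F ⟶ G) {X Y Z : C} (g : Y ⟶ X) (k : Z ⟶ Y)
    {p : Sec G X} {a : Sec F Y} {q : Sec F Z} (ha : secMap r Y a = secRes G g p) (hb : secRes F k a = q) :
    secRes G (k ≫ g) p = secMap r Z q := by
  rw [← hb, secMap_secRes', ha, secRes_comp]

/-- A local property over an open site holds near each point. -/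
theorem exists_pt_of_mem_over {V : Over U} {R : Sieve V} (hR : R ∈ (Opens.grothendieckTopology T).over U V)
    {y : T} (hy : y ∈ V.left) : ∃ (W : Over U) (g : W ⟶ V), R g ∧ y ∈ W.left := by
  rw [GrothendieckTopology.mem_over_iff] at hR
  obtain ⟨W, f, hf, hyW⟩ := hR y hy
  exact ⟨_, _, (Sieve.overEquiv_iff R f).1 hf, hyW⟩

theorem exists_pt_of_loc {V : Over U} {Q : ∀ ⦃W : Over U⦄, (W ⟶ V) → Prop}
    (hQ : Loc ((Opens.grothendieckTopology T).over U) V Q) {y : T} (hy : y ∈ V.left) :
    ∃ (W : Over U) (g : W ⟶ V), Q g ∧ y ∈ W.left :=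
  Exists.elim hQ fun _ hS => Exists.elim (exists_pt_of_mem_over hS.1 hy) fun W hW =>
    Exists.elim hW fun g hg => ⟨W, g, hS.2 g hg.1, hg.2⟩

theorem isFreeOn_free (I : Type u) :
    IsFreeOn (V := fun _ : I => ovTop U) (SheafOfModules.free (R := ModSite.ringSh (O.over U)) I)
      (fun i => freeVec (O.over U) i (ovTop U)) := by
  intro N
  refine ⟨fun a b h => free_hom_ext_top fun i => congrFun h i, fun y => ?_⟩
  refine ⟨N.freeHomEquiv.symm fun i => mkSec N (y i), funext fun i => ?_⟩
  exact (imgVec_mkSec N y (ovTop U) i).trans (secRes_toTop_self N (y i))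

/-- Sections of a free module are locally finite combinations of the tautological vectors. -/
theorem exists_local_comb {I : Type u} {V : Over U}
    (p : Sec (SheafOfModules.free (R := ModSite.ringSh (O.over U)) I) V) {y : T} (hy : y ∈ V.left) :
    ∃ (W : Over U) (g : W ⟶ V) (s : Finset I) (c : I → (O.over U).obj.obj (op W)), y ∈ W.left ∧
      secRes _ g p = ∑ i ∈ s, c i • freeVec (O.over U) i W := by
  classical
  obtain ⟨R, hR, hRc⟩ := (isFreeOn_free (O := O) (U := U) I).exists_local_nodeEval p
  obtain ⟨W, g, hg, hyW⟩ := exists_pt_of_mem_over hR hy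
  obtain ⟨c, hc⟩ := hRc g hg
  refine ⟨W, g, c.support.image fun n => n.1, fun i => c ⟨i, toTop W⟩, hyW, hc.symm.trans ?_⟩
  have hn : ∀ n : Node (fun _ : I => ovTop U) W, n = ⟨n.1, toTop W⟩ := fun n =>
    Sigma.ext rfl (heq_of_eq (Over.OverMorphism.ext (Subsingleton.elim _ _)))
  rw [Finset.sum_image (fun a _ b _ hab => by rw [hn a, hn b, show a.1 = b.1 from hab])]
  refine (Finsupp.linearCombination_apply _ c).trans (Finset.sum_congr rfl fun n _ => ?_)
  rw [hn n]
  exact congrArg (c ⟨n.1, toTop W⟩ • ·) (freeVec_res (O.over U) n.1 (toTop W))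

theorem coordAt_finset_comb {I : Type u} {V : Over U} (s : Finset I) (c : I → (O.over U).obj.obj (op V)) (i : I)
    [Decidable (i ∈ s)] :
    coordAt (O.over U) V (∑ k ∈ s, c k • freeVec (O.over U) k V) i = if i ∈ s then c i else 0 := by
  classical
  show secMap (coord (O.over U) i) V _ = _
  rw [map_sum]
  refine (Finset.sum_congr rfl fun k _ => ?_).trans ((Finset.sum_ite_eq s i c).trans (by congr 1))
  rw [map_smul]
  refine (congrArg (c k • ·) (coordAt_freeVec (O.over U) V i k)).trans ?_
  split_ifs <;> simp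

variable {M : ModSite.Mod O}

/-- Generators are locally spanning, by finite subfamilies. -/
theorem exists_local_span {I : Type u} (g : SheafOfModules.free (R := ModSite.ringSh (O.over U)) I ⟶ overMod M U)
    [Epi g] {W : Opens T} (hW : W ≤ U) (x : Sec M W) {y : T} (hy : y ∈ W) :
    ∃ (V : Opens T) (i : V ≤ W) (s : Finset I) (c : I → O.obj.obj (op V)), y ∈ V ∧
      mRes M i x = ∑ j ∈ s, c j • mRes M (i.trans hW) (imgVec (O.over U) g (ovTop U) j) := by
  obtain ⟨W₁, k₁, ⟨a, ha⟩, hy₁⟩ := exists_pt_of_loc (exists_local_preimage g (X := ov hW) x) hy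
  obtain ⟨W₂, k₂, s, c, hy₂, hc⟩ := exists_local_comb a hy₁
  refine ⟨W₂.left, (leOfHom k₂.left).trans (leOfHom k₁.left), s, c, hy₂, ?_⟩
  have h1 := congrArg (secRes (overMod M U) k₂) ha
  rw [← secMap_secRes', hc, map_sum] at h1
  refine (h1.trans (secRes_comp (overMod M U) k₁ k₂ (show Sec (overMod M U) (ov hW) from x))).symm.trans
    (Finset.sum_congr rfl fun j _ => ?_)
  rw [map_smul]
  refine congrArg (c j • ·) ?_
  show secMap g W₂ (freeVec (O.over U) j W₂) = _
  rw [← freeVec_res (O.over U) j (toTop W₂), secMap_secRes']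
  rfl

variable (Pr : SheafOfModules.Presentation (M := overMod M U))

/-- Coordinates of the relations. -/
noncomputable abbrev relC (l : Pr.relations.I) (i : Pr.generators.I) : O.obj.obj (op U) := relVec Pr l i

theorem coordAt_relHom_comb (V : Over U) (L : Finset Pr.relations.I)
    (b : Pr.relations.I → (O.over U).obj.obj (op V)) (i : Pr.generators.I) :
    coordAt (O.over U) V (secMap (relHom Pr) V (∑ l ∈ L, b l • freeVec (O.over U) l V)) i =
      ∑ l ∈ L, b l * rT V (relVec Pr l i) := by
  show secMap (coord (O.over U) i) V _ = _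
  rw [map_sum, map_sum]
  refine Finset.sum_congr rfl fun l _ => ?_
  rw [map_smul, map_smul]
  exact congrArg (b l * ·) (coordAt_relHom Pr V l i)

theorem exists_relHom_preimage {V : Over U}
    (p : Sec (SheafOfModules.free (R := ModSite.ringSh (O.over U)) Pr.generators.I) V)
    (hp : secMap Pr.generators.π V p = 0) :
    Loc ((Opens.grothendieckTopology T).over U) V fun W g => ∃ a, secMap (relHom Pr) W a = secRes _ g p := by
  have hS := ShortComplex.exact_of_g_is_cokernel
    (ShortComplex.mk (relHom Pr) Pr.generators.π (by simp [relHom])) Pr.isColimit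
  exact exists_local_boundary hS p hp

set_option maxHeartbeats 1500000 in
/-- A section killed by the generators is locally an image of relations. -/
theorem exists_local_rel_over {V : Over U}
    (p : Sec (SheafOfModules.free (R := ModSite.ringSh (O.over U)) Pr.generators.I) V)
    (hp : secMap Pr.generators.π V p = 0) {y : T} (hy : y ∈ V.left) :
    ∃ (W : Over U) (g : W ⟶ V) (L : Finset Pr.relations.I)
      (b : Pr.relations.I → (O.over U).obj.obj (op W)),
      y ∈ W.left ∧ secRes _ g p = secMap (relHom Pr) W (∑ l ∈ L, b l • freeVec (O.over U) l W) := by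
  have hL := exists_relHom_preimage Pr p hp
  have hL' : ∃ (W : Over U) (g : W ⟶ V), (∃ a, secMap (relHom Pr) W a = secRes _ g p) ∧ y ∈ W.left :=
    exists_pt_of_loc (Q := fun W g => ∃ a, secMap (relHom Pr) W a = secRes _ g p) hL hy
  obtain ⟨W₁, k₁, hQ, hy₁⟩ := hL'
  obtain ⟨a, ha⟩ := hQ
  obtain ⟨W₂, k₂, L, b, hy₂, hb⟩ := exists_local_comb (I := Pr.relations.I) (V := W₁) a hy₁
  exact ⟨W₂, k₂ ≫ k₁, L, b, hy₂, secRes_of_preimage (relHom Pr) k₁ k₂ ha hb⟩

/-- A vanishing combination of generators is locally a combination of relations. -/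
theorem exists_local_rel [DecidableEq Pr.generators.I] {W : Opens T} (hW : W ≤ U) (s : Finset Pr.generators.I)
    (c : Pr.generators.I → O.obj.obj (op W))
    (h : ∑ i ∈ s, c i • mRes M hW (gens Pr i) = 0) {y : T} (hy : y ∈ W) :
    ∃ (V : Opens T) (j : V ≤ W) (L : Finset Pr.relations.I) (b : Pr.relations.I → O.obj.obj (op V)), y ∈ V ∧
      ∀ i, oRes O j (if i ∈ s then c i else 0) = ∑ l ∈ L, b l * oRes O (j.trans hW) (relC Pr l i) := by
  let c' : Pr.generators.I → (O.over U).obj.obj (op (ov hW)) := c
  have hp : secMap Pr.generators.π (ov hW) (∑ i ∈ s, c' i • freeVec (O.over U) i (ov hW)) = 0 := by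
    refine ((map_sum _ _ _).trans (Finset.sum_congr rfl fun i _ => ?_)).trans h
    exact (map_smul _ _ _).trans (congrArg (c' i • ·) (imgVec_π Pr (ov hW) i))
  obtain ⟨W', g, L, b, hy', hb⟩ := exists_local_rel_over Pr _ hp (show y ∈ (ov hW).left from hy)
  refine ⟨W'.left, leOfHom g.left, L, b, hy', fun i => ?_⟩
  have h1 := congrArg (fun q => coordAt (O.over U) W' q i) hb
  rw [coordAt_relHom_comb] at h1
  refine Eq.trans ?_ h1
  refine Eq.trans ?_ (secMap_secRes' (coord (O.over U) i) g _).symm
  exact congrArg (fun z : O.obj.obj (op W) => oRes O (leOfHom g.left) z) (coordAt_finset_comb s c' i).symm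

end Groth.Agent.FModLib
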