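import Groth.Agent.FModLib.RpushDInd
import Groth.Agent.SiteDer16.RlimClasses
import Groth.Agent.DCat.WayOut
import Mathlib.Algebra.Homology.DerivedCategory.Ext.Basic

/-!
# Hypercohomology of complexes with ind-coherent cohomology on Noetherian formal schemes is bounded above
-/

set_option autoImplicit false
set_option backward.isDefEq.respectTransparency false
set_option backward.defeqAttrib.useBackward true
set_option linter.style.haveILetI false
set_option linter.unusedSectionVars false
set_option maxHeartbeats 1000000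
set_option synthInstance.maxHeartbeats 100000

universe u

open CategoryTheory CategoryTheory.Limits CategoryTheory.Pretriangulated DerivedCategory AlgebraicGeometry
  Opposite TopologicalSpace
open Groth.Agent.FBlowLib Groth.Agent.DerCompLib Groth.Agent.Coherent

attribute [local instance] HasDerivedCategory.standard

namespace Groth.Agent.FModLib

section Devissage

variable {A : Type (u + 1)} [Category.{u} A] [Abelian A] [HasExt.{u} A]

/-- Vanishing of Ext groups, as vanishing of maps into shifted objects in a single degree. -/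
theorem subsingleton_hom_single {U : A} {M : A} {e : ℕ}
    (hU : ∀ k : ℕ, e < k → Subsingleton (Abelian.Ext.{u} U M k)) (c i : ℤ) (h : c + e < i) :
    Subsingleton ((singleFunctor A 0).obj U ⟶ ((singleFunctor A c).obj M)⟦i⟧) := by
  obtain ⟨k, hk⟩ := Int.eq_ofNat_of_zero_le (a := i - c) (by omega)
  haveI := hU k (by omega)
  haveI : Subsingleton ((singleFunctor A 0).obj U ⟶ ((singleFunctor A 0).obj M)⟦(k : ℤ)⟧) :=
    (Abelian.Ext.homEquiv).symm.subsingleton
  exact (Iso.homCongr (Iso.refl _)
    ((shiftFunctor _ i).mapIso (Groth.Agent.DCat.WayOut.singleIso M c) ≪≫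
      ((shiftFunctorAdd' (DerivedCategory A) (-c) i (k : ℤ) (by omega)).app _).symm)).subsingleton

/-- Maps into shifts of objects with cohomology in a class with vanishing Ext groups vanish above a bound. -/
theorem subsingleton_hom_bounded (P : ObjectProperty A) [P.IsClosedUnderIsomorphisms]
    (hP : ∀ Z : A, IsZero Z → P Z) (U : A) (e : ℕ)
    (hU : ∀ M : A, P M → ∀ k : ℕ, e < k → Subsingleton (Abelian.Ext.{u} U M k)) :
    ∀ (n : ℕ) (c : ℤ) (Y : DerivedCategory A), Y.IsGE c → Y.IsLE (c + n - 1) →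
      (∀ q, P ((homologyFunctor A q).obj Y)) →
      ∀ i : ℤ, c + n - 1 + e < i → Subsingleton ((singleFunctor A 0).obj U ⟶ Y⟦i⟧) := by
  intro n
  induction n with
  | zero =>
    intro c Y hge hle _ i _
    exact subsingleton_of_forall_eq 0 fun φ =>
      ((shiftFunctor _ i).map_isZero (TStructure.t.isZero Y (c + (0 : ℕ) - 1) c (by omega))).eq_of_tgt _ _
  | succ n ih =>
    intro c Y hge hle hY i hi
    push_cast at hi
    haveI : Y.IsLE (c + n) := by
      have : c + ((n + 1 : ℕ) : ℤ) - 1 = c + n := by push_cast; omega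
      exact this ▸ hle
    haveI h₁ : ((TStructure.t.truncLT (c + n)).obj Y).IsLE (c + n - 1) :=
      TStructure.t.isLE_truncLT_obj _ _ _ (by omega)
    haveI : ((TStructure.t.truncLT (c + n)).obj Y).IsGE c := inferInstance
    haveI hsub₁ : Subsingleton ((singleFunctor A 0).obj U ⟶ ((TStructure.t.truncLT (c + n)).obj Y)⟦i⟧) :=
      ih c _ inferInstance h₁ (DCat.WayOut.prop_homology_truncLT P hP Y _ hY) i (by omega)
    haveI : ((TStructure.t.truncGE (c + n)).obj Y).IsGE (c + n) := inferInstance
    haveI : ((TStructure.t.truncGE (c + n)).obj Y).IsLE (c + n) := inferInstance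
    obtain ⟨M, ⟨eM⟩⟩ := exists_iso_singleFunctor_obj_of_isGE_of_isLE ((TStructure.t.truncGE (c + n)).obj Y) (c + n)
    have hM : P M := P.prop_of_iso
      ((homologyFunctor A (c + n)).mapIso eM ≪≫ (singleFunctorCompHomologyFunctorIso A (c + n)).app M)
      (DCat.WayOut.prop_homology_truncGE P hP Y _ hY _)
    haveI := subsingleton_hom_single (hU M hM) (c + n) i (by omega)
    haveI hsub₂ : Subsingleton ((singleFunctor A 0).obj U ⟶ ((TStructure.t.truncGE (c + n)).obj Y)⟦i⟧) :=
      (Iso.homCongr (Iso.refl _) ((shiftFunctor _ i).mapIso eM)).subsingleton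
    refine subsingleton_of_forall_eq 0 fun φ => ?_
    obtain ⟨g, hg⟩ := Triangle.coyoneda_exact₂ _
      (Triangle.shift_distinguished _ (TStructure.t.triangleLTGE_distinguished (c + n) Y) i) φ
      (Subsingleton.elim (α := (singleFunctor A 0).obj U ⟶ ((TStructure.t.truncGE (c + n)).obj Y)⟦i⟧) _ _)
    rw [hg, Subsingleton.elim (α := (singleFunctor A 0).obj U ⟶ ((TStructure.t.truncLT (c + n)).obj Y)⟦i⟧) g 0]
    exact zero_comp

/-- Maps into shifts of a derived limit of truncations vanish above a bound. -/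
theorem subsingleton_hom_rlim [∀ K : ℕ → DerivedCategory A, HasProduct K] (P : ObjectProperty A)
    [P.IsClosedUnderIsomorphisms] (hP : ∀ Z : A, IsZero Z → P Z) (U : A) (e : ℕ)
    (hU : ∀ M : A, P M → ∀ k : ℕ, e < k → Subsingleton (Abelian.Ext.{u} U M k))
    (G : DerivedCategory A) (hG : ∀ q, P ((homologyFunctor A q).obj G)) (i₀ : ℤ)
    (hi₀ : ∀ i : ℤ, i₀ ≤ i → IsZero ((homologyFunctor A i).obj G))
    (hL : CohCx.IsRlimVia (CohCx.truncTower G) (CohCx.truncTowerMap G) G (CohCx.toTruncTower G))
    (i : ℤ) (hi : i₀ + e + 2 ≤ i) : Subsingleton ((singleFunctor A 0).obj U ⟶ G⟦i⟧) := by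
  haveI : G.IsLE (i₀ - 1) := (DerivedCategory.isLE_iff _ _).2 fun q hq => hi₀ q (by omega)
  have key : ∀ (n : ℕ) (j : ℤ), i₀ + e < j →
      Subsingleton ((singleFunctor A 0).obj U ⟶ (CohCx.truncTower G n)⟦j⟧) := by
    intro n j hj
    haveI : (CohCx.truncTower G n).IsLE (i₀ - 1) := inferInstance
    haveI : (CohCx.truncTower G n).IsGE (-(n : ℤ)) := inferInstance
    by_cases hn : -(n : ℤ) ≤ i₀
    · obtain ⟨m, hm⟩ := Int.eq_ofNat_of_zero_le (a := i₀ + n) (by omega)
      exact subsingleton_hom_bounded P hP U e hU m (-(n : ℤ)) _ inferInstance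
        (TStructure.t.isLE_of_le _ (i₀ - 1) _ (by omega))
        (DCat.WayOut.prop_homology_truncGE P hP G _ hG) j (by omega)
    · exact subsingleton_of_forall_eq 0 fun φ => ((shiftFunctor (DerivedCategory A) j).map_isZero
        (TStructure.t.isZero (CohCx.truncTower G n) (i₀ - 1) (-(n : ℤ)) (by omega))).eq_of_tgt _ _
  refine subsingleton_of_forall_eq 0 fun y => SiteDer16.eq_zero_of_limOne hL i (fun z => ?_) y fun n => ?_
  · exact ⟨fun _ => 0, fun n => @Subsingleton.elim _ (key n (i - 1) (by omega)) _ _⟩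
  · exact @Subsingleton.elim _ (key n i (by omega)) _ _

end Devissage

section Terminal

variable {C : Type u} [SmallCategory C] {J : GrothendieckTopology C} (O : Sheaf J CommRingCat.{u}) {T : C}
  (hT : IsTerminal T)

/-- Global sections as compatible families. -/
def sectionsEquivTop (F : Cᵒᵖ ⥤ Type u) : F.obj (op T) ≃ F.sections where
  toFun x := ⟨fun X => F.map (hT.from X.unop).op x, fun {X Y} g => by
    exact (FunctorToTypes.map_comp_apply F (hT.from X.unop).op g x).symm.trans
      (congrArg (fun h => F.map h x) (Quiver.Hom.unop_inj (hT.hom_ext _ _)))⟩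
  invFun s := s.1 (op T)
  left_inv x := by
    show F.map (hT.from T).op x = x
    rw [hT.hom_ext (hT.from T) (𝟙 T), op_id, FunctorToTypes.map_id_apply]
  right_inv s := Subtype.ext (funext fun X => s.2 (hT.from X.unop).op)

/-- Morphisms out of the free module on the terminal object are morphisms out of the structure sheaf. -/
noncomputable def freeTopHomEquiv (F : ModSite.Mod O) :
    ((SiteDer16.modFree O).obj T ⟶ F) ≃ (ModSite.unit O ⟶ F) :=
  ((SiteDer16.modHomEquiv₀ O T F).trans
    (sectionsEquivTop hT (((SheafOfModules.toSheaf _).obj F).obj ⋙ CategoryTheory.forget AddCommGrpCat.{u}))).trans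
    F.unitHomEquiv.symm

/-- The free module on the terminal object is the structure sheaf. -/
noncomputable def freeTopUnitIso : (SiteDer16.modFree O).obj T ≅ ModSite.unit O :=
  (Coyoneda.fullyFaithful.preimageIso (X := op (ModSite.unit O)) (Y := op ((SiteDer16.modFree O).obj T))
    (NatIso.ofComponents (fun F => ((freeTopHomEquiv O hT F).symm).toIso) fun {F G} g => by
      refine ConcreteCategory.hom_ext _ _ fun x => ?_
      obtain ⟨y, rfl⟩ := (freeTopHomEquiv O hT F).surjective x
      show (freeTopHomEquiv O hT G).symm (freeTopHomEquiv O hT F y ≫ g) =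
        (freeTopHomEquiv O hT F).symm (freeTopHomEquiv O hT F y) ≫ g
      rw [Equiv.symm_apply_apply, Equiv.symm_apply_eq]
      refine (SheafOfModules.unitHomEquiv G).injective (Subtype.ext (funext fun X => ?_))
      simp only [freeTopHomEquiv, Equiv.trans_apply]
      rw [SheafOfModules.unitHomEquiv_comp_apply]
      erw [Equiv.apply_symm_apply, Equiv.apply_symm_apply]
      rw [SiteDer16.modHomEquiv₀_postcomp]
      exact (NatTrans.naturality_apply ((SheafOfModules.toSheaf _).map g).hom (hT.from X.unop).op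
        (SiteDer16.modHomEquiv₀ O T F y)))).unop

include hT in
/-- Vanishing of cohomology on the terminal object gives vanishing of Ext out of the structure sheaf. -/
theorem subsingleton_ext_unit [HasExt.{u} (ModSite.Mod O)] (F : ModSite.Mod O) (k : ℕ)
    (h : Subsingleton (ModSite.HU O F k T)) : Subsingleton (Abelian.Ext.{u} (ModSite.unit O) F k) :=
  haveI := SiteDer16.subsingleton_ext_modFree O T k F h
  Function.Injective.subsingleton (f := fun x => (Abelian.Ext.mk₀ (freeTopUnitIso O hT).hom).comp x (zero_add k))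
    fun x y hxy => by
      have := congrArg (fun z => (Abelian.Ext.mk₀ (freeTopUnitIso O hT).inv).comp z (zero_add k)) hxy
      simpa using this

end Terminal

variable {𝔛 : FSch.Sys.{u}} (hX : 𝔛.IsFormal)

/-- Ind-coherent modules on a Noetherian formal scheme have bounded cohomology. -/
theorem exists_bound_HU_top (hX' : 𝔛.IsLocNoethFormal) [CompactSpace (𝔛.X 0)] :
    ∃ e : ℕ, ∀ M : FSch.ModF 𝔛 hX, indCoh hX M → ∀ k : ℕ, e < k →
      Subsingleton (ModSite.HU (𝔛.Osh hX) M k (⊤ : Opens (𝔛.X 0).toTopCat)) := by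
  haveI := hX'.2.2 0
  haveI : NoetherianSpace (𝔛.X 0).toTopCat := noetherianSpace_X0 hX'
  haveI : QuasiSeparatedSpace (𝔛.X 0) := inferInstance
  obtain ⟨d, hd⟩ := exists_bound_of_acyclic (X := 𝔛.X 0) ⊤ isCompact_univ
  refine ⟨d, fun M hM k hk => ?_⟩
  have h := hd ((abF hX).obj M) (fun W hW j => subsingleton_HU_of_indCohF hX hX' M hM hW j) ⊤
    (fun W hW _ => by rwa [inf_top_eq]) k hk.le
  rwa [inf_top_eq] at h

variable [HasInjectiveResolutions (FSch.ModF 𝔛 hX)]

/-- Hypercohomology of complexes with ind-coherent cohomology is bounded above. -/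
theorem exists_bound_hom_unitF_shift (hX' : 𝔛.IsLocNoethFormal) [CompactSpace (𝔛.X 0)] :
    ∃ e : ℕ, ∀ (G : DerivedCategory (FSch.ModF 𝔛 hX)),
      (∀ i : ℤ, indCoh hX (SiteCmp.HMod G i)) →
      ∀ i₀ : ℤ, (∀ i : ℤ, i₀ ≤ i → IsZero (SiteCmp.HMod G i)) →
        ∀ i : ℤ, i₀ + e ≤ i →
          Subsingleton (SiteCmp.inD (𝔛.Osh hX) (FSch.unitF 𝔛 hX) ⟶ G⟦i⟧) := by
  haveI := isWeakSerre_indCoh hX hX'
  haveI := Groth.Agent.SpecSeq.enoughInjectives_of_hasInjectiveResolutions (FSch.ModF 𝔛 hX)
  haveI : HasExt.{u} (FSch.ModF 𝔛 hX) := hasExt_of_enoughInjectives _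
  obtain ⟨e, he⟩ := exists_bound_HU_top hX hX'
  refine ⟨e + 2, fun G hG i₀ hi₀ i hi => ?_⟩
  have hP : ∀ Z : FSch.ModF 𝔛 hX, IsZero Z → indCoh hX Z := fun Z hZ => by
    obtain ⟨Z', hZ', hAZ'⟩ := (indCoh hX).exists_prop_of_containsZero
    exact (indCoh hX).prop_of_iso (hZ'.iso hZ) hAZ'
  haveI : ∀ K : ℕ → DerivedCategory (FSch.ModF 𝔛 hX), HasProduct K := fun K => SiteDer16.hasProduct_mod K
  have hL := SiteDer16.isRlimVia_of_bounded (indCoh hX)
    {V : Opens (𝔛.X 0).toTopCat | IsAffineOpen (X := 𝔛.X 0) V}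
    (fun U => by
      obtain ⟨ι, Y, g, -, h2, h3⟩ := exists_cover_of_basis (T := (𝔛.X 0).toTopCat)
        (B := fun V => IsAffineOpen (X := 𝔛.X 0) V) basis_AFF U ⊤ (GrothendieckTopology.top_mem _ _)
      exact ⟨ι, Y, g, h2, h3⟩)
    (fun V _ => by
      refine ⟨0, fun T hT => ?_⟩
      obtain ⟨ι, Y, g, h1, h2, h3⟩ := exists_cover_of_basis (T := (𝔛.X 0).toTopCat)
        (B := fun V => IsAffineOpen (X := 𝔛.X 0) V) basis_AFF V T hT
      exact ⟨ι, Y, g, h1, h2, fun j M hM k hk => affine_subsingleton_HU hX hX' M hM (h3 j) k hk⟩)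
    G hG
  exact subsingleton_hom_rlim (indCoh hX) hP (FSch.unitF 𝔛 hX) e
    (fun M hM k hk => subsingleton_ext_unit (𝔛.Osh hX) isTerminalTop M k (he M hM k hk))
    G hG i₀ hi₀ hL i (by push_cast at hi; omega)

end Groth.Agent.FModLib
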