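import Groth.Agent.FModLib.BasisExact
import Mathlib.Topology.Sheaves.SheafCondition.UniqueGluing

/-!
# Morphisms of modules given on a basis
-/

set_option autoImplicit false
set_option backward.isDefEq.respectTransparency false
set_option linter.unusedSectionVars false
set_option linter.style.haveILetI false

universe u

open CategoryTheory CategoryTheory.Limits Opposite TopologicalSpace
open Groth.Agent.DerCompLib

namespace Groth.Agent.FModLib

variable {T : TopCat.{u}} {O : Sheaf (Opens.grothendieckTopology T) CommRingCat.{u}} {P : Opens T → Prop}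
  (hb : ∀ (U : Opens T) (x : T), x ∈ U → ∃ V : Opens T, P V ∧ x ∈ V ∧ V ≤ U) {M N : ModSite.Mod O}

include hb in
/-- Sections are determined on the basis. -/
theorem sec_ext_basis {U : Opens T} (x y : Sec N U) (h : ∀ (V : Opens T) (i : V ≤ U), P V → mRes N i x = mRes N i y) :
    x = y := by
  obtain ⟨R, hR, hR'⟩ := exists_cover_of_forall hb (fun {V} (k : V ⟶ U) => secRes N k x = secRes N k y)
    (fun V V' k j hk => by rw [← secRes_comp, hk, secRes_comp]) (fun V k hV => h V (leOfHom k) hV)
  exact DerCompLib.sec_ext N R hR x y fun V k hk => hR' k hk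

include hb in
/-- Compatible families on the basis glue. -/
theorem exists_sec_of_basis {U : Opens T} (z : ∀ V : Opens T, V ≤ U → P V → Sec N V)
    (hz : ∀ (V W : Opens T) (i : V ≤ U) (hV : P V) (j : W ≤ V) (hW : P W),
      mRes N j (z V i hV) = z W (j.trans i) hW) :
    ∃ x : Sec N U, ∀ (V : Opens T) (i : V ≤ U) (hV : P V), mRes N i x = z V i hV := by
  let ι := {V : Opens T // V ≤ U ∧ P V}
  let F : TopCat.Sheaf AddCommGrpCat.{u} T := (SheafOfModules.toSheaf.{u} (ModSite.ringSh O)).obj N
  have hcomp : TopCat.Presheaf.IsCompatible F.1 (fun V : ι => V.1) (fun V => (z V.1 V.2.1 V.2.2 : Sec N V.1)) := by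
    intro V V'
    exact sec_ext_basis hb (N := N) (mRes N inf_le_left (z V.1 V.2.1 V.2.2))
      (mRes N inf_le_right (z V'.1 V'.2.1 V'.2.2)) fun W i hW => by
        rw [mRes_mRes, mRes_mRes, hz _ _ _ _ _ hW, hz _ _ _ _ _ hW]
  obtain ⟨x, hx, -⟩ := F.existsUnique_gluing' (fun V : ι => V.1) U (fun V => homOfLE V.2.1)
    (fun y hy => by
      obtain ⟨V, hV, hyV, hVU⟩ := hb U y hy
      exact Opens.mem_iSup.2 ⟨⟨V, hVU, hV⟩, hyV⟩)
    (fun V => (z V.1 V.2.1 V.2.2 : Sec N V.1)) hcomp
  exact ⟨x, fun V i hV => hx ⟨V, i, hV⟩⟩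

include hb in
/-- A natural family of linear maps on the basis comes from a morphism. -/
theorem exists_hom_of_basis (β : ∀ V, P V → Sec M V →ₗ[O.obj.obj (op V)] Sec N V)
    (hβ : ∀ (V W : Opens T) (j : W ≤ V) (hV : P V) (hW : P W) (x : Sec M V),
      mRes N j (β V hV x) = β W hW (mRes M j x)) :
    ∃ q : M ⟶ N, ∀ V (hV : P V) (x : Sec M V), secMap q V x = β V hV x := by
  choose app happ using fun (U : Opens T) (x : Sec M U) => exists_sec_of_basis hb (N := N) (U := U)
    (fun V i hV => β V hV (mRes M i x)) (fun V W i hV j hW => by rw [hβ V W j hV hW, mRes_mRes])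
  have hadd : ∀ U (x y : Sec M U), app U (x + y) = app U x + app U y := fun U x y =>
    sec_ext_basis hb _ _ fun V i hV => by rw [happ U _ V i hV, map_add, map_add, map_add, happ U x V i hV, happ U y V i hV]
  have hsmul : ∀ U (r : O.obj.obj (op U)) (x : Sec M U), app U (r • x) = r • app U x := fun U r x =>
    sec_ext_basis hb _ _ fun V i hV => by rw [happ U _ V i hV, mRes_smul, map_smul, mRes_smul, happ U x V i hV]
  have hnat : ∀ {U U' : Opens T} (j : U' ≤ U) (x : Sec M U), app U' (mRes M j x) = mRes N j (app U x) :=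
    fun {U U'} j x => sec_ext_basis hb _ _ fun V i hV => by
      rw [happ U' _ V i hV, mRes_mRes, mRes_mRes, happ U x V (i.trans j) hV]
  let nt : M.val.presheaf ⟶ N.val.presheaf :=
    { app := fun U => AddCommGrpCat.ofHom (AddMonoidHom.mk' (app U.unop) (hadd U.unop))
      naturality := fun U U' f => AddCommGrpCat.ext fun x => hnat (leOfHom f.unop) x }
  refine ⟨⟨PresheafOfModules.homMk nt fun U r x => hsmul U.unop r x⟩, fun V hV x => ?_⟩
  refine Eq.trans ?_ ((congrArg (β V hV) (show mRes M le_rfl x = x from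
    ConcreteCategory.congr_hom (M.val.presheaf.map_id (op V)) x)))
  refine Eq.trans ?_ (happ V x V le_rfl hV)
  exact (ConcreteCategory.congr_hom (N.val.presheaf.map_id (op V)) (app V x)).symm

end Groth.Agent.FModLib
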