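import Groth.Agent.FModLib.LocalHom

/-!
# Isomorphisms out of a module with a presentation over an open
-/

set_option autoImplicit false
set_option backward.isDefEq.respectTransparency false
set_option linter.unusedSectionVars false
set_option linter.style.haveILetI false

universe u

open CategoryTheory CategoryTheory.Limits Opposite TopologicalSpace
open Groth.Agent.DerCompLib

namespace Groth.Agent.FModLib

variable {T : TopCat.{u}} {O : Sheaf (Opens.grothendieckTopology T) CommRingCat.{u}} {U : Opens T}
  {P : Opens T → Prop} (hb : ∀ (V : Opens T) (x : T), x ∈ V → ∃ W : Opens T, P W ∧ x ∈ W ∧ W ≤ V)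
  {F : ModSite.Mod (O.over U)} (Pr : SheafOfModules.Presentation (M := F))

/-- The relation morphism between the free modules. -/
noncomputable abbrev relHom :
    SheafOfModules.free (R := ModSite.ringSh (O.over U)) Pr.relations.I ⟶
      SheafOfModules.free (R := ModSite.ringSh (O.over U)) Pr.generators.I :=
  (SheafOfModules.freeHomEquiv _).symm Pr.relations.s ≫ kernel.ι Pr.generators.π

theorem coordAt_relHom (V : Over U) (l : Pr.relations.I) (j : Pr.generators.I) :
    coordAt (O.over U) V (imgVec (O.over U) (relHom Pr) V l) j = rT V (relVec Pr l j) := by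
  have e : imgVec (O.over U) (relHom Pr) V l = secRes _ (toTop V)
      (secMap (kernel.ι Pr.generators.π) (ovTop U) (topOf (Pr.relations.s l))) := by
    rw [imgVec_comp, imgVec_eq, Equiv.apply_symm_apply, ← secMap_secRes']
    exact congrArg (secMap (kernel.ι Pr.generators.π) V) ((Pr.relations.s l).property (toTop V).op).symm
  rw [e]
  exact secMap_secRes' (coord (O.over U) j) (toTop V) _

variable [Fintype Pr.generators.I] [Fintype Pr.relations.I]

include hb in
/-- A morphism is an isomorphism once the images of the generators have the same relations on a basis. -/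
theorem isIso_of_gens_rels {N : ModSite.Mod (O.over U)} (α : F ⟶ N)
    (hgen : ∀ V : Over U, P V.left → Submodule.span ((O.over U).obj.obj (op V))
      (Set.range fun j => secRes N (toTop V) (secMap α (ovTop U) (gens Pr j))) = ⊤)
    (hrel : ∀ V : Over U, P V.left → ∀ a : Pr.generators.I → (O.over U).obj.obj (op V),
      ∑ j, a j • secRes N (toTop V) (secMap α (ovTop U) (gens Pr j)) = 0 →
        a ∈ Submodule.span ((O.over U).obj.obj (op V)) (Set.range fun l => rT V ∘ relVec Pr l)) :
    IsIso α := by
  have himg : ∀ (V : Over U) (j : Pr.generators.I), imgVec (O.over U) (Pr.generators.π ≫ α) V j =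
      secRes N (toTop V) (secMap α (ovTop U) (gens Pr j)) := fun V j => by
    rw [imgVec_comp, imgVec_π, secMap_secRes']
  haveI : Epi (Pr.generators.π ≫ α) := by
    refine epi_over_of_forall hb _ fun V hV x => ?_
    obtain ⟨c, hc⟩ := (Submodule.mem_span_range_iff_exists_fun _).1
      (show x ∈ Submodule.span ((O.over U).obj.obj (op V))
        (Set.range fun j => secRes N (toTop V) (secMap α (ovTop U) (gens Pr j))) by rw [hgen V hV]; trivial)
    refine ⟨∑ j, c j • freeVec (O.over U) j V, ?_⟩
    rw [secMap_comb, ← hc]
    exact Finset.sum_congr rfl fun j _ => congrArg (c j • ·) (himg V j)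
  have hρ : relHom Pr ≫ Pr.generators.π ≫ α = 0 := by
    simp only [relHom, Category.assoc, kernel.condition_assoc, zero_comp, comp_zero]
  have hex : (ShortComplex.mk (relHom Pr) (Pr.generators.π ≫ α) hρ).Exact := by
    refine exact_over_of_forall hb _ fun V hV b hb' => ?_
    have ha : ∑ j, coordAt (O.over U) V b j • secRes N (toTop V) (secMap α (ovTop U) (gens Pr j)) = 0 := by
      refine Eq.trans (Finset.sum_congr rfl fun j _ => ?_)
        ((secMap_free (O.over U) (Pr.generators.π ≫ α) V b).symm.trans hb')
      exact congrArg (coordAt (O.over U) V b j • ·) (himg V j).symm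
    obtain ⟨c, hc⟩ := (Submodule.mem_span_range_iff_exists_fun _).1 (hrel V hV _ ha)
    refine ⟨∑ l, c l • freeVec (O.over U) l V, free_ext (O.over U) V fun j => ?_⟩
    refine (coordAt_map_comb (O.over U) (relHom Pr) c (fun l => freeVec (O.over U) l V)
      (fun l => rT V ∘ relVec Pr l) (fun l => ?_) j).trans ((Finset.sum_apply j _ _).symm.trans (congrFun hc j))
    refine (free_decomp (O.over U) V _).trans (Finset.sum_congr rfl fun k _ => ?_)
    exact congrArg (· • freeVec (O.over U) k V) (coordAt_relHom Pr V l k)
  haveI : Epi (ShortComplex.mk (relHom Pr) (Pr.generators.π ≫ α) hρ).g :=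
    inferInstanceAs (Epi (Pr.generators.π ≫ α))
  have : α = (IsColimit.coconePointUniqueUpToIso Pr.isColimit hex.gIsCokernel).hom := by
    haveI := Pr.generators.epi
    rw [← cancel_epi Pr.generators.π]
    exact (IsColimit.comp_coconePointUniqueUpToIso_hom Pr.isColimit hex.gIsCokernel
      WalkingParallelPair.one).symm
  rw [this]
  infer_instance

end Groth.Agent.FModLib
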