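import Groth.Agent.FModLib.PullCoh
import Groth.Agent.Coherent.QcohLocal
import Groth.Agent.FModLib.LocalIso

/-!
# The system of inverse images of a finitely presented module, and the comparison with its limit
-/

set_option autoImplicit false
set_option backward.isDefEq.respectTransparency false
set_option linter.style.haveILetI false
set_option linter.unusedSectionVars false

universe u

open CategoryTheory CategoryTheory.Limits AlgebraicGeometry Opposite TopologicalSpace
open Groth.Agent.FBlowLib Groth.Agent.DerCompLib Groth.Agent.Coherent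

namespace Groth.Agent.FModLib

variable {𝔛 : FSch.Sys.{u}} (h : 𝔛.IsFormal) (hX : 𝔛.IsLocNoethFormal) (M : ModSite.Mod (𝔛.Osh h))

/-- A finite presentation over an open restricts to one over a smaller open. -/
theorem exists_presentation_le {U V : (𝔛.X 0).Opens} (i : V ≤ U)
    (Pr : SheafOfModules.Presentation (M := overMod M U)) (hPr : Pr.IsFinite) :
    ∃ Pr' : SheafOfModules.Presentation (M := overMod M V), Pr'.IsFinite := by
  let R := ModSite.ringSh (𝔛.Osh h)
  haveI : PreservesColimitsOfSize.{u, u} (SheafOfModules.overMap.{u} R (homOfLE i)) := inferInstance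
  refine ⟨(Pr.map (SheafOfModules.overMap.{u} R (homOfLE i))
    (SheafOfModules.overMapUnitIso (R := R) (homOfLE i)).symm).ofIsIso
      ((SheafOfModules.overFunctorMap R (homOfLE i)).hom.app M), ?_⟩
  haveI := hPr
  haveI : (Pr.map (SheafOfModules.overMap.{u} R (homOfLE i))
      (SheafOfModules.overMapUnitIso (R := R) (homOfLE i)).symm).IsFinite :=
    { isFiniteType_generators := ⟨hPr.isFiniteType_generators.finite⟩
      isFiniteType_relations := ⟨hPr.isFiniteType_relations.finite⟩ }
  infer_instance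

/-- Finitely presented modules have finite presentations over the affine opens of a basis. -/
theorem exists_affine_presentation (hM : FSch.IsCohF 𝔛 h M) (x : 𝔛.X 0) (W : (𝔛.X 0).Opens) (hx : x ∈ W) :
    ∃ V : (𝔛.X 0).Opens, V ≤ W ∧ x ∈ V ∧ IsAffineOpen V ∧
      ∃ Pr : SheafOfModules.Presentation (M := overMod M V), Pr.IsFinite := by
  obtain ⟨σ, hσ⟩ := hM.exists_quasicoherentData
  obtain ⟨V', f, ⟨i, ⟨g⟩⟩, hxV'⟩ := σ.coversTop (⊤ : (𝔛.X 0).Opens) x trivial
  obtain ⟨V, hV, hxV, hVW⟩ := exists_isAffineOpen_mem_and_subset (U := W ⊓ σ.X i)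
    (x := x) ⟨hx, leOfHom g hxV'⟩
  exact ⟨V, fun y hy => (hVW hy).1, hxV, hV,
    exists_presentation_le h M (fun y hy => (hVW hy).2) (σ.presentation i) (hσ.isFinite_presentation i)⟩

include hX in
/-- The inverse images of a finitely presented module to the levels are coherent. -/
theorem isCoh_down (hM : FSch.IsCohF 𝔛 h M) (k : ℕ) : Coh.IsCoh (down h k M) := by
  choose V hVle hxV hVa Pr hPr using fun x => exists_affine_presentation h M hM x ⊤ trivial
  haveI := hX.2.2 k
  have hcoh : ∀ x, Coh.IsCoh ((down h k M).restrict (𝔛.lvU h k (V x)).ι) := fun x => by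
    haveI := hPr x
    haveI : Finite (Pr x).generators.I := (hPr x).isFiniteType_generators.finite
    haveI : Finite (Pr x).relations.I := (hPr x).isFiniteType_relations.finite
    haveI := Fintype.ofFinite (Pr x).generators.I
    haveI := Fintype.ofFinite (Pr x).relations.I
    exact (down_props h k M (Pr x) (hVa x)).1
  have hspan : ∀ x, Module.Finite Γ(𝔛.X k, 𝔛.lvU h k (V x)) Γ(down h k M, 𝔛.lvU h k (V x)) := fun x => by
    haveI := hPr x
    haveI : Finite (Pr x).generators.I := (hPr x).isFiniteType_generators.finite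
    haveI : Finite (Pr x).relations.I := (hPr x).isFiniteType_relations.finite
    haveI := Fintype.ofFinite (Pr x).generators.I
    haveI := Fintype.ofFinite (Pr x).relations.I
    refine ⟨?_⟩
    rw [← ((down_props h k M (Pr x) (hVa x)).2 (V x) (hVa x) le_rfl).1]
    exact Submodule.fg_span (Set.finite_range _)
  have hcov : ∀ y : 𝔛.X k, ∃ x, y ∈ 𝔛.lvU h k (V x) := fun y => ⟨_, hxV ((𝔛.gInv h k) y)⟩
  refine isCoh_of_finite_sections_cover _ (isQCoh_of_openImmersion_cover _ (fun x => (𝔛.lvU h k (V x)).ι)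
    (fun y => (hcov y).imp fun x hx => by simpa using hx) fun x => (hcoh x).1) _
    (fun x => S13347.isAffineOpen_lvU 𝔛 h k (V x) (hVa x)) hcov hspan

/-- The transition map of the inverse images to the levels. -/
noncomputable def downT (k : ℕ) :
    down h (k + 1) M ⟶ (Scheme.Modules.pushforward (𝔛.ι k)).obj (down h k M) :=
  ((FSch.levelMor 𝔛 h (k + 1)).adj.homEquiv _ _).symm
    ((FSch.levelMor 𝔛 h k).adj.unit.app M ≫ (FSch.pushCompareInv 𝔛 h k).app (down h k M))

theorem unit_downT (k : ℕ) :
    (FSch.levelMor 𝔛 h (k + 1)).adj.unit.app M ≫ ((FSch.levelMor 𝔛 h (k + 1)).push.map (downT h M k) ≫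
        (FSch.pushCompare 𝔛 h k).app (down h k M)) =
      (FSch.levelMor 𝔛 h k).adj.unit.app M :=
  FSch.unit_levelTrans 𝔛 h M k

theorem homEquiv_downT_comp (k : ℕ) {G : (𝔛.X k).Modules} (φ : down h k M ⟶ G) :
    ((FSch.levelMor 𝔛 h (k + 1)).adj.homEquiv _ _ (downT h M k ≫ (Scheme.Modules.pushforward (𝔛.ι k)).map φ)) ≫
        (FSch.pushCompare 𝔛 h k).app G =
      (FSch.levelMor 𝔛 h k).adj.homEquiv _ _ φ := by
  have nat : (FSch.levelMor 𝔛 h (k + 1)).push.map ((Scheme.Modules.pushforward (𝔛.ι k)).map φ) ≫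
      (FSch.pushCompare 𝔛 h k).app G =
      (FSch.pushCompare 𝔛 h k).app (down h k M) ≫ (FSch.levelMor 𝔛 h k).push.map φ :=
    (FSch.pushCompare 𝔛 h k).naturality φ
  rw [Adjunction.homEquiv_unit, Adjunction.homEquiv_unit, Functor.map_comp]
  simp only [Category.assoc]
  erw [nat]
  rw [← Category.assoc ((FSch.levelMor 𝔛 h (k + 1)).push.map _)]
  exact (Category.assoc _ _ _).symm.trans (congrArg (· ≫ _) (unit_downT h M k))

theorem isIso_downT_adjunct (k : ℕ) :
    IsIso (((Scheme.Modules.pullbackPushforwardAdjunction (𝔛.ι k)).homEquiv _ _).symm (downT h M k)) := by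
  refine isIso_of_coyoneda_map_bijective _ fun G => ?_
  let e₁ := (Scheme.Modules.pullbackPushforwardAdjunction (𝔛.ι k)).homEquiv (down h (k + 1) M) G
  let e₂ := (FSch.levelMor 𝔛 h (k + 1)).adj.homEquiv M ((Scheme.Modules.pushforward (𝔛.ι k)).obj G)
  haveI : IsIso ((FSch.pushCompare 𝔛 h k).app G) :=
    ⟨(FSch.pushCompareInv 𝔛 h k).app G, FSch.pushCompare_pushCompareInv 𝔛 h k G,
      FSch.pushCompareInv_pushCompare 𝔛 h k G⟩
  let e₃ : (M ⟶ (FSch.levelMor 𝔛 h (k + 1)).push.obj ((Scheme.Modules.pushforward (𝔛.ι k)).obj G)) ≃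
      (M ⟶ (FSch.levelMor 𝔛 h k).push.obj G) :=
    (asIso ((FSch.pushCompare 𝔛 h k).app G)).homToEquiv
  have key : ∀ φ : down h k M ⟶ G, e₃ (e₂ (e₁ (((Scheme.Modules.pullbackPushforwardAdjunction (𝔛.ι k)).homEquiv
      _ _).symm (downT h M k) ≫ φ))) = (FSch.levelMor 𝔛 h k).adj.homEquiv _ _ φ := fun φ => by
    simp only [e₁, Adjunction.homEquiv_naturality_right, Equiv.apply_symm_apply]
    exact homEquiv_downT_comp h M k φ
  exact (Function.Bijective.of_comp_iff' (e₁.trans (e₂.trans e₃)).bijective _).1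
    ((show ((e₁.trans (e₂.trans e₃)) ∘ fun φ => _) = ⇑((FSch.levelMor 𝔛 h k).adj.homEquiv M G) from
      funext key) ▸ Equiv.bijective _)

/-- The system of inverse images to the levels. -/
noncomputable def downSys : FSch.ModSys 𝔛 where
  F k := down h k M
  e k :=
    haveI := isIso_downT_adjunct h M k
    asIso (((Scheme.Modules.pullbackPushforwardAdjunction (𝔛.ι k)).homEquiv _ _).symm (downT h M k))

theorem downSys_toPush (k : ℕ) : (downSys h M).toPush k = downT h M k := by
  show ((Scheme.Modules.pullbackPushforwardAdjunction (𝔛.ι k)).homEquiv _ _)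
    (((Scheme.Modules.pullbackPushforwardAdjunction (𝔛.ι k)).homEquiv _ _).symm (downT h M k)) = _
  exact Equiv.apply_symm_apply _ _

/-- The cone of units. -/
noncomputable def downCone : Cone (FSch.levelSysOf 𝔛 h (downSys h M).F (downSys h M).toPush) where
  pt := M
  π := NatTrans.ofOpSequence (fun k => (FSch.levelMor 𝔛 h k).adj.unit.app M) fun k => by
    rw [FSch.levelSysOf_map_succ, downSys_toPush]
    exact (Category.id_comp _).trans (unit_downT h M k).symm

/-- The comparison with the limit of the inverse images to the levels. -/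
noncomputable def theta : M ⟶ (downSys h M).realMod h := limit.lift _ (downCone h M)

theorem theta_realProj (k : ℕ) :
    theta h M ≫ FSch.realProj 𝔛 h (downSys h M).F (downSys h M).toPush k =
      (FSch.levelMor 𝔛 h k).adj.unit.app M :=
  limit.lift_π (downCone h M) (op k)

theorem upVal_rproj_theta (k : ℕ) {U : (𝔛.X 0).Opens} (x : DerCompLib.Sec M U) :
    upVal h (rproj h (downSys h M).F (downSys h M).toPush k U (secMap (theta h M) U x)) = unitVec h k M x :=
  congrArg (fun φ => upVal h (secMap φ U x)) (theta_realProj h M k)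

section Local

variable {U : (𝔛.X 0).Opens} (hU : IsAffineOpen U) (Pr : SheafOfModules.Presentation (M := overMod M U))
  [Fintype Pr.generators.I] [Fintype Pr.relations.I] (hM : FSch.IsCohF 𝔛 h M)

/-- The images of the generators. -/
noncomputable def thGen (j : Pr.generators.I) : DerCompLib.Sec ((downSys h M).realMod h) U :=
  secMap (theta h M) U (gens Pr j)

theorem upVal_rproj_thGen (k : ℕ) {V : (𝔛.X 0).Opens} (i : V ≤ U) (j : Pr.generators.I) :
    upVal h (rproj h (downSys h M).F (downSys h M).toPush k V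
        (mRes ((downSys h M).realMod h) i (thGen h M Pr j))) =
      resM (down h k M) (FBlow.lvU_mono 𝔛 h k i) (unitVec h k M (gens Pr j)) :=
  (rproj_mRes h (downSys h M) k i _).trans
    (congrArg (resM (down h k M) _) (upVal_rproj_theta h M k (gens Pr j)))

include hX hU hM in
theorem span_thGen {V : (𝔛.X 0).Opens} (hV : IsAffineOpen V) (i : V ≤ U) :
    Submodule.span (FBlowLib.Sec 𝔛 h V)
      (Set.range fun j => mRes ((downSys h M).realMod h) i (thGen h M Pr j)) = ⊤ := by
  obtain ⟨hfin, hlev⟩ := real_props h hX (downSys h M) (isCoh_down h hX M hM) hV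
  refine span_eq_top_of_sup_smul (jdl_le_jacobson h hX hV) _ (top_unique fun y _ => ?_)
  obtain ⟨c, hc⟩ := (Submodule.mem_span_range_iff_exists_fun _).1
    (show upVal h (rproj h (downSys h M).F (downSys h M).toPush 0 V y) ∈ Submodule.span _
      (Set.range fun j => resM (down h 0 M) (FBlow.lvU_mono 𝔛 h 0 i) (unitVec h 0 M (gens Pr j))) by
      rw [((down_props h 0 M Pr hU).2 V hV i).1]; trivial)
  choose r hr using fun j => ((sec_props h hX hV).2 0).1 (c j)
  refine Submodule.mem_sup.2 ⟨∑ j, r j • mRes _ i (thGen h M Pr j),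
    (Submodule.mem_span_range_iff_exists_fun _).2 ⟨r, rfl⟩, y - ∑ j, r j • mRes _ i (thGen h M Pr j), ?_,
    add_sub_cancel _ _⟩
  rw [← pow_one (jdl h V), ← (hlev 0).2, LinearMap.mem_ker, map_sub, sub_eq_zero]
  apply (upVal h).injective
  refine hc.symm.trans ?_
  rw [map_sum, map_sum]
  refine Finset.sum_congr rfl fun j _ => ?_
  rw [map_smul, upVal_smul, hr]
  exact congrArg (c j • ·) (upVal_rproj_thGen h M Pr 0 i j).symm

include hX hU hM in
set_option maxHeartbeats 1500000 in
theorem rels_thGen {V : (𝔛.X 0).Opens} (hV : IsAffineOpen V) (i : V ≤ U)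
    (a : Pr.generators.I → FBlowLib.Sec 𝔛 h V)
    (ha : ∑ j, a j • mRes ((downSys h M).realMod h) i (thGen h M Pr j) = 0) :
    a ∈ Submodule.span (FBlowLib.Sec 𝔛 h V) (Set.range fun l j => res 𝔛 h i (relVec Pr l j)) := by
  haveI := isNoetherianRing_sec h hX hV
  refine mem_of_forall_mem_sup_pow (jdl_le_jacobson h hX hV) _ fun k => ?_
  have h0 : ∑ j, proj 𝔛 h k V (a j) •
      resM (down h k M) (FBlow.lvU_mono 𝔛 h k i) (unitVec h k M (gens Pr j)) = 0 := by
    have := congrArg (fun z => upVal h (rproj h (downSys h M).F (downSys h M).toPush k V z)) ha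
    simp only [map_sum, map_zero, map_smul] at this
    refine Eq.trans (Finset.sum_congr rfl fun j _ => ?_) this
    rw [upVal_smul]
    exact congrArg (proj 𝔛 h k V (a j) • ·) (upVal_rproj_thGen h M Pr k i j).symm
  obtain ⟨b, hb⟩ := (Submodule.mem_span_range_iff_exists_fun _).1 (((down_props h k M Pr hU).2 V hV i).2 _ h0)
  choose c hc using fun l => ((sec_props h hX hV).2 k).1 (b l)
  let w : Pr.generators.I → FBlowLib.Sec 𝔛 h V := ∑ l, c l • fun j => res 𝔛 h i (relVec Pr l j)
  have hw : a - w ∈ jdl h V ^ k • (⊤ : Submodule (FBlowLib.Sec 𝔛 h V) (Pr.generators.I → FBlowLib.Sec 𝔛 h V)) := by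
    refine mem_pow_smul_pi _ fun j => Ideal.pow_le_pow_right (Nat.le_succ k) ?_
    rw [← ((sec_props h hX hV).2 k).2, RingHom.mem_ker, Pi.sub_apply, map_sub, sub_eq_zero]
    refine (congrFun hb j).symm.trans ?_
    simp only [w, Finset.sum_apply, Pi.smul_apply, smul_eq_mul, map_sum, map_mul]
    refine Finset.sum_congr rfl fun l _ => ?_
    rw [hc, proj_res]
  exact Submodule.mem_sup.2 ⟨w, (Submodule.mem_span_range_iff_exists_fun _).2 ⟨c, rfl⟩, a - w, hw,
    add_sub_cancel _ _⟩

include hX hU hM Pr in
set_option maxHeartbeats 1500000 in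
/-- The comparison is an isomorphism over an affine open with a finite presentation. -/
theorem isIso_theta_over : IsIso ((ModSite.restr (𝔛.Osh h) U).map (theta h M)) := by
  have e : ∀ (V : Over U) (j : Pr.generators.I),
      secRes ((ModSite.restr (𝔛.Osh h) U).obj ((downSys h M).realMod h)) (toTop V)
          (secMap ((ModSite.restr (𝔛.Osh h) U).map (theta h M)) (ovTop U) (gens Pr j)) =
        mRes ((downSys h M).realMod h) (leOfHom V.hom) (thGen h M Pr j) := fun V j => rfl
  refine isIso_of_gens_rels (basis_AFF (𝔛 := 𝔛)) Pr _ (fun V hV => ?_) fun V hV a ha => ?_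
  · simp only [e]
    exact span_thGen h hX M hU Pr hM hV (leOfHom V.hom)
  · simp only [e] at ha
    exact rels_thGen h hX M hU Pr hM hV (leOfHom V.hom) a ha

end Local

include hX in
/-- A finitely presented module is the limit of its inverse images to the levels. -/
theorem isIso_theta (hM : FSch.IsCohF 𝔛 h M) : IsIso (theta h M) := by
  refine isIso_of_forall (P := fun V : (𝔛.X 0).Opens => IsAffineOpen V ∧
      ∃ Pr : SheafOfModules.Presentation (M := overMod M V), Pr.IsFinite) ?_ (theta h M) ?_
  · intro W x hx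
    obtain ⟨V, hVW, hxV, hV, hPr⟩ := exists_affine_presentation h M hM x W hx
    exact ⟨V, ⟨hV, hPr⟩, hxV, hVW⟩
  · rintro V ⟨hV, Pr, hPr⟩
    haveI : Finite Pr.generators.I := hPr.isFiniteType_generators.finite
    haveI : Finite Pr.relations.I := hPr.isFiniteType_relations.finite
    haveI := Fintype.ofFinite Pr.generators.I
    haveI := Fintype.ofFinite Pr.relations.I
    haveI := isIso_theta_over h hX M hV Pr hM
    let e := asIso ((ModSite.restr (𝔛.Osh h) V).map (theta h M))
    exact Function.bijective_iff_has_inverse.2 ⟨secMap e.inv (ovTop V),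
      fun x => congrArg (fun φ => secMap φ (ovTop V) x) e.hom_inv_id,
      fun x => congrArg (fun φ => secMap φ (ovTop V) x) e.inv_hom_id⟩

include hX in
/-- Finitely presented modules are compatible with base change on affine opens. -/
theorem isPC_of_isCohF (hM : FSch.IsCohF 𝔛 h M) : IsPC (AFF 𝔛) M :=
  haveI := isIso_theta h hX M hM
  IsPC.of_iso (asIso (theta h M)).symm (isPC_realMod h hX (downSys h M) (isCoh_down h hX M hM))

end Groth.Agent.FModLib
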