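import Groth.Agent.FModLib.QcohSub
import Groth.Agent.FModLib.PullSys
import Groth.Agent.HTop16.HomColim
import Groth.Agent.SiteHom16.Basic

/-!
# The sheaf Hom out of a coherent module on a formal scheme
-/

set_option autoImplicit false
set_option backward.isDefEq.respectTransparency false
set_option backward.isDefEq.respectTransparency.types false
set_option linter.style.haveILetI false
set_option linter.unusedSectionVars false
set_option maxHeartbeats 1000000

universe u v w

open CategoryTheory CategoryTheory.Limits AlgebraicGeometry Opposite TopologicalSpace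
open Groth.Agent.HTop16

attribute [local instance] CategoryTheory.Abelian.hasFiniteBiproducts

namespace Groth.Agent.FModLib

/-- Summands of finite sums of a member. -/
theorem prop_of_sum {A : Type w} [Category.{v} A] [Abelian A] (P : ObjectProperty A) [WSerre.IsWeakSerre P]
    {I : Type} [Fintype I] {X N : A} (a : I → (X ⟶ N)) (p : I → (N ⟶ X)) (h : ∑ i, a i ≫ p i = 𝟙 X)
    (hN : P N) : P X := by
  have hY : P (⨁ fun _ : I => N) :=
    P.prop_of_isLimit (biproduct.isLimit fun _ : I => N) fun _ => hN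
  let i₀ : X ⟶ ⨁ fun _ : I => N := biproduct.lift a
  let p₀ : (⨁ fun _ : I => N) ⟶ X := biproduct.desc p
  have hip : i₀ ≫ p₀ = 𝟙 X := (biproduct.lift_desc).trans h
  haveI : Mono i₀ := mono_of_mono_fac hip
  let e := 𝟙 _ - p₀ ≫ i₀
  have w : i₀ ≫ e = 0 := by
    simp only [e, Preadditive.comp_sub, Category.comp_id, reassoc_of% hip, sub_self]
  have hk : IsLimit (KernelFork.ofι i₀ w) := KernelFork.IsLimit.ofι' i₀ w fun {Z} k hk => ⟨k ≫ p₀, by
    have : k - k ≫ p₀ ≫ i₀ = 0 := by simpa only [e, Preadditive.comp_sub, Category.comp_id] using hk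
    rw [Category.assoc]
    exact (sub_eq_zero.1 this).symm⟩
  exact P.prop_of_iso ((kernelIsKernel e).conePointUniqueUpToIso hk) (P.prop_kernel e hY hY)

section Site

variable {C : Type u} [SmallCategory C] {J : GrothendieckTopology C} {O : Sheaf J CommRingCat.{u}}
  {A : Type w} [Category.{v} A] [Abelian A] (P : ObjectProperty A) [WSerre.IsWeakSerre P]
  (E : ModSite.Mod O ⥤ A) [E.Additive] [PreservesFiniteLimits E]

/-- The sheaf Hom out of a finite free module. -/
theorem prop_sheafHom_free (I : Type u) [Finite I]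
    [ModSite.HasSheafHom (SheafOfModules.free (R := ModSite.ringSh O) I)] (N : ModSite.Mod O) (hN : P (E.obj N)) :
    P (E.obj ((ModSite.sheafHom (SheafOfModules.free (R := ModSite.ringSh O) I)).obj N)) := by
  classical
  haveI := Fintype.ofFinite I
  let M : ModSite.Mod O := SheafOfModules.free (R := ModSite.ringSh O) I
  haveI : ModSite.HasSheafHom (ModSite.unit O) := S6165.result O _
  let e : 𝟭 (ModSite.Mod O) ≅ ModSite.sheafHom (ModSite.unit O) :=
    conjugateIsoEquiv Adjunction.id (ModSite.sheafHomAdj (ModSite.unit O))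
      (SiteTen.tenFlipIso (ModSite.unit O) ≪≫ SiteTen.tenUnitNatIso O)
  let ι' : I → (ModSite.unit O ⟶ M) := fun i => SheafOfModules.ιFree i
  let π' : I → (M ⟶ ModSite.unit O) := fun i => Sigma.desc fun j => if j = i then 𝟙 _ else 0
  have hid : ∑ i, π' i ≫ ι' i = 𝟙 M := by
    refine Cofan.IsColimit.hom_ext (SheafOfModules.isColimitFreeCofan I) _ _ fun j => ?_
    rw [SheafOfModules.freeCofan_inj, Preadditive.comp_sum]
    refine Eq.trans ?_ (Category.comp_id _).symm
    have e' : ∀ i : I, SheafOfModules.ιFree j ≫ π' i ≫ ι' i =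
        if j = i then (SheafOfModules.ιFree (R := ModSite.ringSh O) i) else 0 := fun i => by
      refine (Sigma.ι_desc_assoc _ _ _).trans ?_
      split_ifs with h
      · exact Category.id_comp _
      · exact zero_comp
    refine (Finset.sum_congr rfl fun i _ => e' i).trans ?_
    simp
  have hsum : ∑ i, (ExtSupp.sheafHomMap (ι' i)).app N ≫ (ExtSupp.sheafHomMap (π' i)).app N = 𝟙 _ := by
    let φ : (M ⟶ M) →+ ((ModSite.sheafHom M).obj N ⟶ (ModSite.sheafHom M).obj N) :=
      AddMonoidHom.mk' (fun g => (ExtSupp.sheafHomMap g).app N) fun g g' => HomColim.sheafHomMap_add g g' N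
    refine Eq.trans ?_ ((congrArg φ hid).trans ?_)
    · rw [map_sum]
      exact Finset.sum_congr rfl fun i _ => (NatTrans.congr_app (HomColim.sheafHomMap_comp (ι' i) (π' i)) N).symm
    · exact NatTrans.congr_app HomColim.sheafHomMap_id N
  let q : Fin (Fintype.card I) ≃ I := (Fintype.equivFin I).symm
  refine prop_of_sum P (fun k => E.map ((ExtSupp.sheafHomMap (ι' (q k))).app N ≫ e.inv.app N))
    (fun k => E.map (e.hom.app N ≫ (ExtSupp.sheafHomMap (π' (q k))).app N)) ?_ hN
  simp only [← Functor.map_comp, Category.assoc, Iso.inv_hom_id_app_assoc]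
  rw [← Functor.map_sum, Equiv.sum_comp q (fun i => (ExtSupp.sheafHomMap (ι' i)).app N ≫
    (ExtSupp.sheafHomMap (π' i)).app N), hsum, E.map_id]

/-- The sheaf Hom out of a finitely presented module. -/
theorem prop_sheafHom_of_presentation {F : ModSite.Mod O} [ModSite.HasSheafHom F]
    (Pr : SheafOfModules.Presentation (R := ModSite.ringSh O) F) [Finite Pr.generators.I] [Finite Pr.relations.I]
    (N : ModSite.Mod O) (hN : P (E.obj N)) : P (E.obj ((ModSite.sheafHom F).obj N)) := by
  haveI : ModSite.HasSheafHom (SheafOfModules.free (R := ModSite.ringSh O) Pr.generators.I) := S6165.result _ _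
  haveI : ModSite.HasSheafHom (SheafOfModules.free (R := ModSite.ringSh O) Pr.relations.I) := S6165.result _ _
  haveI := HomColim.preservesZero_tensorBi (O := O)
  let p := Pr.generators.π
  let r : SheafOfModules.free (R := ModSite.ringSh O) Pr.relations.I ⟶
      SheafOfModules.free (R := ModSite.ringSh O) Pr.generators.I :=
    Pr.relations.π ≫ kernel.ι Pr.generators.π
  have w : r ≫ p = 0 := by simp [r, p]
  haveI := Pr.generators.epi
  haveI := Pr.relations.epi
  have hc : IsColimit (CokernelCofork.ofπ p w) :=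
    CokernelCofork.IsColimit.ofπ' p w fun {T} k hk =>
      ⟨Abelian.epiDesc p k (by
        rw [← cancel_epi Pr.relations.π, comp_zero, ← Category.assoc]
        exact hk), Abelian.comp_epiDesc p k _⟩
  haveI : Mono ((ExtSupp.sheafHomMap p).app N) := by
    refine Preadditive.mono_of_cancel_zero _ fun {T} k hk => ?_
    apply ((ModSite.sheafHomAdj F).homEquiv T N).symm.injective
    haveI := SiteTen.preservesFiniteColimits_tenLeft T
    rw [← cancel_epi (((ModSite.tensorBi O).obj T).map p), ← HomColim.homEquiv_symm_comp_sheafHomMap,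
      ← HomColim.homEquiv_symm_comp_sheafHomMap]
    exact congrArg _ (hk.trans zero_comp.symm)
  have hk : IsLimit (KernelFork.ofι ((ExtSupp.sheafHomMap p).app N)
      (HomColim.sheafHomMap_comp_app_eq_zero p r w N)) := by
    refine KernelFork.IsLimit.ofι' _ _ fun {T} k hk => ?_
    haveI := SiteTen.preservesFiniteColimits_tenLeft T
    have hψ : ((ModSite.tensorBi O).obj T).map r ≫
        ((ModSite.sheafHomAdj (SheafOfModules.free (R := ModSite.ringSh O) Pr.generators.I)).homEquiv T N).symm k = 0 := by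
      rw [← HomColim.homEquiv_symm_comp_sheafHomMap]
      refine (congrArg _ hk).trans ?_
      rw [Adjunction.homEquiv_counit, Functor.map_zero, zero_comp]
    have l := CokernelCofork.IsColimit.desc' (CokernelCofork.mapIsColimit _ hc ((ModSite.tensorBi O).obj T)) _ hψ
    refine ⟨(ModSite.sheafHomAdj F).homEquiv T N l.1, ?_⟩
    apply ((ModSite.sheafHomAdj _).homEquiv T N).symm.injective
    rw [HomColim.homEquiv_symm_comp_sheafHomMap, Equiv.symm_apply_apply]
    exact l.2
  have hkE := KernelFork.mapIsLimit _ hk E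
  exact P.prop_of_iso ((kernelIsKernel _).conePointUniqueUpToIso hkE)
    (P.prop_kernel (E.map ((ExtSupp.sheafHomMap r).app N))
      (prop_sheafHom_free P E _ N hN) (prop_sheafHom_free P E _ N hN))

end Site

variable {𝔛 : FSch.Sys.{u}} (h : 𝔛.IsFormal) (hX : 𝔛.IsLocNoethFormal)

include hX in
/-- The sheaf Hom out of a coherent module into a quasi-coherent one is locally in every weak Serre class
that contains the target. -/
theorem prop_toSub_sheafHom (F G : FSch.ModF 𝔛 h) [ModSite.HasSheafHom F] (W : (𝔛.X 0).Opens)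
    (Pr : SheafOfModules.Presentation (M := overMod F (opn h W))) (hPr : Pr.IsFinite)
    (P : ObjectProperty (FSch.ModF (sub h W) (hsub h W))) [WSerre.IsWeakSerre P]
    (hG : P ((toSub h W).obj G)) : P ((toSub h W).obj ((ModSite.sheafHom F).obj G)) := by
  let S := opn h W
  haveI : ModSite.HasSheafHom ((ModSite.restr (𝔛.Osh h) S).obj F) := S6165.result _ _
  let E : ModSite.Mod ((𝔛.Osh h).over S) ⥤ FSch.ModF (sub h W) (hsub h W) := (subEquiv h W).functor
  haveI : E.IsEquivalence :=
    inferInstanceAs ((subEquiv h W).functor.IsEquivalence)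
  haveI : PreservesBinaryBiproducts E := preservesBinaryBiproducts_of_preservesBinaryProducts _
  haveI : E.Additive := Functor.additive_of_preservesBinaryBiproducts _
  haveI := hPr.isFiniteType_generators.finite
  haveI := hPr.isFiniteType_relations.finite
  have h1 := prop_sheafHom_of_presentation P E (F := (ModSite.restr (𝔛.Osh h) S).obj F) Pr
    ((ModSite.restr (𝔛.Osh h) S).obj G) hG
  exact P.prop_of_iso ((E.mapIso ((SiteHom16.restrSheafHomIso S F).app G)).symm) h1

include hX in
theorem isQuasicoherent_sheafHom (F G : FSch.ModF 𝔛 h) (hF : FSch.IsCohF 𝔛 h F) [ModSite.HasSheafHom F]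
    (hG : SheafOfModules.IsQuasicoherent.{u} G) :
    SheafOfModules.IsQuasicoherent.{u} ((ModSite.sheafHom F).obj G) := by
  refine isQuasicoherent_of_indCoh_toSub hX fun x => ?_
  obtain ⟨V, -, hxV, -, hGV⟩ := exists_indCoh_toSub hX hG x (V := ⊤) trivial
  obtain ⟨W, hWV, hxW, hW, Pr, hPr⟩ := exists_affine_presentation h F hF x V hxV
  obtain ⟨Pr', hPr'⟩ := exists_presentation_le h F (lvU_zero_eq h W).le Pr hPr
  refine ⟨W, hW, hxW, ?_⟩
  haveI : CompactSpace ((sub h W).X 0) := by
    haveI : IsAffine ((sub h W).X 0) :=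
      show IsAffineOpen (𝔛.lvU h 0 W) from (lvU_zero_eq h W).symm ▸ hW
    infer_instance
  haveI := isWeakSerre_indCoh (hsub h W) (locNoeth_sub h hX W)
  exact prop_toSub_sheafHom h hX F G W Pr' hPr' _ (hGV W hWV)

include hX in
theorem isCohF_toSub {M : FSch.ModF 𝔛 h} (hM : FSch.IsCohF 𝔛 h M) (x : 𝔛.X 0) {V : (𝔛.X 0).Opens} (hx : x ∈ V) :
    ∃ W : (𝔛.X 0).Opens, IsAffineOpen W ∧ x ∈ W ∧ W ≤ V ∧
      FSch.IsCohF (sub h W) (hsub h W) ((toSub h W).obj M) := by
  obtain ⟨W, hWV, hxW, hW, Pr, hPr⟩ := exists_affine_presentation h M hM x V hx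
  obtain ⟨Pr', hPr'⟩ := exists_presentation_le h M (lvU_zero_eq h W).le Pr hPr
  refine ⟨W, hW, hxW, hWV, ?_⟩
  let Q := Pr'.map (subEquiv h W).functor (subEquivUnit h W).symm
  haveI := Q.generators.epi
  haveI := Q.relations.epi
  haveI := isWeakSerre_isCohF (hsub h W) (locNoeth_sub h hX W)
  have hfree : ∀ I : Type u, Finite I → FSch.IsCohF (sub h W) (hsub h W)
      (SheafOfModules.free I : FSch.ModF (sub h W) (hsub h W)) := fun I _ => by
    classical
    haveI := Fintype.ofFinite I
    let P : ObjectProperty (FSch.ModF (sub h W) (hsub h W)) := fun G => FSch.IsCohF (sub h W) (hsub h W) G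
    let q : Fin (Fintype.card I) ≃ I := (Fintype.equivFin I).symm
    refine prop_of_sum P (N := FSch.unitF (sub h W) (hsub h W))
      (fun k => (Sigma.desc fun j => if j = q k then 𝟙 _ else 0 :
        (SheafOfModules.free I : FSch.ModF (sub h W) (hsub h W)) ⟶ FSch.unitF (sub h W) (hsub h W)))
      (fun k => SheafOfModules.ιFree (q k)) ?_
      ((goodRing (hsub h W) (locNoeth_sub h hX W)).isFinitePresentation
        (isPC_unitF (hsub h W) (locNoeth_sub h hX W)))
    refine Cofan.IsColimit.hom_ext (SheafOfModules.isColimitFreeCofan I) _ _ fun j => ?_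
    rw [SheafOfModules.freeCofan_inj, Preadditive.comp_sum]
    refine Eq.trans ?_ (Category.comp_id _).symm
    have e' : ∀ k, SheafOfModules.ιFree j ≫ ((Sigma.desc fun j' => if j' = q k then 𝟙 _ else 0 :
        (SheafOfModules.free I : FSch.ModF (sub h W) (hsub h W)) ⟶ FSch.unitF (sub h W) (hsub h W)) ≫
          SheafOfModules.ιFree (q k)) =
        if j = q k then (SheafOfModules.ιFree (q k)) else 0 := fun k => by
      refine (Sigma.ι_desc_assoc _ _ _).trans ?_
      split_ifs with h
      · exact Category.id_comp _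
      · exact zero_comp
    refine (Finset.sum_congr rfl fun k _ => e' k).trans ?_
    rw [Equiv.sum_comp q (fun i => if j = i then (SheafOfModules.ιFree i) else 0)]
    simp
  let e := cokernelEpiComp Q.relations.π (kernel.ι Q.generators.π) ≪≫
      (colimit.isColimit _).coconePointUniqueUpToIso
        (Abelian.epiIsCokernelOfKernel _ (limit.isLimit (parallelPair Q.generators.π 0)))
  let P : ObjectProperty (FSch.ModF (sub h W) (hsub h W)) := fun G => FSch.IsCohF (sub h W) (hsub h W) G
  refine P.prop_of_iso e (P.prop_cokernel _ ?_ ?_)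
  · exact hfree _ hPr'.isFiniteType_relations.finite
  · exact hfree _ hPr'.isFiniteType_generators.finite

include hX in
theorem isFiniteType_of_isCohF_toSub {M : FSch.ModF 𝔛 h}
    (hM : ∀ x : 𝔛.X 0, ∃ W : (𝔛.X 0).Opens, IsAffineOpen W ∧ x ∈ W ∧
      FSch.IsCohF (sub h W) (hsub h W) ((toSub h W).obj M)) : SheafOfModules.IsFiniteType.{u} M := by
  choose W hW hxW hc using hM
  have key : ∀ x, ∃ σ : (overMod M (W x)).GeneratingSections, σ.IsFiniteType := fun x => by
    let T := sub h (W x)
    let M' := (toSub h (W x)).obj M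
    have htop := top_affine_sub (h := h) (hW x)
    have hPC := isPC_of_isCohF (hsub h (W x)) (locNoeth_sub h hX (W x)) M' (hc x)
    haveI := hPC.finite ⊤ htop
    obtain ⟨n, g, hg⟩ := Module.Finite.exists_fin
      (R := (T.Osh (hsub h (W x))).obj.obj (op ⊤)) (M := DerCompLib.Sec M' ⊤)
    let π : (SheafOfModules.free (ULift.{u} (Fin n)) : FSch.ModF T (hsub h (W x))) ⟶ M' :=
      M'.freeHomEquiv.symm (fun k => famTop M' (g k.down))
    haveI hπ : Epi π := by
      refine Abelian.epi_of_cokernel_π_eq_zero π ?_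
      refine hom_ext_top (P := AFF T) basis_AFF htop hPC fun y => ?_
      have hy : y ∈ Submodule.span ((T.Osh (hsub h (W x))).obj.obj (op ⊤)) (Set.range g) := hg ▸ Submodule.mem_top
      refine (DerCompLib.secMap (cokernel.π π) ⊤).eqOn_span (g := DerCompLib.secMap 0 ⊤) ?_ hy
      rintro _ ⟨k, rfl⟩
      have h1 := congrFun (congrArg (cokernel π).freeHomEquiv (cokernel.condition π)) ⟨k⟩
      rw [SheafOfModules.freeHomEquiv_comp_apply, Equiv.apply_symm_apply] at h1
      have h2 := congrArg (fun s : (cokernel π).sections => s.1 (op ⊤)) h1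
      refine Eq.trans (congrArg (DerCompLib.secMap (cokernel.π π) ⊤) ?_) (h2.trans ?_)
      · exact (FunctorToTypes.map_id_apply (M'.val.presheaf ⋙ CategoryTheory.forget AddCommGrpCat.{u}) (g k)).symm
      · rfl
    haveI : PreservesColimitsOfSize.{u, u} (subEquiv h (W x)).inverse :=
      (subEquiv h (W x)).symm.toAdjunction.leftAdjoint_preservesColimits
    let σ : M'.GeneratingSections := ⟨ULift.{u} (Fin n), M'.freeHomEquiv π, by
      show Epi (M'.freeHomEquiv.symm (M'.freeHomEquiv π))
      rw [Equiv.symm_apply_apply]; exact hπ⟩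
    let σ' := (σ.map (subEquiv h (W x)).inverse
        ((subEquiv h (W x)).unitIso.app _ ≪≫ (subEquiv h (W x)).inverse.mapIso (subEquivUnit h (W x)))).ofEpi
      ((subEquiv h (W x)).unitIso.inv.app (overMod M (opn h (W x))))
    exact exists_generators_le h (lvU_zero_eq h (W x)).ge σ' ⟨inferInstanceAs (Finite (ULift.{u} (Fin n)))⟩
  choose σ hσ using key
  have hcov : (Opens.grothendieckTopology (𝔛.X 0).toTopCat).CoversTop W := fun V x hx => ?_
  · let D : SheafOfModules.LocalGeneratorsData.{u} M :=
      { I := ↥(𝔛.X 0), X := W, generators := σ, coversTop := hcov }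
    exact { exists_localGeneratorsData := ⟨D, { isFiniteType := fun i => hσ i }⟩ }
  exact ⟨W x ⊓ V, homOfLE inf_le_right, ⟨x, ⟨homOfLE inf_le_left⟩⟩, hxW x, hx⟩

include hX in
theorem isCohF_sheafHom (F G : FSch.ModF 𝔛 h) (hF : FSch.IsCohF 𝔛 h F) [ModSite.HasSheafHom F]
    (hG : FSch.IsCohF 𝔛 h G) : FSch.IsCohF 𝔛 h ((ModSite.sheafHom F).obj G) := by
  refine isCohF_of_qcoh_ft h hX
    (isQuasicoherent_sheafHom h hX F G hF
      (SheafOfModules.IsFinitePresentation.exists_quasicoherentData (M := G) (self := hG)).choose.isQuasicoherent)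
    (isFiniteType_of_isCohF_toSub h hX fun x => ?_)
  obtain ⟨V, hV, hxV, -, -⟩ := isCohF_toSub h hX hG x (V := ⊤) trivial
  obtain ⟨W, hWV, hxW, hW, Pr, hPr⟩ := exists_affine_presentation h F hF x V hxV
  obtain ⟨W', hW', hxW', hW'W, hGW⟩ := isCohF_toSub h hX hG x hxW
  obtain ⟨Pr', hPr'⟩ := exists_presentation_le h F ((lvU_zero_eq h W').le.trans hW'W) Pr hPr
  haveI := isWeakSerre_isCohF (hsub h W') (locNoeth_sub h hX W')
  exact ⟨W', hW', hxW', prop_toSub_sheafHom h hX F G W' Pr' hPr' _ hGW⟩

end Groth.Agent.FModLib
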