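import Groth.Agent.FModLib.Systems

/-!
# The structure sheaf and the ideals of definition are coherent
-/

set_option autoImplicit false
set_option backward.isDefEq.respectTransparency false
set_option linter.style.haveILetI false
set_option linter.unusedSectionVars false

universe u

open CategoryTheory CategoryTheory.Limits AlgebraicGeometry Opposite TopologicalSpace
open Groth.Agent.FBlowLib Groth.Agent.DerCompLib Groth.Agent.Coherent

namespace Groth.Agent.FModLib

variable {𝔛 : FSch.Sys.{u}} (h : 𝔛.IsFormal) (hX : 𝔛.IsLocNoethFormal)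

theorem unitVal_mRes {U V : (𝔛.X 0).Opens} (i : V ≤ U) (x : DerCompLib.Sec (FSch.unitF 𝔛 h) U) :
    unitVal h (mRes (FSch.unitF 𝔛 h) i x) = res 𝔛 h i (unitVal h x) := rfl

include hX in
theorem isPC_unitF : IsPC (AFF 𝔛) (FSch.unitF 𝔛 h) := by
  refine ⟨fun U hU => Module.Finite.equiv (unitVal h).symm, fun U V i hU hV => ?_,
    fun U V i hU hV q s a ha => ?_⟩
  · refine top_unique fun x _ => ?_
    rw [show x = unitVal h x • (mRes (FSch.unitF 𝔛 h) i ((unitVal h).symm 1)) from (unitVal h).injective (by
      rw [map_smul, unitVal_mRes, LinearEquiv.apply_symm_apply, map_one, smul_eq_mul, mul_one])]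
    exact Submodule.smul_mem _ _ (Submodule.subset_span ⟨_, rfl⟩)
  · refine Submodule.span_mono (Set.image_mono fun y hy => ?_)
      ((goodRing h hX).flat U V i hU hV q (fun j => unitVal h (s j)) a ?_)
    · rw [SetLike.mem_coe, mem_relsOf] at hy ⊢
      apply (unitVal h).injective
      rw [map_sum, map_zero]
      refine Eq.trans ?_ hy
      exact Finset.sum_congr rfl fun j _ => map_smul _ _ _
    · have := congrArg (unitVal h) ha
      rw [map_sum, map_zero] at this
      refine (Finset.sum_congr rfl fun j _ => ?_).trans this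
      rw [map_smul, unitVal_mRes]
      rfl

include hX in
/-- A submodule of `O_𝔛` with sections a power of the ideal of definition on affine opens. -/
theorem isPC_of_image (k : ℕ) (K : ModSite.Mod (𝔛.Osh h)) (j : K ⟶ FSch.unitF 𝔛 h)
    (hj : ∀ U, Function.Injective (secMap j U))
    (hmem : ∀ U : (𝔛.X 0).Opens, IsAffineOpen U → ∀ b : FBlowLib.Sec 𝔛 h U,
      b ∈ jdl h U ^ k ↔ ∃ z, unitVal h (secMap j U z) = b) : IsPC (AFF 𝔛) K := by
  refine ⟨fun U hU => ?_, fun U V i hU hV => ?_, fun U V i hU hV q s a ha => ?_⟩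
  · haveI := isNoetherianRing_sec h hX hU
    exact Module.Finite.of_injective ((unitVal h).toLinearMap.comp (secMap j U))
      ((unitVal h).injective.comp (hj U))
  · refine top_unique fun x _ => ?_
    let Φ := (unitVal h).toLinearMap.comp (secMap j V)
    have hΦ : Function.Injective Φ := (unitVal h).injective.comp (hj V)
    have hx : Φ x ∈ (jdl h V) ^ k := (hmem V hV _).2 ⟨x, rfl⟩
    rw [← map_jdl_eq h hX i hU hV, ← Ideal.map_pow] at hx
    have key : (jdl h U ^ k).map (res 𝔛 h i) ≤
        Submodule.map Φ (Submodule.span (FBlowLib.Sec 𝔛 h V) (Set.range (mRes K i))) := by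
      refine Submodule.span_le.2 ?_
      rintro _ ⟨b, hb, rfl⟩
      obtain ⟨z, hz⟩ := (hmem U hU b).1 hb
      refine ⟨mRes K i z, Submodule.subset_span ⟨z, rfl⟩, ?_⟩
      show unitVal h (secMap j V (mRes K i z)) = _
      rw [secMap_mRes, unitVal_mRes, hz]
    obtain ⟨z, hz, hzx⟩ := key hx
    rwa [← hΦ hzx]
  · refine Submodule.span_mono (Set.image_mono fun y hy => ?_)
      ((isPC_unitF h hX).rels U V i hU hV q (fun l => secMap j U (s l)) a ?_)
    · rw [SetLike.mem_coe, mem_relsOf] at hy ⊢
      apply hj U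
      rw [map_sum, map_zero, ← hy]
      exact Finset.sum_congr rfl fun l _ => map_smul _ _ _
    · have := congrArg (secMap j V) ha
      rw [map_sum, map_zero] at this
      refine (Finset.sum_congr rfl fun l _ => ?_).trans this
      rw [map_smul, secMap_mRes]

include hX in
theorem isPC_kernel_toLevel (k : ℕ) : IsPC (AFF 𝔛) (kernel (toLevel h k)) :=
  isPC_of_image h hX (k + 1) _ (kernel.ι (toLevel h k)) (kernel_sec_injective (toLevel h k)) fun U hU b => by
    constructor
    · intro hb
      obtain ⟨z, hz⟩ := exists_kernel_sec (toLevel h k) U ((unitVal h).symm b)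
        (((toLevel_props h hX k hU).2 _).2 (by rwa [LinearEquiv.apply_symm_apply]))
      exact ⟨z, by rw [hz, LinearEquiv.apply_symm_apply]⟩
    · rintro ⟨z, rfl⟩
      exact ((toLevel_props h hX k hU).2 _).1 (kernel_sec_condition (toLevel h k) U z)

include hX in
/-- The kernel of the unit at a level. -/
theorem isPC_kernel_unit (k : ℕ) :
    IsPC (AFF 𝔛) (kernel ((FSch.levelMor 𝔛 h k).adj.unit.app (FSch.unitF 𝔛 h))) := by
  haveI := isIso_adjunct_toLevel h hX k
  let g := (FSch.levelMor 𝔛 h k).push.map (((FSch.levelMor 𝔛 h k).adj.homEquiv _ _).symm (toLevel h k))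
  have e : (FSch.levelMor 𝔛 h k).adj.unit.app (FSch.unitF 𝔛 h) ≫ g = toLevel h k :=
    ((FSch.levelMor 𝔛 h k).adj.homEquiv_unit _ _ _).symm.trans (Equiv.apply_symm_apply _ _)
  exact (isPC_kernel_toLevel h hX k).of_iso ((kernelIsoOfEq e.symm).trans (kernelCompMono _ g))

end Groth.Agent.FModLib
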