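import Groth.Agent.FModLib.LevelLim
import Groth.Agent.FlatMorStrat.QcqsColim
import Groth.Agent.DerCompLib.RestrAdj

/-!
# Affine acyclicity of filtered colimits of coherent modules on formal schemes
-/

set_option autoImplicit false
set_option backward.isDefEq.respectTransparency false
set_option linter.style.haveILetI false
set_option linter.unusedSectionVars false

universe u

open CategoryTheory CategoryTheory.Limits AlgebraicGeometry Opposite TopologicalSpace
open Groth.Agent.FBlowLib Groth.Agent.DerCompLib Groth.Agent.Coherent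

namespace Groth.Agent.FModLib

/-- A functor vanishing on a filtered presentation vanishes on the colimit. -/
theorem subsingleton_obj_of_colimitPresentation {C : Type*} [Category C] {Λ : Type u} [SmallCategory Λ]
    [IsFiltered Λ] (F : C ⥤ AddCommGrpCat.{u}) [PreservesColimitsOfShape Λ F] {X : C}
    (pres : ColimitPresentation Λ X) (hz : ∀ j, Subsingleton (F.obj (pres.diag.obj j))) :
    Subsingleton (F.obj X) := by
  refine subsingleton_of_forall_eq 0 fun x => ?_
  obtain ⟨j, y, rfl⟩ := Concrete.isColimit_exists_rep _ (isColimitOfPreserves F pres.isColimit) x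
  have hy : y = 0 := (hz j).elim _ _
  rw [hy]
  exact map_zero _

/-- The same, for a family of functors evaluated at an object. -/
theorem subsingleton_eval_of_colimitPresentation {C D E : Type*} [Category C] [Category D] [Category E]
    {Λ : Type u} [SmallCategory Λ] [IsFiltered Λ] (F : C ⥤ D) (P : D ⥤ E ⥤ AddCommGrpCat.{u}) (e : E)
    [PreservesColimitsOfShape Λ F] [PreservesColimitsOfShape Λ (P.flip.obj e)] {X : C}
    (pres : ColimitPresentation Λ X) (hz : ∀ j, Subsingleton ((P.obj (F.obj (pres.diag.obj j))).obj e)) :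
    Subsingleton ((P.obj (F.obj X)).obj e) :=
  subsingleton_obj_of_colimitPresentation (F ⋙ P.flip.obj e) pres hz

theorem subsingleton_cohomologyPresheaf_of_colimitPresentation {X : TopCat.{u}} [PrespectralSpace X] [QuasiSeparatedSpace X]
    {C : Type*} [Category C] {Λ : Type u} [SmallCategory Λ] [IsFiltered Λ] (F : C ⥤ CohTop.Ab X)
    [PreservesColimitsOfShape Λ F] {M : C} (pres : ColimitPresentation Λ M) {V : Opens X}
    (hV : IsCompact (V : Set X)) (q : ℕ) (hz : ∀ j, Subsingleton (((Sheaf.cohomologyPresheafFunctor.{u} (Opens.grothendieckTopology X) q).obj (F.obj (pres.diag.obj j))).obj (op V))) :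
    Subsingleton (((Sheaf.cohomologyPresheafFunctor.{u} (Opens.grothendieckTopology X) q).obj (F.obj M)).obj (op V)) := by
  haveI : PreservesColimitsOfShape Λ
      ((Sheaf.cohomologyPresheafFunctor.{u} (Opens.grothendieckTopology X) q).flip.obj (op V)) :=
    FlatMorStrat.preservesFilteredColimits_HAt X hV Λ q
  exact subsingleton_eval_of_colimitPresentation F
    (Sheaf.cohomologyPresheafFunctor.{u} (Opens.grothendieckTopology X) q) (op V) pres hz

theorem subsingleton_obj_of_HU {X : TopCat.{u}} (G : CohTop.Ab X) (V : Opens X) (q : ℕ) (h : Subsingleton (CohTop.HU G q V)) :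
    Subsingleton (((Sheaf.cohomologyPresheafFunctor.{u} (Opens.grothendieckTopology X) q).obj G).obj (op V)) := h

theorem subsingleton_HU_of_obj {X : TopCat.{u}} (G : CohTop.Ab X) (V : Opens X) (q : ℕ)
    (h : Subsingleton (((Sheaf.cohomologyPresheafFunctor.{u} (Opens.grothendieckTopology X) q).obj G).obj (op V))) :
    Subsingleton (CohTop.HU G q V) := h

/-- Cohomology over a compact open of a filtered colimit of sheaves without such cohomology. -/
theorem subsingleton_HU_of_colimitPresentation {X : TopCat.{u}} [PrespectralSpace X] [QuasiSeparatedSpace X]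
    {C : Type*} [Category C] {Λ : Type u} [SmallCategory Λ] [IsFiltered Λ] (F : C ⥤ CohTop.Ab X)
    [PreservesColimitsOfShape Λ F] {M : C} (pres : ColimitPresentation Λ M) {V : Opens X}
    (hV : IsCompact (V : Set X)) (q : ℕ) (hz : ∀ j, Subsingleton (CohTop.HU (F.obj (pres.diag.obj j)) q V)) :
    Subsingleton (CohTop.HU (F.obj M) q V) :=
  subsingleton_HU_of_obj _ V q (subsingleton_cohomologyPresheaf_of_colimitPresentation F pres hV q
    fun j => subsingleton_obj_of_HU _ V q (hz j))

variable {𝔛 : FSch.Sys.{u}} (h : 𝔛.IsFormal) (hX : 𝔛.IsLocNoethFormal)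

include hX in
/-- Coherent modules have no higher cohomology on affine opens. -/
theorem subsingleton_HU_of_isCohF (M : FSch.ModF 𝔛 h) (hM : FSch.IsCohF 𝔛 h M) {V : (𝔛.X 0).Opens}
    (hV : IsAffineOpen V) (n : ℕ) : Subsingleton (CohTop.HU ((abF h).obj M) (n + 1) V) := by
  obtain ⟨e, -⟩ := exists_limit_iso h hX M hM
  have := LimCohLib.subsingleton_HU_limit (downAb h M) _ (𝔛.X 0).isBasis_affineOpens
    (hvan_levelAb h (downSys h M) (isCoh_down h hX M hM))
    (hsurj_levelAb h hX (downSys h M) (isCoh_down h hX M hM)) hV n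
  exact @Equiv.subsingleton _ _ (((Sheaf.cohomologyPresheafFunctor _ (n + 1)).mapIso e).app
    (op V)).addCommGroupIsoToAddEquiv.toEquiv this

include hX in
/-- Filtered colimits of coherent modules have no higher cohomology on affine opens. -/
theorem subsingleton_HU_of_indCohF (M : FSch.ModF 𝔛 h)
    (hM : (ObjectProperty.ind.{u} fun G : FSch.ModF 𝔛 h => FSch.IsCohF 𝔛 h G) M) {V : (𝔛.X 0).Opens}
    (hV : IsAffineOpen V) (n : ℕ) : Subsingleton (CohTop.HU ((abF h).obj M) (n + 1) V) := by
  obtain ⟨Λ, _, _, pres, hc⟩ := hM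
  haveI := hX.2.2 0
  haveI : PrespectralSpace (𝔛.X 0).toTopCat := inferInstanceAs (PrespectralSpace (𝔛.X 0))
  haveI : QuasiSeparatedSpace (𝔛.X 0).toTopCat := inferInstanceAs (QuasiSeparatedSpace (𝔛.X 0))
  haveI : PreservesColimitsOfShape Λ (abF h) := DerCompLib.preservesColimitsOfShape_toSheaf (O := 𝔛.Osh h) Λ
  exact subsingleton_HU_of_colimitPresentation (abF h) pres hV.isCompact (n + 1)
    (fun j => subsingleton_HU_of_isCohF h hX (pres.diag.obj j) (hc j) hV n)

end Groth.Agent.FModLib
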