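import Groth.Agent.FModLib.IndCoh
import Groth.Agent.SiteDer16.SectionsInst
import Mathlib.CategoryTheory.Adjunction.AdjointFunctorTheorems
import Mathlib.CategoryTheory.Abelian.Subobject

/-!
# Colimit preserving functors on ind-coherent modules of a formal scheme are left adjoints

Coherent modules form a set up to isomorphism and separate.
-/

set_option autoImplicit false
set_option backward.isDefEq.respectTransparency false
set_option linter.style.haveILetI false
set_option linter.unusedSectionVars false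

universe u v w

open CategoryTheory CategoryTheory.Limits AlgebraicGeometry Opposite TopologicalSpace
open Groth.Agent.FBlowLib Groth.Agent.DerCompLib Groth.Agent.Coherent

namespace Groth.Agent.FModLib

/-- A full subcategory of a Grothendieck abelian category closed under colimits and with a small separating
set: functors preserving colimits have right adjoints. -/
theorem isLeftAdjoint_of_fullSubcategory {C : Type w} [Category.{u} C] [Abelian C] [IsGrothendieckAbelian.{u} C]
    (A : ObjectProperty C) [hA : ∀ (J : Type u) [SmallCategory J], A.IsClosedUnderColimitsOfShape J]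
    (S : ObjectProperty A.FullSubcategory) [ObjectProperty.EssentiallySmall.{u} S] (hS : S.IsSeparating)
    {D : Type v} [Category.{u} D] (F : A.FullSubcategory ⥤ D) [PreservesColimitsOfSize.{u, u} F] :
    F.IsLeftAdjoint := by
  haveI : HasColimitsOfSize.{u, u} A.FullSubcategory := ⟨fun _ _ => inferInstance⟩
  haveI : PreservesColimitsOfSize.{u, u} A.ι := ⟨fun {_} _ => inferInstance⟩
  haveI : WellPowered.{u} A.FullSubcategoryᵒᵖ := by
    refine ⟨fun M => ?_⟩
    haveI : ∀ {X Y : A.FullSubcategoryᵒᵖ} (f : X ⟶ Y) [Mono f], Mono (A.ι.op.map f) :=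
      fun f _ => (inferInstance : Mono (A.ι.map f.unop).op)
    refine small_of_injective (f := fun T : Subobject M => Subobject.mk (A.ι.op.map T.arrow)) fun T T' h => ?_
    refine Subobject.eq_of_comm (A.ι.op.preimageIso (Subobject.isoOfMkEqMk _ _ h)) ?_
    apply A.ι.op.map_injective
    rw [Functor.map_comp, Functor.preimageIso_hom, Functor.map_preimage]
    exact Subobject.ofMkLEMk_comp h.le
  obtain ⟨Q, hQ, hQle, hle⟩ := ObjectProperty.EssentiallySmall.exists_small_le S
  refine isLeftAdjoint_of_preservesColimits_of_isSeparating (P := Q) ?_ F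
  intro M N f g h
  refine hS f g fun G hG k => ?_
  obtain ⟨G', hG', ⟨i⟩⟩ := hle G hG
  have := h G' hG' (i.inv ≫ k)
  rwa [Category.assoc, Category.assoc, cancel_epi] at this

variable {𝔛 : FSch.Sys.{u}} (h : 𝔛.IsFormal) (hX : 𝔛.IsLocNoethFormal)

include hX in
/-- Coherent modules form a set up to isomorphism. -/
theorem essentiallySmall_cohP : ObjectProperty.EssentiallySmall.{u} (cohP (𝔛 := 𝔛) h) := by
  classical
  let A := {U : (𝔛.X 0).Opens // IsAffineOpen U}
  let B : (A → ℕ) → FSch.ModF 𝔛 h := fun n =>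
    ∐ fun a : Σ U : A, ULift.{u} (Fin (n U)) => (SiteDer16.modFree (𝔛.Osh h)).obj a.1.1
  let E : (Σ n : A → ℕ, Shrink.{u} (Subobject (B n))) → FSch.ModF 𝔛 h := fun a =>
    cokernel ((equivShrink _).symm a.2).arrow
  refine ⟨⟨ObjectProperty.ofObj E, inferInstance, fun G hG => ?_⟩⟩
  have hPC := isPC_of_isCohF h hX G hG
  have hgen : ∀ U : A, ∃ (n : ℕ) (g : Fin n → DerCompLib.Sec G U.1),
      Submodule.span ((𝔛.Osh h).obj.obj (op U.1)) (Set.range g) = ⊤ := fun U => by
    haveI := hPC.finite U.1 U.2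
    exact Module.Finite.exists_fin
  choose n g hg using hgen
  let x : ∀ a : Σ U : A, ULift.{u} (Fin (n U)), (SiteDer16.modFree (𝔛.Osh h)).obj a.1.1 ⟶ G := fun a =>
    (SiteDer16.modHomEquiv₀ (𝔛.Osh h) a.1.1 G).symm (g a.1 a.2.down)
  let π : B n ⟶ G := Sigma.desc x
  haveI : Epi π := by
    refine epi_of_forall basis_AFF π fun V hV => ?_
    rw [← LinearMap.range_eq_top, ← top_le_iff, ← hg ⟨V, hV⟩, Submodule.span_le]
    rintro _ ⟨j, rfl⟩
    let a : Σ U : A, ULift.{u} (Fin (n U)) := ⟨⟨V, hV⟩, ⟨j⟩⟩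
    refine ⟨SiteDer16.modHomEquiv₀ (𝔛.Osh h) V (B n) (Sigma.ι
      (fun a : Σ U : A, ULift.{u} (Fin (n U)) => (SiteDer16.modFree (𝔛.Osh h)).obj a.1.1) a), ?_⟩
    refine (SiteDer16.modHomEquiv₀_postcomp (𝔛.Osh h) _ π).symm.trans ?_
    rw [Sigma.ι_desc]
    exact Equiv.apply_symm_apply _ _
  let S := equivShrink _ (kernelSubobject π)
  exact ⟨E ⟨n, S⟩, ⟨_⟩, ⟨
    (Abelian.epiIsCokernelOfKernel _ (kernelIsKernel π)).coconePointUniqueUpToIso
        (cokernelIsCokernel (kernel.ι π)) ≪≫
      (cokernelEpiComp (kernelSubobjectIso π).hom (kernel.ι π)).symm ≪≫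
      cokernelIsoOfEq (kernelSubobject_arrow π) ≪≫
      eqToIso (congrArg (fun T : Subobject (B n) => cokernel T.arrow) (Equiv.symm_apply_apply (equivShrink _) _)).symm⟩⟩

include hX in
/-- The adjoint functor theorem for ind-coherent modules. -/
theorem isLeftAdjoint_indCoh {D : Type v} [Category.{u} D] (F : (indCoh (𝔛 := 𝔛) h).FullSubcategory ⥤ D)
    [PreservesColimitsOfSize.{u, u} F] : F.IsLeftAdjoint := by
  haveI := fun (J : Type u) [SmallCategory J] => isClosedUnderColimitsOfShape_indCoh h hX J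
  haveI := essentiallySmall_cohP h hX
  let S : ObjectProperty (indCoh (𝔛 := 𝔛) h).FullSubcategory := fun G => cohP h G.obj
  haveI : ObjectProperty.EssentiallySmall.{u} S := by
    obtain ⟨Q, hQ, hQle, hle⟩ := ObjectProperty.EssentiallySmall.exists_small_le.{u} (cohP (𝔛 := 𝔛) h)
    let Q' : ObjectProperty (indCoh (𝔛 := 𝔛) h).FullSubcategory := fun G => Q G.obj
    haveI : ObjectProperty.Small.{u} Q' := small_of_injective (f := fun G : Subtype Q' => (⟨G.1.obj, G.2⟩ : Subtype Q))
      fun G G' e => Subtype.ext (ObjectProperty.FullSubcategory.ext (congrArg (fun z : Subtype Q => z.1) e))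
    refine ⟨⟨Q', inferInstance, fun G hG => ?_⟩⟩
    obtain ⟨G', hG', ⟨i⟩⟩ := hle G.obj hG
    exact ⟨⟨G', (indCoh h).prop_of_iso i G.property⟩, hG', ⟨(indCoh h).isoMk i⟩⟩
  refine isLeftAdjoint_of_fullSubcategory (indCoh h) S ?_ F
  intro M N f g hfg
  refine ObjectProperty.hom_ext _ (sub_eq_zero.1 (IndClass.covered_of_ind (cohP h) M.property _ fun G k hG => ?_))
  rw [Preadditive.comp_sub, sub_eq_zero]
  exact congrArg InducedCategory.Hom.hom
    (hfg ⟨G, ObjectProperty.le_ind _ _ hG⟩ hG (ObjectProperty.homMk k))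

end Groth.Agent.FModLib
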