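import Groth.Agent.FModLib.IndExt
import Groth.Agent.FModLib.GammaBound
import Groth.Agent.FModLib.Ideals

/-!
# Ind-coherent modules on affine formal schemes are the cokernels of maps of free modules
-/

set_option autoImplicit false
set_option backward.isDefEq.respectTransparency false
set_option linter.style.haveILetI false
set_option linter.unusedSectionVars false
set_option maxHeartbeats 1000000

universe u

open CategoryTheory CategoryTheory.Limits AlgebraicGeometry Opposite TopologicalSpace
open Groth.Agent.FBlowLib Groth.Agent.DerCompLib Groth.Agent.Coherent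

namespace Groth.Agent.FModLib

/-- Morphisms out of a module with finite presentation type on a basis are determined by global sections. -/
theorem hom_ext_top {T : TopCat.{u}} {O : Sheaf (Opens.grothendieckTopology T) CommRingCat.{u}}
    {P : Opens T → Prop} (hb : ∀ (U : Opens T) (y : T), y ∈ U → ∃ W : Opens T, P W ∧ y ∈ W ∧ W ≤ U)
    (htop : P ⊤) {G Q : ModSite.Mod O} (hG : IsPC P G) {α β : G ⟶ Q}
    (h : ∀ y : DerCompLib.Sec G ⊤, secMap α ⊤ y = secMap β ⊤ y) : α = β :=
  hom_ext_secMap fun U y => by
    refine sec_ext_basis (P := P) hb _ _ fun W i hW => ?_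
    rw [← secMap_mRes, ← secMap_mRes]
    have hy : mRes G i y ∈ Submodule.span (O.obj.obj (op W)) (Set.range (mRes G (le_top : W ≤ ⊤))) :=
      hG.span ⊤ W le_top htop hW ▸ Submodule.mem_top
    refine Submodule.span_induction (p := fun x _ => secMap α W x = secMap β W x) ?_ ?_ ?_ ?_ hy
    · rintro z ⟨w, rfl⟩
      rw [secMap_mRes, secMap_mRes, h]
    · rw [map_zero, map_zero]
    · exact fun a b _ _ ha hb => by rw [map_add, map_add, ha, hb]
    · exact fun r a _ ha => by rw [map_smul, map_smul, ha]

/-- The global section as a compatible family. -/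
noncomputable def famTop {T : TopCat.{u}} {O : Sheaf (Opens.grothendieckTopology T) CommRingCat.{u}}
    (M : ModSite.Mod O) (y : DerCompLib.Sec M ⊤) : M.sections :=
  PresheafOfModules.sectionsMk (fun U => mRes M (le_top : U.unop ≤ ⊤) y) fun {U V} g => by
    exact (FunctorToTypes.map_comp_apply (M.val.presheaf ⋙ CategoryTheory.forget AddCommGrpCat.{u})
      (homOfLE (le_top : U.unop ≤ ⊤)).op g y).symm

variable {𝔛 : FSch.Sys.{u}} (h : 𝔛.IsFormal) (hX : 𝔛.IsLocNoethFormal)

include hX in
/-- The structure sheaf is coherent. -/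
theorem indCoh_unitF : indCoh h (FSch.unitF 𝔛 h) :=
  ObjectProperty.le_ind _ _ ((goodRing h hX).isFinitePresentation (isPC_unitF h hX))

include hX in
/-- Free modules are filtered colimits of coherent modules. -/
theorem indCoh_free (α : Type u) : indCoh h (SheafOfModules.free α : FSch.ModF 𝔛 h) :=
  ind_sigma h hX (fun _ : α => FSch.unitF 𝔛 h) fun _ => indCoh_unitF h hX

variable (htop : AFF 𝔛 ⊤)

include hX htop in
/-- An ind-coherent module is generated by its global sections. -/
theorem exists_epi_free {M : FSch.ModF 𝔛 h} (hM : indCoh h M) :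
    ∃ (β : Type u) (π : (SheafOfModules.free β : FSch.ModF 𝔛 h) ⟶ M), Epi π := by
  let π : (SheafOfModules.free (DerCompLib.Sec M ⊤) : FSch.ModF 𝔛 h) ⟶ M :=
    M.freeHomEquiv.symm (famTop M)
  refine ⟨_, π, Abelian.epi_of_cokernel_π_eq_zero π ?_⟩
  refine IndClass.covered_of_ind (cohP h) hM _ fun G g hG => ?_
  refine hom_ext_top (P := AFF 𝔛) basis_AFF htop (isPC_of_isCohF h hX _ hG) fun y => ?_
  rw [secMap_comp_apply]
  have h1 := congrFun (congrArg (cokernel π).freeHomEquiv (cokernel.condition π)) (secMap g ⊤ y)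
  rw [SheafOfModules.freeHomEquiv_comp_apply, Equiv.apply_symm_apply] at h1
  have h2 := congrArg (fun s : (cokernel π).sections => s.1 (op ⊤)) h1
  refine Eq.trans (congrArg (secMap (cokernel.π π) ⊤) ?_) h2
  exact (FunctorToTypes.map_id_apply (M.val.presheaf ⋙ CategoryTheory.forget AddCommGrpCat.{u})
    (secMap g ⊤ y)).symm

include hX htop in
/-- Ind-coherent modules on an affine formal scheme are cokernels of maps of free modules. -/
theorem indCoh_iff_exists_cokernel_free (M : FSch.ModF 𝔛 h) :
    indCoh h M ↔ ∃ (α β : Type u) (φ : (SheafOfModules.free α : FSch.ModF 𝔛 h) ⟶ SheafOfModules.free β),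
      Nonempty (cokernel φ ≅ M) := by
  constructor
  · intro hM
    obtain ⟨β, π, hπ⟩ := exists_epi_free h hX htop hM
    obtain ⟨α, ρ, hρ⟩ := exists_epi_free h hX htop (ind_kernel h hX (indCoh_free h hX β) hM π)
    exact ⟨α, β, ρ ≫ kernel.ι π, ⟨cokernelEpiComp ρ (kernel.ι π) ≪≫
      (colimit.isColimit _).coconePointUniqueUpToIso (Abelian.epiIsCokernelOfKernel _ (limit.isLimit _))⟩⟩
  · rintro ⟨α, β, φ, ⟨e⟩⟩
    haveI := closed_indCoh (𝔛 := 𝔛) h
    exact (indCoh h).prop_of_iso e (ind_cokernel h hX (indCoh_free h hX α) (indCoh_free h hX β) φ)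

end Groth.Agent.FModLib
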