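import Groth.Prelude.Def_WeakSerre
import Mathlib.CategoryTheory.Abelian.GrothendieckCategory.Subobject
import Mathlib.CategoryTheory.Abelian.GrothendieckCategory.Coseparator
import Mathlib.CategoryTheory.ObjectProperty.Ind
import Mathlib.CategoryTheory.Limits.Constructions.Filtered

/-!
# Filtered colimits of objects of a weak Serre class in a Grothendieck abelian category

An object is such a colimit as soon as it receives a jointly epimorphic family of morphisms from the class and
kernels of morphisms from the class to it stay in the class.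
-/

set_option autoImplicit false
set_option linter.style.haveILetI false
set_option linter.unusedSectionVars false

universe u w

open CategoryTheory CategoryTheory.Limits

namespace Groth.Agent.FModLib.IndClass

variable {C : Type w} [Category.{u} C] [Abelian C] (P : ObjectProperty C)

/-- Kernels of morphisms from the class to the object are in the class. -/
def KerClosed (F : C) : Prop := ∀ ⦃G : C⦄ (f : G ⟶ F), P G → P (kernel f)

/-- The morphisms from the class to the object are jointly epimorphic. -/
def Covered (F : C) : Prop := ∀ ⦃Q : C⦄ (q : F ⟶ Q), (∀ ⦃G : C⦄ (g : G ⟶ F), P G → g ≫ q = 0) → q = 0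

theorem covered_of_self {F : C} (hF : P F) : Covered P F := fun Q q h => by simpa using h (𝟙 F) hF

theorem Covered.of_epi {F F' : C} (h : Covered P F) (p : F ⟶ F') [Epi p] : Covered P F' := fun Q q hq => by
  refine (cancel_epi p).1 ((h (p ≫ q) fun G g hG => ?_).trans (comp_zero).symm)
  rw [← Category.assoc]
  exact hq _ hG

theorem Covered.of_isColimit {K : Type u} [SmallCategory K] {D : K ⥤ C} {c : Cocone D} (hc : IsColimit c)
    (h : ∀ k, Covered P (D.obj k)) : Covered P c.pt := fun Q q hq => hc.hom_ext fun k => by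
  rw [comp_zero]
  refine h k _ fun G g hG => ?_
  rw [← Category.assoc]
  exact hq _ hG

theorem covered_of_ind {F : C} (hF : ObjectProperty.ind.{u} P F) : Covered P F := by
  obtain ⟨J, _, _, pres, hp⟩ := hF
  exact Covered.of_isColimit P pres.isColimit fun j => covered_of_self P (hp j)

theorem prop_biprod [WSerre.IsWeakSerre P] {X Y : C} (hX : P X) (hY : P Y) : P (X ⊞ Y) :=
  P.prop_X₂_of_shortExact (S := ShortComplex.mk (biprod.inl : X ⟶ X ⊞ Y) biprod.snd biprod.inl_snd)
    (ShortComplex.Splitting.ofHasBinaryBiproduct X Y).shortExact hX hY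

variable [WSerre.IsWeakSerre P]

theorem prop_kernel' {G F : C} {f : G ⟶ F} (hK : KerClosed P F) (hG : P G) : P (kernel f) := hK f hG

theorem prop_image {G F : C} (f : G ⟶ F) (hK : KerClosed P F) (hG : P G) : P (Abelian.image f) :=
  P.prop_of_iso (Abelian.coimageIsoImage f) (P.prop_cokernel (kernel.ι f) (hK f hG) hG)

theorem KerClosed.of_mono {F' F : C} (i : F' ⟶ F) [Mono i] (hF : KerClosed P F) : KerClosed P F' :=
  fun _ f hG => P.prop_of_iso (kernelCompMono f i) (hF _ hG)

theorem kerClosed_of_prop {F : C} (hF : P F) : KerClosed P F := fun _ f hG => P.prop_kernel f hG hF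

theorem KerClosed.biprod {X Y : C} (hX : KerClosed P X) (hY : KerClosed P Y) : KerClosed P (X ⊞ Y) := by
  intro G f hG
  have h1 : P (kernel (f ≫ biprod.fst)) := hX _ hG
  have h2 := hY (kernel.ι (f ≫ biprod.fst) ≫ f ≫ biprod.snd) h1
  let k := kernel.ι (kernel.ι (f ≫ biprod.fst) ≫ f ≫ biprod.snd) ≫ kernel.ι (f ≫ biprod.fst)
  have hk : k ≫ f = 0 := by
    apply biprod.hom_ext
    · simp [k]
    · simp [k]
  let φ : kernel f ⟶ kernel (kernel.ι (f ≫ biprod.fst) ≫ f ≫ biprod.snd) :=
    kernel.lift _ (kernel.lift _ (kernel.ι f) (by simp)) (by simp)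
  have e1 : φ ≫ k = kernel.ι f := by simp [φ, k]
  refine P.prop_of_iso ⟨kernel.lift f k hk, φ, ?_, ?_⟩ h2
  · rw [← cancel_mono (kernel.ι (kernel.ι (f ≫ biprod.fst) ≫ f ≫ biprod.snd)),
      ← cancel_mono (kernel.ι (f ≫ biprod.fst))]
    simp [φ, k]
  · rw [← cancel_mono (kernel.ι f)]
    simp [e1]

/-- Kernels of morphisms into a finite sum. -/
theorem KerClosed.sigma {α : Type u} [Finite α] (X : α → C) [HasCoproduct X] (hX : ∀ a, KerClosed P (X a)) :
    KerClosed P (∐ X) := by
  classical
  cases nonempty_fintype α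
  intro G f hG
  let pr : ∀ a, (∐ X) ⟶ X a := fun a => Sigma.desc fun b => if h : b = a then eqToHom (by rw [h]) else 0
  have key : ∀ t : Finset α, ∃ (K : C) (k : K ⟶ G) (_ : Mono k), P K ∧ (∀ a ∈ t, k ≫ f ≫ pr a = 0) ∧
      ∀ {Z : C} (z : Z ⟶ G), (∀ a ∈ t, z ≫ f ≫ pr a = 0) → ∃ l : Z ⟶ K, l ≫ k = z := by
    intro t
    induction t using Finset.induction with
    | empty => exact ⟨G, 𝟙 G, inferInstance, hG, fun a ha => absurd ha (Finset.notMem_empty a),
        fun z _ => ⟨z, Category.comp_id z⟩⟩
    | @insert a t hat ih =>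
      obtain ⟨K, k, hm, hK, h0, hu⟩ := ih
      refine ⟨kernel (k ≫ f ≫ pr a), kernel.ι _ ≫ k, mono_comp _ _, hX a _ hK, fun b hb => ?_, fun {Z} z hz => ?_⟩
      · rcases Finset.mem_insert.1 hb with rfl | hb
        · simp
        · rw [Category.assoc, h0 b hb, comp_zero]
      · obtain ⟨l, rfl⟩ := hu z fun b hb => hz b (Finset.mem_insert_of_mem hb)
        exact ⟨kernel.lift _ l (by simpa using hz a (Finset.mem_insert_self a t)), by simp⟩
  obtain ⟨K, k, hm, hK, h0, hu⟩ := key Finset.univ
  have hsum : ∑ a, pr a ≫ Sigma.ι X a = 𝟙 (∐ X) := by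
    refine Sigma.hom_ext _ _ fun b => ?_
    rw [Preadditive.comp_sum, Category.comp_id, Finset.sum_eq_single b]
    · simp [pr]
    · intro a _ ha
      simp [pr, Ne.symm ha]
    · simp
  have hk : k ≫ f = 0 := by
    rw [← Category.comp_id f, ← hsum, Preadditive.comp_sum, Preadditive.comp_sum]
    refine Finset.sum_eq_zero fun a _ => ?_
    have := h0 a (Finset.mem_univ a)
    rw [← Category.assoc f, ← Category.assoc, this, zero_comp]
  obtain ⟨l, hl⟩ := hu (kernel.ι f) fun a _ => by rw [← Category.assoc, kernel.condition, zero_comp]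
  refine P.prop_of_iso ⟨kernel.lift f k hk, l, ?_, ?_⟩ hK
  · rw [← cancel_mono k, Category.assoc, hl]
    simp
  · rw [← cancel_mono (kernel.ι f)]
    simp [hl]

theorem fst_comp_eq {Z E A F : C} (p : E ⟶ F) (g : A ⟶ F) (v : Z ⟶ E ⊞ A) (hv : v ≫ biprod.desc p (-g) = 0) :
    (v ≫ biprod.fst) ≫ p = (v ≫ biprod.snd) ≫ g := by
  rw [biprod.desc_eq, Preadditive.comp_add, Preadditive.comp_neg, Preadditive.comp_neg, add_neg_eq_zero] at hv
  simpa using hv

theorem arrow_comp_eq_zero {F I Q : C} (i : I ⟶ F) [Mono i] {A : Subobject F} (hA : A = Subobject.mk i)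
    (q : F ⟶ Q) (h : A.arrow ≫ q = 0) : i ≫ q = 0 := by
  subst hA
  rw [← Subobject.underlyingIso_arrow i, Category.assoc, h, comp_zero]

/-- The cokernel of a morphism from the class to an object keeps kernels in the class. -/
theorem KerClosed.cokernel {A F : C} (g : A ⟶ F) (hA : P A) (hF : KerClosed P F) :
    KerClosed P (cokernel g) := by
  intro H h hH
  let π := cokernel.π g
  let I := Abelian.image g
  have hI : P I := prop_image P g hF hA
  haveI : Epi (pullback.snd π h) := inferInstance
  have hker : P (kernel (pullback.snd π h)) := by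
    let a : kernel (pullback.snd π h) ⟶ I := kernel.lift _ (kernel.ι (pullback.snd π h) ≫ pullback.fst π h) (by
      rw [Category.assoc, pullback.condition, ← Category.assoc, kernel.condition, zero_comp])
    let b : I ⟶ kernel (pullback.snd π h) := kernel.lift _
      (pullback.lift (Abelian.image.ι g) 0 (by simp [π, I])) (pullback.lift_snd _ _ _)
    refine P.prop_of_iso ⟨b, a, ?_, ?_⟩ hI
    · rw [← cancel_mono (kernel.ι (cokernel.π g))]
      simp [a, b, π]
      erw [pullback.lift_fst]
    · rw [← cancel_mono (kernel.ι (pullback.snd π h))]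
      refine pullback.hom_ext ?_ ?_
      · simp [a, b, π]
        erw [pullback.lift_fst]
        simp
      · simp [b]
        erw [pullback.lift_snd]
        simp
  have hE : P (pullback π h) :=
    P.prop_X₂_of_shortExact (S := ShortComplex.mk (kernel.ι (pullback.snd π h)) _ (kernel.condition _))
      { exact := ShortComplex.exact_of_f_is_kernel _ (kernelIsKernel _) } hker hH
  have hKp : P (kernel (pullback.snd π h ≫ h)) := by
    have h1 : P (kernel (biprod.desc (pullback.fst π h) (-g))) := hF _ (prop_biprod P hE hA)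
    let t : kernel (biprod.desc (pullback.fst π h) (-g)) ⟶ kernel (pullback.snd π h ≫ h) :=
      kernel.lift _ (kernel.ι _ ≫ biprod.fst) (by
        have h0 := fst_comp_eq _ g _ (kernel.condition (biprod.desc (pullback.fst π h) (-g)))
        rw [← pullback.condition, ← Category.assoc, h0]
        simp [π])
    haveI : Epi t := by
      refine (epi_iff_surjective_up_to_refinements t).2 fun Z x => ?_
      have hx : (x ≫ kernel.ι _ ≫ pullback.fst π h) ≫ π = 0 := by
        rw [Category.assoc, Category.assoc, pullback.condition, kernel.condition, comp_zero]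
      obtain ⟨Z', q, hq, y, hy⟩ := (ShortComplex.exact_iff_exact_up_to_refinements _).1
        (ShortComplex.exact_of_g_is_cokernel (ShortComplex.mk g π (cokernel.condition g)) (cokernelIsCokernel g))
        (x ≫ kernel.ι _ ≫ pullback.fst π h) hx
      refine ⟨Z', q, hq, kernel.lift _ (biprod.lift (q ≫ x ≫ kernel.ι _) y) (by simp_all), ?_⟩
      rw [← cancel_mono (kernel.ι (pullback.snd π h ≫ h))]
      simp [t]
    exact P.prop_of_iso (asIso (Abelian.image.ι t))
      (prop_image P t (KerClosed.of_mono P (kernel.ι (pullback.snd π h ≫ h)) (kerClosed_of_prop P hE)) h1)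
  let s : kernel (pullback.snd π h ≫ h) ⟶ kernel h := kernel.lift _ (kernel.ι _ ≫ pullback.snd π h) (by
    rw [Category.assoc, kernel.condition])
  haveI : Epi s := by
    refine (epi_iff_surjective_up_to_refinements s).2 fun Z x => ?_
    obtain ⟨Z', q, hq, y, hy⟩ := (epi_iff_surjective_up_to_refinements (pullback.snd π h)).1 inferInstance
      (x ≫ kernel.ι h)
    refine ⟨Z', q, hq, kernel.lift _ y (by rw [← Category.assoc, ← hy]; simp), ?_⟩
    rw [← cancel_mono (kernel.ι h)]
    simp [s, hy]
  have hs : P (Abelian.image s) := prop_image P s (KerClosed.of_mono P (kernel.ι h) (kerClosed_of_prop P hH)) hKp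
  exact P.prop_of_iso (asIso (Abelian.image.ι s)) hs

variable [IsGrothendieckAbelian.{u} C]

/-- A covered object with kernels in the class is a filtered union of subobjects in the class. -/
theorem exists_mono_presentation {F : C} (hF : Covered P F) (hK : KerClosed P F) :
    ∃ (J : Type u) (_ : SmallCategory J) (_ : IsFiltered J) (pres : ColimitPresentation J F),
      (∀ j, P (pres.diag.obj j)) ∧ ∀ j, Mono (pres.ι.app j) := by
  let S := {A : Subobject F // P (A : C)}
  haveI : Small.{u} S := inferInstance
  let J := ULift.{u} (Shrink.{u} S)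
  letI : Preorder J := Preorder.lift fun j => ((equivShrink S).symm j.down).1
  let e : J → Subobject F := fun j => ((equivShrink S).symm j.down).1
  have he : ∀ j, P (e j : C) := fun j => ((equivShrink S).symm j.down).2
  have hmk : ∀ {G : C} (g : G ⟶ F), P G → ∃ j, e j = Subobject.mk (Abelian.image.ι g) := fun {G} g hG =>
    ⟨ULift.up (equivShrink S ⟨Subobject.mk (Abelian.image.ι g),
      P.prop_of_iso (Subobject.underlyingIso _).symm (prop_image P g hK hG)⟩), by simp [e]⟩
  haveI : Nonempty J := by
    obtain ⟨Z, hZ, hPZ⟩ := P.exists_prop_of_containsZero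
    exact ⟨(hmk (0 : Z ⟶ F) hPZ).choose⟩
  haveI : IsDirectedOrder J := ⟨fun a b => by
    obtain ⟨c, hc⟩ := hmk (biprod.desc (e a).arrow (e b).arrow) (prop_biprod P (he a) (he b))
    refine ⟨c, ?_, ?_⟩
    · refine (Subobject.le_of_comm (f := biprod.inl ≫ Abelian.factorThruImage _ ≫
        (Subobject.underlyingIso (Abelian.image.ι (biprod.desc (e a).arrow (e b).arrow))).inv) (by simp)).trans_eq
        hc.symm
    · refine (Subobject.le_of_comm (f := biprod.inr ≫ Abelian.factorThruImage _ ≫
        (Subobject.underlyingIso (Abelian.image.ι (biprod.desc (e a).arrow (e b).arrow))).inv) (by simp)).trans_eq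
        hc.symm⟩
  let mo : Monotone e := fun _ _ h => h
  let Mo : J ⥤ Subobject F := mo.functor
  let Fu : J ⥤ MonoOver F := Mo ⋙ Subobject.representative
  let D := Fu ⋙ MonoOver.forget _ ⋙ Over.forget _
  let c : Cocone D := Cocone.mk F
    { app := fun j => (Fu.obj j).obj.hom
      naturality := fun a b g => (MonoOver.w (Fu.map g)).trans (Category.comp_id _).symm }
  let f := colimit.desc D c
  haveI : Mono f := IsGrothendieckAbelian.mono_of_isColimit_monoOver Fu (colimit.isColimit D) f
    fun j => colimit.ι_desc c j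
  haveI : Epi f := by
    refine Abelian.epi_of_cokernel_π_eq_zero f ?_
    refine hF _ fun G g hG => ?_
    obtain ⟨j, hj⟩ := hmk g hG
    have h1 : (e j).arrow ≫ cokernel.π f = 0 := by
      change c.ι.app j ≫ cokernel.π f = 0
      rw [← colimit.ι_desc c j, Category.assoc, cokernel.condition, comp_zero]
    have h2 : Abelian.image.ι g ≫ cokernel.π f = 0 := arrow_comp_eq_zero _ hj _ h1
    rw [← Abelian.image.fac g, Category.assoc, h2, comp_zero]
  haveI : IsIso f := isIso_of_mono_of_epi f
  refine ⟨J, inferInstance, inferInstance,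
    ⟨D, c.ι, IsColimit.ofIsoColimit (colimit.isColimit D) (Cocone.ext (asIso f) fun j => colimit.ι_desc c j)⟩,
    fun j => he j, fun j => ?_⟩
  exact inferInstanceAs (Mono (Fu.obj j).obj.hom)

theorem ind_of_covered {F : C} (hF : Covered P F) (hK : KerClosed P F) : ObjectProperty.ind.{u} P F := by
  obtain ⟨J, hJ, hJ', pres, hp, -⟩ := exists_mono_presentation P hF hK
  exact ⟨J, hJ, hJ', pres, hp⟩

/-- The kernel of a morphism of covered objects is covered. -/
theorem covered_kernel {F F' : C} (hF : ObjectProperty.ind.{u} P F) (hK : KerClosed P F') (φ : F ⟶ F') :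
    Covered P (kernel φ) := by
  obtain ⟨J, hJ, hJ', pres, hp⟩ := hF
  haveI := IsFiltered.isConnected J
  let α : pres.diag ⟶ (Functor.const J).obj F' := pres.ι ≫ (Functor.const J).map φ
  let S : ShortComplex (J ⥤ C) := ShortComplex.mk (kernel.ι α) α (kernel.condition α)
  have hS : S.Exact := ShortComplex.exact_of_f_is_kernel _ (kernelIsKernel α)
  let g₁ : colimit (kernel α) ⟶ F := colimit.desc _ (Cocone.mk F (kernel.ι α ≫ pres.ι))
  have hg₁ : g₁ ≫ φ = 0 := colimit.hom_ext fun j => by
    simp only [g₁, colimit.ι_desc_assoc, comp_zero]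
    refine (Category.assoc _ _ _).trans ?_
    exact congr_app (kernel.condition α) j
  have hex := colim.exact_mapShortComplex (S := S) hS (colimit.isColimit (kernel α)) (c₂ := pres.cocone)
    pres.isColimit (c₃ := constCocone J F') (isColimitConstCocone J F') g₁ φ
    (fun j => colimit.ι_desc _ j) (fun j => (Category.comp_id (α.app j)).symm)
  haveI : Epi (kernel.lift φ g₁ hg₁) := (ShortComplex.exact_iff_epi_kernel_lift _).1 hex
  refine Covered.of_epi P (Covered.of_isColimit P (colimit.isColimit (kernel α)) fun j => ?_)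
    (kernel.lift φ g₁ hg₁)
  refine covered_of_self P (P.prop_of_iso ?_ (hK (α.app j) (hp j)))
  exact (PreservesKernel.iso ((evaluation J C).obj j) α).symm

end Groth.Agent.FModLib.IndClass
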