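import Groth.Agent.FlatMorStrat.QcqsColim
import Groth.Agent.Coherent.TopCoh
import Groth.Agent.DerCompLib.RestrAdj
import Groth.Agent.FModLib.Site

/-!
# Sections of filtered colimits of modules over compact opens
-/

set_option autoImplicit false
set_option backward.isDefEq.respectTransparency false
set_option linter.style.haveILetI false
set_option linter.unusedSectionVars false
set_option maxHeartbeats 1000000

universe u

open CategoryTheory CategoryTheory.Limits CategoryTheory.Abelian Opposite TopologicalSpace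
open Groth.Agent.DerCompLib Groth.Agent.Coherent

namespace Groth.Agent.FModLib

section Ab

variable {X : TopCat.{u}} [PrespectralSpace X] [QuasiSeparatedSpace X] {C : Type*} [Category C] {Λ : Type u}
  [SmallCategory Λ] [IsFiltered Λ] (F : C ⥤ CohTop.Ab X) [PreservesColimitsOfShape Λ F] {M : C}
  (pres : ColimitPresentation Λ M) {V : Opens X} (hV : IsCompact (V : Set X))

include hV

omit hV in
theorem cohomologyPresheaf_map_app {G H : CohTop.Ab X} (ψ : G ⟶ H) (q : ℕ) (z : Ext (freeSh V) G q) :
    ((Sheaf.cohomologyPresheafFunctor.{u} (Opens.grothendieckTopology X) q).flip.obj (op V)).map ψ z =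
      (z.comp (Ext.mk₀ ψ) (add_zero q) : Ext (freeSh V) H q) := rfl

/-- Sections over a compact open commute with filtered colimits. -/
theorem preservesColimitsOfShape_evaluation :
    PreservesColimitsOfShape Λ
      (sheafToPresheaf (Opens.grothendieckTopology X) AddCommGrpCat.{u} ⋙ (evaluation _ _).obj (op V)) := by
  haveI := FlatMorStrat.preservesFilteredColimits_HAt X hV Λ 0
  refine preservesColimitsOfShape_of_natIso
    (F := (Sheaf.cohomologyPresheafFunctor.{u} (Opens.grothendieckTopology X) 0).flip.obj (op V))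
    (NatIso.ofComponents (fun G => (Ext.addEquiv₀.trans (freeShEquiv V G)).toAddCommGrpIso) fun {G H} ψ => ?_)
  refine AddCommGrpCat.ext fun z => ?_
  obtain ⟨φ, hφ⟩ := Ext.addEquiv₀.symm.surjective (z : Ext (freeSh V) G 0)
  have h1 := cohomologyPresheaf_map_app (V := V) ψ 0 (Ext.mk₀ φ)
  rw [Ext.mk₀_comp_mk₀] at h1
  rw [← hφ]
  refine (congrArg (fun w => freeShEquiv V H (Ext.addEquiv₀ w)) h1).trans ?_
  refine (congrArg (freeShEquiv V H) (Ext.addEquiv₀.apply_symm_apply (φ ≫ ψ))).trans ?_
  exact (freeShEquiv_comp V ψ φ).trans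
    (congrArg (fun w => ψ.hom.app (op V) (freeShEquiv V G w)) (Ext.addEquiv₀.apply_symm_apply φ).symm)

/-- Sections over a compact open of a filtered colimit come from a stage. -/
theorem exists_app_rep (x : (F.obj M).obj.obj (op V)) :
    ∃ (j : Λ) (y : (F.obj (pres.diag.obj j)).obj.obj (op V)), (F.map (pres.ι.app j)).hom.app (op V) y = x :=
  haveI := preservesColimitsOfShape_evaluation (Λ := Λ) hV
  Concrete.isColimit_exists_rep _ (isColimitOfPreserves (F ⋙ sheafToPresheaf _ _ ⋙ (evaluation _ _).obj (op V))
    pres.isColimit) x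

/-- A section at a stage vanishing in a filtered colimit vanishes at a later stage. -/
theorem exists_app_eq_zero {j : Λ} (y : (F.obj (pres.diag.obj j)).obj.obj (op V))
    (hy : (F.map (pres.ι.app j)).hom.app (op V) y = 0) :
    ∃ (k : Λ) (g : j ⟶ k), (F.map (pres.diag.map g)).hom.app (op V) y = 0 := by
  haveI := preservesColimitsOfShape_evaluation (Λ := Λ) hV
  obtain ⟨k, g, g', hg⟩ := (Concrete.isColimit_rep_eq_iff_exists _
    (isColimitOfPreserves (F ⋙ sheafToPresheaf _ _ ⋙ (evaluation _ _).obj (op V)) pres.isColimit) y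
    (0 : (F.obj (pres.diag.obj j)).obj.obj (op V))).1 (hy.trans (map_zero _).symm)
  exact ⟨k, g, hg.trans (map_zero _)⟩

end Ab

variable {T : TopCat.{u}} [PrespectralSpace T] [QuasiSeparatedSpace T]
  {O : Sheaf (Opens.grothendieckTopology T) CommRingCat.{u}} {Λ : Type u} [SmallCategory Λ] [IsFiltered Λ]
  {M : ModSite.Mod O} (pres : ColimitPresentation Λ M) {V : Opens T} (hV : IsCompact (V : Set T))

include hV

/-- Sections of a module colimit come from a stage. -/
theorem exists_sec_rep (x : Sec M V) : ∃ (j : Λ) (y : Sec (pres.diag.obj j) V), secMap (pres.ι.app j) V y = x :=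
  haveI : PreservesColimitsOfShape Λ (SheafOfModules.toSheaf.{u} (ModSite.ringSh O)) :=
    DerCompLib.preservesColimitsOfShape_toSheaf (O := O) Λ
  exists_app_rep (SheafOfModules.toSheaf.{u} (ModSite.ringSh O)) pres hV x

/-- Sections of a module colimit vanish at a stage. -/
theorem exists_sec_eq_zero {j : Λ} (y : Sec (pres.diag.obj j) V) (hy : secMap (pres.ι.app j) V y = 0) :
    ∃ (k : Λ) (g : j ⟶ k), secMap (pres.diag.map g) V y = 0 :=
  haveI : PreservesColimitsOfShape Λ (SheafOfModules.toSheaf.{u} (ModSite.ringSh O)) :=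
    DerCompLib.preservesColimitsOfShape_toSheaf (O := O) Λ
  exists_app_eq_zero (SheafOfModules.toSheaf.{u} (ModSite.ringSh O)) pres hV y hy

end Groth.Agent.FModLib
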