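import Groth.Agent.FModLib.CohSerre
import Groth.Agent.FModLib.SecColim
import Groth.Agent.FModLib.IndClass
import Groth.Agent.DCat.ModulesGrothendieck

/-!
# Filtered colimits of coherent modules on locally Noetherian formal schemes

They are the modules covered by maps from coherent modules whose sections satisfy the relation condition on
affine opens; they are closed under kernels, cokernels and all small colimits.
-/

set_option autoImplicit false
set_option backward.isDefEq.respectTransparency false
set_option linter.style.haveILetI false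
set_option linter.unusedSectionVars false

universe u

open CategoryTheory CategoryTheory.Limits AlgebraicGeometry Opposite TopologicalSpace
open Groth.Agent.FBlowLib Groth.Agent.DerCompLib Groth.Agent.Coherent

namespace Groth.Agent.FModLib

section Generic

variable {T : TopCat.{u}} {O : Sheaf (Opens.grothendieckTopology T) CommRingCat.{u}} {P : Opens T → Prop}

/-- Relations over a member of the basis come from relations over larger members. -/
def HasRels (P : Opens T → Prop) (M : ModSite.Mod O) : Prop :=
  ∀ (U V : Opens T) (i : V ≤ U), P U → P V →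
    ∀ (q : ℕ) (s : Fin q → Sec M U) (a : Fin q → O.obj.obj (op V)),
      ∑ j, a j • mRes M i (s j) = 0 →
        a ∈ Submodule.span (O.obj.obj (op V))
          ((fun y => oRes O i ∘ y) '' (relsOf (O.obj.obj (op U)) s : Set (Fin q → O.obj.obj (op U))))

theorem IsPC.hasRels {M : ModSite.Mod O} (hM : IsPC P M) : HasRels P M := hM.rels

/-- A submodule inherits relations. -/
theorem HasRels.of_mono {M N : ModSite.Mod O} (hN : HasRels P N) (f : M ⟶ N) [Mono f] : HasRels P M := by
  intro U V i hU hV q s a ha
  have h1 := hN U V i hU hV q (fun j => secMap f U (s j)) a (by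
    have := congrArg (secMap f V) ha
    rw [map_sum, map_zero] at this
    refine (Finset.sum_congr rfl fun j _ => ?_).trans this
    rw [map_smul, secMap_mRes])
  refine Submodule.span_mono (Set.image_mono fun y hy => ?_) h1
  rw [SetLike.mem_coe, mem_relsOf] at hy ⊢
  refine injective_of_mono f U ?_
  rw [map_sum, map_zero, ← hy]
  exact Finset.sum_congr rfl fun j _ => map_smul _ _ _

variable [PrespectralSpace T] [QuasiSeparatedSpace T]

/-- A filtered colimit inherits relations over compact members. -/
theorem HasRels.of_colimitPresentation (hP : ∀ U, P U → IsCompact (U : Set T)) {Λ : Type u} [SmallCategory Λ]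
    [IsFiltered Λ] {M : ModSite.Mod O} (pres : ColimitPresentation Λ M)
    (h : ∀ l, HasRels P (pres.diag.obj l)) : HasRels P M := by
  classical
  intro U V i hU hV q s a ha
  choose l y hy using fun j => exists_sec_rep pres (hP U hU) (s j)
  obtain ⟨k, hk⟩ := IsFiltered.sup_objs_exists (Finset.univ.image l)
  let g : ∀ j, l j ⟶ k := fun j => (hk (Finset.mem_image_of_mem l (Finset.mem_univ j))).some
  have hwS : ∀ {a b : Λ} (e : a ⟶ b) (W : Opens T) (x : Sec (pres.diag.obj a) W),
      secMap (pres.ι.app b) W (secMap (pres.diag.map e) W x) = secMap (pres.ι.app a) W x := fun e W x => by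
    rw [← secMap_comp_apply, pres.w]
    rfl
  let z : Fin q → Sec (pres.diag.obj k) U := fun j => secMap (pres.diag.map (g j)) U (y j)
  have hz : secMap (pres.ι.app k) V (∑ j, a j • mRes (pres.diag.obj k) i (z j)) = 0 := by
    rw [map_sum, ← ha]
    refine Finset.sum_congr rfl fun j _ => ?_
    rw [map_smul, secMap_mRes, hwS, hy]
    rfl
  obtain ⟨k', g', hg'⟩ := exists_sec_eq_zero pres (hP V hV) _ hz
  have h1 := h k' U V i hU hV q (fun j => secMap (pres.diag.map g') U (z j)) a (by
    rw [← hg', map_sum]
    exact Finset.sum_congr rfl fun j _ => by rw [map_smul, secMap_mRes])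
  refine Submodule.span_mono (Set.image_mono fun c hc => ?_) h1
  rw [SetLike.mem_coe, mem_relsOf] at hc ⊢
  have h2 := congrArg (secMap (pres.ι.app k') U) hc
  rw [map_sum, map_zero] at h2
  refine (Finset.sum_congr rfl fun j _ => ?_).trans h2
  rw [map_smul, hwS, hwS, hy]

variable (hG : GoodRing O P)
include hG

omit [PrespectralSpace T] [QuasiSeparatedSpace T] in
/-- Kernels of maps from finite modules to modules with the relation condition. -/
theorem GoodRing.isPC_kernel_of_hasRels {M N : ModSite.Mod O} (hM : IsPC P M) (hN : HasRels P N) (f : M ⟶ N) :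
    IsPC P (kernel f) := by
  refine ⟨fun U hU => ?_, fun U V i hU hV => ?_, hM.hasRels.of_mono (kernel.ι f)⟩
  · haveI := hG.noeth U hU
    haveI := hM.finite U hU
    exact Module.Finite.of_injective (secMap (kernel.ι f) U) (kernel_sec_injective f U)
  · haveI := hM.finite U hU
    refine top_unique fun x _ => ?_
    obtain ⟨n, g, hg⟩ := Module.Finite.exists_fin (R := O.obj.obj (op U)) (M := Sec M U)
    have hx : secMap (kernel.ι f) V x ∈ Submodule.span (O.obj.obj (op V))
        (Set.range fun j => mRes M i (g j)) := hM.span_range i hU hV g hg ▸ Submodule.mem_top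
    obtain ⟨a, ha⟩ := (Submodule.mem_span_range_iff_exists_fun _).1 hx
    have h0 : ∑ j, a j • mRes N i (secMap f U (g j)) = 0 := by
      have := congrArg (secMap f V) ha
      rw [kernel_sec_condition, map_sum] at this
      refine (Finset.sum_congr rfl fun j _ => ?_).trans this
      rw [map_smul, secMap_mRes]
    have h1 := hN U V i hU hV n (fun j => secMap f U (g j)) a h0
    let Φ : (Fin n → O.obj.obj (op V)) →ₗ[O.obj.obj (op V)] Sec M V :=
      Fintype.linearCombination (O.obj.obj (op V)) fun j => mRes M i (g j)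
    have h2 := Submodule.mem_map_of_mem (f := Φ) h1
    rw [Submodule.map_span, Fintype.linearCombination_apply, ha] at h2
    have h3 : secMap (kernel.ι f) V x ∈ Submodule.map (secMap (kernel.ι f) V)
        (Submodule.span (O.obj.obj (op V)) (Set.range (mRes (kernel f) i))) := by
      refine Submodule.span_le.2 ?_ h2
      rintro _ ⟨_, ⟨z, hz, rfl⟩, rfl⟩
      obtain ⟨k, hk⟩ := exists_kernel_sec f U (∑ j, z j • g j) (by
        rw [map_sum, ← (mem_relsOf.1 hz : ∑ j, z j • secMap f U (g j) = 0)]
        exact Finset.sum_congr rfl fun j _ => map_smul _ _ _)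
      refine ⟨mRes (kernel f) i k, Submodule.subset_span ⟨k, rfl⟩, ?_⟩
      rw [secMap_mRes, hk, map_sum, Fintype.linearCombination_apply]
      exact Finset.sum_congr rfl fun j _ => mRes_smul i _ _
    obtain ⟨y, hy, hyx⟩ := h3
    rwa [← kernel_sec_injective f V hyx]

end Generic

variable {𝔛 : FSch.Sys.{u}} (h : 𝔛.IsFormal) (hX : 𝔛.IsLocNoethFormal)

/-- Coherent modules. -/
abbrev cohP : ObjectProperty (FSch.ModF 𝔛 h) := fun G : FSch.ModF 𝔛 h => FSch.IsCohF 𝔛 h G

include hX in
theorem weakSerre_cohP : WSerre.IsWeakSerre (cohP h) := isWeakSerre_isCohF h hX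

include hX in
/-- Filtered colimits of modules with relations over affine opens. -/
theorem hasRels_AFF_of_colimitPresentation {Λ : Type u} [SmallCategory Λ] [IsFiltered Λ] {M : FSch.ModF 𝔛 h}
    (pres : ColimitPresentation Λ M) (hr : ∀ l, HasRels (AFF 𝔛) (pres.diag.obj l)) : HasRels (AFF 𝔛) M := by
  haveI := hX.2.2 0
  haveI : PrespectralSpace (𝔛.X 0).toTopCat := inferInstanceAs (PrespectralSpace (𝔛.X 0))
  haveI : QuasiSeparatedSpace (𝔛.X 0).toTopCat := inferInstanceAs (QuasiSeparatedSpace (𝔛.X 0))
  exact HasRels.of_colimitPresentation (fun U hU => hU.isCompact) pres hr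

include hX in
/-- Filtered colimits of coherent modules satisfy the relation condition. -/
theorem hasRels_of_ind {M : FSch.ModF 𝔛 h} (hM : indCoh h M) : HasRels (AFF 𝔛) M := by
  obtain ⟨Λ, _, _, pres, hc⟩ := hM
  exact hasRels_AFF_of_colimitPresentation h hX pres fun l => (isPC_of_isCohF h hX _ (hc l)).hasRels

include hX in
theorem kerClosed_of_hasRels {M : FSch.ModF 𝔛 h} (hM : HasRels (AFF 𝔛) M) :
    IndClass.KerClosed (cohP h) M :=
  fun _ f hG => (goodRing h hX).isFinitePresentation
    ((goodRing h hX).isPC_kernel_of_hasRels (isPC_of_isCohF h hX _ hG) hM f)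

include hX in
theorem kerClosed_of_ind {M : FSch.ModF 𝔛 h} (hM : indCoh h M) : IndClass.KerClosed (cohP h) M :=
  kerClosed_of_hasRels h hX (hasRels_of_ind h hX hM)

include hX in
/-- Covered modules with the relation condition are filtered colimits of coherent modules. -/
theorem ind_of_covered_hasRels {M : FSch.ModF 𝔛 h} (hc : IndClass.Covered (cohP h) M)
    (hr : HasRels (AFF 𝔛) M) : indCoh h M :=
  haveI := weakSerre_cohP h hX
  IndClass.ind_of_covered (cohP h) hc (kerClosed_of_hasRels h hX hr)

include hX in
/-- Coherent submodules exhaust a filtered colimit of coherent modules. -/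
theorem exists_mono_presentation {M : FSch.ModF 𝔛 h} (hM : indCoh h M) :
    ∃ (J : Type u) (_ : SmallCategory J) (_ : IsFiltered J) (pres : ColimitPresentation J M),
      (∀ j : J, FSch.IsCohF 𝔛 h (pres.diag.obj j)) ∧ ∀ j : J, Mono (pres.ι.app j) :=
  haveI := weakSerre_cohP h hX
  IndClass.exists_mono_presentation (cohP h) (IndClass.covered_of_ind (cohP h) hM) (kerClosed_of_ind h hX hM)

include hX in
/-- Kernels. -/
theorem ind_kernel {F F' : FSch.ModF 𝔛 h} (hF : indCoh h F) (hF' : indCoh h F') (φ : F ⟶ F') :
    indCoh h (kernel φ) :=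
  haveI := weakSerre_cohP h hX
  ind_of_covered_hasRels h hX (IndClass.covered_kernel (cohP h) hF (kerClosed_of_ind h hX hF') φ)
    ((hasRels_of_ind h hX hF).of_mono (kernel.ι φ))

include hX in
/-- Cokernels of maps from coherent modules. -/
theorem ind_cokernel_of_coh {A F : FSch.ModF 𝔛 h} (g : A ⟶ F) (hA : FSch.IsCohF 𝔛 h A) (hF : indCoh h F) :
    indCoh h (cokernel g) :=
  haveI := weakSerre_cohP h hX
  IndClass.ind_of_covered (cohP h) ((IndClass.covered_of_ind (cohP h) hF).of_epi (cohP h) (cokernel.π g))
    (IndClass.KerClosed.cokernel (cohP h) g hA (kerClosed_of_ind h hX hF))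

include hX in
/-- Filtered colimits. -/
theorem ind_of_presentation {Λ : Type u} [SmallCategory Λ] [IsFiltered Λ] {M : FSch.ModF 𝔛 h}
    (pres : ColimitPresentation Λ M) (hl : ∀ l, indCoh h (pres.diag.obj l)) : indCoh h M :=
  ind_of_covered_hasRels h hX
    (IndClass.Covered.of_isColimit (cohP h) pres.isColimit fun l => IndClass.covered_of_ind (cohP h) (hl l))
    (hasRels_AFF_of_colimitPresentation h hX pres fun l => hasRels_of_ind h hX (hl l))

include hX in
/-- Cokernels. -/
theorem ind_cokernel {F F' : FSch.ModF 𝔛 h} (hF : indCoh h F) (hF' : indCoh h F') (φ : F ⟶ F') :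
    indCoh h (cokernel φ) := by
  obtain ⟨J, hJ, hJ', pres, hp⟩ := hF
  let D : J ⥤ FSch.ModF 𝔛 h :=
    { obj := fun j => cokernel (pres.ι.app j ≫ φ)
      map := fun {j k} g => cokernel.map _ _ (pres.diag.map g) (𝟙 F') (by
        rw [Category.comp_id, ← Category.assoc, pres.w])
      map_id := fun j => coequalizer.hom_ext (by simp)
      map_comp := fun g g' => coequalizer.hom_ext (by simp) }
  let ι : D ⟶ (Functor.const J).obj (cokernel φ) :=
    { app := fun j => cokernel.desc _ (cokernel.π φ) (by rw [Category.assoc, cokernel.condition, comp_zero])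
      naturality := fun j k g => coequalizer.hom_ext (by simp [D]) }
  haveI : IsConnected J := IsFiltered.isConnected J
  have hπ : ∀ (s : Cocone D) (j k : J), cokernel.π (pres.ι.app j ≫ φ) ≫ s.ι.app j =
      cokernel.π (pres.ι.app k ≫ φ) ≫ s.ι.app k := fun s => by
    refine constant_of_preserves_morphisms (fun j => cokernel.π (pres.ι.app j ≫ φ) ≫ s.ι.app j) fun j k g => ?_
    have hw := s.w g
    simp only [D] at hw
    rw [← hw, ← Category.assoc]
    simp
  let j₀ : J := IsFiltered.nonempty.some
  have hcol : IsColimit (Cocone.mk (cokernel φ) ι) :=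
    { desc := fun s => cokernel.desc φ (cokernel.π (pres.ι.app j₀ ≫ φ) ≫ s.ι.app j₀) (pres.isColimit.hom_ext fun j => by
        rw [comp_zero, hπ s j₀ j]
        exact (Category.assoc _ _ _).symm.trans ((cokernel.condition_assoc _ _).trans zero_comp))
      fac := fun s j => coequalizer.hom_ext (by simp [ι, hπ s j₀ j])
      uniq := fun s m hm => coequalizer.hom_ext (by
        simp only [cokernel.π_desc]
        rw [← hm j₀]
        simp [ι]) }
  exact ind_of_presentation h hX ⟨D, ι, hcol⟩ fun j => ind_cokernel_of_coh h hX _ (hp j) hF'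

include hX in
/-- Coproducts. -/
theorem ind_sigma {α : Type u} (X : α → FSch.ModF 𝔛 h) (hl : ∀ a, indCoh h (X a)) : indCoh h (∐ X) := by
  haveI := weakSerre_cohP h hX
  refine ind_of_presentation h hX
    ⟨_, _, CoproductsFromFiniteFiltered.isColimitFiniteSubproductsCocone X⟩ fun s => ?_
  exact IndClass.ind_of_covered (cohP h)
    (IndClass.Covered.of_isColimit (cohP h) (colimit.isColimit _) fun j => IndClass.covered_of_ind (cohP h) (hl _))
    (IndClass.KerClosed.sigma (cohP h) _ fun j => kerClosed_of_ind h hX (hl _))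

include hX in
/-- Small colimits. -/
theorem isClosedUnderColimitsOfShape_indCoh (J : Type u) [SmallCategory J] :
    (indCoh (𝔛 := 𝔛) h).IsClosedUnderColimitsOfShape J := by
  haveI := closed_indCoh (𝔛 := 𝔛) h
  refine ObjectProperty.IsClosedUnderColimitsOfShape.mk' ?_
  rintro _ ⟨D, hD⟩
  let σ : (∐ fun a : Σ p : J × J, p.1 ⟶ p.2 => D.obj a.1.1) ⟶ ∐ D.obj :=
    Sigma.desc fun a => Sigma.ι D.obj a.1.1 - D.map a.2 ≫ Sigma.ι D.obj a.1.2
  let p : cokernel σ ⟶ colimit D := cokernel.desc σ (Sigma.desc fun j => colimit.ι D j)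
    (Sigma.hom_ext _ _ fun a => by simp [σ, Preadditive.sub_comp])
  let q : colimit D ⟶ cokernel σ := colimit.desc D (Cocone.mk _
    { app := fun j => Sigma.ι D.obj j ≫ cokernel.π σ
      naturality := fun i j g => by
        have h1 : (Sigma.ι D.obj i - D.map g ≫ Sigma.ι D.obj j) ≫ cokernel.π σ = 0 := by
          have h2 : Sigma.ι (fun a : Σ p : J × J, p.1 ⟶ p.2 => D.obj a.1.1) ⟨(i, j), g⟩ ≫ σ =
              Sigma.ι D.obj i - D.map g ≫ Sigma.ι D.obj j := Sigma.ι_desc _ _
          rw [← h2, Category.assoc, cokernel.condition, comp_zero]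
        rw [Preadditive.sub_comp, sub_eq_zero, Category.assoc] at h1
        simp
        exact h1.symm })
  have e : cokernel σ ≅ colimit D :=
    ⟨p, q, coequalizer.hom_ext (Sigma.hom_ext _ _ fun j => by simp [p, q]), colimit.hom_ext fun j => by simp [p, q]⟩
  exact (indCoh h).prop_of_iso e (ind_cokernel h hX (ind_sigma h hX _ fun a => hD _) (ind_sigma h hX _ hD) σ)

end Groth.Agent.FModLib
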