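import Groth.Agent.FModLib.IndCoh
import Groth.Agent.FModLib.HomBasis
import Groth.Agent.FModLib.FormalBound

/-!
# Ind-coherent modules on Noetherian formal schemes are closed under extensions
-/

set_option autoImplicit false
set_option backward.isDefEq.respectTransparency false
set_option linter.style.haveILetI false
set_option linter.unusedSectionVars false
set_option maxHeartbeats 1000000

universe u

open CategoryTheory CategoryTheory.Limits AlgebraicGeometry Opposite TopologicalSpace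
open Groth.Agent.FBlowLib Groth.Agent.DerCompLib Groth.Agent.Coherent

namespace Groth.Agent.FModLib

section Generic

variable {T : TopCat.{u}} {O : Sheaf (Opens.grothendieckTopology T) CommRingCat.{u}} {P : Opens T → Prop}

/-- Relations in an extension. -/
theorem HasRels.extension {S : ShortComplex (ModSite.Mod O)} (hS : S.ShortExact)
    (hsurj : ∀ U, P U → Function.Surjective (secMap S.g U))
    (h₁ : HasRels P S.X₁) (h₃ : HasRels P S.X₃) : HasRels P S.X₂ := by
  haveI := hS.mono_f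
  intro U V i hU hV q s a ha
  have h0 : ∑ j, a j • mRes S.X₃ i (secMap S.g U (s j)) = 0 := by
    have := congrArg (secMap S.g V) ha
    rw [map_sum, map_zero] at this
    refine (Finset.sum_congr rfl fun j _ => ?_).trans this
    rw [map_smul, secMap_mRes]
  obtain ⟨n, c, y, hy⟩ := Submodule.mem_span_set'.1
    (h₃ U V i hU hV q (fun j => secMap S.g U (s j)) a h0)
  choose y' hy' hyy' using fun l => (y l).2
  choose m hm using fun l => exists_sec_of_shortExact hS (∑ j, y' l j • s j) (by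
    rw [map_sum, ← (mem_relsOf.1 (hy' l) : ∑ j, y' l j • secMap S.g U (s j) = 0)]
    exact Finset.sum_congr rfl fun j _ => map_smul _ _ _)
  have hc : ∑ l, c l • mRes S.X₁ i (m l) = 0 := by
    apply injective_of_mono S.f V
    rw [map_sum, map_zero, ← ha]
    calc ∑ l, secMap S.f V (c l • mRes S.X₁ i (m l))
        = ∑ l, ∑ j, (c l * oRes O i (y' l j)) • mRes S.X₂ i (s j) := by
          refine Finset.sum_congr rfl fun l _ => ?_
          rw [map_smul, secMap_mRes, hm, map_sum, Finset.smul_sum]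
          exact Finset.sum_congr rfl fun j _ => by rw [mRes_smul, smul_smul]
      _ = ∑ j, a j • mRes S.X₂ i (s j) := by
          rw [Finset.sum_comm]
          refine Finset.sum_congr rfl fun j _ => ?_
          rw [← Finset.sum_smul, ← hy, Finset.sum_apply]
          refine congrArg (· • _) (Finset.sum_congr rfl fun l _ => ?_)
          rw [Pi.smul_apply, ← hyy' l, smul_eq_mul]
          rfl
  let Φ : (Fin n → O.obj.obj (op V)) →ₗ[O.obj.obj (op V)] (Fin q → O.obj.obj (op V)) :=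
    Fintype.linearCombination (O.obj.obj (op V)) fun l => ((y l : _) : Fin q → O.obj.obj (op V))
  have h2 := Submodule.mem_map_of_mem (f := Φ) (h₁ U V i hU hV n m c hc)
  rw [Submodule.map_span, Fintype.linearCombination_apply, hy] at h2
  refine Submodule.span_mono ?_ h2
  rintro _ ⟨_, ⟨z, hz, rfl⟩, rfl⟩
  refine ⟨∑ l, z l • y' l, ?_, ?_⟩
  · rw [SetLike.mem_coe, mem_relsOf]
    calc ∑ j, (∑ l, z l • y' l) j • s j = ∑ l, z l • ∑ j, y' l j • s j := by
          simp only [Finset.sum_apply, Pi.smul_apply, smul_eq_mul, Finset.sum_smul, Finset.smul_sum,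
            smul_smul]
          exact Finset.sum_comm
      _ = secMap S.f U (∑ l, z l • m l) := by simp only [map_sum, map_smul, hm]
      _ = 0 := by rw [mem_relsOf.1 hz, map_zero]
  · funext j
    simp only [Φ, Fintype.linearCombination_apply, Function.comp_apply, Finset.sum_apply, Pi.smul_apply,
      smul_eq_mul, map_sum, map_mul, ← hyy']

variable {G Q : ModSite.Mod O} {κ : Type*} {V : κ → Opens T} {n : κ → ℕ} (t : ∀ k, Fin (n k) → Sec G (V k))
  (x : ∀ k, Fin (n k) → Sec Q (V k))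

/-- `z` is the value at `y` prescribed by every family of generators. -/
def Prescribed (W : Opens T) (y : Sec G W) (z : Sec Q W) : Prop :=
  ∀ (k : κ) (i : W ≤ V k) (a : Fin (n k) → O.obj.obj (op W)),
    ∑ p, a p • mRes G i (t k p) = y → ∑ p, a p • mRes Q i (x k p) = z

variable (hG : IsPC P G) (hV : ∀ k, P (V k))
  (ht : ∀ k, Submodule.span (O.obj.obj (op (V k))) (Set.range (t k)) = ⊤)
  (hr : ∀ (k : κ) (r : Fin (n k) → O.obj.obj (op (V k))), ∑ p, r p • t k p = 0 → ∑ p, r p • x k p = 0)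

include hG hV ht hr

omit ht in
/-- Generators of the kernel of a family kill the prescribed values on smaller members. -/
theorem sum_eq_zero_of_prescribed {W : Opens T} (hW : P W) (k : κ) (i : W ≤ V k)
    (a : Fin (n k) → O.obj.obj (op W)) (ha : ∑ p, a p • mRes G i (t k p) = 0) :
    ∑ p, a p • mRes Q i (x k p) = 0 := by
  let Φ : (Fin (n k) → O.obj.obj (op W)) →ₗ[O.obj.obj (op W)] Sec Q W :=
    Fintype.linearCombination (O.obj.obj (op W)) fun p => mRes Q i (x k p)
  have h1 := hG.rels (V k) W i (hV k) hW (n k) (t k) a ha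
  have h2 : a ∈ LinearMap.ker Φ := by
    refine Submodule.span_le.2 ?_ h1
    rintro _ ⟨r, hr', rfl⟩
    rw [SetLike.mem_coe, LinearMap.mem_ker, Fintype.linearCombination_apply]
    have h3 := congrArg (mRes Q i) (hr k r (mem_relsOf.1 hr'))
    rw [map_sum, map_zero] at h3
    exact (Finset.sum_congr rfl fun p _ => (mRes_smul i _ _).symm).trans h3
  rw [LinearMap.mem_ker, Fintype.linearCombination_apply] at h2
  exact h2

omit hr in
theorem exists_coeff {W : Opens T} (hW : P W) (k : κ) (i : W ≤ V k) (y : Sec G W) :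
    ∃ a : Fin (n k) → O.obj.obj (op W), ∑ p, a p • mRes G i (t k p) = y :=
  (Submodule.mem_span_range_iff_exists_fun _).1
    ((hG.span_range i (hV k) hW (t k) (ht k)).symm ▸ Submodule.mem_top)

variable (hb : ∀ (U : Opens T) (y : T), y ∈ U → ∃ W : Opens T, P W ∧ y ∈ W ∧ W ≤ U) (hcov : ∀ y : T, ∃ k, y ∈ V k)
  (hov : ∀ (k m : κ) (y : T), y ∈ V k → y ∈ V m → ∃ (W : Opens T) (i : W ≤ V k) (j : W ≤ V m), P W ∧ y ∈ W ∧
    ∀ p, ∃ a : Fin (n k) → O.obj.obj (op W), ∑ q, a q • mRes G i (t k q) = mRes G j (t m p) ∧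
      ∑ q, a q • mRes Q i (x k q) = mRes Q j (x m p))

include hb hov

omit hb hcov hov ht in
theorem prescribed_res {W W' : Opens T} (hW' : P W') (hW : P W) (j : W' ≤ W) (k : κ) (i : W ≤ V k)
    {y : Sec G W} {z : Sec Q W} (a : Fin (n k) → O.obj.obj (op W)) (hy : ∑ p, a p • mRes G i (t k p) = y)
    (hz : ∑ p, a p • mRes Q i (x k p) = z) (b : Fin (n k) → O.obj.obj (op W'))
    (hb' : ∑ p, b p • mRes G (j.trans i) (t k p) = mRes G j y) :
    ∑ p, b p • mRes Q (j.trans i) (x k p) = mRes Q j z := by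
  have h0 := sum_eq_zero_of_prescribed t x hG hV hr hW' k (j.trans i) (fun p => b p - oRes O j (a p)) (by
    simp only [sub_smul, Finset.sum_sub_distrib, hb', ← hy, map_sum, mRes_smul, mRes_mRes, sub_self])
  simp only [sub_smul, Finset.sum_sub_distrib, sub_eq_zero] at h0
  rw [h0, ← hz, map_sum]
  simp only [mRes_smul, mRes_mRes]

omit hcov in
theorem exists_prescribed {W : Opens T} (hW : P W) (hk : ∃ k, W ≤ V k) (y : Sec G W) :
    ∃ z, Prescribed t x W y z := by
  obtain ⟨k₀, i₀⟩ := hk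
  obtain ⟨a₀, ha₀⟩ := exists_coeff t hG hV ht hW k₀ i₀ y
  refine ⟨∑ p, a₀ p • mRes Q i₀ (x k₀ p), fun k i a ha => ?_⟩
  refine sec_ext_basis (P := fun W' => P W' ∧ (¬ W' ≤ W ∨ ∃ (W₀ : Opens T) (i' : W₀ ≤ V k) (j' : W₀ ≤ V k₀),
    P W₀ ∧ W' ≤ W₀ ∧ ∀ p, ∃ c : Fin (n k) → O.obj.obj (op W₀), ∑ q, c q • mRes G i' (t k q) = mRes G j' (t k₀ p) ∧
      ∑ q, c q • mRes Q i' (x k q) = mRes Q j' (x k₀ p))) ?_ _ _ fun W' j ⟨hW', h'⟩ => ?_
  · intro U y hy
    -- the predicate gives a basis below W; outside W it is irrelevant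
    by_cases hyk : y ∈ V k ∧ y ∈ V k₀
    · obtain ⟨W₀, i', j', hW₀, hy₀, hc⟩ := hov k k₀ y hyk.1 hyk.2
      obtain ⟨W', hW', hy', hW'U⟩ := hb (U ⊓ W₀) y ⟨hy, hy₀⟩
      exact ⟨W', ⟨hW', Or.inr ⟨W₀, i', j', hW₀, hW'U.trans inf_le_right, hc⟩⟩, hy', hW'U.trans inf_le_left⟩
    · obtain ⟨W', hW', hy', hW'U⟩ := hb U y hy
      exact ⟨W', ⟨hW', Or.inl fun hle => hyk ⟨i (hle hy'), i₀ (hle hy')⟩⟩, hy', hW'U⟩
  obtain ⟨W₀, i', j', hW₀, hW'₀, hc⟩ := h'.resolve_left (not_not_intro j)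
  choose c hc1 hc2 using hc
  let b : Fin (n k) → O.obj.obj (op W') := fun q => ∑ p, oRes O j (a₀ p) * oRes O hW'₀ (c p q)
  have hb1 : ∀ (N : ModSite.Mod O) (u : Fin (n k) → Sec N (V k)) (v : Fin (n k₀) → Sec N (V k₀)),
      (∀ p, ∑ q, c p q • mRes N i' (u q) = mRes N j' (v p)) →
      ∑ q, b q • mRes N (j.trans i) (u q) = mRes N j (∑ p, a₀ p • mRes N i₀ (v p)) := fun N u v huv => by
    simp only [b, Finset.sum_smul, mul_smul, map_sum, mRes_smul, mRes_mRes]
    rw [Finset.sum_comm]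
    refine Finset.sum_congr rfl fun p _ => ?_
    rw [← Finset.smul_sum]
    refine congrArg (oRes O j (a₀ p) • ·) ?_
    have h := congrArg (mRes N hW'₀) (huv p)
    simp only [map_sum, mRes_smul, mRes_mRes] at h
    exact h
  have hbG : ∑ q, b q • mRes G (j.trans i) (t k q) = mRes G j y := by rw [hb1 G _ _ hc1, ha₀]
  rw [← hb1 Q _ _ hc2]
  exact (prescribed_res t x hG hV hr hW' hW j k i a ha rfl b hbG).symm

include hcov

/-- A morphism with prescribed values on families of generators. -/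
theorem exists_hom_of_prescribed : ∃ φ : G ⟶ Q, ∀ k p, secMap φ (V k) (t k p) = x k p := by
  let P' : Opens T → Prop := fun W => P W ∧ ∃ k, W ≤ V k
  have hb' : ∀ (U : Opens T) (y : T), y ∈ U → ∃ W : Opens T, P' W ∧ y ∈ W ∧ W ≤ U := fun U y hy => by
    obtain ⟨k, hk⟩ := hcov y
    obtain ⟨W, hW, hyW, hWU⟩ := hb (U ⊓ V k) y ⟨hy, hk⟩
    exact ⟨W, ⟨hW, k, hWU.trans inf_le_right⟩, hyW, hWU.trans inf_le_left⟩
  choose z hz using fun (W : Opens T) (hW : P' W) (y : Sec G W) =>
    exists_prescribed t x hG hV ht hr hb hov hW.1 hW.2 y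
  have huniq : ∀ (W : Opens T) (hW : P' W) (y : Sec G W) (z' : Sec Q W), Prescribed t x W y z' → z' = z W hW y :=
    fun W hW y z' hz' => by
    obtain ⟨k, i⟩ := hW.2
    obtain ⟨a, ha⟩ := exists_coeff t hG hV ht hW.1 k i y
    rw [← hz' k i a ha, ← hz W hW y k i a ha]
  let β : ∀ W, P' W → (Sec G W →ₗ[O.obj.obj (op W)] Sec Q W) := fun W hW =>
    { toFun := z W hW
      map_add' := fun y₁ y₂ => by
        obtain ⟨k, i⟩ := hW.2
        obtain ⟨a, ha⟩ := exists_coeff t hG hV ht hW.1 k i y₁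
        obtain ⟨b, hb⟩ := exists_coeff t hG hV ht hW.1 k i y₂
        rw [← hz W hW y₁ k i a ha, ← hz W hW y₂ k i b hb, ← hz W hW _ k i (a + b) (by
          simp only [Pi.add_apply, add_smul, Finset.sum_add_distrib, ha, hb])]
        simp only [Pi.add_apply, add_smul, Finset.sum_add_distrib]
      map_smul' := fun r y₁ => by
        obtain ⟨k, i⟩ := hW.2
        obtain ⟨a, ha⟩ := exists_coeff t hG hV ht hW.1 k i y₁
        rw [← hz W hW y₁ k i a ha, ← hz W hW _ k i (r • a) (by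
          simp only [Pi.smul_apply, smul_eq_mul, mul_smul, ← Finset.smul_sum, ha])]
        simp only [Pi.smul_apply, smul_eq_mul, mul_smul, ← Finset.smul_sum, RingHom.id_apply] }
  obtain ⟨φ, hφ⟩ := exists_hom_of_basis hb' β fun W W' j hW hW' y => by
    obtain ⟨k, i⟩ := hW.2
    obtain ⟨a, ha⟩ := exists_coeff t hG hV ht hW.1 k i y
    obtain ⟨b, hb2⟩ := exists_coeff t hG hV ht hW'.1 k (j.trans i) (mRes G j y)
    show mRes Q j (z W hW y) = z W' hW' (mRes G j y)
    rw [← hz W' hW' _ k (j.trans i) b hb2]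
    exact (prescribed_res t x hG hV hr hW'.1 hW.1 j k i a ha (hz W hW y k i a ha) b hb2).symm
  refine ⟨φ, fun k p => ?_⟩
  rw [hφ (V k) ⟨hV k, k, le_rfl⟩]
  classical
  show z (V k) _ (t k p) = _
  have hid : ∀ (N : ModSite.Mod O) (u : Sec N (V k)), mRes N (le_refl (V k)) u = u := fun N u =>
    ConcreteCategory.congr_hom (N.val.presheaf.map_id (op (V k))) u
  rw [← hz (V k) _ (t k p) k le_rfl (Pi.single p 1) (by
    rw [Finset.sum_eq_single p (fun q _ hq => by rw [Pi.single_eq_of_ne hq, zero_smul])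
      (fun h => absurd (Finset.mem_univ p) h), Pi.single_eq_same, one_smul, hid])]
  rw [Finset.sum_eq_single p (fun q _ hq => by rw [Pi.single_eq_of_ne hq, zero_smul])
    (fun h => absurd (Finset.mem_univ p) h), Pi.single_eq_same, one_smul, hid]

omit hG hV ht hr hb hov hcov in
/-- Morphisms of modules are determined by their maps of sections. -/
theorem hom_ext_secMap {M N : ModSite.Mod O} {α β : M ⟶ N} (h : ∀ (U : Opens T) (y : Sec M U), secMap α U y = secMap β U y) :
    α = β :=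
  SheafOfModules.Hom.ext (PresheafOfModules.hom_ext fun U => ModuleCat.hom_ext (LinearMap.ext fun y => h U.unop y))

end Generic

/-- A splitting modulo a subobject in the class gives a lift by an object in the class. -/
theorem prop_pullback_splitting {C : Type (u + 1)} [Category.{u} C] [Abelian C] (P : ObjectProperty C)
    [WSerre.IsWeakSerre P] {A B G : C} (p : B ⟶ G) (a' : A ⟶ B) (h0 : a' ≫ p = 0) (φ : G ⟶ cokernel a')
    (hsect : φ ≫ cokernel.desc a' p h0 = 𝟙 G) (hA : P (Abelian.image a')) (hG : P G) :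
    ∃ (E : C) (e : E ⟶ G) (b : E ⟶ B), P E ∧ Epi e ∧ b ≫ p = e := by
  let π := cokernel.π a'
  let e := pullback.fst φ π
  have hker : P (kernel e) := by
    let a : kernel e ⟶ Abelian.image a' := kernel.lift _ (kernel.ι e ≫ pullback.snd φ π) (by
      rw [Category.assoc, ← pullback.condition, ← Category.assoc, kernel.condition, zero_comp])
    let b : Abelian.image a' ⟶ kernel e := kernel.lift _
      (pullback.lift 0 (Abelian.image.ι a') (by rw [zero_comp]; exact (kernel.condition _).symm)) (pullback.lift_fst _ _ _)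
    refine P.prop_of_iso ⟨b, a, ?_, ?_⟩ hA
    · rw [← cancel_mono (kernel.ι (cokernel.π a'))]
      simp [a, b, π]
    · rw [← cancel_mono (kernel.ι e)]
      refine pullback.hom_ext ?_ ?_
      · simp [b, e]
      · simp [a, b, e, π]
  refine ⟨pullback φ π, e, pullback.snd φ π, ?_, inferInstance, ?_⟩
  · exact P.prop_X₂_of_shortExact (S := ShortComplex.mk (kernel.ι e) e (kernel.condition e))
      { exact := ShortComplex.exact_of_f_is_kernel _ (kernelIsKernel e) } hker hG
  · calc pullback.snd φ π ≫ p = pullback.snd φ π ≫ π ≫ cokernel.desc a' p h0 := by rw [cokernel.π_desc]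
      _ = e ≫ φ ≫ cokernel.desc a' p h0 := by rw [← Category.assoc, ← pullback.condition, Category.assoc]
      _ = e := by rw [hsect, Category.comp_id]

variable {𝔛 : FSch.Sys.{u}} (h : 𝔛.IsFormal) (hX : 𝔛.IsLocNoethFormal)

include hX in
/-- Sections over affine opens lift along an ind-coherent kernel. -/
theorem surjective_secMap_of_ind (S : ShortComplex (FSch.ModF 𝔛 h)) (hS : S.ShortExact)
    (h₁ : indCoh h S.X₁) (V : (𝔛.X 0).Opens) (hV : IsAffineOpen V) :
    Function.Surjective (secMap S.g V) := by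
  haveI : PreservesFiniteLimits (abF h) :=
    haveI : PreservesLimitsOfSize.{u, u} (abF h) :=
      ⟨fun {T} _ => S6160.preservesLimitsOfShape_toSheaf (ModSite.ringSh (𝔛.Osh h)) T⟩
    PreservesLimitsOfSize.preservesFiniteLimits _
  haveI : PreservesFiniteColimits (abF h) :=
    haveI : PreservesColimitsOfSize.{u, u} (abF h) :=
      ⟨fun {T} _ => DerCompLib.preservesColimitsOfShape_toSheaf (O := 𝔛.Osh h) T⟩
    haveI : PreservesColimitsOfSize.{0, 0} (abF h) := preservesColimitsOfSize_shrink _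
    inferInstance
  exact surjective_app_of_subsingleton (hS.map_of_exact (abF h)) V
    (subsingleton_HU_of_indCohF h hX _ h₁ hV 0)

/-- Finitely many sections come from one stage. -/
theorem exists_stage {T : TopCat.{u}} [PrespectralSpace T] [QuasiSeparatedSpace T]
    {O : Sheaf (Opens.grothendieckTopology T) CommRingCat.{u}} {Λ : Type u} [SmallCategory Λ] [IsFiltered Λ]
    {M : ModSite.Mod O} (pres : ColimitPresentation Λ M) {σ : Type*} [Fintype σ] (U : σ → Opens T)
    (hU : ∀ s, IsCompact (U s : Set T)) (a : ∀ s, DerCompLib.Sec M (U s)) :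
    ∃ j, ∀ s, ∃ y, secMap (pres.ι.app j) (U s) y = a s := by
  classical
  choose l y hy using fun s => exists_sec_rep pres (hU s) (a s)
  obtain ⟨k, hk⟩ := IsFiltered.sup_objs_exists (Finset.univ.image l)
  refine ⟨k, fun s => ?_⟩
  let g : l s ⟶ k := (hk (Finset.mem_image_of_mem l (Finset.mem_univ s))).some
  refine ⟨secMap (pres.diag.map g) (U s) (y s), ?_⟩
  rw [← secMap_comp_apply, pres.w]
  exact hy s

variable [CompactSpace (𝔛.X 0)]

/-- A morphism is the identity when it fixes generators on a cover. -/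
theorem eq_id_of_generators {T : TopCat.{u}} {O : Sheaf (Opens.grothendieckTopology T) CommRingCat.{u}}
    {P : Opens T → Prop} (hb : ∀ (U : Opens T) (y : T), y ∈ U → ∃ W : Opens T, P W ∧ y ∈ W ∧ W ≤ U)
    {G : ModSite.Mod O} (hG : IsPC P G) {κ : Type*} {V : κ → Opens T} (hV : ∀ k, P (V k))
    (hcov : ∀ y : T, ∃ k, y ∈ V k) {n : κ → ℕ} (t : ∀ k, Fin (n k) → DerCompLib.Sec G (V k))
    (ht : ∀ k, Submodule.span (O.obj.obj (op (V k))) (Set.range (t k)) = ⊤) (α : G ⟶ G)
    (hα : ∀ k q, secMap α (V k) (t k q) = t k q) : α = 𝟙 G :=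
  hom_ext_secMap fun U y => by
    refine sec_ext_basis (P := fun W => P W ∧ ∃ k, W ≤ V k) (fun U' z hz => ?_) _ _ fun W i hW => ?_
    · obtain ⟨k, hk⟩ := hcov z
      obtain ⟨W, hW, hzW, hWU⟩ := hb (U' ⊓ V k) z ⟨hz, hk⟩
      exact ⟨W, ⟨hW, k, hWU.trans inf_le_right⟩, hzW, hWU.trans inf_le_left⟩
    · rw [← secMap_mRes, ← secMap_mRes]
      obtain ⟨k, i'⟩ := hW.2
      obtain ⟨c, hc'⟩ := (Submodule.mem_span_range_iff_exists_fun _).1
        ((hG.span_range i' (hV k) hW.1 (t k) (ht k)).symm ▸ Submodule.mem_top :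
          mRes G i y ∈ Submodule.span (O.obj.obj (op W)) (Set.range fun q => mRes G i' (t k q)))
      rw [← hc', map_sum, map_sum]
      refine Finset.sum_congr rfl fun q _ => ?_
      rw [map_smul, map_smul, secMap_mRes, secMap_mRes, hα]
      rfl

include hX in
/-- An extension of a coherent module splits modulo a coherent part of an ind-coherent kernel. -/
theorem exists_splitting (S' : ShortComplex (FSch.ModF 𝔛 h)) (hS' : S'.ShortExact) (h₁ : indCoh h S'.X₁)
    (hG : FSch.IsCohF 𝔛 h S'.X₃) :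
    ∃ (A : FSch.ModF 𝔛 h) (a' : A ⟶ S'.X₂) (_ : FSch.IsCohF 𝔛 h A) (h0 : a' ≫ S'.g = 0)
      (φ : S'.X₃ ⟶ cokernel a'), φ ≫ cokernel.desc a' S'.g h0 = 𝟙 _ := by
  classical
  haveI := hX.2.2 0
  haveI : NoetherianSpace (𝔛.X 0) := by
    haveI : IsNoetherian (𝔛.X 0) := {}
    infer_instance
  haveI : PrespectralSpace (𝔛.X 0).toTopCat := inferInstanceAs (PrespectralSpace (𝔛.X 0))
  haveI : QuasiSeparatedSpace (𝔛.X 0).toTopCat := inferInstanceAs (QuasiSeparatedSpace (𝔛.X 0))
  have hGR := goodRing h hX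
  have hPC := isPC_of_isCohF h hX S'.X₃ hG
  obtain ⟨J, _, _, pres, hc, -⟩ := exists_mono_presentation h hX h₁
  obtain ⟨tF, htF⟩ := CompactSpace.isCompact_univ.elim_finite_subcover
    (fun V : (𝔛.X 0).affineOpens => (V.1 : Set (𝔛.X 0))) (fun V => V.1.2) (fun z _ => by
      obtain ⟨V, hV, hz, -⟩ := Opens.isBasis_iff_nbhd.mp (𝔛.X 0).isBasis_affineOpens (Opens.mem_top z)
      exact Set.mem_iUnion.2 ⟨⟨V, hV⟩, hz⟩)
  let κ := {V : (𝔛.X 0).affineOpens // V ∈ tF}
  let V : κ → (𝔛.X 0).Opens := fun k => k.1.1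
  have hV : ∀ k : κ, AFF 𝔛 (V k) := fun k => k.1.2
  have hcov : ∀ y : 𝔛.X 0, ∃ k : κ, y ∈ V k := fun y => by
    obtain ⟨W, hW, hy⟩ := Set.mem_iUnion₂.1 (htF (Set.mem_univ y))
    exact ⟨⟨W, hW⟩, hy⟩
  choose n t ht using fun k : κ =>
    (haveI := hPC.finite (V k) (hV k); Module.Finite.exists_fin (R := (𝔛.Osh h).obj.obj (op (V k))) (M := DerCompLib.Sec S'.X₃ (V k)))
  choose x hx using fun (k : κ) (q : Fin (n k)) => surjective_secMap_of_ind h hX S' hS' h₁ (V k) (hV k) (t k q)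
  choose L r hr using fun k : κ => (haveI := hGR.noeth (V k) (hV k); Submodule.fg_iff_exists_fin_generating_family.1
    (IsNoetherian.noetherian (relsOf ((𝔛.Osh h).obj.obj (op (V k))) (t k))))
  choose ar har using fun (k : κ) (l : Fin (L k)) => exists_sec_of_shortExact hS' (∑ q, r k l q • x k q) (by
    have h0 : ∑ q, r k l q • t k q = 0 := mem_relsOf.1 (hr k ▸ Submodule.subset_span ⟨l, rfl⟩)
    rw [map_sum, ← h0]
    exact Finset.sum_congr rfl fun q _ => by rw [map_smul, hx])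
  have hfin : ∀ km : κ × κ, ∃ s : Finset (𝔛.X 0).affineOpens, (∀ W ∈ s, W.1 ≤ V km.1 ⊓ V km.2) ∧
      ∀ y ∈ V km.1 ⊓ V km.2, ∃ W ∈ s, y ∈ W.1 := fun km => by
    obtain ⟨s, hs⟩ := (NoetherianSpace.isCompact ((V km.1 ⊓ V km.2 : (𝔛.X 0).Opens) : Set (𝔛.X 0))).elim_finite_subcover
      (fun W : {W : (𝔛.X 0).affineOpens // W.1 ≤ V km.1 ⊓ V km.2} => (W.1.1 : Set (𝔛.X 0))) (fun W => W.1.1.2)
      (fun z hz => by
        obtain ⟨W, hW, hzW, hWle⟩ := Opens.isBasis_iff_nbhd.mp (𝔛.X 0).isBasis_affineOpens hz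
        exact Set.mem_iUnion.2 ⟨⟨⟨W, hW⟩, hWle⟩, hzW⟩)
    refine ⟨s.image Subtype.val, fun W hW => ?_, fun y hy => ?_⟩
    · obtain ⟨W', -, rfl⟩ := Finset.mem_image.1 hW
      exact W'.2
    · obtain ⟨W', hW', hy'⟩ := Set.mem_iUnion₂.1 (hs hy)
      exact ⟨W'.1, Finset.mem_image_of_mem _ hW', hy'⟩
  choose sW hsle hsmem using hfin
  let σ := Σ km : κ × κ, {W : (𝔛.X 0).affineOpens // W ∈ sW km} × Fin (n km.2)
  have hσ : ∀ s : σ, ∃ (i : s.2.1.1.1 ≤ V s.1.1) (i' : s.2.1.1.1 ≤ V s.1.2)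
      (c : Fin (n s.1.1) → (𝔛.Osh h).obj.obj (op s.2.1.1.1)) (a : DerCompLib.Sec S'.X₁ s.2.1.1.1),
      ∑ q, c q • mRes S'.X₃ i (t s.1.1 q) = mRes S'.X₃ i' (t s.1.2 s.2.2) ∧
      secMap S'.f s.2.1.1.1 a = mRes S'.X₂ i' (x s.1.2 s.2.2) - ∑ q, c q • mRes S'.X₂ i (x s.1.1 q) := fun s => by
    have i := (hsle s.1 _ s.2.1.2).trans inf_le_left
    have i' := (hsle s.1 _ s.2.1.2).trans inf_le_right
    obtain ⟨c, hc'⟩ := (Submodule.mem_span_range_iff_exists_fun _).1
      ((hPC.span_range i (hV _) s.2.1.1.2 (t s.1.1) (ht _)).symm ▸ Submodule.mem_top :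
        mRes S'.X₃ i' (t s.1.2 s.2.2) ∈ Submodule.span ((𝔛.Osh h).obj.obj (op s.2.1.1.1)) (Set.range fun q => mRes S'.X₃ i (t s.1.1 q)))
    obtain ⟨a, ha⟩ := exists_sec_of_shortExact hS' (mRes S'.X₂ i' (x s.1.2 s.2.2) - ∑ q, c q • mRes S'.X₂ i (x s.1.1 q)) (by
      rw [map_sub, map_sum, sub_eq_zero, secMap_mRes, hx, ← hc']
      exact Finset.sum_congr rfl fun q _ => by rw [map_smul, secMap_mRes, hx])
    exact ⟨i, i', c, a, hc', ha⟩
  choose iσ iσ' cσ aσ hcσ haσ using hσ
  obtain ⟨j, hj⟩ := exists_stage pres (σ := (Σ k, Fin (L k)) ⊕ σ) (Sum.elim (fun kl => V kl.1) fun s => s.2.1.1.1)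
    (fun s => NoetherianSpace.isCompact _) (fun s => match s with | Sum.inl kl => ar kl.1 kl.2 | Sum.inr s => aσ s)
  let a' : pres.diag.obj j ⟶ S'.X₂ := pres.ι.app j ≫ S'.f
  let π := cokernel.π a'
  let x' : ∀ k, Fin (n k) → DerCompLib.Sec (cokernel a') (V k) := fun k q => secMap π (V k) (x k q)
  have hkill : ∀ (U : (𝔛.X 0).Opens) (a : DerCompLib.Sec S'.X₁ U) (y : DerCompLib.Sec (pres.diag.obj j) U),
      secMap (pres.ι.app j) U y = a → secMap π U (secMap S'.f U a) = 0 := fun U a y hy => by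
    have h1 := congrArg (fun φ => secMap φ U y) (cokernel.condition a')
    exact (congrArg (fun z => secMap π U (secMap S'.f U z)) hy.symm).trans h1
  have hr' : ∀ (k : κ) (r' : Fin (n k) → (𝔛.Osh h).obj.obj (op (V k))),
      ∑ q, r' q • t k q = 0 → ∑ q, r' q • x' k q = 0 := fun k r' h0 => by
    have hmem : r' ∈ Submodule.span ((𝔛.Osh h).obj.obj (op (V k))) (Set.range (r k)) :=
      (hr k).symm ▸ (mem_relsOf.2 h0)
    obtain ⟨c, rfl⟩ := (Submodule.mem_span_range_iff_exists_fun _).1 hmem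
    simp only [x', Finset.sum_apply, Pi.smul_apply, smul_eq_mul, Finset.sum_smul, mul_smul]
    rw [Finset.sum_comm]
    refine Finset.sum_eq_zero fun l _ => ?_
    obtain ⟨y, hy⟩ := hj (Sum.inl ⟨k, l⟩)
    have h1 := hkill (V k) (ar k l) y hy
    rw [har, map_sum] at h1
    rw [← Finset.smul_sum, ← (Finset.sum_congr rfl fun q _ => map_smul (secMap π (V k)) (r k l q) (x k q)), h1, smul_zero]
  have hov : ∀ (k m : κ) (y : 𝔛.X 0), y ∈ V k → y ∈ V m → ∃ (W : (𝔛.X 0).Opens) (i : W ≤ V k) (i' : W ≤ V m),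
      AFF 𝔛 W ∧ y ∈ W ∧ ∀ q₀, ∃ a : Fin (n k) → (𝔛.Osh h).obj.obj (op W),
        ∑ q, a q • mRes S'.X₃ i (t k q) = mRes S'.X₃ i' (t m q₀) ∧
        ∑ q, a q • mRes (cokernel a') i (x' k q) = mRes (cokernel a') i' (x' m q₀) := fun k m y hk hm => by
    obtain ⟨W, hW, hyW⟩ := hsmem (k, m) y ⟨hk, hm⟩
    refine ⟨W.1, (hsle _ _ hW).trans inf_le_left, (hsle _ _ hW).trans inf_le_right, W.2, hyW, fun q₀ => ?_⟩
    let s : σ := ⟨(k, m), ⟨W, hW⟩, q₀⟩
    refine ⟨cσ s, hcσ s, ?_⟩
    obtain ⟨z, hz⟩ := hj (Sum.inr s)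
    have h1 := hkill W.1 (aσ s) z hz
    rw [haσ s, map_sub, sub_eq_zero, map_sum] at h1
    simp only [x']
    rw [← secMap_mRes]
    refine Eq.trans ?_ h1.symm
    exact Finset.sum_congr rfl fun q _ => by rw [map_smul, secMap_mRes]
  obtain ⟨φ, hφ⟩ := exists_hom_of_prescribed t x' hPC hV ht hr' basis_AFF hcov hov
  refine ⟨_, a', hc j, by rw [Category.assoc, S'.zero, comp_zero], φ, ?_⟩
  refine eq_id_of_generators basis_AFF hPC hV hcov t ht _ fun k q => ?_
  rw [secMap_comp_apply, hφ]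
  show secMap _ (V k) (secMap π (V k) (x k q)) = t k q
  rw [← secMap_comp_apply, cokernel.π_desc]
  exact hx k q

include hX in
/-- Maps from coherent modules to the quotient of an extension lift to coherent modules. -/
theorem exists_coh_lift (S : ShortComplex (FSch.ModF 𝔛 h)) (hS : S.ShortExact) (h₁ : indCoh h S.X₁)
    {G : FSch.ModF 𝔛 h} (hG : FSch.IsCohF 𝔛 h G) (g : G ⟶ S.X₃) :
    ∃ (E : FSch.ModF 𝔛 h) (e : E ⟶ G) (b : E ⟶ S.X₂), FSch.IsCohF 𝔛 h E ∧ Epi e ∧ e ≫ g = b ≫ S.g := by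
  haveI := weakSerre_cohP h hX
  haveI := hX.2.2 0
  haveI : NoetherianSpace (𝔛.X 0) := by
    haveI : IsNoetherian (𝔛.X 0) := {}
    infer_instance
  haveI : PrespectralSpace (𝔛.X 0).toTopCat := inferInstanceAs (PrespectralSpace (𝔛.X 0))
  haveI : QuasiSeparatedSpace (𝔛.X 0).toTopCat := inferInstanceAs (QuasiSeparatedSpace (𝔛.X 0))
  have hGR := goodRing h hX
  have hPC := isPC_of_isCohF h hX G hG
  haveI := hS.epi_g
  haveI := hS.mono_f
  let B := pullback S.g g
  let p : B ⟶ G := pullback.snd S.g g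
  let ι' : S.X₁ ⟶ B := pullback.lift S.f 0 (by rw [S.zero, zero_comp])
  haveI : Mono ι' := mono_of_mono_fac (show ι' ≫ pullback.fst S.g g = S.f from pullback.lift_fst _ _ _)
  have hzero : ι' ≫ p = 0 := pullback.lift_snd _ _ _
  let S' : ShortComplex (FSch.ModF 𝔛 h) := ShortComplex.mk ι' p hzero
  have hS' : S'.ShortExact :=
    { exact := ShortComplex.exact_of_f_is_kernel _ (KernelFork.IsLimit.ofι' ι' hzero fun {W} k hk =>
        ⟨hS.fIsKernel.lift (KernelFork.ofι (k ≫ pullback.fst S.g g) (by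
            rw [Category.assoc, pullback.condition, reassoc_of% hk, zero_comp])), by
          refine pullback.hom_ext ?_ ?_
          · rw [Category.assoc, show ι' ≫ pullback.fst S.g g = S.f from pullback.lift_fst _ _ _]
            exact hS.fIsKernel.fac _ WalkingParallelPair.zero
          · exact (Category.assoc _ _ _).trans ((congrArg (_ ≫ ·) hzero).trans (comp_zero.trans hk.symm))⟩)
      mono_f := inferInstanceAs (Mono ι')
      epi_g := inferInstanceAs (Epi (pullback.snd S.g g)) }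
  obtain ⟨A, a', hA, hp0, φ, hsect⟩ := exists_splitting h hX S' hS' h₁ hG
  have hB : IndClass.KerClosed (cohP h) B := kerClosed_of_hasRels h hX (HasRels.extension hS'
    (fun U hU => surjective_secMap_of_ind h hX S' hS' h₁ U hU) (hasRels_of_ind h hX h₁)
      (isPC_of_isCohF h hX G hG).hasRels)
  obtain ⟨E, e, b, hE, he, hbe⟩ := prop_pullback_splitting (cohP h) p a' hp0 φ hsect
    (IndClass.prop_image (cohP h) a' hB hA) hG
  refine ⟨E, e, b ≫ pullback.fst S.g g, hE, he, ?_⟩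
  rw [Category.assoc, pullback.condition, ← Category.assoc]
  exact congrArg (· ≫ g) hbe.symm

include hX in
/-- Extensions. -/
theorem ind_extension (S : ShortComplex (FSch.ModF 𝔛 h)) (hS : S.ShortExact) (h₁ : indCoh h S.X₁)
    (h₃ : indCoh h S.X₃) : indCoh h S.X₂ := by
  refine ind_of_covered_hasRels h hX (fun Q q hq => ?_)
    (HasRels.extension hS (fun U hU => surjective_secMap_of_ind h hX S hS h₁ U hU) (hasRels_of_ind h hX h₁)
      (hasRels_of_ind h hX h₃))
  have h0 : S.f ≫ q = 0 := IndClass.covered_of_ind (cohP h) h₁ _ fun G a hG => by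
    rw [← Category.assoc]
    exact hq _ hG
  let qb : S.X₃ ⟶ Q := hS.gIsCokernel.desc (CokernelCofork.ofπ q h0)
  have hqb : S.g ≫ qb = q := hS.gIsCokernel.fac _ WalkingParallelPair.one
  have h2 : qb = 0 := IndClass.covered_of_ind (cohP h) h₃ _ fun G g hG => by
    obtain ⟨E, e, b, hE, he, heb⟩ := exists_coh_lift h hX S hS h₁ hG g
    rw [← cancel_epi e, comp_zero, ← Category.assoc, heb, Category.assoc, hqb]
    exact hq b hE
  rw [← hqb, h2, comp_zero]

include hX in
/-- Ind-coherent modules form a weak Serre subcategory. -/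
theorem isWeakSerre_indCoh : WSerre.IsWeakSerre (indCoh (𝔛 := 𝔛) h) := by
  haveI := containsZero_indCoh h hX
  haveI := closed_indCoh (𝔛 := 𝔛) h
  haveI : (indCoh (𝔛 := 𝔛) h).IsClosedUnderKernels :=
    ⟨by rintro _ ⟨φ, k, hk, hM, hN⟩
        exact (indCoh h).prop_of_iso ((kernelIsKernel φ).conePointUniqueUpToIso hk) (ind_kernel h hX hM hN φ)⟩
  haveI : (indCoh (𝔛 := 𝔛) h).IsClosedUnderCokernels :=
    ⟨by rintro _ ⟨φ, k, hk, hM, hN⟩
        exact (indCoh h).prop_of_iso ((cokernelIsCokernel φ).coconePointUniqueUpToIso hk) (ind_cokernel h hX hM hN φ)⟩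
  haveI : (indCoh (𝔛 := 𝔛) h).IsClosedUnderExtensions := ⟨fun {S} hS a b => ind_extension h hX S hS a b⟩
  exact {}

end Groth.Agent.FModLib
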