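import Groth.Agent.FModLib.IndAdjoint
import Groth.Agent.DCat.RHomExist
import Groth.Agent.Dual22Lib.AdjBrown
import Mathlib.CategoryTheory.Abelian.Subcategory

/-!
# Ind-coherent modules form a Grothendieck category and their derived category maps to `D(O)` preserving sums
-/

set_option autoImplicit false
set_option backward.isDefEq.respectTransparency false
set_option linter.style.haveILetI false
set_option linter.unusedSectionVars false

universe u v w w'

open CategoryTheory CategoryTheory.Limits

attribute [local instance] HasDerivedCategory.standard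

namespace Groth.Agent.FModLib

/-- A full subcategory closed under colimits with exact inclusion and a small separating set is Grothendieck. -/
theorem isGrothendieckAbelian_fullSubcategory {C : Type w} [Category.{u} C] [Abelian C] [IsGrothendieckAbelian.{u} C]
    (A : ObjectProperty C) [A.ContainsZero] [A.IsClosedUnderKernels] [A.IsClosedUnderCokernels]
    [A.IsClosedUnderFiniteProducts] [PreservesFiniteLimits A.ι]
    [hA : ∀ (J : Type u) [SmallCategory J], A.IsClosedUnderColimitsOfShape J]
    (S : ObjectProperty A.FullSubcategory) [ObjectProperty.EssentiallySmall.{u} S] (hS : S.IsSeparating) :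
    IsGrothendieckAbelian.{u} A.FullSubcategory := by
  haveI : HasColimitsOfSize.{u, u} A.FullSubcategory := ⟨fun _ _ => inferInstance⟩
  haveI : PreservesColimitsOfSize.{u, u} A.ι := ⟨fun {_} _ => inferInstance⟩
  haveI : ReflectsFiniteLimits A.ι := ⟨fun J _ _ => inferInstance⟩
  haveI : HasFilteredColimitsOfSize.{u, u} A.FullSubcategory := ⟨fun _ _ _ => inferInstance⟩
  haveI : AB5OfSize.{u, u} A.FullSubcategory := ⟨fun J _ _ => by
    haveI : HasExactColimitsOfShape J C := AB5OfSize.ofShape J
    exact HasExactColimitsOfShape.domain_of_functor J A.ι⟩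
  haveI : HasSeparator A.FullSubcategory := by
    obtain ⟨Q, hQ, hQle, hle⟩ := ObjectProperty.EssentiallySmall.exists_small_le.{u} S
    let f : Shrink.{u} (Subtype Q) → A.FullSubcategory := fun a => ((equivShrink _).symm a).1
    have hf : (ObjectProperty.ofObj f).IsSeparating := fun M N g g' h => hS g g' fun G hG k => by
      obtain ⟨G', hG', ⟨i⟩⟩ := hle G hG
      have hm : ObjectProperty.ofObj f G' :=
        (congrArg (ObjectProperty.ofObj f) (show f (equivShrink _ ⟨G', hG'⟩) = G' by simp [f])).mp ⟨_⟩
      have := h G' hm (i.inv ≫ k)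
      rwa [Category.assoc, Category.assoc, cancel_epi] at this
    exact ⟨_, hf.isSeparator_coproduct⟩
  exact {}

/-- Functors of derived categories induced by exact sum-preserving functors preserve sums. -/
theorem preservesCoproducts_mapDerivedCategory {A : Type w} [Category.{u} A] [Abelian A]
    [IsGrothendieckAbelian.{u} A] {B : Type w'} [Category.{u} B] [Abelian B] [IsGrothendieckAbelian.{u} B]
    (F : A ⥤ B) [F.Additive] [PreservesFiniteLimits F] [PreservesFiniteColimits F]
    (J : Type u) [PreservesColimitsOfShape (Discrete J) F] :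
    PreservesColimitsOfShape (Discrete J) F.mapDerivedCategory := by
  haveI := DCat.RHomExist.preservesCoproducts_Q (A := B) J
  haveI : PreservesColimitsOfShape (Discrete J) (F.mapHomologicalComplex (ComplexShape.up ℤ)) :=
    ⟨fun {K} => preservesColimit_of_preserves_colimit_cocone (colimit.isColimit K)
      (HomologicalComplex.isColimitOfEval _ _ fun n =>
        isColimitOfPreserves F (isColimitOfPreserves (HomologicalComplex.eval A (ComplexShape.up ℤ) n)
          (colimit.isColimit K)))⟩
  haveI : PreservesColimitsOfShape (Discrete J) (DerivedCategory.Q ⋙ F.mapDerivedCategory) :=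
    preservesColimitsOfShape_of_natIso F.mapDerivedCategoryFactors.symm
  exact DCat.RHomExist.preservesCoproducts_of_fac F.mapDerivedCategory J

open AlgebraicGeometry Groth.Agent.FBlowLib Groth.Agent.DerCompLib Groth.Agent.Coherent

variable {𝔛 : FSch.Sys.{u}} (h : 𝔛.IsFormal) (hX : 𝔛.IsLocNoethFormal)

section

variable [(indCoh (𝔛 := 𝔛) h).ContainsZero] [(indCoh (𝔛 := 𝔛) h).IsClosedUnderKernels]
  [(indCoh (𝔛 := 𝔛) h).IsClosedUnderCokernels] [(indCoh (𝔛 := 𝔛) h).IsClosedUnderFiniteProducts]
  [PreservesFiniteLimits (indCoh (𝔛 := 𝔛) h).ι]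

include hX in
theorem isGrothendieckAbelian_indCoh : IsGrothendieckAbelian.{u} (indCoh (𝔛 := 𝔛) h).FullSubcategory := by
  haveI := fun (J : Type u) [SmallCategory J] => isClosedUnderColimitsOfShape_indCoh h hX J
  haveI := essentiallySmall_cohP h hX
  let S : ObjectProperty (indCoh (𝔛 := 𝔛) h).FullSubcategory := fun G => cohP h G.obj
  haveI : ObjectProperty.EssentiallySmall.{u} S := by
    obtain ⟨Q, hQ, hQle, hle⟩ := ObjectProperty.EssentiallySmall.exists_small_le.{u} (cohP (𝔛 := 𝔛) h)
    let Q' : ObjectProperty (indCoh (𝔛 := 𝔛) h).FullSubcategory := fun G => Q G.obj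
    haveI : ObjectProperty.Small.{u} Q' := small_of_injective (f := fun G : Subtype Q' => (⟨G.1.obj, G.2⟩ : Subtype Q))
      fun G G' e => Subtype.ext (ObjectProperty.FullSubcategory.ext (congrArg (fun z : Subtype Q => z.1) e))
    refine ⟨⟨Q', inferInstance, fun G hG => ?_⟩⟩
    obtain ⟨G', hG', ⟨i⟩⟩ := hle G.obj hG
    exact ⟨⟨G', (indCoh h).prop_of_iso i G.property⟩, hG', ⟨(indCoh h).isoMk i⟩⟩
  refine isGrothendieckAbelian_fullSubcategory (indCoh h) S ?_
  intro M N f g hfg
  refine ObjectProperty.hom_ext _ (sub_eq_zero.1 (IndClass.covered_of_ind (cohP h) M.property _ fun G k hG => ?_))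
  rw [Preadditive.comp_sub, sub_eq_zero]
  exact congrArg InducedCategory.Hom.hom
    (hfg ⟨G, ObjectProperty.le_ind _ _ hG⟩ hG (ObjectProperty.homMk k))

include hX in
theorem preservesCoproducts_indCoh_ι [PreservesFiniteColimits (indCoh (𝔛 := 𝔛) h).ι] (J : Type u) :
    PreservesColimitsOfShape (Discrete J) (indCoh (𝔛 := 𝔛) h).ι.mapDerivedCategory := by
  haveI := fun (J : Type u) [SmallCategory J] => isClosedUnderColimitsOfShape_indCoh h hX J
  haveI := isGrothendieckAbelian_indCoh h hX
  haveI := isClosedUnderColimitsOfShape_indCoh h hX (Discrete J)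
  haveI : HasColimitsOfShape (Discrete J) (FSch.ModF 𝔛 h) := inferInstance
  haveI : PreservesColimitsOfShape (Discrete J) (indCoh (𝔛 := 𝔛) h).ι := inferInstance
  exact preservesCoproducts_mapDerivedCategory _ J

include hX in
theorem isLeftAdjoint_mapDerivedCategory_indCoh [PreservesFiniteColimits (indCoh (𝔛 := 𝔛) h).ι] :
    (indCoh (𝔛 := 𝔛) h).ι.mapDerivedCategory.IsLeftAdjoint := by
  haveI := isGrothendieckAbelian_indCoh h hX
  haveI := fun J => preservesCoproducts_indCoh_ι h hX J
  exact Dual22Lib.isLeftAdjoint_standard _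

end

end Groth.Agent.FModLib
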