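import Groth.Agent.FModLib.IndExt
import Groth.Agent.FModLib.IndAdjoint
import Mathlib.CategoryTheory.Abelian.Subcategory
import Mathlib.CategoryTheory.Abelian.GrothendieckAxioms.Colim
import Mathlib.CategoryTheory.Functor.KanExtension.Pointwise

/-!
# The extension of an exact functor from coherent to ind-coherent modules is exact
-/

set_option autoImplicit false
set_option backward.isDefEq.respectTransparency false
set_option linter.style.haveILetI false
set_option linter.unusedSectionVars false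

universe u v' u'

open CategoryTheory CategoryTheory.Limits

noncomputable section

namespace Groth.Agent.FModLib.IndKan

variable {𝔛 : FSch.Sys.{u}} (h : 𝔛.IsFormal) (hX : 𝔛.IsLocNoethFormal) [CompactSpace (𝔛.X 0)]
  [(cohP (𝔛 := 𝔛) h).ContainsZero] [(cohP (𝔛 := 𝔛) h).IsClosedUnderKernels]
  [(cohP (𝔛 := 𝔛) h).IsClosedUnderCokernels] [(cohP (𝔛 := 𝔛) h).IsClosedUnderFiniteProducts]

/-- The inclusion of coherent into ind-coherent modules. -/
abbrev inc : (cohP (𝔛 := 𝔛) h).FullSubcategory ⥤ (ObjectProperty.ind.{u} (cohP (𝔛 := 𝔛) h)).FullSubcategory :=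
  ObjectProperty.ιOfLE (ObjectProperty.le_ind (cohP (𝔛 := 𝔛) h))

variable {h}

theorem prop_biprod {A B : FSch.ModF 𝔛 h} (hA : cohP h A) (hB : cohP h B) : cohP h (A ⊞ B) :=
  (cohP (𝔛 := 𝔛) h).prop_of_iso (biprod.isoProd A B).symm
    ((cohP (𝔛 := 𝔛) h).prop_limit (pair A B) (by rintro ⟨_ | _⟩ <;> assumption))

/-- Coherent modules over `M`. -/
abbrev CA (M : (ObjectProperty.ind.{u} (cohP (𝔛 := 𝔛) h)).FullSubcategory) := CostructuredArrow (inc h) M

variable {M N : (ObjectProperty.ind.{u} (cohP (𝔛 := 𝔛) h)).FullSubcategory}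

/-- An object over `M`. -/
def mkOver {A : FSch.ModF 𝔛 h} (hA : cohP h A) (a : A ⟶ M.obj) : CA M :=
  CostructuredArrow.mk (Y := (⟨A, hA⟩ : (cohP (𝔛 := 𝔛) h).FullSubcategory)) (ObjectProperty.homMk a)

/-- The underlying map. -/
abbrev arr (x : CA M) : x.left.obj ⟶ M.obj := x.hom.hom

theorem w_obj {x y : CA M} (s : x ⟶ y) : s.left.hom ≫ arr y = arr x := congrArg InducedCategory.Hom.hom (CostructuredArrow.w s)

/-- A map over `M`. -/
def homOver {x y : CA M} (s : x.left.obj ⟶ y.left.obj) (w : s ≫ arr y = arr x) : x ⟶ y :=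
  CostructuredArrow.homMk (ObjectProperty.homMk s) (ObjectProperty.hom_ext _ w)

theorem hom_ext_obj {x y : CA M} {s t : x ⟶ y} (e : s.left.hom = t.left.hom) : s = t :=
  CostructuredArrow.hom_ext _ _ (ObjectProperty.hom_ext _ e)

instance isFilteredOrEmpty (M : (ObjectProperty.ind.{u} (cohP (𝔛 := 𝔛) h)).FullSubcategory) :
    IsFilteredOrEmpty (CA M) where
  cocone_objs x y := ⟨mkOver (prop_biprod x.left.property y.left.property) (biprod.desc (arr x) (arr y)),
    homOver biprod.inl (biprod.inl_desc _ _), homOver biprod.inr (biprod.inr_desc _ _), trivial⟩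
  cocone_maps x y s t := ⟨mkOver ((cohP (𝔛 := 𝔛) h).prop_cokernel (s.left.hom - t.left.hom) x.left.property y.left.property)
      (cokernel.desc _ (arr y) (by rw [Preadditive.sub_comp, w_obj, w_obj, sub_self])),
    homOver (cokernel.π _) (cokernel.π_desc _ _ _), hom_ext_obj (by
      show s.left.hom ≫ cokernel.π _ = t.left.hom ≫ cokernel.π _
      rw [← sub_eq_zero, ← Preadditive.sub_comp]
      exact cokernel.condition _)⟩

instance isFiltered (M : (ObjectProperty.ind.{u} (cohP (𝔛 := 𝔛) h)).FullSubcategory) : IsFiltered (CA M) where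
  nonempty := ⟨mkOver ((cohP (𝔛 := 𝔛) h).prop_of_isZero (isZero_zero _)) 0⟩

include hX in
theorem hasExactColimits (M : (ObjectProperty.ind.{u} (cohP (𝔛 := 𝔛) h)).FullSubcategory) {A' : Type u'}
    [Category.{v'} A'] [Abelian A'] [HasFilteredColimitsOfSize.{u, u} A'] [AB5OfSize.{u, u} A'] :
    ∃ _ : HasColimitsOfShape (CA M) A', HasExactColimitsOfShape (CA M) A' := by
  haveI := essentiallySmall_cohP (𝔛 := 𝔛) h hX
  haveI : EssentiallySmall.{u} (cohP (𝔛 := 𝔛) h).FullSubcategory := inferInstance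
  let e := equivSmallModel.{u} (cohP (𝔛 := 𝔛) h).FullSubcategory
  let eM := (CostructuredArrow.pre e.inverse (inc h) M).asEquivalence
  haveI : IsFiltered (CostructuredArrow (e.inverse ⋙ inc h) M) := IsFiltered.of_equivalence eM.symm
  haveI : HasColimitsOfShape (CostructuredArrow (e.inverse ⋙ inc h) M) A' :=
    HasFilteredColimitsOfSize.HasColimitsOfShape _
  haveI : HasExactColimitsOfShape (CostructuredArrow (e.inverse ⋙ inc h) M) A' := AB5OfSize.ofShape _
  haveI : HasColimitsOfShape (CA M) A' := hasColimitsOfShape_of_equivalence eM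
  exact ⟨this, HasExactColimitsOfShape.of_domain_equivalence A' eM⟩

include hX in
/-- Maps into a module with the relation condition have coherent kernels. -/
theorem prop_ker (x : CA M) (φ : M.obj ⟶ N.obj) : cohP h (kernel (arr x ≫ φ)) :=
  kerClosed_of_ind h hX N.property (arr x ≫ φ) x.left.property

include hX in
theorem prop_coim (x : CA M) (φ : M.obj ⟶ N.obj) : cohP h (Abelian.coimage (arr x ≫ φ)) :=
  (cohP (𝔛 := 𝔛) h).prop_cokernel (kernel.ι (arr x ≫ φ)) (prop_ker hX x φ) x.left.property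

/-- The kernels. -/
def kerMap {x y : CA M} (s : x ⟶ y) (φ : M.obj ⟶ N.obj) : kernel (arr x ≫ φ) ⟶ kernel (arr y ≫ φ) :=
  kernel.map _ _ s.left.hom (𝟙 _) (by rw [Category.comp_id, ← Category.assoc, w_obj])

/-- The images in `N`. -/
def coimF (φ : M.obj ⟶ N.obj) : CA M ⥤ CA N where
  obj x := mkOver (prop_coim hX x φ) (Abelian.factorThruCoimage (arr x ≫ φ))
  map {x y} s := homOver (cokernel.map _ _ (kerMap s φ) s.left.hom (by simp [kerMap]))
    ((cancel_epi (Abelian.coimage.π (arr x ≫ φ))).1 (by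
      show Abelian.coimage.π _ ≫ cokernel.map _ _ _ _ _ ≫ Abelian.factorThruCoimage (arr y ≫ φ) =
        Abelian.coimage.π _ ≫ Abelian.factorThruCoimage (arr x ≫ φ)
      rw [cokernel.π_desc_assoc, Category.assoc]
      simp only [Abelian.coimage.fac]
      rw [← Category.assoc, w_obj]))
  map_id x := hom_ext_obj ((cancel_epi (Abelian.coimage.π (arr x ≫ φ))).1
    ((cokernel.π_desc _ _ _).trans ((Category.id_comp _).trans (Category.comp_id _).symm)))
  map_comp {x y z} s t := hom_ext_obj ((cancel_epi (Abelian.coimage.π (arr x ≫ φ))).1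
    ((cokernel.π_desc _ _ _).trans (Eq.symm ((Category.assoc _ _ _).symm.trans
      ((congrArg (· ≫ _) (cokernel.π_desc _ _ _)).trans ((Category.assoc _ _ _).trans
        ((congrArg (_ ≫ ·) (cokernel.π_desc _ _ _)).trans (Category.assoc _ _ _).symm)))))))

variable {A' : Type u'} [Category.{v'} A'] [Abelian A'] [HasFilteredColimitsOfSize.{u, u} A'] [AB5OfSize.{u, u} A']
  (G : (cohP (𝔛 := 𝔛) h).FullSubcategory ⥤ A') [PreservesFiniteLimits G] [PreservesFiniteColimits G]
  [(inc h).HasPointwiseLeftKanExtension G]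

/-- The extension. -/
abbrev Gb := (inc h).pointwiseLeftKanExtension G

/-- The colimit injections. -/
abbrev inj (x : CA M) : G.obj x.left ⟶ (Gb G).obj M := colimit.ι (CostructuredArrow.proj (inc h) M ⋙ G) x

theorem inj_map (x : CA M) (φ : M ⟶ N) :
    inj G x ≫ (Gb G).map φ = inj G ((CostructuredArrow.map φ).obj x) := by
  simp [inj]

theorem inj_w {x y : CA M} (s : x ⟶ y) : G.map s.left ≫ inj G y = inj G x :=
  colimit.w (CostructuredArrow.proj (inc h) M ⋙ G) s

theorem additive_pointwise : (Gb G).Additive where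
  map_add {M N φ ψ} := colimit.hom_ext fun x => by
    haveI : G.Additive := Functor.additive_of_preserves_binary_products G
    show inj G x ≫ (Gb G).map (φ + ψ) = inj G x ≫ ((Gb G).map φ + (Gb G).map ψ)
    rw [Preadditive.comp_add, inj_map, inj_map, inj_map]
    let A := x.left.obj
    let B := mkOver (M := N) (prop_biprod x.left.property x.left.property)
      (biprod.desc (arr x ≫ φ.hom) (arr x ≫ ψ.hom))
    let sl : (CostructuredArrow.map φ).obj x ⟶ B := homOver biprod.inl (biprod.inl_desc _ _)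
    let sr : (CostructuredArrow.map ψ).obj x ⟶ B := homOver biprod.inr (biprod.inr_desc _ _)
    let sd : (CostructuredArrow.map (φ + ψ)).obj x ⟶ B := homOver (biprod.inl + biprod.inr) (by
      show (biprod.inl + biprod.inr) ≫ biprod.desc (arr x ≫ φ.hom) (arr x ≫ ψ.hom) = arr x ≫ (φ + ψ).hom
      rw [Preadditive.add_comp, biprod.inl_desc, biprod.inr_desc]
      exact (Preadditive.comp_add _ _ _ _ _ _).symm)
    rw [← inj_w G sl, ← inj_w G sr, ← inj_w G sd, ← Preadditive.add_comp]
    refine congrArg (· ≫ inj G B) ?_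
    rw [← Functor.map_add]
    rfl

include hX in
theorem shortExact_map
    [(ObjectProperty.ind.{u} (cohP (𝔛 := 𝔛) h)).ContainsZero]
    [(ObjectProperty.ind.{u} (cohP (𝔛 := 𝔛) h)).IsClosedUnderKernels]
    [(ObjectProperty.ind.{u} (cohP (𝔛 := 𝔛) h)).IsClosedUnderCokernels]
    [(ObjectProperty.ind.{u} (cohP (𝔛 := 𝔛) h)).IsClosedUnderFiniteProducts] [(Gb G).Additive]
    (S : ShortComplex (ObjectProperty.ind.{u} (cohP (𝔛 := 𝔛) h)).FullSubcategory)
    (hS' : (S.map (ObjectProperty.ind.{u} (cohP (𝔛 := 𝔛) h)).ι).ShortExact) : (S.map (Gb G)).ShortExact := by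
  let f₀ : S.X₁.obj ⟶ S.X₂.obj := S.f.hom
  let g₀ : S.X₂.obj ⟶ S.X₃.obj := S.g.hom
  let S₀ : ShortComplex (FSch.ModF 𝔛 h) := S.map (ObjectProperty.ind.{u} (cohP (𝔛 := 𝔛) h)).ι
  have hS₀ : S₀.ShortExact := hS'
  have hfg : f₀ ≫ g₀ = 0 := S₀.zero
  haveI : Mono f₀ := hS₀.mono_f
  have hker : IsLimit (KernelFork.ofι f₀ hfg) := hS₀.fIsKernel
  -- the functor of kernels
  let kl : ∀ x : CA S.X₂, kernel (arr x ≫ g₀) ⟶ S.X₁.obj := fun x =>
    hker.lift (KernelFork.ofι (kernel.ι (arr x ≫ g₀) ≫ arr x) (by rw [Category.assoc]; exact kernel.condition _))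
  have hkl : ∀ x, kl x ≫ f₀ = kernel.ι (arr x ≫ g₀) ≫ arr x := fun x => hker.fac _ WalkingParallelPair.zero
  let kF : CA S.X₂ ⥤ CA S.X₁ :=
    { obj := fun x => mkOver (prop_ker hX x g₀) (kl x)
      map := fun {x y} s => homOver (kerMap s g₀) (by
        rw [← cancel_mono f₀]
        show (kerMap s g₀ ≫ kl y) ≫ f₀ = kl x ≫ f₀
        rw [Category.assoc, hkl, hkl, kerMap, kernel.map, kernel.lift_ι_assoc, Category.assoc, w_obj])
      map_id := fun x => hom_ext_obj (equalizer.hom_ext (by
        show kerMap (𝟙 x) g₀ ≫ kernel.ι _ = 𝟙 _ ≫ kernel.ι _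
        rw [kerMap, kernel.map, kernel.lift_ι, Category.id_comp]
        exact Category.comp_id _))
      map_comp := fun {x y z} s t => hom_ext_obj (equalizer.hom_ext (by
        show kerMap (s ≫ t) g₀ ≫ kernel.ι _ = (kerMap s g₀ ≫ kerMap t g₀) ≫ kernel.ι _
        rw [Category.assoc, kerMap, kerMap, kerMap, kernel.map, kernel.map, kernel.map, kernel.lift_ι, kernel.lift_ι,
          kernel.lift_ι_assoc, Category.assoc]
        rfl)) }
  haveI : kF.Final := by
    refine Functor.final_of_exists_of_isFiltered kF (fun c => ?_) (fun {c x} s t => ?_)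
    · let x : CA S.X₂ := mkOver c.left.property (arr c ≫ f₀)
      refine ⟨x, ⟨homOver (kernel.lift (arr x ≫ g₀) (𝟙 _) (by
        rw [Category.id_comp]; show (arr c ≫ f₀) ≫ g₀ = 0; rw [Category.assoc, hfg, comp_zero])) ?_⟩⟩
      rw [← cancel_mono f₀]
      show (_ ≫ kl x) ≫ f₀ = _
      rw [Category.assoc, hkl, kernel.lift_ι_assoc, Category.id_comp]
      rfl
    · let d := (s.left.hom - t.left.hom) ≫ kernel.ι (arr x ≫ g₀)
      have hd : d ≫ arr x = 0 := by
        simp only [d, Category.assoc]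
        rw [← hkl, ← Category.assoc, Preadditive.sub_comp]
        have e1 : s.left.hom ≫ kl x = arr c := w_obj s
        have e2 : t.left.hom ≫ kl x = arr c := w_obj t
        rw [e1, e2, sub_self, zero_comp]
      let y : CA S.X₂ := mkOver ((cohP (𝔛 := 𝔛) h).prop_cokernel d c.left.property x.left.property)
        (cokernel.desc d (arr x) hd)
      let q : x ⟶ y := homOver (cokernel.π d) (cokernel.π_desc _ _ _)
      refine ⟨y, q, hom_ext_obj (equalizer.hom_ext ?_)⟩
      show (s.left.hom ≫ kerMap q g₀) ≫ kernel.ι _ = (t.left.hom ≫ kerMap q g₀) ≫ kernel.ι _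
      rw [← sub_eq_zero, ← Preadditive.sub_comp, ← Preadditive.sub_comp, Category.assoc, kerMap, kernel.map,
        kernel.lift_ι, ← Category.assoc]
      exact cokernel.condition d
  let cF := coimF hX g₀ (N := S.X₃)
  haveI : cF.Final := by
    refine Functor.final_of_exists_of_isFiltered cF (fun c => ?_) (fun {c x} s t => ?_)
    · obtain ⟨E, e, b, hE, he, heb⟩ := exists_coh_lift h hX S₀ hS₀ S.X₁.property c.left.property (arr c)
      let x : CA S.X₂ := mkOver hE b
      have h0 : kernel.ι e ≫ Abelian.coimage.π (arr x ≫ g₀) = 0 := by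
        haveI : Mono (Abelian.factorThruCoimage (arr x ≫ g₀)) := inferInstance
        rw [← cancel_mono (Abelian.factorThruCoimage (arr x ≫ g₀)), zero_comp, Category.assoc, Abelian.coimage.fac]
        show kernel.ι e ≫ b ≫ S₀.g = 0
        rw [← heb, kernel.condition_assoc, zero_comp]
      refine ⟨x, ⟨homOver ((Abelian.epiIsCokernelOfKernel _ (kernelIsKernel e)).desc (CokernelCofork.ofπ _ h0)) ?_⟩⟩
      rw [← cancel_epi e, ← Category.assoc]
      refine (congrArg (· ≫ _) ((Abelian.epiIsCokernelOfKernel _ (kernelIsKernel e)).fac _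
        WalkingParallelPair.one)).trans ((Abelian.coimage.fac _).trans ?_)
      exact heb.symm
    · refine ⟨x, 𝟙 x, congrArg (· ≫ cF.map (𝟙 x)) (hom_ext_obj ?_)⟩
      haveI : Mono (arr (cF.obj x)) := inferInstanceAs (Mono (Abelian.factorThruCoimage (arr x ≫ g₀)))
      rw [← cancel_mono (arr (cF.obj x)), w_obj, w_obj]
  -- the short complex of diagrams
  haveI : G.Additive := Functor.additive_of_preserves_binary_products G
  obtain ⟨_, _⟩ := hasExactColimits hX S.X₂ (A' := A')
  let D := CostructuredArrow.proj (inc h) S.X₂ ⋙ G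
  let c₁ := (colimit.cocone (CostructuredArrow.proj (inc h) S.X₁ ⋙ G)).whisker kF
  let c₃ := (colimit.cocone (CostructuredArrow.proj (inc h) S.X₃ ⋙ G)).whisker cF
  have hc₁ : IsColimit c₁ := (Functor.Final.isColimitWhiskerEquiv kF _).symm (colimit.isColimit _)
  have hc₃ : IsColimit c₃ := (Functor.Final.isColimitWhiskerEquiv cF _).symm (colimit.isColimit _)
  let α : kF ⋙ CostructuredArrow.proj (inc h) S.X₁ ⋙ G ⟶ D :=
    { app := fun x => G.map (ObjectProperty.homMk (kernel.ι (arr x ≫ g₀)) : (kF.obj x).left ⟶ x.left)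
      naturality := fun x y s => by
        show G.map _ ≫ G.map _ = G.map _ ≫ G.map _
        rw [← Functor.map_comp, ← Functor.map_comp]
        exact congrArg G.map (ObjectProperty.hom_ext _ (kernel.lift_ι _ _ _)) }
  let β : D ⟶ cF ⋙ CostructuredArrow.proj (inc h) S.X₃ ⋙ G :=
    { app := fun x => G.map (ObjectProperty.homMk (Abelian.coimage.π (arr x ≫ g₀)) : x.left ⟶ (cF.obj x).left)
      naturality := fun x y s => by
        show G.map _ ≫ G.map _ = G.map _ ≫ G.map _
        rw [← Functor.map_comp, ← Functor.map_comp]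
        exact congrArg G.map (ObjectProperty.hom_ext _ (cokernel.π_desc _ _ _).symm) }
  let T : ShortComplex (CA S.X₂ ⥤ A') := ShortComplex.mk α β (NatTrans.ext (funext fun x => by
    show G.map _ ≫ G.map _ = 0
    rw [← Functor.map_comp]
    exact (congrArg G.map (ObjectProperty.hom_ext _ (cokernel.condition _))).trans (G.map_zero _ _)))
  have hTx : ∀ x, (T.map ((evaluation (CA S.X₂) A').obj x)).ShortExact := fun x => by
    let P := cohP (𝔛 := 𝔛) h
    let kx : (⟨_, prop_ker hX x g₀⟩ : P.FullSubcategory) ⟶ x.left := ObjectProperty.homMk (kernel.ι (arr x ≫ g₀))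
    let qx : x.left ⟶ (⟨_, prop_coim hX x g₀⟩ : P.FullSubcategory) :=
      ObjectProperty.homMk (Abelian.coimage.π (arr x ≫ g₀))
    let U : ShortComplex P.FullSubcategory := ShortComplex.mk kx qx (ObjectProperty.hom_ext _ (cokernel.condition _))
    have hU : (U.map P.ι).ShortExact :=
      { exact := ShortComplex.exact_of_g_is_cokernel _ (cokernelIsCokernel _)
        mono_f := inferInstanceAs (Mono (kernel.ι (arr x ≫ g₀)))
        epi_g := inferInstanceAs (Epi (cokernel.π (kernel.ι (arr x ≫ g₀)))) }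
    haveI : P.ι.PreservesHomology :=
      { preservesKernels := fun _ _ f => P.preservesKernels_ι f
        preservesCokernels := fun _ _ f => P.preservesCokernels_ι f }
    haveI : P.ι.ReflectsIsomorphisms := inferInstance
    have hU' : U.ShortExact :=
      { exact := (ShortComplex.exact_map_iff_of_faithful U P.ι).1 hU.exact
        mono_f := P.ι.mono_of_mono_map hU.mono_f
        epi_g := P.ι.epi_of_epi_map hU.epi_g }
    exact hU'.map_of_exact G
  have hT : T.Exact := (ShortComplex.exact_and_epi_g_iff_g_is_cokernel T).2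
    ⟨evaluationJointlyReflectsColimits _ fun x => (CokernelCofork.isColimitMapCoconeEquiv _ _).symm
      (hTx x).gIsCokernel⟩ |>.1
  haveI : Mono α := @NatTrans.mono_of_mono_app _ _ _ _ _ _ α fun x => (hTx x).mono_f
  haveI : Epi β := @NatTrans.epi_of_epi_app _ _ _ _ _ _ β fun x => (hTx x).epi_g
  have hf : ∀ x, c₁.ι.app x ≫ (Gb G).map S.f = α.app x ≫ colimit.ι D x := fun x => by
    show inj G (kF.obj x) ≫ (Gb G).map S.f = G.map _ ≫ inj G x
    rw [inj_map]
    exact (inj_w G (homOver (x := (CostructuredArrow.map S.f).obj (kF.obj x)) (y := x) (kernel.ι (arr x ≫ g₀))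
      (hkl x).symm)).symm
  have hg : ∀ x, colimit.ι D x ≫ (Gb G).map S.g = β.app x ≫ c₃.ι.app x := fun x => by
    show inj G x ≫ (Gb G).map S.g = G.map _ ≫ inj G (cF.obj x)
    rw [inj_map]
    exact (inj_w G (homOver (x := (CostructuredArrow.map S.g).obj x) (y := cF.obj x)
      (Abelian.coimage.π (arr x ≫ g₀)) (Abelian.coimage.fac _))).symm
  exact
    { exact := colim.exact_mapShortComplex (S := T) hT hc₁ (c₂ := colimit.cocone D) (colimit.isColimit D)
        (c₃ := c₃) hc₃ ((Gb G).map S.f) ((Gb G).map S.g) hf hg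
      mono_f := colim.map_mono' α hc₁ (colimit.isColimit D) ((Gb G).map S.f) hf
      epi_g := epi_of_epi_fac' hc₃ ((Gb G).map S.g) β (fun x => (hTx x).epi_g) hg }
where
  epi_of_epi_fac' {J : Type (u + 1)} [Category.{u} J] {F₂ F₃ : J ⥤ A'} {c₂ : Cocone F₂} {c₃ : Cocone F₃}
      (hc₃ : IsColimit c₃) (g : c₂.pt ⟶ c₃.pt) (β : F₂ ⟶ F₃) (hβ : ∀ x, Epi (β.app x))
      (hg : ∀ x, c₂.ι.app x ≫ g = β.app x ≫ c₃.ι.app x) : Epi g :=
    ⟨fun {Z} u v huv => hc₃.hom_ext fun x => by
      haveI := hβ x
      refine (cancel_epi (β.app x)).1 ?_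
      refine (Category.assoc _ _ _).symm.trans ((congrArg (· ≫ u) (hg x).symm).trans ?_)
      refine (Category.assoc _ _ _).trans ((congrArg (c₂.ι.app x ≫ ·) huv).trans ?_)
      exact (Category.assoc _ _ _).symm.trans ((congrArg (· ≫ v) (hg x)).trans (Category.assoc _ _ _))⟩

include hX in
theorem main : PreservesFiniteLimits (Gb G) ∧ PreservesFiniteColimits (Gb G) := by
  haveI := isWeakSerre_indCoh (𝔛 := 𝔛) h hX
  haveI := additive_pointwise G
  let Q := ObjectProperty.ind.{u} (cohP (𝔛 := 𝔛) h)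
  haveI : Q.ι.PreservesHomology :=
    { preservesKernels := fun _ _ f => Q.preservesKernels_ι f
      preservesCokernels := fun _ _ f => Q.preservesCokernels_ι f }
  refine ((Functor.exact_tfae (Gb G)).out 0 3).1 (fun S hS => ?_)
  exact shortExact_map hX G S (ShortComplex.ShortExact.map_of_exact hS Q.ι)

end Groth.Agent.FModLib.IndKan
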