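import Groth.Agent.FModLib.IndCoh
import Groth.Agent.FModLib.FormalRpushD
import Groth.Agent.CommAlg4.AcyclicUnit
import Groth.Agent.DQCoh.Coproduct
import Groth.Agent.ModRpush.Sheafify

/-!
# Derived direct images of formal schemes commute with sums of ind-coherent cohomology complexes
-/

set_option autoImplicit false
set_option backward.isDefEq.respectTransparency false
set_option backward.defeqAttrib.useBackward true
set_option linter.style.haveILetI false
set_option linter.unusedSectionVars false
set_option synthInstance.maxHeartbeats 100000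
set_option maxHeartbeats 1000000

universe u w w'

open CategoryTheory CategoryTheory.Limits AlgebraicGeometry Opposite TopologicalSpace
open Groth.Agent.FBlowLib Groth.Agent.DerCompLib Groth.Agent.Coherent

attribute [local instance] HasDerivedCategory.standard

namespace Groth.Agent.FModLib

section Generic

/-- A functor commuting with finite sums and with filtered colimits commutes with sums. -/
theorem preservesColimit_discrete_of_filtered {A : Type w} [Category.{u} A] {B : Type w'} [Category.{u} B]
    [HasFiniteCoproducts A] [HasCoproducts.{u} A] (F : A ⥤ B) [PreservesFiniteCoproducts F] {α : Type u}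
    [HasColimitsOfShape (Finset (Discrete α)) A] [PreservesColimitsOfShape (Finset (Discrete α)) F] (X : α → A) :
    PreservesColimit (Discrete.functor X) F := by
  classical
  refine preservesColimit_of_preserves_colimit_cocone (coproductIsCoproduct X)
    ((isColimitMapCoconeCofanMkEquiv F X _).symm ?_)
  let hc := isColimitOfPreserves F (CoproductsFromFiniteFiltered.isColimitFiniteSubproductsCocone X)
  let hS : ∀ S : Finset (Discrete α), IsColimit (Cofan.mk (F.obj (∐ fun x : S => X x.1.as))
      fun x : S => F.map (Sigma.ι (fun x : S => X x.1.as) x)) := fun S =>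
    isColimitCofanMkObjOfIsColimit F _ _ (coproductIsCoproduct _)
  let σ : ∀ (s : Cofan fun a => F.obj (X a)) (S : Finset (Discrete α)), F.obj (∐ fun x : S => X x.1.as) ⟶ s.pt :=
    fun s S => Cofan.IsColimit.desc (hS S) fun x => s.inj x.1.as
  have hσ : ∀ (s : Cofan fun a => F.obj (X a)) (S : Finset (Discrete α)) (x : S),
      F.map (Sigma.ι (fun x : S => X x.1.as) x) ≫ σ s S = s.inj x.1.as :=
    fun s S x => Cofan.IsColimit.fac (hS S) _ x
  let σc : ∀ s : Cofan fun a => F.obj (X a),
      Cocone (CoproductsFromFiniteFiltered.liftToFinsetObj (Discrete.functor X) ⋙ F) := fun s =>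
    Cocone.mk s.pt
      { app := σ s
        naturality := fun S T h => by
          refine Cofan.IsColimit.hom_ext (hS S) _ _ fun x => ?_
          dsimp
          rw [Category.comp_id, hσ, ← Category.assoc, ← F.map_comp]
          erw [Sigma.ι_desc]
          exact hσ s T _ }
  have hleg : ∀ (a : α) (S : Finset (Discrete α)) (x : S), x.1.as = a →
      ∀ s : Cofan fun a => F.obj (X a),
        F.map (Sigma.ι (fun x : S => X x.1.as) x ≫
          (CoproductsFromFiniteFiltered.finiteSubcoproductsCocone X).ι.app S) = F.map (Sigma.ι X x.1.as) :=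
    fun a S x _ s => congrArg F.map (Sigma.ι_desc _ _)
  refine mkCofanColimit _ (fun s => hc.desc (σc s)) (fun s a => ?_) (fun s m hm => hc.uniq (σc s) m fun S => ?_)
  · let x : ({Discrete.mk a} : Finset (Discrete α)) := ⟨⟨a⟩, by simp⟩
    show F.map (Sigma.ι X a) ≫ hc.desc (σc s) = s.inj a
    rw [← hleg a _ x rfl s, F.map_comp, Category.assoc]
    erw [hc.fac (σc s)]
    exact hσ s _ x
  · refine Cofan.IsColimit.hom_ext (hS S) _ _ fun x => ?_
    refine Eq.trans ?_ (hσ s S x).symm
    show F.map _ ≫ F.map _ ≫ m = _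
    rw [← Category.assoc, ← F.map_comp, hleg _ S x rfl s]
    exact hm x.1.as

variable {A : Type (u + 1)} [Category.{u} A] [Abelian A] [IsGrothendieckAbelian.{u} A]

/-- Homology of a sum vanishes when the homology of the summands does. -/
theorem isGE_sigma {ι : Type u} (Z : ι → DerivedCategory A) [HasCoproduct Z] (n : ℤ) (hZ : ∀ a, (Z a).IsGE n) :
    (∐ Z).IsGE n := by
  rw [DerivedCategory.isGE_iff]
  intro i hi
  haveI := DQCoh.preservesCoproducts_homologyFunctor (A := A) ι i
  refine IsZero.of_iso ?_ (PreservesCoproduct.iso (DerivedCategory.homologyFunctor A i) Z)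
  rw [IsZero.iff_id_eq_zero]
  refine Sigma.hom_ext _ _ fun a => ?_
  exact (((DerivedCategory.isGE_iff _ _).1 (hZ a)) i hi).eq_of_src _ _

/-- An object in nonnegative degrees has a representative in nonnegative degrees made of injectives. -/
theorem exists_injective_rep (Y : DerivedCategory A) (n : ℤ) [Y.IsGE n] :
    ∃ (L : CochainComplex A ℤ) (_ : L.IsStrictlyGE n), (∀ m, Injective (L.X m)) ∧
      Nonempty (DerivedCategory.Q.obj L ≅ Y) := by
  let K := DerivedCategory.Q.objPreimage Y
  let e := DerivedCategory.Q.objObjPreimageIso Y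
  haveI : (DerivedCategory.Q.obj K).IsGE n := DerivedCategory.TStructure.t.isGE_of_iso e.symm n
  haveI : K.IsGE n := (DerivedCategory.isGE_Q_obj_iff _ _).1 inferInstance
  haveI : IsIso (DerivedCategory.Q.map (K.πTruncGE n)) := inferInstance
  obtain ⟨L, i, hq, hL, hn⟩ := CochainComplex.Plus.modelCategoryQuillen.exists_quasiIso_injective (K.truncGE n) n
  haveI := hq
  haveI := hn
  exact ⟨L, hn, hL, ⟨(asIso (DerivedCategory.Q.map i)).symm ≪≫ (asIso (DerivedCategory.Q.map (K.πTruncGE n))).symm ≪≫ e⟩⟩

/-- Functors preserving sums keep maps of sums invertible. -/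
theorem isIso_map_sigmaMap {C : Type*} [Category C] {D : Type*} [Category D] {α : Type u} [HasCoproducts.{u} C]
    [HasCoproducts.{u} D] (F : C ⥤ D) [PreservesColimitsOfShape (Discrete α) F] {X Y : α → C} (g : ∀ a, X a ⟶ Y a)
    [∀ a, IsIso (F.map (g a))] : IsIso (F.map (Limits.Sigma.map g)) := by
  have h : sigmaComparison F X ≫ F.map (Limits.Sigma.map g) =
      Limits.Sigma.map (fun a => F.map (g a)) ≫ sigmaComparison F Y :=
    Sigma.hom_ext _ _ fun a => by
      rw [ι_comp_sigmaComparison_assoc, ← F.map_comp, Sigma.ι_map, Sigma.ι_map_assoc, ι_comp_sigmaComparison, F.map_comp]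
  haveI : IsIso (sigmaComparison F X ≫ F.map (Limits.Sigma.map g)) := by
    rw [h]
    haveI : IsIso (Limits.Sigma.map fun a => F.map (g a)) :=
      (Limits.Sigma.mapIso fun a => asIso (F.map (g a))).isIso_hom
    infer_instance
  exact IsIso.of_isIso_comp_left (sigmaComparison F X) _

/-- Cohomology of sums stays in a class closed under sums. -/
theorem prop_homology_sigma (P : ObjectProperty A) [P.IsClosedUnderIsomorphisms] {ι : Type u}
    [P.IsClosedUnderColimitsOfShape (Discrete ι)] (E : ι → DerivedCategory A) [HasCoproduct E] (i : ℤ)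
    (hE : ∀ a, P ((DerivedCategory.homologyFunctor A i).obj (E a))) :
    P ((DerivedCategory.homologyFunctor A i).obj (∐ E)) := by
  haveI := DQCoh.preservesCoproducts_homologyFunctor (A := A) ι i
  exact P.prop_of_iso (PreservesCoproduct.iso (DerivedCategory.homologyFunctor A i) E).symm
    (P.prop_colimit _ fun t => hE t.as)

/-- Truncating the summands does not change the truncation of a sum. -/
theorem isIso_truncGE_map_sigmaMap [HasCoproducts.{u} (DerivedCategory A)] {ι : Type u} (E : ι → DerivedCategory A)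
    (m : ℤ) :
    IsIso ((DerivedCategory.TStructure.t.truncGE m).map
      (Limits.Sigma.map fun a => (DerivedCategory.TStructure.t.truncGEπ m).app (E a))) := by
  let t : Triangulated.TStructure (DerivedCategory A) := DerivedCategory.TStructure.t
  let g := Limits.Sigma.map fun a => (t.truncGEπ m).app (E a)
  have hgZ : (∐ fun a => (t.truncGE m).obj (E a)).IsGE m := isGE_sigma _ _ fun a => inferInstance
  haveI : IsIso ((t.truncGEπ m).app (∐ fun a => (t.truncGE m).obj (E a))) :=
    (t.isGE_iff_isIso_truncGEπ_app _ _).1 hgZ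
  refine (DerivedCategory.isIso_iff _ _).2 fun q => ?_
  rcases lt_or_ge q m with hq | hq
  · have h0 : ∀ X, IsZero ((DerivedCategory.homologyFunctor A q).obj ((t.truncGE m).obj X)) :=
      fun X => ((DerivedCategory.isGE_iff _ _).1 (inferInstance : ((t.truncGE m).obj X).IsGE _)) q hq
    exact ⟨0, (h0 _).eq_of_src _ _, (h0 _).eq_of_src _ _⟩
  · let Hq := DerivedCategory.homologyFunctor A q
    haveI := DQCoh.preservesCoproducts_homologyFunctor (A := A) ι q
    haveI := fun X : DerivedCategory A => SiteDer16.isIso_homology_truncGEπ X m q hq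
    haveI : IsIso (Hq.map g) := isIso_map_sigmaMap Hq _
    have hn := congrArg Hq.map ((t.truncGEπ m).naturality g)
    rw [Hq.map_comp, Hq.map_comp] at hn
    haveI : IsIso (Hq.map ((t.truncGEπ m).app (∐ E)) ≫ Hq.map ((t.truncGE m).map g)) :=
      Eq.mp (congrArg IsIso hn) (inferInstanceAs (IsIso (Hq.map g ≫ Hq.map _)))
    exact IsIso.of_isIso_comp_left (Hq.map ((t.truncGEπ m).app (∐ E))) _

/-- Comparison of sums in a degree, from bounded below truncations. -/
theorem isIso_homology_sigmaComparison {B : Type (u + 1)} [Category.{u} B] [Abelian B] [IsGrothendieckAbelian.{u} B]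
    [HasCoproducts.{u} (DerivedCategory A)] [HasCoproducts.{u} (DerivedCategory B)]
    (R : DerivedCategory A ⥤ DerivedCategory B) {ι : Type u} (E : ι → DerivedCategory A) (m i : ℤ)
    [PreservesColimit (Discrete.functor fun a => (DerivedCategory.TStructure.t.truncGE m).obj (E a)) R]
    (hE : ∀ a, IsIso ((DerivedCategory.homologyFunctor B i).map
      (R.map ((DerivedCategory.TStructure.t.truncGEπ m).app (E a)))))
    (hsum : IsIso ((DerivedCategory.homologyFunctor B i).map
      (R.map ((DerivedCategory.TStructure.t.truncGEπ m).app (∐ E))))) :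
    IsIso ((DerivedCategory.homologyFunctor B i).map (sigmaComparison R E)) := by
  let t : Triangulated.TStructure (DerivedCategory A) := DerivedCategory.TStructure.t
  let H := DerivedCategory.homologyFunctor B i
  haveI := DQCoh.preservesCoproducts_homologyFunctor (A := B) ι i
  let Z : ι → DerivedCategory A := fun a => (t.truncGE m).obj (E a)
  let g : ∐ E ⟶ ∐ Z := Limits.Sigma.map fun a => (t.truncGEπ m).app (E a)
  haveI : IsIso ((t.truncGEπ m).app (∐ Z)) :=
    (t.isGE_iff_isIso_truncGEπ_app _ _).1 (isGE_sigma Z _ fun a => inferInstance)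
  haveI : IsIso ((t.truncGE m).map g) := isIso_truncGE_map_sigmaMap E m
  haveI : IsIso (H.map (R.map g)) := by
    have hn := congrArg (fun z => H.map (R.map z)) ((t.truncGEπ m).naturality g)
    simp only [Functor.id_map, Functor.map_comp] at hn
    haveI := hsum
    haveI : IsIso (H.map (R.map g) ≫ H.map (R.map ((t.truncGEπ m).app (∐ Z)))) := by
      rw [hn]
      infer_instance
    exact IsIso.of_isIso_comp_right _ (H.map (R.map ((t.truncGEπ m).app (∐ Z))))
  let mm : (∐ fun a => R.obj (E a)) ⟶ ∐ fun a => R.obj (Z a) :=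
    Limits.Sigma.map fun a => R.map ((t.truncGEπ m).app (E a))
  haveI := hE
  haveI : IsIso (H.map mm) := isIso_map_sigmaMap H _
  have hnat : sigmaComparison R E ≫ R.map g = mm ≫ sigmaComparison R Z := Sigma.hom_ext _ _ fun a => by
    rw [ι_comp_sigmaComparison_assoc, ← R.map_comp, Sigma.ι_map, Sigma.ι_map_assoc, ι_comp_sigmaComparison, R.map_comp]
  have hn := congrArg H.map hnat
  rw [H.map_comp, H.map_comp] at hn
  haveI : IsIso (H.map (sigmaComparison R E) ≫ H.map (R.map g)) := by
    rw [hn]
    infer_instance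
  exact IsIso.of_isIso_comp_right _ (H.map (R.map g))

/-- Sums of objects with cohomology in a class, from bounded below sums and truncations. -/
theorem preservesColimit_of_truncations {B : Type (u + 1)} [Category.{u} B] [Abelian B] [IsGrothendieckAbelian.{u} B]
    (R : DerivedCategory A ⥤ DerivedCategory B) (P : ObjectProperty A) [P.IsClosedUnderIsomorphisms] {ι : Type u}
    [P.IsClosedUnderColimitsOfShape (Discrete ι)] (E : ι → DerivedCategory A)
    (hE : ∀ a i, P ((DerivedCategory.homologyFunctor A i).obj (E a)))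
    (hb : ∀ (Z : ι → DerivedCategory A) (m : ℤ), (∀ a, (Z a).IsGE m) → PreservesColimit (Discrete.functor Z) R)
    (hπ : ∀ i : ℤ, ∃ m : ℤ, ∀ X : DerivedCategory A, (∀ j, P ((DerivedCategory.homologyFunctor A j).obj X)) →
      IsIso ((DerivedCategory.homologyFunctor B i).map
        (R.map ((DerivedCategory.TStructure.t.truncGEπ m).app X)))) :
    PreservesColimit (Discrete.functor E) R := by
  haveI : HasCoproducts.{u} (DerivedCategory A) := fun T =>
    DCat.hasCoproductsOfShape_derived DCat.enoughKInj_of_isGrothendieckAbelian T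
  haveI : HasCoproducts.{u} (DerivedCategory B) := fun T =>
    DCat.hasCoproductsOfShape_derived DCat.enoughKInj_of_isGrothendieckAbelian T
  haveI : IsIso (sigmaComparison R E) := by
    refine (DerivedCategory.isIso_iff _ _).2 fun i => ?_
    obtain ⟨m, hm⟩ := hπ i
    haveI := hb (fun a => (DerivedCategory.TStructure.t.truncGE m).obj (E a)) m fun a => inferInstance
    exact isIso_homology_sigmaComparison R E m i (fun a => hm _ (hE a))
      (hm _ fun j => prop_homology_sigma P E j fun a => hE a j)
  exact PreservesCoproduct.of_iso_comparison R E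

end Generic

variable {𝔛 𝔜 : FSch.Sys.{u}} (f : 𝔛 ⟶ 𝔜) (hX : 𝔛.IsFormal) (hY : 𝔜.IsFormal) (hX' : 𝔛.IsLocNoethFormal)
  [CompactSpace (𝔛.X 0)]

include hX' in
theorem noetherianSpace_X0 : NoetherianSpace (𝔛.X 0) := by
  haveI := hX'.2.2 0
  haveI : IsNoetherian (𝔛.X 0) := {}
  infer_instance

include hX' in
/-- Direct images commute with filtered colimits. -/
theorem preservesColimitsOfShape_pushF (Λ : Type u) [SmallCategory Λ] [IsFiltered Λ] :
    PreservesColimitsOfShape Λ (FSch.pushF f hX hY) := by
  classical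
  haveI := hX'.2.2 0
  haveI := noetherianSpace_X0 hX'
  haveI : NoetherianSpace (𝔛.X 0).toTopCat := noetherianSpace_X0 hX'
  haveI : PrespectralSpace (𝔛.X 0).toTopCat := inferInstanceAs (PrespectralSpace (𝔛.X 0))
  haveI : QuasiSeparatedSpace (𝔛.X 0).toTopCat := inferInstanceAs (QuasiSeparatedSpace (𝔛.X 0))
  refine ⟨fun {D} => ⟨fun {c} hc => ⟨?_⟩⟩⟩
  haveI : PreservesColimitsOfShape Λ (abF hX) := DerCompLib.preservesColimitsOfShape_toSheaf (O := 𝔛.Osh hX) Λ
  haveI : PreservesColimitsOfShape Λ (abF hY) := DerCompLib.preservesColimitsOfShape_toSheaf (O := 𝔜.Osh hY) Λ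
  haveI : (abF hY).ReflectsIsomorphisms := inferInstance
  haveI : ReflectsColimitsOfShape Λ (abF hY) := reflectsColimitsOfShape_of_reflectsIsomorphisms
  refine isColimitOfReflects (abF hY) (isColimitOfReflects
    (sheafToPresheaf (Opens.grothendieckTopology (𝔜.X 0).toTopCat) AddCommGrpCat.{u})
    (evaluationJointlyReflectsColimits _ fun V => ?_))
  haveI := preservesColimitsOfShape_evaluation (X := (𝔛.X 0).toTopCat) (Λ := Λ)
    (V := preV f V.unop) (NoetherianSpace.isCompact _)
  exact isColimitOfPreserves (abF hX ⋙ sheafToPresheaf (Opens.grothendieckTopology (𝔛.X 0).toTopCat) AddCommGrpCat.{u} ⋙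
    (evaluation _ _).obj (op (preV f V.unop))) hc

include hX' in
/-- Sums of injective modules are acyclic for direct images. -/
theorem acy_sigma_injective [HasInjectiveResolutions (FSch.ModF 𝔛 hX)] {α : Type u} (X : α → FSch.ModF 𝔛 hX)
    (hinj : ∀ a, Injective (X a)) : DCat.Acyclic.Acy (FSch.pushF f hX hY) (∐ X) := by
  classical
  intro q hq
  haveI := hX'.2.2 0
  haveI := noetherianSpace_X0 hX'
  haveI : NoetherianSpace (𝔛.X 0).toTopCat := noetherianSpace_X0 hX'
  haveI : PrespectralSpace (𝔛.X 0).toTopCat := inferInstanceAs (PrespectralSpace (𝔛.X 0))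
  haveI : QuasiSeparatedSpace (𝔛.X 0).toTopCat := inferInstanceAs (QuasiSeparatedSpace (𝔛.X 0))
  haveI := Groth.Agent.SpecSeq.enoughInjectives_of_hasInjectiveResolutions (FSch.ModF 𝔛 hX)
  haveI : HasExt.{u} (FSch.ModF 𝔛 hX) := hasExt_of_enoughInjectives _
  haveI : PreservesColimitsOfShape (Finset (Discrete α)) (abF hX) :=
    DerCompLib.preservesColimitsOfShape_toSheaf (O := 𝔛.Osh hX) _
  refine isZero_rpushF_of_basis f hX hY (∐ X) q basis_AFF fun V _ => ?_
  let pres : ColimitPresentation (Finset (Discrete α)) (∐ X) :=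
    ⟨_, _, CoproductsFromFiniteFiltered.isColimitFiniteSubproductsCocone X⟩
  refine subsingleton_HU_of_colimitPresentation (abF hX) pres (NoetherianSpace.isCompact _) q fun S => ?_
  haveI : ∀ x : S, Injective (X x.1.as) := fun x => hinj _
  haveI : HasFiniteBiproducts (FSch.ModF 𝔛 hX) := HasFiniteBiproducts.of_hasFiniteProducts
  haveI : Injective (pres.diag.obj S) :=
    Injective.of_iso (biproduct.isoCoproduct fun x : S => X x.1.as) inferInstance
  obtain ⟨k, rfl⟩ := Nat.exists_eq_succ_of_ne_zero hq.ne'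
  exact (ModRpush.extEquiv (𝔛.Osh hX) (preV f V) (pres.diag.obj S) (k + 1)).toEquiv.subsingleton_congr.1
    ⟨fun a b => (Abelian.Ext.eq_zero_of_injective a).trans (Abelian.Ext.eq_zero_of_injective b).symm⟩

variable [SiteCmp.HasRpushD (FSch.homMor f hX hY)]

include hX' in
/-- Uniformly bounded below sums. -/
theorem preservesColimit_rpushD_boundedBelow {ι : Type u} (Z : ι → DerivedCategory (FSch.ModF 𝔛 hX)) (n : ℤ)
    (hZ : ∀ a, (Z a).IsGE n) : PreservesColimit (Discrete.functor Z) (SiteCmp.RpushD (FSch.homMor f hX hY)) := by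
  haveI := Groth.Agent.SpecSeq.enoughInjectives_of_hasInjectiveResolutions (FSch.ModF 𝔛 hX)
  have hK := SiteDer16.enoughKInj_sheafOfModules (ModSite.ringSh (𝔛.Osh hX))
  let F := FSch.pushF f hX hY
  haveI : F.Additive := ⟨rfl⟩
  choose J hJn hJinj hJiso using fun a => (haveI := hZ a; exists_injective_rep (Z a) n)
  let R := SiteCmp.RpushD (FSch.homMor f hX hY)
  let qt := HomotopyCategory.quotient (FSch.ModF 𝔛 hX) (ComplexShape.up ℤ)
  let P := F.mapHomologicalComplex (ComplexShape.up ℤ)
  let η := CommAlg4.AcyclicUnit.uD F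
  let α : P ⋙ DerivedCategory.Q ⟶ DerivedCategory.Q ⋙ R :=
    Functor.whiskerLeft P (DerivedCategory.quotientCompQhIso (FSch.ModF 𝔜 hY)).inv ≫
      (Functor.associator _ _ _).inv ≫
      Functor.whiskerRight (F.mapHomotopyCategoryFactors (ComplexShape.up ℤ)).inv DerivedCategory.Qh ≫
      (Functor.associator _ _ _).hom ≫
      Functor.whiskerLeft qt η ≫ (Functor.associator _ _ _).inv ≫
      Functor.whiskerRight (DerivedCategory.quotientCompQhIso (FSch.ModF 𝔛 hX)).hom R
  have hαη : ∀ C, IsIso (η.app (qt.obj C)) → IsIso (α.app C) := fun C _ => by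
    dsimp [α]
    infer_instance
  let K' : Discrete ι ⥤ CochainComplex (FSch.ModF 𝔛 hX) ℤ := Discrete.functor J
  let eK : K' ⋙ DerivedCategory.Q ≅ Discrete.functor Z := Discrete.natIso fun t => (hJiso t.as).some
  haveI := DCat.RHomExist.preservesCoproducts_Q (A := FSch.ModF 𝔛 hX) ι
  haveI := DCat.RHomExist.preservesCoproducts_Q (A := FSch.ModF 𝔜 hY) ι
  haveI := preservesColimitsOfShape_pushF f hX hY hX' (Finset (Discrete ι))
  haveI : PreservesFiniteCoproducts F := inferInstance
  haveI : PreservesColimitsOfShape (Discrete ι) F := ⟨fun {D} => by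
    haveI := preservesColimit_discrete_of_filtered F (fun t => D.obj ⟨t⟩)
    exact preservesColimit_of_iso_diagram F (Discrete.natIso fun _ => Iso.refl _ : Discrete.functor (fun t => D.obj ⟨t⟩) ≅ D)⟩
  haveI : PreservesColimitsOfShape (Discrete ι) P := ⟨fun {D} => ⟨fun {c} hc =>
    ⟨HomologicalComplex.isColimitOfEval _ _ fun i =>
      isColimitOfPreserves F (isColimitOfPreserves (HomologicalComplex.eval _ _ i) hc)⟩⟩⟩
  let C := colimit K'
  haveI : ∀ t, IsIso (α.app (K'.obj t)) := fun t => hαη _ (by
    haveI : (K'.obj t).IsStrictlyGE n := hJn t.as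
    exact CommAlg4.AcyclicUnit.isIso_unit_bddBelow F hK (K'.obj t) n fun m =>
      haveI : Injective ((K'.obj t).X m) := hJinj t.as m
      DCat.Acyclic.acy_injective _)
  haveI : IsIso (α.app C) := hαη _ (by
    haveI : C.IsStrictlyGE n := (CochainComplex.isStrictlyGE_iff _ _).2 fun i hi => by
      rw [IsZero.iff_id_eq_zero]
      refine (isColimitOfPreserves (HomologicalComplex.eval _ _ i) (colimit.isColimit K')).hom_ext fun t => ?_
      haveI := hJn t.as
      exact (CochainComplex.isZero_of_isStrictlyGE (J t.as) n i hi).eq_of_src _ _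
    refine CommAlg4.AcyclicUnit.isIso_unit_bddBelow F hK C n fun m => ?_
    exact (acy_sigma_injective f hX hY hX' (fun t => (J t).X m) (fun t => hJinj t m)).of_iso
      ((HasColimit.isoOfNatIso (Discrete.natIso fun _ => Iso.refl _ :
        Discrete.functor (fun t => (J t).X m) ≅ K' ⋙ HomologicalComplex.eval _ _ m)) ≪≫
        (preservesColimitIso (HomologicalComplex.eval _ _ m) K').symm))
  haveI : PreservesColimit (K' ⋙ DerivedCategory.Q) R := by
    refine preservesColimit_of_preserves_colimit_cocone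
      (isColimitOfPreserves DerivedCategory.Q (colimit.isColimit K')) ?_
    let hc := isColimitOfPreserves (P ⋙ DerivedCategory.Q) (colimit.isColimit K')
    let β : K' ⋙ P ⋙ DerivedCategory.Q ≅ (K' ⋙ DerivedCategory.Q) ⋙ R :=
      NatIso.ofComponents (fun t => asIso (α.app (K'.obj t))) (fun g => α.naturality (K'.map g))
    refine IsColimit.ofIsoColimit ((IsColimit.precomposeHomEquiv β.symm _).symm hc)
      (Cocone.ext (asIso (α.app C)) fun t => ?_)
    dsimp [β]
    rw [Category.assoc, IsIso.inv_comp_eq]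
    exact α.naturality (colimit.ι K' t)
  exact preservesColimit_of_iso_diagram R eK

include hX' in
/-- Truncations compute the cohomology of direct images in high degrees. -/
theorem isIso_homology_rpushD_truncGEπ' {B : (𝔜.X 0).Opens → Prop}
    (hb : ∀ (U : (𝔜.X 0).Opens) (x : 𝔜.X 0), x ∈ U → ∃ V, B V ∧ x ∈ V ∧ V ≤ U) {e : ℕ}
    (hacy : ∀ M : FSch.ModF 𝔛 hX, indCoh hX M → ∀ V, B V → ∀ p : ℕ, e < p →
      Subsingleton (CohTop.HU ((abF hX).obj M) p (preV f V)))
    (G : DerivedCategory (FSch.ModF 𝔛 hX)) (hG : ∀ i : ℤ, indCoh hX (SiteCmp.HMod G i))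
    (n : ℕ) (j : ℤ) (hj : (e : ℤ) - n ≤ j) :
    IsIso ((DerivedCategory.homologyFunctor (FSch.ModF 𝔜 hY) j).map
      ((SiteCmp.RpushD (FSch.homMor f hX hY)).map ((DerivedCategory.TStructure.t.truncGEπ (-(n : ℤ))).app G))) := by
  haveI := containsZero_indCoh hX hX'
  haveI := closed_indCoh (𝔛 := 𝔛) hX
  refine WeakTrunc.isIso_homology_rpushD_truncGEπ (FSch.homMor f hX hY) (indCoh hX)
    {V : Opens (𝔛.X 0).toTopCat | IsAffineOpen (X := 𝔛.X 0) V} ?_ ?_ (e : ℤ) ?_ G hG
    {V : Opens (𝔜.X 0).toTopCat | B V} ?_ ?_ n j hj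
  · intro U
    obtain ⟨ι, Y, g, -, h2, h3⟩ := exists_cover_of_basis (T := (𝔛.X 0).toTopCat)
      (B := fun V => IsAffineOpen (X := 𝔛.X 0) V) basis_AFF U ⊤ (GrothendieckTopology.top_mem _ _)
    exact ⟨ι, Y, g, h2, h3⟩
  · intro V _
    refine ⟨0, fun T hT => ?_⟩
    obtain ⟨ι, Y, g, h1, h2, h3⟩ := exists_cover_of_basis (T := (𝔛.X 0).toTopCat)
      (B := fun V => IsAffineOpen (X := 𝔛.X 0) V) basis_AFF V T hT
    exact ⟨ι, Y, g, h1, h2, fun j M hM k hk => affine_subsingleton_HU hX hX' M hM (h3 j) k hk⟩
  · exact fun M hM p hp => isZero_rpushF_of_basis f hX hY M p (B := B) hb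
      fun V hV => hacy M hM V hV p (by exact_mod_cast hp)
  · intro U
    obtain ⟨ι, Y, g, -, h2, h3⟩ := exists_cover_of_basis (T := (𝔜.X 0).toTopCat) (B := B) hb U ⊤
      (GrothendieckTopology.top_mem _ _)
    exact ⟨ι, Y, g, h2, h3⟩
  · intro V _
    refine ⟨e, fun T hT => ?_⟩
    obtain ⟨ι, Y, g, h1, h2, h3⟩ := exists_cover_of_basis (T := (𝔜.X 0).toTopCat) (B := B) hb V T hT
    exact ⟨ι, Y, g, h1, h2, fun j M hM k hk => preimage_subsingleton_HU f hX hY hacy M hM (h3 j) k hk⟩

include hX' in
/-- The derived direct image commutes with sums of complexes with ind-coherent cohomology. -/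
theorem preservesColimit_rpushD [CompactSpace (𝔜.X 0)] {ι : Type u} (E : ι → DerivedCategory (FSch.ModF 𝔛 hX))
    (hE : ∀ (a : ι) (i : ℤ), indCoh hX (SiteCmp.HMod (E a) i)) :
    PreservesColimit (Discrete.functor E) (SiteCmp.RpushD (FSch.homMor f hX hY)) := by
  haveI := closed_indCoh (𝔛 := 𝔛) hX
  haveI := isClosedUnderColimitsOfShape_indCoh hX hX' (Discrete ι)
  obtain ⟨e, B, hb, hacy⟩ := exists_basis_bound f hX hX'
  refine preservesColimit_of_truncations (A := FSch.ModF 𝔛 hX) (B := FSch.ModF 𝔜 hY)
    (SiteCmp.RpushD (FSch.homMor f hX hY)) (indCoh hX) E hE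
    (fun Z m hZ => preservesColimit_rpushD_boundedBelow f hX hY hX' Z m hZ) fun i => ?_
  exact ⟨-((((e : ℤ) - i).toNat : ℕ) : ℤ),
    fun X hX0 => isIso_homology_rpushD_truncGEπ' f hX hY hX' hb hacy X hX0 _ i (by omega)⟩

end Groth.Agent.FModLib
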