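import Groth.Agent.FModLib.IndGroth
import Groth.Agent.FModLib.RpushDSum

/-!
# The derived direct image on the derived category of ind-coherent modules is a left adjoint
-/

set_option autoImplicit false
set_option backward.isDefEq.respectTransparency false
set_option backward.defeqAttrib.useBackward true
set_option linter.style.haveILetI false
set_option linter.unusedSectionVars false

universe u

open CategoryTheory CategoryTheory.Limits AlgebraicGeometry

attribute [local instance] HasDerivedCategory.standard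

namespace Groth.Agent.FModLib

section Generic

/-- The cohomology of the image of an object under an exact functor takes values in a class containing the image. -/
theorem prop_homology_mapDerivedCategory {A : Type (u + 1)} [Category.{u} A] [Abelian A]
    {C : Type (u + 1)} [Category.{u} C] [Abelian C] (F : A ⥤ C) [F.Additive] [PreservesFiniteLimits F]
    [PreservesFiniteColimits F] (Q : ObjectProperty C) [Q.IsClosedUnderIsomorphisms] (hQ : ∀ M, Q (F.obj M))
    (X : DerivedCategory A) (i : ℤ) :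
    Q ((DerivedCategory.homologyFunctor C i).obj (F.mapDerivedCategory.obj X)) := by
  let K := DerivedCategory.Q.objPreimage X
  refine Q.prop_of_iso ?_ (hQ (K.homology i))
  exact ((K.sc i).mapHomologyIso F).symm ≪≫
    ((DerivedCategory.homologyFunctorFactors C i).app ((F.mapHomologicalComplex (ComplexShape.up ℤ)).obj K)).symm ≪≫
    (DerivedCategory.homologyFunctor C i).mapIso
      ((F.mapDerivedCategoryFactors.app K).symm ≪≫
        F.mapDerivedCategory.mapIso (DerivedCategory.Q.objObjPreimageIso X))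

/-- Brown representability for the composite with an exact functor. -/
theorem isLeftAdjoint_comp_standard {A : Type (u + 1)} [Category.{u} A] [Abelian A] [IsGrothendieckAbelian.{u} A]
    {C : Type (u + 1)} [Category.{u} C] [Abelian C] {B : Type (u + 1)} [Category.{u} B] [Abelian B]
    [IsGrothendieckAbelian.{u} B] (F : A ⥤ C) [F.Additive] [PreservesFiniteLimits F] [PreservesFiniteColimits F]
    (R : DerivedCategory C ⥤ DerivedCategory B)
    (hR : ∃ (_ : R.CommShift ℤ), R.IsTriangulated)
    [∀ J : Type u, PreservesColimitsOfShape (Discrete J) (F.mapDerivedCategory ⋙ R)] :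
    (F.mapDerivedCategory ⋙ R).IsLeftAdjoint := by
  obtain ⟨_, _⟩ := hR
  exact Dual22Lib.isLeftAdjoint_standard _

end Generic

variable {𝔛 𝔜 : FSch.Sys.{u}} (f : 𝔛 ⟶ 𝔜) (hX : 𝔛.IsFormal) (hY : 𝔜.IsFormal) (hX' : 𝔛.IsLocNoethFormal)
  [(indCoh (𝔛 := 𝔛) hX).ContainsZero] [(indCoh (𝔛 := 𝔛) hX).IsClosedUnderKernels]
  [(indCoh (𝔛 := 𝔛) hX).IsClosedUnderCokernels] [(indCoh (𝔛 := 𝔛) hX).IsClosedUnderFiniteProducts]
  [PreservesFiniteLimits (indCoh (𝔛 := 𝔛) hX).ι] [PreservesFiniteColimits (indCoh (𝔛 := 𝔛) hX).ι]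
  [CompactSpace (𝔛.X 0)] [CompactSpace (𝔜.X 0)] [SiteCmp.HasRpushD (FSch.homMor f hX hY)]

include hX' in
theorem preservesCoproducts_mapDerived_rpushD (J : Type u) :
    PreservesColimitsOfShape (Discrete J)
      ((indCoh (𝔛 := 𝔛) hX).ι.mapDerivedCategory ⋙ SiteCmp.RpushD (FSch.homMor f hX hY)) := by
  haveI := preservesCoproducts_indCoh_ι hX hX' J
  haveI := closed_indCoh (𝔛 := 𝔛) hX
  let F := (indCoh (𝔛 := 𝔛) hX).ι.mapDerivedCategory
  refine ⟨fun {K} => ⟨fun {c} hc => ?_⟩⟩
  haveI : PreservesColimit (K ⋙ F) (SiteCmp.RpushD (FSch.homMor f hX hY)) := by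
    haveI := preservesColimit_rpushD f hX hY hX' (fun t => F.obj (K.obj ⟨t⟩))
      fun t i => prop_homology_mapDerivedCategory (indCoh (𝔛 := 𝔛) hX).ι (indCoh (𝔛 := 𝔛) hX) (fun M => M.property) (K.obj ⟨t⟩) i
    exact preservesColimit_of_iso_diagram _
      (Discrete.natIso fun _ => Iso.refl _ : Discrete.functor (fun t => F.obj (K.obj ⟨t⟩)) ≅ K ⋙ F)
  exact ⟨isColimitOfPreserves (SiteCmp.RpushD (FSch.homMor f hX hY)) (isColimitOfPreserves F hc)⟩

include hX' in
theorem isLeftAdjoint_mapDerived_rpushD :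
    ((indCoh (𝔛 := 𝔛) hX).ι.mapDerivedCategory ⋙ SiteCmp.RpushD (FSch.homMor f hX hY)).IsLeftAdjoint := by
  haveI := isGrothendieckAbelian_indCoh hX hX'
  haveI := fun J => preservesCoproducts_mapDerived_rpushD f hX hY hX' J
  exact isLeftAdjoint_comp_standard (A := (indCoh (𝔛 := 𝔛) hX).FullSubcategory) (C := FSch.ModF 𝔛 hX)
    (B := FSch.ModF 𝔜 hY) (indCoh (𝔛 := 𝔛) hX).ι (SiteCmp.RpushD (FSch.homMor f hX hY))
    (SiteDer16.exists_commShift_rpushD (FSch.homMor f hX hY))

end Groth.Agent.FModLib
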