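import Groth.Agent.FModLib.RpushSys

/-!
# Higher direct images of a coherent module as the limit of those of its truncations
-/

set_option autoImplicit false
set_option backward.isDefEq.respectTransparency false
set_option linter.style.haveILetI false
set_option linter.unusedSectionVars false
set_option linter.deprecated false

universe u

open CategoryTheory CategoryTheory.Limits CategoryTheory.Abelian AlgebraicGeometry Opposite TopologicalSpace
open Groth.Agent.FBlowLib Groth.Agent.DerCompLib Groth.Agent.Coherent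

namespace Groth.Agent.FModLib

/-- A map of presheaves bijective on a basis becomes an isomorphism after sheafification. -/
theorem isIso_sheafify_of_basis {T : TopCat.{u}} {P Q : (Opens T)ᵒᵖ ⥤ AddCommGrpCat.{u}} (g : P ⟶ Q)
    {B : Opens T → Prop} (hb : ∀ (U : Opens T) (x : T), x ∈ U → ∃ V : Opens T, B V ∧ x ∈ V ∧ V ≤ U)
    (h : ∀ V, B V → Function.Bijective (g.app (op V))) :
    IsIso ((presheafToSheaf (Opens.grothendieckTopology T) AddCommGrpCat.{u}).map g) := by
  haveI : Presheaf.IsLocallyInjective (Opens.grothendieckTopology T) g := ⟨fun {U} x y hxy z hz => by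
    obtain ⟨V, hV, hzV, hVU⟩ := hb U.unop z hz
    refine ⟨V, homOfLE hVU, (h V hV).1 ?_, hzV⟩
    exact (ConcreteCategory.congr_hom (g.naturality (homOfLE hVU).op) x).trans
      ((congrArg (Q.map (homOfLE hVU).op) hxy).trans
        (ConcreteCategory.congr_hom (g.naturality (homOfLE hVU).op) y).symm)⟩
  haveI : Presheaf.IsLocallySurjective (Opens.grothendieckTopology T) g := ⟨fun {U} s z hz => by
    obtain ⟨V, hV, hzV, hVU⟩ := hb U z hz
    exact ⟨V, homOfLE hVU, (h V hV).2 _, hzV⟩⟩
  exact (GrothendieckTopology.W_iff _ g).1 (GrothendieckTopology.W_of_isLocallyBijective _ g)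

section LimSec

variable {𝔜 : FSch.Sys.{u}} (hY : 𝔜.IsFormal) (N : ℕ → FSch.ModF 𝔜 hY) (τ : ∀ n, N (n + 1) ⟶ N n)

/-- Sections of a limit are determined by their components. -/
theorem limSec_ext {U : (𝔜.X 0).Opens} {x y : DerCompLib.Sec (limit (Functor.ofOpSequence τ)) U}
    (hxy : ∀ k, secMap (limit.π (Functor.ofOpSequence τ) (op k)) U x =
      secMap (limit.π (Functor.ofOpSequence τ) (op k)) U y) : x = y :=
  (Types.isLimitEquivSections
      (isLimitOfPreserves (evalM hY U) (limit.isLimit (Functor.ofOpSequence τ)))).injective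
    (Subtype.ext (funext fun k => hxy k.unop))

theorem limSec_map (k : ℕ) {U : (𝔜.X 0).Opens} (x : DerCompLib.Sec (limit (Functor.ofOpSequence τ)) U) :
    secMap (τ k) U (secMap (limit.π (Functor.ofOpSequence τ) (op (k + 1))) U x) =
      secMap (limit.π (Functor.ofOpSequence τ) (op k)) U x := by
  refine (DerCompLib.secMap_comp (limit.π (Functor.ofOpSequence τ) (op (k + 1))) (τ k) U x).symm.trans ?_
  refine congrArg (fun φ => secMap φ U x) (Eq.trans ?_
    (limit.w (Functor.ofOpSequence τ) (homOfLE (Nat.le_add_right k 1)).op))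
  rw [Functor.ofOpSequence_map_homOfLE_succ]

/-- Compatible sections come from the limit. -/
theorem exists_limSec {U : (𝔜.X 0).Opens} (y : ∀ k, DerCompLib.Sec (N k) U)
    (hy : ∀ k, secMap (τ k) U (y (k + 1)) = y k) :
    ∃ x : DerCompLib.Sec (limit (Functor.ofOpSequence τ)) U,
      ∀ k, secMap (limit.π (Functor.ofOpSequence τ) (op k)) U x = y k := by
  let G := Functor.ofOpSequence τ ⋙ evalM hY U
  have hsucc : ∀ n, G.map (homOfLE (Nat.le_add_right n 1)).op (y (n + 1)) = y n := fun n => by
    change secMap ((Functor.ofOpSequence τ).map (homOfLE (Nat.le_add_right n 1)).op) U (y (n + 1)) = y n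
    rw [Functor.ofOpSequence_map_homOfLE_succ]
    exact hy n
  have hgen : ∀ (i j : ℕ) (hij : i ≤ j), G.map (homOfLE hij).op (y j) = y i := by
    intro i j hij
    induction j, hij using Nat.le_induction with
    | base => exact FunctorToTypes.map_id_apply G _
    | succ k hik ih =>
      rw [show homOfLE (Nat.le_succ_of_le hik) =
        homOfLE hik ≫ homOfLE (Nat.le_add_right k 1) from rfl, op_comp, G.map_comp]
      change G.map _ (G.map _ (y (k + 1))) = _
      rw [hsucc k, ih]
  let e := Types.isLimitEquivSections (isLimitOfPreserves (evalM hY U) (limit.isLimit (Functor.ofOpSequence τ)))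
  let sec : G.sections := ⟨fun k => y k.unop, fun {i j} φ => by
    rw [← φ.op_unop, ← homOfLE_leOfHom φ.unop]
    exact hgen j.unop i.unop (leOfHom φ.unop)⟩
  exact ⟨e.symm sec, fun k => Types.isLimitEquivSections_symm_apply
    (isLimitOfPreserves (evalM hY U) (limit.isLimit (Functor.ofOpSequence τ))) sec (op k)⟩

/-- A map to the limit from compatible maps. -/
noncomputable def liftOp {P : FSch.ModF 𝔜 hY} (v : ∀ k, P ⟶ N k) (hv : ∀ k, v (k + 1) ≫ τ k = v k) :
    P ⟶ limit (Functor.ofOpSequence τ) :=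
  limit.lift (Functor.ofOpSequence τ) { pt := P
                                        π := NatTrans.ofOpSequence (fun k => v k) (fun k => by
                                          rw [Functor.ofOpSequence_map_homOfLE_succ]
                                          simpa using (hv k).symm) }

theorem liftOp_π {P : FSch.ModF 𝔜 hY} (v : ∀ k, P ⟶ N k) (hv : ∀ k, v (k + 1) ≫ τ k = v k) (k : ℕ) :
    liftOp hY N τ v hv ≫ limit.π (Functor.ofOpSequence τ) (op k) = v k :=
  limit.lift_π _ _

end LimSec

variable {𝔛 𝔜 : FSch.Sys.{u}} (f : 𝔛 ⟶ 𝔜) (hX : 𝔛.IsFormal) (hY : 𝔜.IsFormal)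
  (hX' : 𝔛.IsLocNoethFormal) (hY' : 𝔜.IsLocNoethFormal) [HasInjectiveResolutions (FSch.ModF 𝔛 hX)]
  [EnoughInjectives (FSch.ModF 𝔛 hX)] [HasExt.{u} (FSch.ModF 𝔛 hX)]
  (M : FSch.ModF 𝔛 hX)

/-- The system of higher direct images of the truncations. -/
noncomputable abbrev rLim (q : ℕ) : FSch.ModF 𝔜 hY :=
  limit (Functor.ofOpSequence (X := rPush f hX hY M q) (rPushTr f hX hY M q))

theorem rPush_unit_comp (q k : ℕ) :
    (FSch.RpushF f hX hY q).map ((FSch.levelMor 𝔛 hX (k + 1)).adj.unit.app M) ≫ rPushTr f hX hY M q k =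
      (FSch.RpushF f hX hY q).map ((FSch.levelMor 𝔛 hX k).adj.unit.app M) :=
  ((FSch.RpushF f hX hY q).map_comp _ _).symm.trans
    (congrArg (FSch.RpushF f hX hY q).map (FSch.unit_levelTrans 𝔛 hX M k))

/-- The canonical map to the limit. -/
noncomputable def toRLim (q : ℕ) : (FSch.RpushF f hX hY q).obj M ⟶ rLim f hX hY M q :=
  liftOp hY (rPush f hX hY M q) (rPushTr f hX hY M q)
    (fun k => (FSch.RpushF f hX hY q).map ((FSch.levelMor 𝔛 hX k).adj.unit.app M))
    (rPush_unit_comp f hX hY M q)

theorem toRLim_π (q k : ℕ) :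
    toRLim f hX hY M q ≫ limit.π (Functor.ofOpSequence (X := rPush f hX hY M q) (rPushTr f hX hY M q)) (op k) =
      (FSch.RpushF f hX hY q).map ((FSch.levelMor 𝔛 hX k).adj.unit.app M) :=
  liftOp_π hY (rPush f hX hY M q) (rPushTr f hX hY M q)
    (fun k => (FSch.RpushF f hX hY q).map ((FSch.levelMor 𝔛 hX k).adj.unit.app M))
    (rPush_unit_comp f hX hY M q) k

/-- Cohomology of preimages to the limit. -/
noncomputable def cmpLim (q : ℕ) : (cpF f hX hY q).obj M ⟶ (evF hY).obj (rLim f hX hY M q) :=
  (cmp f hX hY q).app M ≫ (evF hY).map (toRLim f hX hY M q)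

theorem cmpLim_app (q : ℕ) (V : (𝔜.X 0).Opens) (x : CohTop.HU ((abF hX).obj M) q (preV f V)) :
    (cmpLim f hX hY M q).app (op V) x = secMap (toRLim f hX hY M q) V (cmpV f hX hY q M V x) := rfl

theorem unit_cmpV (q k : ℕ) (V : (𝔜.X 0).Opens) (x : CohTop.HU ((abF hX).obj M) q (preV f V)) :
    secMap ((FSch.RpushF f hX hY q).map
        (show M ⟶ up hX k (down hX k M) from (FSch.levelMor 𝔛 hX k).adj.unit.app M)) V
        (cmpV f hX hY q M V x) =
      cmpV f hX hY q (up hX k (down hX k M)) V
        (CohTop.HUmap ((abF hX).map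
          (show M ⟶ up hX k (down hX k M) from (FSch.levelMor 𝔛 hX k).adj.unit.app M)) q (preV f V) x) :=
  cmpV_natural f hX hY q _ V x

theorem π_cmpLim (q k : ℕ) (V : (𝔜.X 0).Opens) (x : CohTop.HU ((abF hX).obj M) q (preV f V)) :
    secMap (limit.π (Functor.ofOpSequence (X := rPush f hX hY M q) (rPushTr f hX hY M q)) (op k)) V
        (secMap (toRLim f hX hY M q) V (cmpV f hX hY q M V x)) =
      cmpV f hX hY q (up hX k (down hX k M)) V
        (CohTop.HUmap ((abF hX).map ((FSch.levelMor 𝔛 hX k).adj.unit.app M)) q (preV f V) x) := by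
  refine (DerCompLib.secMap_comp (toRLim f hX hY M q)
    (limit.π (Functor.ofOpSequence (X := rPush f hX hY M q) (rPushTr f hX hY M q)) (op k)) V _).symm.trans ?_
  refine (congrArg (fun φ => secMap φ V (cmpV f hX hY q M V x)) (toRLim_π f hX hY M q k)).trans ?_
  exact unit_cmpV f hX hY M q k V x

variable {M}

include hX' hY' in
theorem bijective_cmpLim (hp : FSch.IsProperHom f) (hM : FSch.IsCohF 𝔛 hX M) (q : ℕ) {V : (𝔜.X 0).Opens}
    (hV : IsAffineOpen V) :
    Function.Bijective (fun x => secMap (toRLim f hX hY M q) V (cmpV f hX hY q M V x)) := by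
  haveI := hp.2
  haveI := compactSpace_preV f hY' hV
  haveI := isNoetherianRing_sec hY hY' hV
  have hb := fun k => bijective_cmpV_trunc f hX hY hX' hY' hp hM q k hV
  refine ⟨?_, fun z => ?_⟩
  · intro x y hxy
    rw [← sub_eq_zero]
    refine Rel.eq_zero_HU_levels hX (preV f V) (shU f hX hY V) hX' hM
      (hJ_preV f hX hY hX' hY' hp.1 hV) (finCoh_preV f hX hY hY' hV) q (x - y) fun k => (hb k).1 ?_
    rw [map_zero, ← π_cmpLim, map_sub, map_sub, map_sub]
    exact sub_eq_zero.2 (congrArg _ hxy)
  · choose y hy using fun k => (hb k).2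
      (secMap (limit.π (Functor.ofOpSequence (X := rPush f hX hY M q) (rPushTr f hX hY M q)) (op k)) V z)
    obtain ⟨x, hx⟩ := Rel.exists_HU_levels hX (preV f V) hX' hM q y fun k => (hb k).1 (by
      rw [← rT_cmpV, hy, hy]
      exact limSec_map hY _ (rPushTr f hX hY M q) k z)
    refine ⟨x, limSec_ext hY _ (rPushTr f hX hY M q) fun k => ?_⟩
    rw [π_cmpLim, hx, hy]

include hX' hY' in
/-- Higher direct images of a coherent module are the limit of those of the truncations. -/
theorem isIso_toRLim (hp : FSch.IsProperHom f) (hM : FSch.IsCohF 𝔛 hX M) (q : ℕ) :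
    IsIso (toRLim f hX hY M q) := by
  let L := presheafToSheaf (Opens.grothendieckTopology (𝔜.X 0).toTopCat) AddCommGrpCat.{u}
  have h1 : IsIso (L.map (cmpLim f hX hY M q)) :=
    isIso_sheafify_of_basis (T := (𝔜.X 0).toTopCat) _ (B := fun V => IsAffineOpen (X := 𝔜.X 0) V) basis_AFF
      fun V hV => bijective_cmpLim f hX hY hX' hY' hp hM q hV
  rw [cmpLim, Functor.map_comp] at h1
  haveI := isIso_sheafify_cmp f hX hY q M
  haveI : IsIso (L.map ((evF hY).map (toRLim f hX hY M q))) := IsIso.of_isIso_comp_left (L.map ((cmp f hX hY q).app M)) _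
  haveI : IsIso ((abF hY).map (toRLim f hX hY M q)) := by
    let e := sheafificationNatIso (Opens.grothendieckTopology (𝔜.X 0).toTopCat) AddCommGrpCat.{u}
    exact (NatIso.isIso_map_iff e _).2 (by assumption)
  exact isIso_of_forall (P := AFF 𝔜) basis_AFF _ fun V _ =>
    ConcreteCategory.bijective_of_isIso (((abF hY).map (toRLim f hX hY M q)).hom.app (op V))

end Groth.Agent.FModLib
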