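import Groth.Agent.FModLib.IndAcyclic
import Groth.Agent.FModLib.LimRpush

/-!
# Vanishing of higher direct images along affine morphisms
-/

set_option autoImplicit false
set_option backward.isDefEq.respectTransparency false
set_option linter.style.haveILetI false
set_option linter.unusedSectionVars false

universe u

open CategoryTheory CategoryTheory.Limits AlgebraicGeometry Opposite TopologicalSpace
open Groth.Agent.FBlowLib Groth.Agent.DerCompLib Groth.Agent.Coherent

namespace Groth.Agent.FModLib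

/-- A presheaf vanishing on a basis has zero sheafification. -/
theorem isZero_sheafify_of_basis {T : TopCat.{u}} (P : (Opens T)ᵒᵖ ⥤ AddCommGrpCat.{u}) {B : Opens T → Prop}
    (hb : ∀ (U : Opens T) (x : T), x ∈ U → ∃ V : Opens T, B V ∧ x ∈ V ∧ V ≤ U)
    (h : ∀ V, B V → Subsingleton (P.obj (op V))) :
    IsZero ((presheafToSheaf (Opens.grothendieckTopology T) AddCommGrpCat.{u}).obj P) := by
  let g : P ⟶ (Functor.const _).obj (AddCommGrpCat.of PUnit.{u + 1}) := 0
  haveI := isIso_sheafify_of_basis g hb fun V hV => by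
    haveI := h V hV
    haveI : Subsingleton (((Functor.const (Opens T)ᵒᵖ).obj (AddCommGrpCat.of PUnit.{u + 1})).obj (op V)) :=
      inferInstanceAs (Subsingleton PUnit.{u + 1})
    exact ⟨fun x y _ => Subsingleton.elim x y, fun z => ⟨0, Subsingleton.elim _ _⟩⟩
  have hg : (presheafToSheaf (Opens.grothendieckTopology T) AddCommGrpCat.{u}).map g = 0 := Functor.map_zero _ _ _
  have h0 : IsZero ((Functor.const (Opens T)ᵒᵖ).obj (AddCommGrpCat.of PUnit.{u + 1})) :=
    (Functor.isZero_iff _).2 fun W => by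
      haveI : Subsingleton (((Functor.const (Opens T)ᵒᵖ).obj (AddCommGrpCat.of PUnit.{u + 1})).obj W) :=
        inferInstanceAs (Subsingleton PUnit.{u + 1})
      exact AddCommGrpCat.isZero_of_subsingleton _
  exact IsZero.of_iso (Functor.map_isZero _ h0)
    (asIso ((presheafToSheaf (Opens.grothendieckTopology T) AddCommGrpCat.{u}).map g))

variable {𝔛 𝔜 : FSch.Sys.{u}} (f : 𝔛 ⟶ 𝔜) (hX : 𝔛.IsFormal) (hY : 𝔜.IsFormal)
  [HasInjectiveResolutions (FSch.ModF 𝔛 hX)]

/-- Higher direct images vanish when cohomology of preimages of affines does. -/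
theorem isZero_rpushF (M : FSch.ModF 𝔛 hX) (q : ℕ)
    (h : ∀ V : (𝔜.X 0).Opens, IsAffineOpen V → Subsingleton (CohTop.HU ((abF hX).obj M) q (preV f V))) :
    IsZero ((FSch.RpushF f hX hY q).obj M) := by
  haveI := Groth.Agent.SpecSeq.enoughInjectives_of_hasInjectiveResolutions (FSch.ModF 𝔛 hX)
  haveI : HasExt.{u} (FSch.ModF 𝔛 hX) := hasExt_of_enoughInjectives _
  haveI := isIso_sheafify_cmp f hX hY q M
  have h0 : IsZero ((presheafToSheaf (Opens.grothendieckTopology (𝔜.X 0).toTopCat) AddCommGrpCat.{u}).obj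
      ((cpF f hX hY q).obj M)) :=
    isZero_sheafify_of_basis (T := (𝔜.X 0).toTopCat) _ (B := fun V => IsAffineOpen (X := 𝔜.X 0) V) basis_AFF h
  have h1 := h0.of_iso (asIso ((presheafToSheaf (Opens.grothendieckTopology (𝔜.X 0).toTopCat) AddCommGrpCat.{u}).map
    ((cmp f hX hY q).app M))).symm
  have h2 : IsZero ((abF hY).obj ((FSch.RpushF f hX hY q).obj M)) := h1.of_iso
    ((sheafificationNatIso (Opens.grothendieckTopology (𝔜.X 0).toTopCat) AddCommGrpCat.{u}).app _)
  rw [IsZero.iff_id_eq_zero]
  refine (abF hY).map_injective ?_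
  rw [CategoryTheory.Functor.map_id, Functor.map_zero]
  exact h2.eq_of_src _ _

end Groth.Agent.FModLib
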