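import Groth.Agent.FModLib.Real
import Groth.Agent.LimCohLib.Sheaf
import Groth.Agent.Coherent.SchemeCoh
import Groth.Agent.S6160

/-!
# Affine acyclicity of the module of a system of coherent modules
-/

set_option autoImplicit false
set_option backward.isDefEq.respectTransparency false
set_option linter.style.haveILetI false
set_option linter.unusedSectionVars false

universe u

open CategoryTheory CategoryTheory.Limits AlgebraicGeometry Opposite TopologicalSpace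
open Groth.Agent.FBlowLib Groth.Agent.DerCompLib Groth.Agent.Coherent

namespace Groth.Agent.FModLib

variable {𝔛 : FSch.Sys.{u}} (h : 𝔛.IsFormal) (hX : 𝔛.IsLocNoethFormal) (𝔐 : FSch.ModSys 𝔛) (hM : 𝔐.IsCoh)

instance preservesLimitsOfShape_toAbF :
    PreservesLimitsOfShape ℕᵒᵖ (SheafOfModules.toSheaf.{u} (ModSite.ringSh (𝔛.Osh h))) := by
  haveI : PreservesLimitsOfSize.{u, u} (SheafOfModules.toSheaf.{u} (ModSite.ringSh (𝔛.Osh h))) :=
    ⟨fun {T} _ => S6160.preservesLimitsOfShape_toSheaf (ModSite.ringSh (𝔛.Osh h)) T⟩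
  haveI : PreservesLimitsOfSize.{0, 0} (SheafOfModules.toSheaf.{u} (ModSite.ringSh (𝔛.Osh h))) :=
    preservesLimitsOfSize_shrink.{0, u, 0, u} _
  infer_instance

/-- The underlying sheaves of the levels. -/
noncomputable abbrev levelAb : ℕᵒᵖ ⥤ CohTop.Ab (𝔛.X 0).toTopCat :=
  FSch.levelSysOf 𝔛 h 𝔐.F 𝔐.toPush ⋙ SheafOfModules.toSheaf (ModSite.ringSh (𝔛.Osh h))

include hM

theorem hvan_levelAb : ∀ U ∈ (𝔛.X 0).affineOpens, ∀ (k i : ℕ), 0 < i →
    Subsingleton (CohTop.HU ((levelAb h 𝔐).obj (op k)) i U) := fun U hU k i hi => by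
  obtain ⟨i, rfl⟩ := Nat.exists_eq_succ_of_ne_zero hi.ne'
  haveI : Coh.IsQCoh (𝔐.F k) := (hM k).1
  have hG : AcyclicOverBasis (X := (𝔛.X k).toTopCat) (Y := (𝔛.X 0).toTopCat) (𝔛.gInv h k)
      (𝔛.X 0).affineOpens (Coh.toAb (𝔐.F k)) := fun V hV n =>
    subsingleton_H'_qcoh (𝔐.F k) (S13347.isAffineOpen_lvU 𝔛 h k V hV) n
  have := hG U hU i
  exact (H'PushEquiv (𝔛.X 0).isBasis_affineOpens (Coh.toAb (𝔐.F k)) hG U (i + 1)).symm.toEquiv.subsingleton

include hX

theorem hsurj_levelAb : ∀ U ∈ (𝔛.X 0).affineOpens, ∀ k : ℕ,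
    Function.Surjective (((levelAb h 𝔐).map (homOfLE (Nat.le_succ k)).op).hom.app (op U)).hom := by
  intro U hU k
  have e : (levelAb h 𝔐).map (homOfLE (Nat.le_succ k)).op = (SheafOfModules.toSheaf _).map
      ((FSch.levelMor 𝔛 h (k + 1)).push.map (𝔐.toPush k) ≫ (FSch.pushCompare 𝔛 h k).app (𝔐.F k)) :=
    congrArg (SheafOfModules.toSheaf _).map (FSch.levelSysOf_map_succ 𝔛 h 𝔐.F 𝔐.toPush k)
  rw [e]
  exact trSec_surjective h 𝔐 hM hU k

/-- The module of a system of coherent modules is acyclic on affine opens. -/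
theorem subsingleton_H'_realMod {V : (𝔛.X 0).Opens} (hV : IsAffineOpen V) (n : ℕ) :
    Subsingleton (Sheaf.H' ((SheafOfModules.toSheaf _).obj (𝔐.realMod h)) (n + 1) V) := by
  have := LimCohLib.subsingleton_HU_limit (levelAb h 𝔐) _ (𝔛.X 0).isBasis_affineOpens (hvan_levelAb h 𝔐 hM)
    (hsurj_levelAb h hX 𝔐 hM) hV n
  exact @Equiv.subsingleton _ _ (((Sheaf.cohomologyPresheafFunctor _ (n + 1)).mapIso
    (preservesLimitIso (SheafOfModules.toSheaf (ModSite.ringSh (𝔛.Osh h)))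
      (FSch.levelSysOf 𝔛 h 𝔐.F 𝔐.toPush))).app (op V)).addCommGroupIsoToAddEquiv.toEquiv this

omit hM hX in
/-- The cohomology of a module is that of its direct image under an affine map to a scheme, for modules
acyclic on affine opens. -/
theorem nonempty_HF_push {Y : Scheme.{u}} (p : ∀ n, 𝔛.X n ⟶ Y) (hp : ∀ n, 𝔛.ι n ≫ p (n + 1) = p n)
    [IsAffineHom (p 0)] (M : ModSite.Mod (𝔛.Osh h))
    (hacy : ∀ (V : (𝔛.X 0).Opens), IsAffineOpen V → ∀ n : ℕ,
      Subsingleton (Sheaf.H' ((SheafOfModules.toSheaf _).obj M) (n + 1) V)) (n : ℕ) :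
    Nonempty (FSch.HF 𝔛 h M n ≃+ Coh.HH Y ((FSch.toSchemeMor 𝔛 h p hp).push.obj M) n) := by
  have hG : AcyclicOverBasis (X := (𝔛.X 0).toTopCat) (Y := Y.toTopCat) (p 0).base
      Y.affineOpens ((SheafOfModules.toSheaf _).obj M) := fun V hV n => hacy _ (hV.preimage (p 0)) n
  exact ⟨((H'TopEquiv (X := (𝔛.X 0).toTopCat) ((SheafOfModules.toSheaf _).obj M) n).symm.trans
    (H'PushEquiv Y.isBasis_affineOpens ((SheafOfModules.toSheaf _).obj M) hG ⊤ n)).trans
      (HHTopEquiv ((FSch.toSchemeMor 𝔛 h p hp).push.obj M) n).symm⟩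

end Groth.Agent.FModLib
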