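import Groth.Agent.FModLib.LevelML
import Groth.Agent.FModLib.RealCoh

/-!
# Cohomology of a coherent module, proper over `Spf A`, as the limit of that of its truncations
-/

set_option autoImplicit false
set_option backward.isDefEq.respectTransparency false
set_option linter.style.haveILetI false
set_option linter.unusedSectionVars false

universe u

open CategoryTheory CategoryTheory.Limits CategoryTheory.Abelian AlgebraicGeometry Opposite TopologicalSpace
open Groth.Agent.FBlowLib Groth.Agent.DerCompLib Groth.Agent.Coherent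

namespace Groth.Agent.FModLib

variable {A : Type u} [CommRing A] {J : Ideal A} {𝔛 : FSch.Sys.{u}} (f : 𝔛 ⟶ FSch.spf A J)
  (h : 𝔛.IsFormal) (hX : 𝔛.IsLocNoethFormal) (M : ModSite.Mod (𝔛.Osh h))

/-- The inverse system of underlying sheaves of the truncations. -/
noncomputable abbrev downAb : ℕᵒᵖ ⥤ CohTop.Ab (𝔛.X 0).toTopCat := levelAb h (downSys h M)

theorem downAb_map (k : ℕ) :
    (downAb h M).map (homOfLE (Nat.le_succ k)).op = (abF h).map (FSch.levelTrans 𝔛 h M k) := by
  refine congrArg (abF h).map ((FSch.levelSysOf_map_succ 𝔛 h (downSys h M).F (downSys h M).toPush k).trans ?_)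
  rw [downSys_toPush]
  rfl

include hX in
/-- A coherent module as the limit of its truncations, as sheaves. -/
theorem exists_limit_iso (hM : FSch.IsCohF 𝔛 h M) :
    ∃ e : (abF h).obj M ≅ limit (downAb h M), ∀ k,
      e.hom ≫ limit.π (downAb h M) (op k) = (abF h).map ((FSch.levelMor 𝔛 h k).adj.unit.app M) := by
  haveI := isIso_theta h hX M hM
  haveI : PreservesLimitsOfShape ℕᵒᵖ (abF h) := preservesLimitsOfShape_toAbF h
  refine ⟨(abF h).mapIso (asIso (theta h M)) ≪≫
    preservesLimitIso (abF h) (FSch.levelSysOf 𝔛 h (downSys h M).F (downSys h M).toPush), fun k => ?_⟩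
  rw [Iso.trans_hom, Category.assoc, ← theta_realProj h M k, Functor.map_comp]
  exact congrArg ((abF h).map (theta h M) ≫ ·)
    (preservesLimitIso_hom_π (abF h) (FSch.levelSysOf 𝔛 h (downSys h M).F (downSys h M).toPush) (op k))

section Gen

variable {X : TopCat.{u}} (F : ℕᵒᵖ ⥤ CohTop.Ab X) (B : Set (Opens X)) (hB : Opens.IsBasis B)
  (hvan : ∀ U ∈ B, ∀ (k i : ℕ), 0 < i → Subsingleton (CohTop.HU (F.obj (op k)) i U))
  (hsurj : ∀ U ∈ B, ∀ k : ℕ,
    Function.Surjective ((F.map (homOfLE (Nat.le_succ k)).op).hom.app (op U)).hom)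
  {P : CohTop.Ab X} (e : P ≅ limit F)

include hB hvan hsurj in
theorem eq_zero_of_limit_iso (n : ℕ)
    (hML : ∀ p, p + 1 = n →
      ((F ⋙ Sheaf.functorH (Opens.grothendieckTopology X) p) ⋙ forget AddCommGrpCat).IsMittagLeffler)
    (x : CohTop.H P n) (hx : ∀ k, Sheaf.H.map (e.hom ≫ limit.π F (op k)) n x = 0) : x = 0 := by
  suffices h0 : Sheaf.H.map e.hom n x = 0 by
    rw [← Sheaf.H.map_id_apply x, ← e.hom_inv_id, Sheaf.H.map_comp_apply, h0, map_zero]
  have hx' : ∀ k, Sheaf.H.map (limit.π F (op k)) n (Sheaf.H.map e.hom n x) = 0 := fun k =>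
    (Sheaf.H.map_comp_apply _ _ _).symm.trans (hx k)
  generalize Sheaf.H.map e.hom n x = η at hx'
  cases n with
  | zero =>
    obtain ⟨g, rfl⟩ := (Ext.mk₀_bijective _ _).2 η
    have hg : g = 0 := by
      refine limit.hom_ext fun j => ?_
      obtain ⟨k⟩ := j
      rw [zero_comp]
      refine (Ext.mk₀_bijective _ _).1 ?_
      rw [← Ext.mk₀_comp_mk₀, Ext.mk₀_zero]
      exact hx' k
    rw [hg, Ext.mk₀_zero]
  | succ p =>
    exact LimCohLib.H_limit_ext F B hB hvan hsurj p (hML p rfl) η 0 fun k => (hx' k).trans (map_zero (Sheaf.H.map (limit.π F (op k)) (p + 1))).symm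

include hB hvan hsurj in
theorem exists_of_limit_iso (n : ℕ) (y : ∀ k, CohTop.H (F.obj (op k)) n)
    (hy : ∀ k, Sheaf.H.map (F.map (homOfLE (Nat.le_succ k)).op) n (y (k + 1)) = y k) :
    ∃ x : CohTop.H P n, ∀ k, Sheaf.H.map (e.hom ≫ limit.π F (op k)) n x = y k := by
  obtain ⟨η, hη⟩ := LimCohLib.exists_H_limit F B hB hvan hsurj n y hy
  refine ⟨Sheaf.H.map e.inv n η, fun k => ?_⟩
  rw [← Sheaf.H.map_comp_apply e.inv, Iso.inv_hom_id_assoc]
  exact hη k

end Gen

include hX in
theorem isMittagLeffler_downAb [IsNoetherianRing A] (hp : FSch.IsProperHom f) (hM : FSch.IsCohF 𝔛 h M) (p : ℕ) :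
    ((downAb h M ⋙ Sheaf.functorH (Opens.grothendieckTopology (𝔛.X 0).toTopCat) p) ⋙
      forget AddCommGrpCat).IsMittagLeffler :=
  TowerML.isMittagLeffler_of_stable _ (fun k => Sheaf.H.map ((abF h).map (FSch.levelTrans 𝔛 h M k)) p)
    (fun k x => congrArg (fun g => Sheaf.H.map g p x) (downAb_map h M k))
    (exists_stable_HF f h hX hp hM p)

include hX in
/-- Classes vanishing on all truncations vanish. -/
theorem eq_zero_HF_levels [IsNoetherianRing A] (hp : FSch.IsProperHom f) (hM : FSch.IsCohF 𝔛 h M) (n : ℕ)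
    (x : Sheaf.H ((abF h).obj M) n)
    (hx : ∀ k, Sheaf.H.map ((abF h).map ((FSch.levelMor 𝔛 h k).adj.unit.app M)) n x = 0) : x = 0 := by
  obtain ⟨e, he⟩ := exists_limit_iso h hX M hM
  exact eq_zero_of_limit_iso (downAb h M) _ (𝔛.X 0).isBasis_affineOpens
    (hvan_levelAb h (downSys h M) (isCoh_down h hX M hM))
    (hsurj_levelAb h hX (downSys h M) (isCoh_down h hX M hM)) e n
    (fun p _ => isMittagLeffler_downAb f h hX M hp hM p) x
    fun k => (congrArg (fun g => Sheaf.H.map g n x) (he k)).trans (hx k)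

include hX in
/-- Compatible classes on the truncations come from one class. -/
theorem exists_HF_levels (hM : FSch.IsCohF 𝔛 h M) (n : ℕ)
    (y : ∀ k, Sheaf.H ((abF h).obj (up h k (down h k M))) n)
    (hy : ∀ k, Sheaf.H.map ((abF h).map (FSch.levelTrans 𝔛 h M k)) n (y (k + 1)) = y k) :
    ∃ x : Sheaf.H ((abF h).obj M) n,
      ∀ k, Sheaf.H.map ((abF h).map ((FSch.levelMor 𝔛 h k).adj.unit.app M)) n x = y k := by
  obtain ⟨e, he⟩ := exists_limit_iso h hX M hM
  obtain ⟨x, hx⟩ := exists_of_limit_iso (downAb h M) _ (𝔛.X 0).isBasis_affineOpens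
    (hvan_levelAb h (downSys h M) (isCoh_down h hX M hM))
    (hsurj_levelAb h hX (downSys h M) (isCoh_down h hX M hM)) e n y
    fun k => (congrArg (fun g => Sheaf.H.map g n (y (k + 1))) (downAb_map h M k)).trans (hy k)
  exact ⟨x, fun k => (congrArg (fun g => Sheaf.H.map g n x) (he k)).symm.trans (hx k)⟩

end Groth.Agent.FModLib
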