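import Groth.Agent.Coherent.GradedSystem
import Groth.Prelude.Def_ARSys
import Mathlib

/-!
# The Mittag-Leffler condition for towers with eventually generated connecting maps

A tower `G` with connecting maps `δ n : G n → K n` whose kernels are the images of the transitions, raising
operators on both sides, and `K` eventually generated and finite, is Mittag-Leffler, uniformly.
-/

set_option autoImplicit false
set_option linter.unusedSectionVars false

universe u v w

open CategoryTheory CategoryTheory.Limits Opposite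
open Groth.Agent.Coherent

namespace Groth.Agent.FModLib.TowerML

section Tower

variable {G : ℕ → Type v} [∀ n, AddCommGroup (G n)] (t : ∀ n, G (n + 1) →+ G n)

/-- The composite of `r` transition maps. -/
def trc : ∀ (r n : ℕ), G (n + r) →+ G n
  | 0, n => AddMonoidHom.id (G n)
  | r + 1, n => (trc r n).comp (t (n + r))

/-- The elements killed by `r` transition maps, everything below degree `r`. -/
def dn : ∀ (_ j : ℕ), AddSubgroup (G j)
  | 0, _ => ⊥
  | _ + 1, 0 => ⊤
  | r + 1, j + 1 => (dn r j).comap (t j)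

theorem dn_mono : ∀ {r s j : ℕ}, r ≤ s → dn t r j ≤ dn t s j
  | 0, _, _, _ => fun x hx => by
    rw [dn, AddSubgroup.mem_bot] at hx
    exact hx ▸ zero_mem _
  | r + 1, 0, _, h => absurd h (by omega)
  | r + 1, s + 1, 0, _ => le_rfl
  | r + 1, s + 1, j + 1, h => AddSubgroup.comap_mono (dn_mono (Nat.le_of_succ_le_succ h))

theorem dn_succ_self : ∀ j, dn t (j + 1) j = ⊤
  | 0 => rfl
  | j + 1 => by rw [dn, dn_succ_self j, AddSubgroup.comap_top]

theorem trc_eq_zero : ∀ {r s : ℕ} (k : ℕ), r ≤ s → ∀ z ∈ dn t r (k + s), trc t s k z = 0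
  | 0, s, k, _, z, hz => by
    rw [dn, AddSubgroup.mem_bot] at hz
    rw [hz, map_zero]
  | r + 1, 0, k, h, _, _ => absurd h (by omega)
  | r + 1, s + 1, k, h, z, hz => trc_eq_zero k (Nat.le_of_succ_le_succ h) (t (k + s) z) hz

variable {A : Type u} [CommRing A] {K : ℕ → Type w} [∀ n, AddCommGroup (K n)] [∀ n, Module A (K n)]
  (δ : ∀ n, G n →+ K n) (sc : ∀ n, A → G n →+ G n)
  (hsct : ∀ n a x, t n (sc (n + 1) a x) = sc n a (t n x)) (hscδ : ∀ n a x, δ n (sc n a x) = a • δ n x)

include hsct in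
theorem sc_mem_dn : ∀ (r j : ℕ) (a : A) (z : G j), z ∈ dn t r j → sc j a z ∈ dn t r j
  | 0, j, a, z, hz => by
    rw [dn, AddSubgroup.mem_bot] at hz ⊢
    rw [hz, map_zero]
  | r + 1, 0, a, z, _ => trivial
  | r + 1, j + 1, a, z, hz => by
    show t j (sc (j + 1) a z) ∈ dn t r j
    rw [hsct]
    exact sc_mem_dn r j a _ hz

include hsct hscδ in
theorem exists_image (r j : ℕ) :
    ∃ B : Submodule A (K j), ∀ b, b ∈ B ↔ ∃ z ∈ dn t r j, δ j z = b :=
  ⟨{ toAddSubmonoid := ((dn t r j).map (δ j)).toAddSubmonoid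
     smul_mem' := by
       rintro a _ ⟨z, hz, rfl⟩
       exact ⟨sc j a z, sc_mem_dn t sc hsct r j a z hz, hscδ j a z⟩ }, fun _ => Iff.rfl⟩

variable {ι : Type} [Fintype ι] (T : ι → ∀ n, G n →+ G (n + 1)) (S : ι → ∀ n, K n →ₗ[A] K (n + 1))
  (hTS : ∀ i n x, δ (n + 1) (T i n x) = S i n (δ n x))
  (hTt : ∀ i n x, t (n + 1) (T i (n + 1) x) = T i n (t n x)) (hT0 : ∀ i x, t 0 (T i 0 x) = 0)

include hTt hT0 in
theorem raise_mem_dn : ∀ (r j : ℕ) (i : ι) (z : G j), z ∈ dn t r j → T i j z ∈ dn t r (j + 1)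
  | 0, j, i, z, hz => by
    rw [dn, AddSubgroup.mem_bot] at hz ⊢
    rw [hz, map_zero]
  | r + 1, 0, i, z, _ => by
    show t 0 (T i 0 z) ∈ dn t r 0
    rw [hT0]
    exact zero_mem _
  | r + 1, j + 1, i, z, hz => by
    show t (j + 1) (T i (j + 1) z) ∈ dn t r (j + 1)
    rw [hTt]
    exact raise_mem_dn r j i _ hz

include hsct hscδ hTS hTt hT0 in
/-- The images of the composites of transition maps are eventually constant, uniformly. -/
theorem exists_stable [IsNoetherianRing A] (hfin : ∀ n, Module.Finite A (K n))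
    (hex : ∀ n x, δ n x = 0 → ∃ y, t n y = x)
    (hcomm : ∀ i j n (x : K n), S i (n + 1) (S j n x) = S j (n + 1) (S i n x)) (hS : EG S) :
    ∃ r, ∀ k s, r ≤ s → ∀ x : G (k + s), ∃ y : G (k + (s + 1)), trc t (s + 1) k y = trc t s k x := by
  choose B hB using fun r j => exists_image t δ sc hsct hscδ r j
  let U : ∀ j, Submodule A (K j) := fun j => B (j + 1) j
  have hU : ∀ j x, δ j x ∈ U j := fun j x => (hB _ j _).2 ⟨x, dn_succ_self t j ▸ trivial, rfl⟩
  have hSU : ∀ i j, ∀ b ∈ U j, S i j b ∈ U (j + 1) := fun i j b hb => by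
    obtain ⟨z, -, rfl⟩ := (hB _ j b).1 hb
    exact hTS i j z ▸ hU _ _
  obtain ⟨n₀, hn₀⟩ := hS.sub (K := fun n => U n) (S := fun i n => (S i n).restrict (hSU i n))
    hfin hcomm (fun n => (U n).subtype) (fun n => Subtype.val_injective) (fun i n x => rfl)
  have key : ∀ j, ∀ b ∈ U j, b ∈ B (n₀ + 1) j := by
    have hlow : ∀ j, j ≤ n₀ → ∀ b ∈ U j, b ∈ B (n₀ + 1) j := fun j hj b hb => by
      obtain ⟨z, hz, rfl⟩ := (hB _ j b).1 hb
      exact (hB _ j _).2 ⟨z, dn_mono t (by omega) hz, rfl⟩
    intro j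
    rcases le_total j n₀ with hj | hj
    · exact hlow j hj
    induction j, hj using Nat.le_induction with
    | base => exact hlow n₀ le_rfl
    | succ j hj ih =>
      intro b hb
      obtain ⟨y, hy⟩ := hn₀ j hj ⟨b, hb⟩
      have e : b = ∑ i, S i j (y i).1 := by
        have := congrArg Subtype.val hy
        simpa only [Submodule.coe_sum, LinearMap.restrict_apply] using this
      rw [e]
      refine Submodule.sum_mem _ fun i _ => ?_
      obtain ⟨z, hz, hzy⟩ := (hB _ j _).1 (ih (y i).1 (y i).2)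
      exact (hB _ _ _).2 ⟨T i j z, raise_mem_dn t T hTt hT0 _ j i z hz, by rw [hTS, hzy]⟩
  refine ⟨n₀ + 1, fun k s hs x => ?_⟩
  obtain ⟨z, hz, hzx⟩ := (hB _ _ _).1 (key (k + s) _ (hU (k + s) x))
  obtain ⟨y, hy⟩ := hex (k + s) (x - z) (by rw [map_sub, hzx, sub_self])
  refine ⟨y, ?_⟩
  show trc t s k (t (k + s) y) = trc t s k x
  rw [hy, map_sub, trc_eq_zero t k hs z hz, sub_zero]

end Tower

/-- Subobjects given by images are ordered by their ranges. -/
theorem imageSubobject_le_of_range_le {P Q N : AddCommGrpCat.{v}} (f : P ⟶ N) (g : Q ⟶ N)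
    (h : f.hom.range ≤ g.hom.range) : imageSubobject f ≤ imageSubobject g := by
  let m := (imageSubobject f).arrow
  let m' := (imageSubobject g).arrow
  have hm' : Function.Injective m'.hom := (AddCommGrpCat.mono_iff_injective m').1 inferInstance
  have hm : ∀ z, m.hom z ∈ m'.hom.range := fun z => by
    obtain ⟨p, rfl⟩ := (AddCommGrpCat.epi_iff_surjective (factorThruImageSubobject f)).1 inferInstance z
    obtain ⟨q, hq⟩ := h ⟨p, rfl⟩
    refine ⟨(factorThruImageSubobject g).hom q, ?_⟩
    refine ((ConcreteCategory.congr_hom (imageSubobject_arrow_comp g) q).trans hq).trans ?_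
    exact (ConcreteCategory.congr_hom (imageSubobject_arrow_comp f) p).symm
  refine Subobject.le_of_comm (AddCommGrpCat.ofHom
    ((AddMonoidHom.ofInjective hm').symm.toAddMonoidHom.comp (m.hom.codRestrict _ hm))) ?_
  exact AddCommGrpCat.ext fun z => AddMonoidHom.apply_ofInjective_symm hm' ⟨m.hom z, hm z⟩

/-- A functor whose composites have eventually constant images is Mittag-Leffler. -/
theorem isMittagLeffler_of_stable (F : ℕᵒᵖ ⥤ AddCommGrpCat.{v})
    (t : ∀ n, F.obj (op (n + 1)) →+ F.obj (op n))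
    (ht : ∀ n x, (F.map (homOfLE (Nat.le_succ n)).op).hom x = t n x)
    (h : ∃ r, ∀ k s, r ≤ s → ∀ x : F.obj (op (k + s)), ∃ y : F.obj (op (k + (s + 1))),
      trc (G := fun n => F.obj (op n)) t (s + 1) k y = trc (G := fun n => F.obj (op n)) t s k x) :
    (F ⋙ forget AddCommGrpCat.{v}).IsMittagLeffler := by
  obtain ⟨r, hr⟩ := h
  have htr : ∀ s k (x : F.obj (op (k + s))),
      (F.map (homOfLE (Nat.le_add_right k s)).op).hom x = trc (G := fun n => F.obj (op n)) t s k x := by
    intro s k
    induction s with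
    | zero =>
      intro x
      exact ConcreteCategory.congr_hom (F.map_id (op k)) x
    | succ s ih =>
      intro x
      refine Eq.trans ?_ (ih (t (k + s) x))
      rw [← ht]
      exact ConcreteCategory.congr_hom ((congrArg F.map (Subsingleton.elim
        (homOfLE (Nat.le_add_right k (s + 1))).op
        ((homOfLE (Nat.le_succ (k + s))).op ≫ (homOfLE (Nat.le_add_right k s)).op))).trans (F.map_comp _ _)) x
  have hfar : ∀ k s (x : F.obj (op (k + r))), r ≤ s → ∃ y : F.obj (op (k + s)),
      trc (G := fun n => F.obj (op n)) t s k y = trc (G := fun n => F.obj (op n)) t r k x := by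
    intro k s x hs
    induction s, hs using Nat.le_induction with
    | base => exact ⟨x, rfl⟩
    | succ s hs ih =>
      obtain ⟨y, hy⟩ := ih
      obtain ⟨z, hz⟩ := hr k s hs y
      exact ⟨z, hz.trans hy⟩
  rintro ⟨k⟩
  refine ⟨op (k + r), (homOfLE (Nat.le_add_right k r)).op, ?_⟩
  rintro ⟨m⟩ g _ ⟨x, rfl⟩
  obtain ⟨s, rfl⟩ := Nat.le.dest (leOfHom g.unop)
  rcases le_total s r with hs | hs
  · refine ⟨(F.map (homOfLE (Nat.add_le_add_left hs k)).op).hom x, ?_⟩
    show (F.map g).hom _ = (F.map _).hom x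
    exact (ConcreteCategory.congr_hom (F.map_comp _ g) x).symm.trans
      (congrArg (fun φ => (F.map φ).hom x) (Subsingleton.elim _ _))
  · obtain ⟨y, hy⟩ := hfar k s x hs
    refine ⟨y, ?_⟩
    show (F.map g).hom y = (F.map _).hom x
    rw [show g = (homOfLE (Nat.le_add_right k s)).op from Subsingleton.elim _ _]
    exact (htr s k y).trans (hy.trans (htr r k x).symm)

/-- A tower whose composites have eventually constant images is Mittag-Leffler. -/
theorem isML_of_stable {X : ℕ → AddCommGrpCat.{v}} (φ : ∀ n, X (n + 1) ⟶ X n)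
    (h : ∃ r, ∀ k s, r ≤ s → ∀ x : X (k + s), ∃ y : X (k + (s + 1)),
      trc (G := fun n => X n) (fun n => (φ n).hom) (s + 1) k y =
        trc (G := fun n => X n) (fun n => (φ n).hom) s k x) :
    ARSys.IsML (Functor.ofOpSequence φ) := by
  obtain ⟨r, hr⟩ := h
  let F := Functor.ofOpSequence φ
  have htr : ∀ s k (x : X (k + s)), (ARSys.shiftMap F s k).hom x =
      trc (G := fun n => X n) (fun n => (φ n).hom) s k x := by
    intro s k
    induction s with
    | zero =>
      intro x
      exact ConcreteCategory.congr_hom (F.map_id (op k)) x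
    | succ s ih =>
      intro x
      have e : ARSys.shiftMap F (s + 1) k = F.map (homOfLE (Nat.le_add_right (k + s) 1)).op ≫
          ARSys.shiftMap F s k := by
        exact (congrArg F.map (Subsingleton.elim _ _)).trans (F.map_comp _ _)
      rw [e, Functor.ofOpSequence_map_homOfLE_succ φ (k + s)]
      exact ih _
  intro k
  refine ⟨r, fun s hs => ?_⟩
  induction s, hs using Nat.le_induction with
  | base => rfl
  | succ s hs ih =>
    rw [← ih]
    refine le_antisymm (imageSubobject_le_of_range_le _ _ ?_) (imageSubobject_le_of_range_le _ _ ?_)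
    · rintro _ ⟨x, rfl⟩
      refine ⟨(φ (k + s)).hom x, ?_⟩
      exact (htr s k _).trans (htr (s + 1) k x).symm
    · rintro _ ⟨x, rfl⟩
      obtain ⟨y, hy⟩ := hr k s hs x
      exact ⟨y, (htr (s + 1) k y).trans (hy.trans (htr s k x).symm)⟩

end Groth.Agent.FModLib.TowerML
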