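import Groth.Agent.FModLib.LevelTower
import Groth.Agent.FModLib.TowerML
import Groth.Agent.Coherent.ProperFinite
import Groth.Agent.S6160
import Groth.Prelude.Def_FSch5

/-!
# Mittag-Leffler condition for the cohomology of the truncations of a coherent module, proper over `Spf A`
-/

set_option autoImplicit false
set_option backward.isDefEq.respectTransparency false
set_option linter.style.haveILetI false
set_option linter.unusedSectionVars false

universe u

open CategoryTheory CategoryTheory.Limits CategoryTheory.Abelian AlgebraicGeometry Opposite TopologicalSpace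
open Groth.Agent.FBlowLib Groth.Agent.DerCompLib Groth.Agent.Coherent

namespace Groth.Agent.FModLib

variable {A : Type u} [CommRing A] {J : Ideal A} {𝔛 : FSch.Sys.{u}} (f : 𝔛 ⟶ FSch.spf A J)
  (h : 𝔛.IsFormal) (hX : 𝔛.IsLocNoethFormal) (hf : FSch.IsAdicHom f)
  {M : ModSite.Mod (𝔛.Osh h)} (hM : FSch.IsCohF 𝔛 h M)

/-- Short exact sequences of modules on a site are short exact on abelian sheaves. -/
theorem shortExact_toSheaf {C : Type u} [SmallCategory C] {K : GrothendieckTopology C}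
    {O : Sheaf K CommRingCat.{u}} {S : ShortComplex (ModSite.Mod O)} (hS : S.ShortExact) :
    (S.map (SheafOfModules.toSheaf.{u} (ModSite.ringSh O))).ShortExact := by
  haveI : PreservesColimitsOfSize.{u, u} (SheafOfModules.toSheaf.{u} (ModSite.ringSh O)) :=
    ⟨fun {T} _ => preservesColimitsOfShape_toSheaf T⟩
  haveI : PreservesColimitsOfSize.{0, 0} (SheafOfModules.toSheaf.{u} (ModSite.ringSh O)) :=
    preservesColimitsOfSize_shrink.{0, u, 0, u} _
  haveI : PreservesLimitsOfSize.{u, u} (SheafOfModules.toSheaf.{u} (ModSite.ringSh O)) :=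
    ⟨fun {T} _ => S6160.preservesLimitsOfShape_toSheaf (ModSite.ringSh O) T⟩
  haveI : PreservesLimitsOfSize.{0, 0} (SheafOfModules.toSheaf.{u} (ModSite.ringSh O)) :=
    preservesLimitsOfSize_shrink.{0, u, 0, u} _
  exact hS.map_of_exact _

section Gen

variable {C : Type u} [SmallCategory C] {K : GrothendieckTopology C} [HasSheafify K AddCommGrpCat.{u}]
  [HasExt.{u} (Sheaf K AddCommGrpCat.{u})] {S S' : ShortComplex (Sheaf K AddCommGrpCat.{u})}
  (hS : S.ShortExact) (hS' : S'.ShortExact) {F F' : Sheaf K AddCommGrpCat.{u}}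

/-- A connecting map followed by a morphism. -/
noncomputable def delGen (θ : S.X₁ ⟶ F) (n : ℕ) : Sheaf.H S.X₃ n →+ Sheaf.H F (n + 1) :=
  (Sheaf.H.map θ (n + 1)).comp (hS.extClass.postcomp _ rfl)

theorem delGen_natural (τ : S ⟶ S') (θ : S.X₁ ⟶ F) (θ' : S'.X₁ ⟶ F') (g : F ⟶ F')
    (w : τ.τ₁ ≫ θ' = θ ≫ g) (n : ℕ) (x : Sheaf.H S.X₃ n) :
    delGen hS' θ' n (Sheaf.H.map τ.τ₃ n x) = Sheaf.H.map g (n + 1) (delGen hS θ n x) := by
  have hnat : Sheaf.H.map τ.τ₁ (n + 1) (hS.extClass.postcomp _ rfl x) =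
      hS'.extClass.postcomp _ rfl (Sheaf.H.map τ.τ₃ n x) := by
    show (Ext.comp x hS.extClass rfl).comp (Ext.mk₀ τ.τ₁) (add_zero _) =
      (Ext.comp x (Ext.mk₀ τ.τ₃) (add_zero n)).comp hS'.extClass rfl
    rw [Ext.comp_assoc_of_third_deg_zero, Ext.comp_assoc_of_second_deg_zero]
    exact congrArg (fun z => Ext.comp x z rfl) (ShortComplex.ShortExact.extClass_naturality hS hS' τ)
  show Sheaf.H.map θ' (n + 1) (hS'.extClass.postcomp _ rfl (Sheaf.H.map τ.τ₃ n x)) =
    Sheaf.H.map g (n + 1) (Sheaf.H.map θ (n + 1) (hS.extClass.postcomp _ rfl x))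
  rw [← hnat]
  exact hMap_comm w (n + 1) _

theorem exists_of_delGen_eq_zero (θ : S.X₁ ⟶ F) [IsIso θ] (n : ℕ) (x : Sheaf.H S.X₃ n)
    (hx : delGen hS θ n x = 0) : ∃ y, Sheaf.H.map S.g n y = x :=
  Ext.covariant_sequence_exact₃ _ hS x rfl
    ((hMapEquiv (asIso θ) (n + 1)).injective (hx.trans (map_zero (hMapEquiv (asIso θ) (n + 1))).symm))

end Gen

variable (M) in
/-- The sequence of a transition map. -/
noncomputable abbrev ltSeq (k : ℕ) : ShortComplex (ModSite.Mod (𝔛.Osh h)) :=
  ShortComplex.mk (kernel.ι (lt' h M k)) (lt' h M k) (kernel.condition _)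

include hX hM in
theorem ltSeq_shortExact (k : ℕ) : ((ltSeq h M k).map (abF h)).ShortExact :=
  haveI := epi_levelTrans h hX hM k
  shortExact_toSheaf
    { exact := ShortComplex.exact_of_f_is_kernel _ (kernelIsKernel (lt' h M k))
      mono_f := inferInstanceAs (Mono (kernel.ι (lt' h M k)))
      epi_g := inferInstanceAs (Epi (lt' h M k)) }

/-- Multiplication on the sequences. -/
noncomputable def muSeq (a : J) (k : ℕ) : ltSeq h M k ⟶ ltSeq h M (k + 1) where
  τ₁ := muK f h hX hf hM a k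
  τ₂ := mu f h hX hf hM a (k + 1)
  τ₃ := mu f h hX hf hM a k
  comm₁₂ := muK_ι f h hX hf hM a k
  comm₂₃ := mu_lt_comm f h hX hf hM a k

/-- Scalars on the sequences. -/
noncomputable def sclSeq (a : A) (k : ℕ) : ltSeq h M k ⟶ ltSeq h M k where
  τ₁ := scl f h a _
  τ₂ := scl f h a _
  τ₃ := scl f h a _
  comm₁₂ := DerComp.smulEnd_comm _ _
  comm₂₃ := DerComp.smulEnd_comm _ _

/-- The connecting map, on the direct image from the smallest level. -/
noncomputable def delU (n k : ℕ) :
    Sheaf.H ((abF h).obj (up h k (down h k M))) n →+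
      Sheaf.H ((abF h).obj (up h 0 (lvN h M k))) (n + 1) :=
  delGen (ltSeq_shortExact h hX hM k) ((abF h).map (lvθ h M k)) n

/-- The connecting map, to the cohomology on the smallest level. -/
noncomputable def delK (n k : ℕ) :
    Sheaf.H ((abF h).obj (up h k (down h k M))) n →+
      HA (Coh.toGlobal (pSpf f 0)) (lvN h M k) (⊤ : (𝔛.X 0).Opens) (n + 1) :=
  (upZeroH h (Coh.toGlobal (pSpf f 0)) (lvN h M k) (n + 1)).toAddMonoidHom.comp (delU h hX hM n k)

theorem delK_apply {n k : ℕ} (x : Sheaf.H ((abF h).obj (up h k (down h k M))) n) :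
    delK f h hX hM n k x =
      upZeroH h (Coh.toGlobal (pSpf f 0)) (lvN h M k) (n + 1) (delU h hX hM n k x) := rfl

theorem delU_natural {n j k : ℕ} (τ : ltSeq h M j ⟶ ltSeq h M k) (g : lvN h M j ⟶ lvN h M k)
    (w : τ.τ₁ ≫ lvθ h M k = lvθ h M j ≫ (FSch.levelMor 𝔛 h 0).push.map g)
    (x : Sheaf.H ((abF h).obj (up h j (down h j M))) n) :
    delU h hX hM n k (Sheaf.H.map ((abF h).map τ.τ₃) n x) =
      Sheaf.H.map ((abF h).map ((FSch.levelMor 𝔛 h 0).push.map g)) (n + 1) (delU h hX hM n j x) :=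
  delGen_natural (ltSeq_shortExact h hX hM j) (ltSeq_shortExact h hX hM k) ((abF h).mapShortComplex.map τ)
    ((abF h).map (lvθ h M j)) ((abF h).map (lvθ h M k)) _
    (((abF h).map_comp _ _).symm.trans ((congrArg (abF h).map w).trans ((abF h).map_comp _ _))) n x

theorem delK_natural {n j k : ℕ} (τ : ltSeq h M j ⟶ ltSeq h M k) (g : lvN h M j ⟶ lvN h M k)
    (w : τ.τ₁ ≫ lvθ h M k = lvθ h M j ≫ (FSch.levelMor 𝔛 h 0).push.map g)
    (x : Sheaf.H ((abF h).obj (up h j (down h j M))) n) :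
    delK f h hX hM n k (Sheaf.H.map ((abF h).map τ.τ₃) n x) =
      postA (Coh.toGlobal (pSpf f 0)) g ⊤ (n + 1) (delK f h hX hM n j x) := by
  rw [delK_apply, delK_apply, delU_natural h hX hM τ g w x]
  exact upZeroH_natural h _ g (n + 1) _

include hX hM in
theorem exists_of_delK_eq_zero {n k : ℕ} (x : Sheaf.H ((abF h).obj (up h k (down h k M))) n)
    (hx : delK f h hX hM n k x = 0) :
    ∃ y, Sheaf.H.map ((abF h).map (lt' h M k)) n y = x := by
  haveI := isIso_lvθ h hX hM k
  rw [delK_apply, AddEquiv.map_eq_zero_iff] at hx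
  exact exists_of_delGen_eq_zero (ltSeq_shortExact h hX hM k) _ n x hx

include hX in
/-- The images of the transition maps in the cohomology of the truncations are eventually constant. -/
theorem exists_stable_HF [IsNoetherianRing A] (hp : FSch.IsProperHom f) (hM : FSch.IsCohF 𝔛 h M) (n : ℕ) :
    ∃ r, ∀ k s, r ≤ s → ∀ x : Sheaf.H ((abF h).obj (up h (k + s) (down h (k + s) M))) n,
      ∃ y : Sheaf.H ((abF h).obj (up h (k + (s + 1)) (down h (k + (s + 1)) M))) n,
        TowerML.trc (G := fun k => Sheaf.H ((abF h).obj (up h k (down h k M))) n)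
          (fun k => Sheaf.H.map ((abF h).map (FSch.levelTrans 𝔛 h M k)) n) (s + 1) k y =
        TowerML.trc (G := fun k => Sheaf.H ((abF h).obj (up h k (down h k M))) n)
          (fun k => Sheaf.H.map ((abF h).map (FSch.levelTrans 𝔛 h M k)) n) s k x := by
  obtain ⟨r, a, ha⟩ := Submodule.fg_iff_exists_fin_generating_family.1 (IsNoetherian.noetherian J)
  let a' : Fin r → J := fun i => ⟨a i, ha.le (Submodule.subset_span ⟨i, rfl⟩)⟩
  haveI := hp.2
  haveI : IsClosedImmersion (FSch.spfToSpec A J 0) :=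
    IsClosedImmersion.spec_of_surjective _ Ideal.Quotient.mk_surjective
  haveI : IsProper (pSpf f 0) :=
    inferInstanceAs (IsProper ((f : FSch.Hom 𝔛 (FSch.spf A J)).app 0 ≫ FSch.spfToSpec A J 0))
  haveI := hX.2.2 0
  haveI : CompactSpace (𝔛.X 0) := QuasiCompact.compactSpace_of_compactSpace (pSpf f 0)
  let φ := Coh.toGlobal (pSpf f 0)
  have hN : ∀ k, Coh.IsCoh (lvN h M k) := fun k => isCoh_down h hX _ (isCohF_lvK h hX hM k) 0
  have hfin : ∀ k, Module.Finite A (HA φ (lvN h M k) (⊤ : (𝔛.X 0).Opens) (n + 1)) := fun k =>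
    finCoh_of_isProper (pSpf f 0) _ (hN k) (n + 1)
  have hEG := eg_HA φ Set.univ (fun N hN _ q => finCoh_of_isProper (pSpf f 0) N hN q) r
    (fun k => lvN h M k) hN (fun k => Set.subset_univ _) (fun i k => nu f h hX hp.1 hM (a' i) k)
    (fun i j k => nu_comm f h hX hp.1 hM (a' i) (a' j) k) (secEG_nu f h hX hp.1 hM a' ha) (n + 1)
  refine TowerML.exists_stable _ (fun k => delK f h hX hM n k)
    (fun k b => Sheaf.H.map ((abF h).map (scl f h b (up h k (down h k M)))) n)
    (fun k b x => ?_) (fun k b x => ?_)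
    (fun i k => Sheaf.H.map ((abF h).map (mu f h hX hp.1 hM (a' i) k)) n)
    (fun i k => postA φ (nu f h hX hp.1 hM (a' i) k) ⊤ (n + 1)) (fun i k x => ?_) (fun i k x => ?_)
    (fun i x => ?_) hfin (fun k x hx => exists_of_delK_eq_zero f h hX hM x hx) (fun i j k x => ?_) hEG
  · exact hMap_comm (by rw [← Functor.map_comp, ← Functor.map_comp, DerComp.smulEnd_comm]) n x
  · exact (delK_natural f h hX hM (sclSeq f h b k) _ (scl_θ f h b k) x).trans (postA_smulModΓ φ _ b (n + 1) _)
  · exact delK_natural f h hX hM (muSeq f h hX hp.1 hM (a' i) k) _ (muK_θ f h hX hp.1 hM (a' i) k) x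
  · exact hMap_comm (by rw [← Functor.map_comp, ← Functor.map_comp, mu_lt_comm]) n x
  · show Sheaf.H.map ((abF h).map (lt' h M 0)) n (Sheaf.H.map ((abF h).map (mu f h hX hp.1 hM (a' i) 0)) n x) = 0
    rw [← Sheaf.H.map_comp_apply, ← Functor.map_comp, mu_zero_lt, Functor.map_zero]
    show ((Sheaf.functorH _ n).map (0 : _ ⟶ _)).hom x = 0
    rw [Functor.map_zero]
    rfl
  · rw [← postA_comp, ← postA_comp, nu_comm]

include hX in
/-- The Mittag-Leffler condition for the cohomology of the truncations. -/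
theorem isML_HF [IsNoetherianRing A] (hp : FSch.IsProperHom f) (hM : FSch.IsCohF 𝔛 h M) (n : ℕ) :
    ARSys.IsML (Functor.ofOpSequence
      (X := fun k => AddCommGrpCat.of (FSch.HF 𝔛 h (up h k (down h k M)) n))
      (fun k => AddCommGrpCat.ofHom (Sheaf.H.map ((abF h).map (FSch.levelTrans 𝔛 h M k)) n))) :=
  TowerML.isML_of_stable _ (exists_stable_HF f h hX hp hM n)

end Groth.Agent.FModLib
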