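import Groth.Agent.FModLib.LevelCoh
import Groth.Agent.Coherent.RpushCoh

/-!
# Direct images of coherent modules from the levels
-/

set_option autoImplicit false
set_option backward.isDefEq.respectTransparency false
set_option linter.style.haveILetI false
set_option linter.unusedSectionVars false

universe u

open CategoryTheory CategoryTheory.Limits AlgebraicGeometry Opposite TopologicalSpace
open Groth.Agent.FBlowLib Groth.Agent.DerCompLib Groth.Agent.Coherent

namespace Groth.Agent.FModLib

variable {𝔛 : FSch.Sys.{u}} (h : 𝔛.IsFormal) (hX : 𝔛.IsLocNoethFormal)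

include hX in
/-- The direct image of a coherent module from a level has finite sections compatible with base change. -/
theorem isPC_up (k : ℕ) (G : (𝔛.X k).Modules) (hG : Coh.IsCoh G) : IsPC (AFF 𝔛) (up h k G) := by
  haveI := hX.2.2 k
  haveI : Coh.IsQCoh G := hG.1
  have hfin : ∀ U, IsAffineOpen U → Module.Finite Γ(𝔛.X k, U) Γ(G, U) := fun U hU =>
    ((isCoh_iff_finite_sections _).1 hG).2 U hU
  refine ⟨fun U hU => ?_, fun U V i hU hV => ?_, fun U V i hU hV q s a ha => ?_⟩
  · haveI := hfin _ (S13347.isAffineOpen_lvU 𝔛 h k U hU)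
    exact finite_of_semilinear (A := Γ(𝔛.X k, 𝔛.lvU h k U)) (M := Γ(G, 𝔛.lvU h k U))
      (M' := DerCompLib.Sec (up h k G) U) (upVal h).symm.toAddMonoidHom (upVal h).symm.surjective
      fun c x => by
        obtain ⟨r, rfl⟩ := ((sec_props h hX hU).2 k).1 c
        exact ⟨r, rfl⟩
  · refine top_unique fun y _ => ?_
    have h2 := span_resM (S13347.isAffineOpen_lvU 𝔛 h k U hU) (S13347.isAffineOpen_lvU 𝔛 h k V hV)
      (FBlow.lvU_mono 𝔛 h k i) (id : Γ(G, 𝔛.lvU h k U) → _) (by rw [Set.range_id, Submodule.span_univ])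
    have hy : upVal h y ∈ Submodule.span Γ(𝔛.X k, 𝔛.lvU h k V)
        (Set.range fun j => resM G (FBlow.lvU_mono 𝔛 h k i) (id j : Γ(G, 𝔛.lvU h k U))) :=
      h2 ▸ Submodule.mem_top
    rw [← (upVal h).symm_apply_apply y]
    generalize upVal h y = z at hy
    induction hy using Submodule.span_induction with
    | mem z hz =>
      obtain ⟨m, rfl⟩ := hz
      exact Submodule.subset_span ⟨(upVal h).symm m, rfl⟩
    | zero => exact zero_mem _
    | add a b _ _ ha hb => exact add_mem ha hb
    | smul c z _ hz =>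
      obtain ⟨r, rfl⟩ := ((sec_props h hX hV).2 k).1 c
      exact Submodule.smul_mem _ r hz
  · classical
    let S : Submodule (FBlowLib.Sec 𝔛 h V) (Fin q → FBlowLib.Sec 𝔛 h V) :=
      Submodule.span _ ((fun y => oRes (𝔛.Osh h) i ∘ y) '' (relsOf (FBlowLib.Sec 𝔛 h U) s : Set _))
    show a ∈ S
    have hUk := ((sec_props h hX hU).2 k)
    have hVk := ((sec_props h hX hV).2 k)
    have hker : ∀ c : Fin q → FBlowLib.Sec 𝔛 h V, (∀ j, proj 𝔛 h k V (c j) = 0) → c ∈ S := by
      intro c hc
      rw [show c = ∑ j, Pi.single j (c j) from (Finset.univ_sum_single c).symm]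
      refine Submodule.sum_mem _ fun j _ => ?_
      have hj : c j ∈ (jdl h U ^ (k + 1)).map (res 𝔛 h i) := by
        rw [Ideal.map_pow, map_jdl_eq h hX i hU hV, ← hVk.2]
        exact hc j
      refine Submodule.span_induction (p := fun z _ => (Pi.single j z : Fin q → FBlowLib.Sec 𝔛 h V) ∈ S)
        ?_ ?_ ?_ ?_ hj
      · rintro _ ⟨r, hr, rfl⟩
        refine Submodule.subset_span ⟨Pi.single j r, ?_, ?_⟩
        · rw [SetLike.mem_coe, mem_relsOf, Finset.sum_eq_single j (fun b _ hb => by
            rw [Pi.single_eq_of_ne hb, zero_smul]) (fun hj => absurd (Finset.mem_univ j) hj),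
            Pi.single_eq_same]
          rw [SetLike.mem_coe, ← hUk.2] at hr
          apply (upVal h).injective
          rw [upVal_smul, RingHom.mem_ker.1 hr, zero_smul, map_zero]
        · funext l
          by_cases hl : l = j
          · subst hl; simp [oRes]
          · simp [oRes, Pi.single_eq_of_ne hl]
      · rw [Pi.single_zero]; exact zero_mem _
      · intro x y _ _ hx hy; rw [Pi.single_add]; exact add_mem hx hy
      · intro r x _ hx
        rw [show (Pi.single j (r • x) : Fin q → FBlowLib.Sec 𝔛 h V) = r • Pi.single j x from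
          funext fun l => by
            by_cases hl : l = j
            · subst hl; rw [Pi.smul_apply, Pi.single_eq_same, Pi.single_eq_same]
            · rw [Pi.smul_apply, Pi.single_eq_of_ne hl, Pi.single_eq_of_ne hl, smul_zero]]
        exact Submodule.smul_mem _ r hx
    have ha' : ∑ j, proj 𝔛 h k V (a j) • resM G (FBlow.lvU_mono 𝔛 h k i) (upVal h (s j)) = 0 := by
      have := congrArg (upVal h) ha
      rw [map_sum, map_zero] at this
      exact this
    have hm := rels_resM (S13347.isAffineOpen_lvU 𝔛 h k U hU) (S13347.isAffineOpen_lvU 𝔛 h k V hV)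
      (FBlow.lvU_mono 𝔛 h k i) (fun j => upVal h (s j)) (fun j => proj 𝔛 h k V (a j)) ha'
    suffices h3 : ∀ z ∈ Submodule.span Γ(𝔛.X k, 𝔛.lvU h k V)
        ((fun y => ((𝔛.X k).presheaf.map (homOfLE (FBlow.lvU_mono 𝔛 h k i)).op).hom ∘ y) ''
          (relsOf Γ(𝔛.X k, 𝔛.lvU h k U) (fun j => upVal h (s j)) : Set _)),
        ∃ w ∈ S, ∀ j, proj 𝔛 h k V (w j) = z j by
      obtain ⟨w, hw, hwa⟩ := h3 _ hm
      rw [← sub_add_cancel a w]
      exact add_mem (hker _ fun j => by rw [Pi.sub_apply, map_sub, hwa j, sub_self]) hw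
    intro z hz
    induction hz using Submodule.span_induction with
    | mem z hz =>
      obtain ⟨b, hb, rfl⟩ := hz
      choose y hy using fun j => hUk.1 (b j)
      refine ⟨fun j => oRes (𝔛.Osh h) i (y j), Submodule.subset_span ⟨y, ?_, rfl⟩, fun j => ?_⟩
      · rw [SetLike.mem_coe, mem_relsOf]
        apply (upVal h).injective
        rw [map_sum, map_zero, ← (mem_relsOf.1 hb : ∑ j, b j • upVal h (s j) = 0)]
        exact Finset.sum_congr rfl fun j _ => by rw [upVal_smul, hy]
      · exact (proj_res 𝔛 h k i (y j)).trans (congrArg _ (hy j))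
    | zero => exact ⟨0, zero_mem _, fun j => map_zero _⟩
    | add u v _ _ hu hv =>
      obtain ⟨w, hw, hwu⟩ := hu
      obtain ⟨w', hw', hwv⟩ := hv
      exact ⟨w + w', add_mem hw hw', fun j => by rw [Pi.add_apply, map_add, hwu, hwv, Pi.add_apply]⟩
    | smul c u _ hu =>
      obtain ⟨w, hw, hwu⟩ := hu
      obtain ⟨r, rfl⟩ := hVk.1 c
      exact ⟨r • w, Submodule.smul_mem _ r hw, fun j => by
        rw [Pi.smul_apply, smul_eq_mul, map_mul, hwu, Pi.smul_apply, smul_eq_mul]⟩

end Groth.Agent.FModLib
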