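import Groth.Agent.FModLib.PullSys
import Groth.Agent.FModLib.Ideals
import Groth.Agent.FSchLib.Levels
import Groth.Agent.RSpace.FlatBasis
import Groth.Agent.Coherent.FinitePres
import Groth.Prelude.Def_FSch6

/-!
# Finite adic morphisms: sections and direct image of the structure sheaf
-/

set_option autoImplicit false
set_option backward.isDefEq.respectTransparency false
set_option linter.style.haveILetI false
set_option linter.unusedSectionVars false

universe u

open CategoryTheory CategoryTheory.Limits AlgebraicGeometry Opposite TopologicalSpace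
open Groth.Agent.FBlowLib Groth.Agent.DerCompLib Groth.Agent.Coherent

namespace Groth.Agent.FModLib

variable {𝔛 𝔜 : FSch.Sys.{u}} (f : 𝔛 ⟶ 𝔜) (hX : 𝔛.IsFormal) (hY : 𝔜.IsFormal)

/-- The preimage of an open of the common space. -/
noncomputable abbrev preV (U : (𝔜.X 0).Opens) : (𝔛.X 0).Opens := ((f : FSch.Hom 𝔛 𝔜).app 0) ⁻¹ᵁ U

/-- The map of sections. -/
noncomputable abbrev shU (U : (𝔜.X 0).Opens) : Sec 𝔜 hY U →+* Sec 𝔛 hX (preV f U) :=
  RSpace.sm ((f : FSch.Hom 𝔛 𝔜).app 0).base (FSch.Hom.sharp f hX hY) U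

/-- The map of sections of the levels. -/
noncomputable abbrev shLv (n : ℕ) (U : (𝔜.X 0).Opens) :
    Γ(𝔜.X n, 𝔜.lvU hY n U) →+* Γ(𝔛.X n, 𝔛.lvU hX n (preV f U)) :=
  (((f : FSch.Hom 𝔛 𝔜).app n).appLE _ _ (FSch.Hom.lvU_preimage f hX hY n U).ge).hom

theorem proj_shU (n : ℕ) (U : (𝔜.X 0).Opens) (x : Sec 𝔜 hY U) :
    proj 𝔛 hX n (preV f U) (shU f hX hY U x) = shLv f hX hY n U (proj 𝔜 hY n U x) :=
  congrArg (fun φ => (φ : 𝔜.Osh hY ⟶ _).hom.app (op U) x) (FSch.Hom.sharp_proj f hX hY n)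

variable (hX' : 𝔛.IsLocNoethFormal) (hY' : 𝔜.IsLocNoethFormal) (hf : FSch.IsAdicHom f)
  {U : (𝔜.X 0).Opens} (hU : IsAffineOpen U) [IsAffineHom ((f : FSch.Hom 𝔛 𝔜).app 0)]

include hU in
theorem isAffineOpen_preV : IsAffineOpen (preV f U) := hU.preimage _

include hU hf in
set_option maxHeartbeats 1200000 in
theorem ker_tr_eq_map (n : ℕ) :
    RingHom.ker (tr hX n (preV f U)) = (RingHom.ker (tr hY n U)).map (shLv f hX hY (n + 1) U) := by
  haveI := (hY n).1
  haveI := (hX n).1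
  have hV := isAffineOpen_preV f hU
  have key : ∀ {Z W : Scheme.{u}} (g : Z ⟶ W) (P : Z.Opens) (Q : W.affineOpens) (e : P ≤ g ⁻¹ᵁ Q.1)
      [IsClosedImmersion g], P = g ⁻¹ᵁ Q.1 → RingHom.ker (g.appLE Q.1 P e).hom = g.ker.ideal Q := by
    intro Z W g P Q e _ hP
    haveI : IsIso (Z.presheaf.map (homOfLE e).op) := by
      rw [show homOfLE e = eqToHom hP from Subsingleton.elim _ _]
      infer_instance
    rw [Scheme.Hom.ker_apply, Scheme.Hom.appLE, CommRingCat.hom_comp]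
    exact RingHom.ker_comp_of_injective _ (ConcreteCategory.bijective_of_isIso _).1
  rw [key (𝔛.ι n) _ ⟨_, S13347.isAffineOpen_lvU 𝔛 hX (n + 1) _ hV⟩ (𝔛.lvU_le hX n _) (𝔛.lvU_succ hX n _).symm,
    key (𝔜.ι n) _ ⟨_, S13347.isAffineOpen_lvU 𝔜 hY (n + 1) U hU⟩ (𝔜.lvU_le hY n U) (𝔜.lvU_succ hY n U).symm,
    FSchLib.ker_of_isPullback (hf n)]
  exact FSchLib.ideal_comap_eq_map ((f : FSch.Hom 𝔛 𝔜).app (n + 1)) (𝔜.ι n).ker
    ⟨_, S13347.isAffineOpen_lvU 𝔛 hX (n + 1) _ hV⟩ ⟨_, S13347.isAffineOpen_lvU 𝔜 hY (n + 1) U hU⟩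
    (FSch.Hom.lvU_preimage f hX hY (n + 1) U).ge

include hX' hY' hU hf in
theorem map_shU_jdl : (jdl hY U).map (shU f hX hY U) = jdl hX (preV f U) := by
  have hV := isAffineOpen_preV f hU
  refine le_antisymm (Ideal.map_le_iff_le_comap.2 fun x hx => ?_) ?_
  · rw [Ideal.mem_comap, RingHom.mem_ker, proj_shU, RingHom.mem_ker.1 hx, map_zero]
  haveI := isNoetherianRing_sec hX hX' hV
  refine Submodule.le_of_le_smul_of_le_jacobson_bot (IsNoetherian.noetherian _)
    (jdl_le_jacobson hX hX' hV) fun s hs => ?_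
  have e0 : ∀ {Z : FSch.Sys.{u}} (h : Z.IsFormal) (V : (Z.X 0).Opens) (s : Sec Z h V),
      s ∈ jdl h V ↔ tr h 0 V (proj Z h 1 V s) = 0 := fun {Z} h V s => by
    rw [RingHom.mem_ker, ← proj_succ Z h 0 V s]
  have h1 : proj 𝔛 hX 1 (preV f U) s ∈ (RingHom.ker (tr hY 0 U)).map (shLv f hX hY 1 U) := by
    rw [← ker_tr_eq_map f hX hY hf hU]
    exact (e0 hX _ s).1 hs
  have h2 : RingHom.ker (tr hY 0 U) = (jdl hY U).map (proj 𝔜 hY 1 U) := by
    refine le_antisymm (fun z hz => ?_) (Ideal.map_le_iff_le_comap.2 fun x hx => (e0 hY U x).1 hx)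
    obtain ⟨x, rfl⟩ := ((sec_props hY hY' hU).2 1).1 z
    exact Ideal.mem_map_of_mem _ ((e0 hY U x).2 hz)
  rw [h2, Ideal.map_map,
    show (shLv f hX hY 1 U).comp (proj 𝔜 hY 1 U) = (proj 𝔛 hX 1 (preV f U)).comp (shU f hX hY U) from
      RingHom.ext fun x => (proj_shU f hX hY 1 U x).symm,
    ← Ideal.map_map, Ideal.mem_map_iff_of_surjective _ ((sec_props hX hX' hV).2 1).1] at h1
  obtain ⟨a, ha, hab⟩ := h1
  refine Submodule.mem_sup.2 ⟨a, ha, s - a, ?_, add_sub_cancel a s⟩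
  rw [smul_eq_mul, ← pow_two, ← ((sec_props hX hX' hV).2 1).2, RingHom.mem_ker, map_sub, hab, sub_self]

include hX' hY' hU hf in
/-- Sections over the preimage of an affine open are finite. -/
theorem finite_shU [IsFinite ((f : FSch.Hom 𝔛 𝔜).app 0)] :
    (shU f hX hY U).Finite := by
  have hV := isAffineOpen_preV f hU
  letI : Algebra (Sec 𝔜 hY U) (Sec 𝔛 hX (preV f U)) := (shU f hX hY U).toAlgebra
  letI : ∀ n, Algebra (Sec 𝔜 hY U) Γ(𝔛.X n, 𝔛.lvU hX n (preV f U)) := fun n =>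
    ((proj 𝔛 hX n (preV f U)).comp (shU f hX hY U)).toAlgebra
  haveI := (sec_props hY hY' hU).1
  let t : ∀ n, Γ(𝔛.X (n + 1), 𝔛.lvU hX (n + 1) (preV f U)) →ₗ[Sec 𝔜 hY U] Γ(𝔛.X n, 𝔛.lvU hX n (preV f U)) :=
    fun n =>
    { toFun := tr hX n (preV f U)
      map_add' := map_add _
      map_smul' := fun r x => by
        simp only [Algebra.smul_def, map_mul, RingHom.id_apply]
        exact congrArg (· * _) (proj_succ 𝔛 hX n (preV f U) (shU f hX hY U r)) }
  let π : ∀ n, Sec 𝔛 hX (preV f U) →ₗ[Sec 𝔜 hY U] Γ(𝔛.X n, 𝔛.lvU hX n (preV f U)) := fun n =>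
    { toFun := proj 𝔛 hX n (preV f U)
      map_add' := map_add _
      map_smul' := fun r x => by
        simp only [Algebra.smul_def, map_mul, RingHom.id_apply]
        rfl }
  have hmap : ∀ n k, ((jdl hY U) ^ k).map (algebraMap (Sec 𝔜 hY U) Γ(𝔛.X n, 𝔛.lvU hX n (preV f U))) =
      ((jdl hX (preV f U)) ^ k).map (proj 𝔛 hX n (preV f U)) := fun n k => by
    rw [show algebraMap (Sec 𝔜 hY U) Γ(𝔛.X n, 𝔛.lvU hX n (preV f U)) =
      (proj 𝔛 hX n (preV f U)).comp (shU f hX hY U) from rfl, ← Ideal.map_map, Ideal.map_pow (shU f hX hY U),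
      map_shU_jdl f hX hY hX' hY' hf hU]
  have hbot : ∀ n (k : ℕ) (z : Γ(𝔛.X n, 𝔛.lvU hX n (preV f U))),
      z ∈ (jdl hY U ^ k • ⊤ : Submodule (Sec 𝔜 hY U) Γ(𝔛.X n, 𝔛.lvU hX n (preV f U))) ↔
        z ∈ ((jdl hX (preV f U)) ^ k).map (proj 𝔛 hX n (preV f U)) := fun n k z => by
    rw [← hmap, Ideal.smul_top_eq_map, Submodule.restrictScalars_mem]
  have h0 : Module.Finite (Sec 𝔜 hY U) Γ(𝔛.X 0, 𝔛.lvU hX 0 (preV f U)) := by
    have h1 : (shLv f hX hY 0 U).Finite := by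
      have e := FSch.Hom.lvU_preimage f hX hY 0 U
      haveI : IsIso ((𝔛.X 0).presheaf.map (homOfLE e.ge).op) := by
        rw [show homOfLE e.ge = eqToHom e.symm from Subsingleton.elim _ _]
        infer_instance
      exact (RingHom.Finite.of_surjective _ (ConcreteCategory.bijective_of_isIso
        ((𝔛.X 0).presheaf.map (homOfLE e.ge).op)).2).comp
          (IsFinite.finite_app _ _ (S13347.isAffineOpen_lvU 𝔜 hY 0 U hU))
    rw [← RingHom.finite_algebraMap,
      show algebraMap (Sec 𝔜 hY U) Γ(𝔛.X 0, 𝔛.lvU hX 0 (preV f U)) = (shLv f hX hY 0 U).comp (proj 𝔜 hY 0 U)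
        from RingHom.ext fun x => proj_shU f hX hY 0 U x]
    exact h1.comp (RingHom.Finite.of_surjective _ ((sec_props hY hY' hU).2 0).1)
  have := S7852.result (Sec 𝔜 hY U) (jdl hY U) (fun n => Γ(𝔛.X n, 𝔛.lvU hX n (preV f U))) t
    (fun n => tr_surjective hX hV n) (fun n => by
      rw [eq_bot_iff]
      intro z hz
      rw [hbot, Ideal.mem_map_iff_of_surjective _ ((sec_props hX hX' hV).2 n).1] at hz
      obtain ⟨a, ha, rfl⟩ := hz
      rw [← ((sec_props hX hX' hV).2 n).2] at ha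
      exact (Submodule.mem_bot _).2 (RingHom.mem_ker.1 ha))
    (fun n => Submodule.ext fun z => by
      rw [hbot, Ideal.mem_map_iff_of_surjective _ ((sec_props hX hX' hV).2 (n + 1)).1, LinearMap.mem_ker]
      constructor
      · intro hz
        obtain ⟨a, rfl⟩ := ((sec_props hX hX' hV).2 (n + 1)).1 z
        refine ⟨a, ?_, rfl⟩
        rw [← ((sec_props hX hX' hV).2 n).2, RingHom.mem_ker, ← proj_succ]
        exact hz
      · rintro ⟨a, ha, rfl⟩
        rw [← ((sec_props hX hX' hV).2 n).2, RingHom.mem_ker, ← proj_succ] at ha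
        exact ha)
    (Sec 𝔛 hX (preV f U)) π (fun n => LinearMap.ext fun x => proj_succ 𝔛 hX n _ x)
    (fun x hx => sec_ext 𝔛 hX fun n => (hx n).trans (map_zero _).symm)
    (fun y hy => exists_sec 𝔛 hX y hy) h0
  exact this.1

include hX' hY' hU hf in
/-- For a closed immersion the map of sections is surjective. -/
theorem surjective_shU [IsClosedImmersion ((f : FSch.Hom 𝔛 𝔜).app 0)] :
    Function.Surjective (shU f hX hY U) := by
  letI : Algebra (Sec 𝔜 hY U) (Sec 𝔛 hX (preV f U)) := (shU f hX hY U).toAlgebra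
  haveI : Module.Finite (Sec 𝔜 hY U) (Sec 𝔛 hX (preV f U)) :=
    RingHom.finite_algebraMap.1 (finite_shU f hX hY hX' hY' hf hU)
  have h0 : Function.Surjective (shLv f hX hY 0 U) := by
    have e := FSch.Hom.lvU_preimage f hX hY 0 U
    haveI : IsIso ((𝔛.X 0).presheaf.map (homOfLE e.ge).op) := by
      rw [show homOfLE e.ge = eqToHom e.symm from Subsingleton.elim _ _]
      infer_instance
    exact (ConcreteCategory.bijective_of_isIso ((𝔛.X 0).presheaf.map (homOfLE e.ge).op)).2.comp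
      (((f : FSch.Hom 𝔛 𝔜).app 0).app_surjective _ (S13347.isAffineOpen_lvU 𝔜 hY 0 U hU))
  have hr : LinearMap.range (Algebra.linearMap (Sec 𝔜 hY U) (Sec 𝔛 hX (preV f U))) = ⊤ := by
    refine span_eq_top_of_sup_smul (jdl_le_jacobson hY hY' hU) _ (top_unique fun y _ => ?_)
    obtain ⟨c, hc⟩ := h0 (proj 𝔛 hX 0 (preV f U) y)
    obtain ⟨a, rfl⟩ := ((sec_props hY hY' hU).2 0).1 c
    refine Submodule.mem_sup.2 ⟨shU f hX hY U a, ⟨a, rfl⟩, y - shU f hX hY U a, ?_, add_sub_cancel _ _⟩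
    rw [Ideal.smul_top_eq_map, Submodule.restrictScalars_mem,
      show algebraMap (Sec 𝔜 hY U) (Sec 𝔛 hX (preV f U)) = shU f hX hY U from rfl,
      map_shU_jdl f hX hY hX' hY' hf hU, RingHom.mem_ker, map_sub, proj_shU, hc, sub_self]
  exact fun y => (hr.ge (Submodule.mem_top : y ∈ ⊤) : _)

section Unit

variable [IsFinite ((f : FSch.Hom 𝔛 𝔜).app 0)]

/-- The direct image of the structure sheaf. -/
noncomputable abbrev pushU : ModSite.Mod (𝔜.Osh hY) := (FSch.pushF f hX hY).obj (FSch.unitF 𝔛 hX)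

/-- A section of the direct image on a level. -/
noncomputable def lvP (n : ℕ) (W : (𝔜.X 0).Opens) :
    DerCompLib.Sec (pushU f hX hY) W →+
      Γ((Coh.push ((f : FSch.Hom 𝔛 𝔜).app n)).obj (SheafOfModules.unit (𝔛.X n).ringCatSheaf), 𝔜.lvU hY n W) :=
  ((resM (SheafOfModules.unit (𝔛.X n).ringCatSheaf) (FSch.Hom.lvU_preimage f hX hY n W).le).comp
    ((upVal hX).toAddMonoidHom.comp (secMap (toLevel hX n) (preV f W)).toAddMonoidHom) :)

theorem lvP_smul (n : ℕ) (W : (𝔜.X 0).Opens) (r : Sec 𝔜 hY W) (x : DerCompLib.Sec (pushU f hX hY) W) :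
    lvP f hX hY n W (r • x) = proj 𝔜 hY n W r • lvP f hX hY n W x := by
  let u : Sec 𝔛 hX (preV f W) := unitVal hX (show DerCompLib.Sec (FSch.unitF 𝔛 hX) (preV f W) from x)
  let z : Γ(SheafOfModules.unit (𝔛.X n).ringCatSheaf, 𝔛.lvU hX n (preV f W)) := proj 𝔛 hX n (preV f W) u
  show resM (SheafOfModules.unit (𝔛.X n).ringCatSheaf) (FSch.Hom.lvU_preimage f hX hY n W).le
      (proj 𝔛 hX n (preV f W) (shU f hX hY W r * u)) =
    (show Γ(𝔛.X n, ((f : FSch.Hom 𝔛 𝔜).app n) ⁻¹ᵁ 𝔜.lvU hY n W) from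
      ((f : FSch.Hom 𝔛 𝔜).app n).app (𝔜.lvU hY n W) (proj 𝔜 hY n W r)) •
      (resM (SheafOfModules.unit (𝔛.X n).ringCatSheaf) (FSch.Hom.lvU_preimage f hX hY n W).le z)
  rw [map_mul]
  refine (resM_smul (SheafOfModules.unit (𝔛.X n).ringCatSheaf) _ (proj 𝔛 hX n (preV f W) (shU f hX hY W r)) z).trans
    (congrArg (· • resM (SheafOfModules.unit (𝔛.X n).ringCatSheaf) (FSch.Hom.lvU_preimage f hX hY n W).le z) ?_)
  rw [proj_shU, ← ConcreteCategory.comp_apply, Scheme.Hom.appLE_map, Scheme.Hom.appLE_eq_app]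

theorem lvP_res (n : ℕ) {V W : (𝔜.X 0).Opens} (i : V ≤ W) (x : DerCompLib.Sec (pushU f hX hY) W) :
    lvP f hX hY n V (mRes (pushU f hX hY) i x) =
      resM _ (FBlow.lvU_mono 𝔜 hY n i) (lvP f hX hY n W x) := by
  have e := proj_res 𝔛 hX n (show preV f V ≤ preV f W from fun t ht => i ht)
    (unitVal hX (show DerCompLib.Sec (FSch.unitF 𝔛 hX) (preV f W) from x))
  refine (congrArg (resM (SheafOfModules.unit (𝔛.X n).ringCatSheaf) _) e).trans ?_
  refine (resM_resM (SheafOfModules.unit (𝔛.X n).ringCatSheaf) _ _ _).trans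
    (Eq.symm ((resM_resM (SheafOfModules.unit (𝔛.X n).ringCatSheaf) _ _ _)))

include hX' hY' hf hU in
theorem lvP_props (n : ℕ) :
    Function.Surjective (lvP f hX hY n U) ∧ ∀ x, lvP f hX hY n U x = 0 →
      x ∈ jdl hY U ^ (n + 1) • (⊤ : Submodule (Sec 𝔜 hY U) (DerCompLib.Sec (pushU f hX hY) U)) := by
  have hV := isAffineOpen_preV f hU
  have hb := FModLib.resM_bijective_of_eq (SheafOfModules.unit (𝔛.X n).ringCatSheaf)
    (FSch.Hom.lvU_preimage f hX hY n U)
  refine ⟨fun y => ?_, fun x hx => ?_⟩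
  · obtain ⟨z, rfl⟩ := hb.2 y
    obtain ⟨s, hs⟩ := ((sec_props hX hX' hV).2 n).1 z
    exact ⟨(unitVal hX).symm s, congrArg (resM (SheafOfModules.unit (𝔛.X n).ringCatSheaf) _) hs⟩
  let e : Sec 𝔛 hX (preV f U) →+ DerCompLib.Sec (pushU f hX hY) U :=
    AddMonoidHom.mk' (fun s => ((unitVal hX).symm s : DerCompLib.Sec (FSch.unitF 𝔛 hX) (preV f U))) fun _ _ => rfl
  have h1 : unitVal hX (show DerCompLib.Sec (FSch.unitF 𝔛 hX) (preV f U) from x) ∈
      jdl hX (preV f U) ^ (n + 1) := by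
    rw [← ((sec_props hX hX' hV).2 n).2, RingHom.mem_ker]
    exact hb.1 (hx.trans (map_zero _).symm)
  rw [← map_shU_jdl f hX hY hX' hY' hf hU, ← Ideal.map_pow] at h1
  have key : ∀ s ∈ (jdl hY U ^ (n + 1)).map (shU f hX hY U), ∀ c : Sec 𝔛 hX (preV f U),
      e (c * s) ∈ jdl hY U ^ (n + 1) • (⊤ : Submodule (Sec 𝔜 hY U) (DerCompLib.Sec (pushU f hX hY) U)) := by
    intro s hs
    refine Submodule.span_induction (fun s hs c => ?_) (fun c => ?_) (fun a b _ _ ha hb c => ?_)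
      (fun a b _ hb c => ?_) hs
    · obtain ⟨r, hr, rfl⟩ := hs
      rw [mul_comm, show e (shU f hX hY U r * c) = r • e c from rfl]
      exact Submodule.smul_mem_smul hr Submodule.mem_top
    · rw [mul_zero, map_zero]; exact zero_mem _
    · rw [mul_add, map_add]; exact add_mem (ha c) (hb c)
    · rw [smul_eq_mul, ← mul_assoc]; exact hb _
  have h2 := key _ h1 1
  rw [one_mul] at h2
  exact h2

include hX' hY' hf in
/-- The direct image of the structure sheaf by a finite morphism has finite sections compatible with base change. -/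
theorem isPC_pushU : IsPC (AFF 𝔜) (pushU f hX hY) := by
  have hfin : ∀ W, IsAffineOpen W → Module.Finite (Sec 𝔜 hY W) (DerCompLib.Sec (pushU f hX hY) W) :=
    fun W hW => by
    have := finite_shU f hX hY hX' hY' hf hW
    exact this
  have hq : ∀ n, Coh.IsQCoh ((Coh.push ((f : FSch.Hom 𝔛 𝔜).app n)).obj
      (SheafOfModules.unit (𝔛.X n).ringCatSheaf)) := fun n => by
    haveI := FSchLib.isFinite_app hY' hf n
    haveI : Coh.IsQCoh (SheafOfModules.unit (𝔛.X n).ringCatSheaf) := Coherent.isQCoh_structureModule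
    exact isQCoh_push _ _
  refine ⟨hfin, fun W V i hW hV => ?_, fun W V i hW hV q s a ha => ?_⟩
  · haveI := hfin V hV
    haveI := hq 0
    refine span_eq_top_of_sup_smul (jdl_le_jacobson hY hY' hV) _ (top_unique fun x _ => ?_)
    haveI := hfin W hW
    obtain ⟨m, g, hg⟩ := Module.Finite.exists_fin (R := Sec 𝔜 hY W) (M := DerCompLib.Sec (pushU f hX hY) W)
    have hsp : Submodule.span Γ(𝔜.X 0, 𝔜.lvU hY 0 W) (Set.range fun j => lvP f hX hY 0 W (g j)) = ⊤ := by
      refine top_unique fun z _ => ?_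
      obtain ⟨y, rfl⟩ := (lvP_props f hX hY hX' hY' hf hW 0).1 z
      obtain ⟨b, rfl⟩ := (Submodule.mem_span_range_iff_exists_fun _).1
        (show y ∈ Submodule.span _ (Set.range g) by rw [hg]; trivial)
      rw [map_sum]
      refine Submodule.sum_mem _ fun j _ => ?_
      rw [lvP_smul]
      exact Submodule.smul_mem _ _ (Submodule.subset_span ⟨j, rfl⟩)
    obtain ⟨c, hc⟩ := (Submodule.mem_span_range_iff_exists_fun _).1
      (show lvP f hX hY 0 V x ∈ Submodule.span _ (Set.range fun j =>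
          resM _ (FBlow.lvU_mono 𝔜 hY 0 i) (lvP f hX hY 0 W (g j))) by
        rw [span_resM (S13347.isAffineOpen_lvU 𝔜 hY 0 W hW) (S13347.isAffineOpen_lvU 𝔜 hY 0 V hV) _ _ hsp]
        trivial)
    choose c' hc' using fun j => ((sec_props hY hY' hV).2 0).1 (c j)
    refine Submodule.mem_sup.2 ⟨∑ j, c' j • mRes (pushU f hX hY) i (g j),
      Submodule.sum_mem _ fun j _ => Submodule.smul_mem _ _ (Submodule.subset_span ⟨g j, rfl⟩),
      x - ∑ j, c' j • mRes (pushU f hX hY) i (g j), ?_, add_sub_cancel _ _⟩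
    rw [← pow_one (jdl hY V)]
    refine (lvP_props f hX hY hX' hY' hf hV 0).2 _ ?_
    rw [map_sub, sub_eq_zero, map_sum]
    refine hc.symm.trans (Finset.sum_congr rfl fun j _ => ?_)
    rw [lvP_smul, hc', lvP_res]
  · haveI := isNoetherianRing_sec hY hY' hW
    haveI := isNoetherianRing_sec hY hY' hV
    haveI := hfin W hW
    refine mem_span_rels_of_levels (res 𝔜 hY i) (jdl hY W) (jdl hY V) (map_jdl_le hY i)
      (jdl_le_jacobson hY hY' hV) (fun n => proj 𝔜 hY n W) (fun n => proj 𝔜 hY n V)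
      (fun n => lres hY n i) (fun n x => (proj_res 𝔜 hY n i x).symm)
      (fun n => ((sec_props hY hY' hW).2 n).1) (fun n => ((sec_props hY hY' hV).2 n).1)
      (fun n => ((sec_props hY hY' hV).2 n).2.le.trans (Ideal.pow_le_pow_right n.le_succ)) s a
      (fun n => relsOf Γ(𝔜.X n, 𝔜.lvU hY n W) (fun j => lvP f hX hY n W (s j)))
      (fun n y hy => ?_) (fun n => ?_)
    · refine Submodule.smul_mono (Ideal.pow_le_pow_right n.le_succ) le_rfl
        ((lvP_props f hX hY hX' hY' hf hW n).2 _ ?_)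
      rw [map_sum]
      refine Eq.trans ?_ (mem_relsOf.1 hy)
      exact Finset.sum_congr rfl fun j _ => lvP_smul f hX hY n W _ _
    · haveI := hq n
      refine rels_resM (S13347.isAffineOpen_lvU 𝔜 hY n W hW)
        (S13347.isAffineOpen_lvU 𝔜 hY n V hV) (FBlow.lvU_mono 𝔜 hY n i) _ _ ?_
      have := congrArg (lvP f hX hY n V) ha
      rw [map_sum, map_zero] at this
      refine (Finset.sum_congr rfl fun j _ => ?_).trans this
      rw [lvP_smul, lvP_res]
      rfl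

end Unit

end Groth.Agent.FModLib
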