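import Groth.Agent.FModLib.RelCoh
import Groth.Agent.FModLib.PushFinite
import Groth.Agent.Coherent.RpushCoh

/-!
# Preimages of affine opens under a proper morphism of formal schemes
-/

set_option autoImplicit false
set_option backward.isDefEq.respectTransparency false
set_option linter.style.haveILetI false
set_option linter.unusedSectionVars false

universe u

open CategoryTheory CategoryTheory.Limits AlgebraicGeometry Opposite TopologicalSpace
open Groth.Agent.FBlowLib Groth.Agent.DerCompLib Groth.Agent.Coherent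

namespace Groth.Agent.FModLib

variable {𝔛 𝔜 : FSch.Sys.{u}} (f : 𝔛 ⟶ 𝔜) (hX : 𝔛.IsFormal) (hY : 𝔜.IsFormal)
  (hX' : 𝔛.IsLocNoethFormal) (hY' : 𝔜.IsLocNoethFormal) (hf : FSch.IsAdicHom f)
  {V : (𝔜.X 0).Opens} (hV : IsAffineOpen V) {W : (𝔛.X 0).Opens} (hW : IsAffineOpen W) (hWV : W ≤ preV f V)

include hWV in
theorem lvU_le_app (n : ℕ) : 𝔛.lvU hX n W ≤ ((f : FSch.Hom 𝔛 𝔜).app n) ⁻¹ᵁ (𝔜.lvU hY n V) :=
  (FBlow.lvU_mono 𝔛 hX n hWV).trans (FSch.Hom.lvU_preimage f hX hY n V).ge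

include hWV in
theorem proj_res_shU (n : ℕ) (x : Sec 𝔜 hY V) :
    proj 𝔛 hX n W (res 𝔛 hX hWV (shU f hX hY V x)) =
      ((f : FSch.Hom 𝔛 𝔜).app n).appLE _ _ (lvU_le_app f hX hY hWV n) (proj 𝔜 hY n V x) := by
  have key : ∀ {Z Z' : Scheme.{u}} (g : Z ⟶ Z') (P : Z'.Opens) {Q Q' : Z.Opens} (e : Q ≤ g ⁻¹ᵁ P)
      (i : Q' ≤ Q) (e' : Q' ≤ g ⁻¹ᵁ P) (z : Γ(Z', P)),
      Z.presheaf.map (homOfLE i).op (g.appLE P Q e z) = g.appLE P Q' e' z := fun g P Q Q' e i e' z =>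
    (ConcreteCategory.comp_apply _ _ z).symm.trans
      (ConcreteCategory.congr_hom (Scheme.Hom.appLE_map g e (homOfLE i).op) z)
  rw [proj_res, proj_shU]
  exact key _ _ _ _ _ _

include hX' hY' hV hW hf hWV in
set_option maxHeartbeats 1200000 in
/-- The ideal of definition is generated from the base on affine opens over an affine open. -/
theorem jdl_eq_map_res :
    jdl hX W = (jdl hY V).map ((res 𝔛 hX hWV).comp (shU f hX hY V)) := by
  refine le_antisymm ?_ (Ideal.map_le_iff_le_comap.2 fun x hx => ?_)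
  swap
  · rw [Ideal.mem_comap, RingHom.mem_ker, RingHom.comp_apply, proj_res_shU f hX hY hWV,
      RingHom.mem_ker.1 hx, map_zero]
  haveI := isNoetherianRing_sec hX hX' hW
  refine Submodule.le_of_le_smul_of_le_jacobson_bot (IsNoetherian.noetherian _)
    (jdl_le_jacobson hX hX' hW) fun s hs => ?_
  haveI := (hY 0).1
  haveI := (hX 0).1
  let g1 : Γ(𝔜.X 1, 𝔜.lvU hY 1 V) →+* Γ(𝔛.X 1, 𝔛.lvU hX 1 W) :=
    (((f : FSch.Hom 𝔛 𝔜).app 1).appLE _ _ (lvU_le_app f hX hY hWV 1)).hom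
  have key : ∀ {Z W : Scheme.{u}} (g : Z ⟶ W) (P : Z.Opens) (Q : W.affineOpens) (e : P ≤ g ⁻¹ᵁ Q.1)
      [IsClosedImmersion g], P = g ⁻¹ᵁ Q.1 → RingHom.ker (g.appLE Q.1 P e).hom = g.ker.ideal Q := by
    intro Z W g P Q e _ hP
    haveI : IsIso (Z.presheaf.map (homOfLE e).op) := by
      rw [show homOfLE e = eqToHom hP from Subsingleton.elim _ _]
      infer_instance
    rw [Scheme.Hom.ker_apply, Scheme.Hom.appLE, CommRingCat.hom_comp]
    exact RingHom.ker_comp_of_injective _ (ConcreteCategory.bijective_of_isIso _).1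
  have hk : RingHom.ker (tr hX 0 W) = (RingHom.ker (tr hY 0 V)).map g1 := by
    rw [key (𝔛.ι 0) _ ⟨_, S13347.isAffineOpen_lvU 𝔛 hX 1 _ hW⟩ (𝔛.lvU_le hX 0 _) (𝔛.lvU_succ hX 0 _).symm,
      key (𝔜.ι 0) _ ⟨_, S13347.isAffineOpen_lvU 𝔜 hY 1 V hV⟩ (𝔜.lvU_le hY 0 V) (𝔜.lvU_succ hY 0 V).symm,
      FSchLib.ker_of_isPullback (hf 0)]
    exact FSchLib.ideal_comap_eq_map ((f : FSch.Hom 𝔛 𝔜).app 1) (𝔜.ι 0).ker
      ⟨_, S13347.isAffineOpen_lvU 𝔛 hX 1 _ hW⟩ ⟨_, S13347.isAffineOpen_lvU 𝔜 hY 1 V hV⟩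
      (lvU_le_app f hX hY hWV 1)
  have e0 : ∀ {Z : FSch.Sys.{u}} (h : Z.IsFormal) (U : (Z.X 0).Opens) (s : Sec Z h U),
      s ∈ jdl h U ↔ tr h 0 U (proj Z h 1 U s) = 0 := fun {Z} h U s => by
    rw [RingHom.mem_ker, ← proj_succ Z h 0 U s]
  have h1 : proj 𝔛 hX 1 W s ∈ (RingHom.ker (tr hY 0 V)).map g1 := hk ▸ (e0 hX _ s).1 hs
  have h2 : RingHom.ker (tr hY 0 V) = (jdl hY V).map (proj 𝔜 hY 1 V) := by
    refine le_antisymm (fun z hz => ?_) (Ideal.map_le_iff_le_comap.2 fun x hx => (e0 hY V x).1 hx)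
    obtain ⟨x, rfl⟩ := ((sec_props hY hY' hV).2 1).1 z
    exact Ideal.mem_map_of_mem _ ((e0 hY V x).2 hz)
  rw [h2, Ideal.map_map,
    show g1.comp (proj 𝔜 hY 1 V) = (proj 𝔛 hX 1 W).comp ((res 𝔛 hX hWV).comp (shU f hX hY V)) from
      RingHom.ext fun x => (proj_res_shU f hX hY hWV 1 x).symm,
    ← Ideal.map_map, Ideal.mem_map_iff_of_surjective _ ((sec_props hX hX' hW).2 1).1] at h1
  obtain ⟨a, ha, hab⟩ := h1
  refine Submodule.mem_sup.2 ⟨a, ha, s - a, ?_, add_sub_cancel a s⟩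
  rw [smul_eq_mul, ← pow_two, ← ((sec_props hX hX' hW).2 1).2, RingHom.mem_ker, map_sub, hab, sub_self]

include hX' hY' hV hf in
theorem hJ_preV (W : (preV f V).toScheme.Opens) (hW : IsAffineOpen W) :
    jdl hX (Rel.im (preV f V) W) = (jdl hY V).map (Rel.act hX (preV f V) (shU f hX hY V) W) :=
  jdl_eq_map_res f hX hY hX' hY' hf hV (hW.image_of_isOpenImmersion _) (Rel.im_le _ W)

include hY' in
theorem finCoh_preV [IsProper ((f : FSch.Hom 𝔛 𝔜).app 0)] (hV : IsAffineOpen V) :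
    FinCoh (Rel.phi0 hX (preV f V) (shU f hX hY V)) := by
  haveI : IsAffine V.toScheme := hV
  haveI := hY'.2.2 0
  haveI : IsLocallyNoetherian V.toScheme := isLocallyNoetherian_of_isOpenImmersion V.ι
  haveI : IsProper (((f : FSch.Hom 𝔛 𝔜).app 0) ∣_ V) :=
    MorphismProperty.of_isPullback (P := @IsProper) (isPullback_morphismRestrict _ V).flip ‹_›
  have e : 𝔜.lvU hY 0 V = V.ι ''ᵁ ⊤ := (lvU_zero hY V).trans V.ι_image_top.symm
  let ρ : Sec 𝔜 hY V →+* Γ(V.toScheme, ⊤) :=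
    ((𝔜.X 0).presheaf.map (eqToHom (congrArg op e))).hom.comp (proj 𝔜 hY 0 V)
  have hρ : Function.Surjective ρ :=
    (ConcreteCategory.bijective_of_isIso ((𝔜.X 0).presheaf.map (eqToHom (congrArg op e)))).2.comp
      ((sec_props hY hY' hV).2 0).1
  have key : ∀ {Z Z' : Scheme.{u}} (g : Z ⟶ Z') {P P' : Z'.Opens} {Q Q' Q'' : Z.Opens} (e : Q ≤ g ⁻¹ᵁ P)
      (j : op Q ⟶ op Q') (l : op P ⟶ op P') (l' : op (g ⁻¹ᵁ P') ⟶ op Q'') (hQ : Q' = Q'') (z : Γ(Z', P)),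
      Z.presheaf.map (eqToHom (congrArg op hQ)) (Z.presheaf.map j (g.appLE P Q e z)) =
        Z.presheaf.map l' (g.app P' (Z'.presheaf.map l z)) := by
    intro Z Z' g P P' Q Q' Q'' e j l l' hQ z
    subst hQ
    have h1 : g.appLE P Q e ≫ Z.presheaf.map j =
        Z'.presheaf.map l ≫ g.app P' ≫ Z.presheaf.map l' := by
      rw [Scheme.Hom.appLE_map, ← Category.assoc, g.naturality l, Category.assoc, ← Functor.map_comp,
        Scheme.Hom.appLE]
      exact congrArg (fun m => g.app P ≫ Z.presheaf.map m) (Subsingleton.elim _ _)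
    simp only [eqToHom_refl, CategoryTheory.Functor.map_id]
    exact ConcreteCategory.congr_hom h1 z
  have hφ : Rel.phi0 hX (preV f V) (shU f hX hY V) = (((f : FSch.Hom 𝔛 𝔜).app 0) ∣_ V).appTop.hom.comp ρ := by
    refine RingHom.ext fun a => ?_
    show (𝔛.X 0).presheaf.map (eqToHom _) (proj 𝔛 hX 0 _ (res 𝔛 hX (Rel.im_le (preV f V) ⊤) (shU f hX hY V a))) = _
    rw [proj_res, proj_shU, Scheme.Hom.appTop, morphismRestrict_app]
    exact key _ _ _ _ _ (lvU_zero hX _) _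
  rw [hφ]
  exact finCoh_comp_of_surjective _ ρ hρ (finCoh_of_isProper_affine _)

include hY' in
theorem compactSpace_preV [IsProper ((f : FSch.Hom 𝔛 𝔜).app 0)] (hV : IsAffineOpen V) :
    CompactSpace (preV f V).toScheme := by
  haveI : IsAffine V.toScheme := hV
  exact QuasiCompact.compactSpace_of_compactSpace (((f : FSch.Hom 𝔛 𝔜).app 0) ∣_ V)

end Groth.Agent.FModLib
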