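import Groth.Agent.FModLib.LevelPC
import Groth.Agent.FModLib.RelGeom
import Groth.Agent.ModRpush.Sheafify
import Groth.Agent.Coherent.RpushComp
import Groth.Agent.Coherent.HigherQcoh

/-!
# Higher direct images of modules coming from the levels
-/

set_option autoImplicit false
set_option backward.isDefEq.respectTransparency false
set_option linter.style.haveILetI false
set_option linter.unusedSectionVars false

universe u

open CategoryTheory CategoryTheory.Limits AlgebraicGeometry Opposite TopologicalSpace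
open Groth.Agent.FBlowLib Groth.Agent.DerCompLib Groth.Agent.Coherent

namespace Groth.Agent.FModLib

variable {𝔛 𝔜 : FSch.Sys.{u}} (f : 𝔛 ⟶ 𝔜) (hX : 𝔛.IsFormal) (hY : 𝔜.IsFormal) (k : ℕ)

/-- The two descriptions of the preimages of opens on a level. -/
noncomputable def lvPreIso :
    (Opens.map ((f : FSch.Hom 𝔛 𝔜).app 0).base ⋙ Opens.map (𝔛.gInv hX k)) ≅
      (Opens.map (𝔜.gInv hY k) ⋙ Opens.map ((f : FSch.Hom 𝔛 𝔜).app k).base) :=
  NatIso.ofComponents (fun U => eqToIso (FSch.Hom.lvU_preimage f hX hY k U).symm)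
    fun _ => Subsingleton.elim _ _

/-- Direct image from a level commutes with direct image. -/
noncomputable def pushUpIso :
    Coh.push ((f : FSch.Hom 𝔛 𝔜).app k) ⋙ (FSch.levelMor 𝔜 hY k).push ≅
      (FSch.levelMor 𝔛 hX k).push ⋙ FSch.pushF f hX hY :=
  haveI := Functor.isContinuous_comp (Opens.map (𝔜.gInv hY k)) (Opens.map ((f : FSch.Hom 𝔛 𝔜).app k).base)
    (Opens.grothendieckTopology (𝔜.X 0).carrier) (Opens.grothendieckTopology (𝔜.X k).carrier)
    (Opens.grothendieckTopology (𝔛.X k).carrier)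
  haveI := Functor.isContinuous_comp (Opens.map ((f : FSch.Hom 𝔛 𝔜).app 0).base) (Opens.map (𝔛.gInv hX k))
    (Opens.grothendieckTopology (𝔜.X 0).carrier) (Opens.grothendieckTopology (𝔛.X 0).carrier)
    (Opens.grothendieckTopology (𝔛.X k).carrier)
  SheafOfModules.pushforwardComp (FSch.levelMor 𝔜 hY k).sharpR ((f : FSch.Hom 𝔛 𝔜).app k).toRingCatSheafHom ≪≫
    SheafOfModules.pushforwardNatIso _ (lvPreIso f hX hY k) ≪≫
    SheafOfModules.pushforwardCongr (by
      apply Sheaf.hom_ext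
      ext U x
      change (𝔛.X k).presheaf.map ((lvPreIso f hX hY k).hom.app U.unop).op
          (((f : FSch.Hom 𝔛 𝔜).app k).app (𝔜.lvU hY k U.unop) ((𝔜.OshProj hY k).hom.app U x)) =
        (𝔛.OshProj hX k).hom.app (op (((f : FSch.Hom 𝔛 𝔜).app 0) ⁻¹ᵁ U.unop))
          ((FSch.Hom.sharp f hX hY).hom.app U x)
      rw [show ((lvPreIso f hX hY k).hom.app U.unop).op =
        (homOfLE (FSch.Hom.lvU_preimage f hX hY k U.unop).ge).op from Subsingleton.elim _ _]
      exact (proj_shU f hX hY k U.unop x).symm) ≪≫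
    (SheafOfModules.pushforwardComp (FSch.homMor f hX hY).sharpR (FSch.levelMor 𝔛 hX k).sharpR).symm

/-- The direct image from a level preserves surjections. -/
theorem preservesEpi_up (h : 𝔛.IsFormal) : (FSch.levelMor 𝔛 h k).push.PreservesEpimorphisms := by
  have hcl : Topology.IsClosedEmbedding (𝔛.gInv h k) :=
    (TopCat.homeoOfIso (asIso (𝔛.gInv h k))).isClosedEmbedding
  haveI := SiteCoh.preservesEpimorphisms_push_of_isClosedEmbedding
    (X := (𝔛.X k).toTopCat) (Y := (𝔛.X 0).toTopCat) (𝔛.gInv h k) hcl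
  refine ⟨fun {G G'} φ _ => ?_⟩
  haveI : Epi ((toAbFunctor (𝔛.X k)).map φ) := inferInstance
  haveI : Epi ((abF h).map ((FSch.levelMor 𝔛 h k).push.map φ)) :=
    inferInstanceAs (Epi ((CohTop.push (X := (𝔛.X k).toTopCat) (Y := (𝔛.X 0).toTopCat) (𝔛.gInv h k)).map
      ((toAbFunctor (𝔛.X k)).map φ)))
  exact (abF h).epi_of_epi_map this

/-- The direct image from a level is exact. -/
theorem preservesFiniteColimits_up (h : 𝔛.IsFormal) : PreservesFiniteColimits (FSch.levelMor 𝔛 h k).push := by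
  haveI : PreservesFiniteLimits (FSch.levelMor 𝔛 h k).push :=
    ⟨fun _ _ _ => inferInstance⟩
  haveI := preservesEpi_up k h
  rw [Functor.preservesFiniteColimits_iff_forall_exact_map_and_epi]
  intro S hS
  haveI := hS.epi_g
  exact ⟨((Functor.preservesFiniteLimits_iff_forall_exact_map_and_mono _).1 inferInstance S hS).1,
    inferInstance⟩

/-- Flasque modules from the levels are acyclic for the direct image. -/
theorem isZero_rpushF_up [HasInjectiveResolutions (FSch.ModF 𝔛 hX)] (G : (𝔛.X k).Modules)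
    [hG : TopCat.Sheaf.IsFlasque (X := (𝔛.X k).toTopCat) (Coh.toAb G)] (q : ℕ) :
    IsZero ((FSch.RpushF f hX hY (q + 1)).obj (up hX k G)) := by
  haveI := SpecSeq.enoughInjectives_of_hasInjectiveResolutions (FSch.ModF 𝔛 hX)
  haveI : HasExt.{u} (FSch.ModF 𝔛 hX) := hasExt_of_enoughInjectives _
  haveI : TopCat.Sheaf.IsFlasque (X := (𝔛.X 0).toTopCat) ((abF hX).obj (up hX k G)) :=
    ⟨fun {U V} i => hG.epi ((Opens.map (𝔛.gInv hX k)).map i.unop).op⟩
  have hz : IsZero (((ModRpush.cohPshF (FSch.homMor f hX hY) (q + 1))).obj (up hX k G)) := by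
    rw [IsZero.iff_id_eq_zero]
    refine NatTrans.ext (funext fun W => AddCommGrpCat.ext fun x => ?_)
    haveI := subsingleton_H'_of_isFlasque (X := (𝔛.X 0).toTopCat) ((abF hX).obj (up hX k G))
      (((f : FSch.Hom 𝔛 𝔜).app 0) ⁻¹ᵁ W.unop) q
    exact Subsingleton.elim (α := CohTop.HU ((abF hX).obj (up hX k G)) (q + 1)
      (((f : FSch.Hom 𝔛 𝔜).app 0) ⁻¹ᵁ W.unop)) _ _
  have h' : IsZero ((abF hY).obj ((FSch.RpushF f hX hY (q + 1)).obj (up hX k G))) :=
    ((presheafToSheaf _ _).map_isZero hz).of_iso ((ModRpush.rpushIso (FSch.homMor f hX hY) (q + 1)).app _)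
  rw [IsZero.iff_id_eq_zero] at h' ⊢
  exact (abF hY).map_injective (((abF hY).map_id _).trans (h'.trans ((abF hY).map_zero _ _).symm))

/-- Higher direct images of modules from the levels are computed on the levels. -/
theorem nonempty_rpushF_up_iso [HasInjectiveResolutions (FSch.ModF 𝔛 hX)] [HasInjectiveResolutions (𝔛.X k).Modules]
    (G : (𝔛.X k).Modules) (q : ℕ) :
    Nonempty ((FSch.RpushF f hX hY q).obj (up hX k G) ≅
      up hY k ((Coh.Rpush ((f : FSch.Hom 𝔛 𝔜).app k) q).obj G)) := by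
  haveI : PreservesFiniteLimits (FSch.levelMor 𝔛 hX k).push := ⟨fun _ _ _ => inferInstance⟩
  haveI : PreservesFiniteLimits (FSch.levelMor 𝔜 hY k).push := ⟨fun _ _ _ => inferInstance⟩
  haveI : PreservesFiniteLimits (FSch.pushF f hX hY) := ⟨fun _ _ _ => inferInstance⟩
  haveI := preservesFiniteColimits_up k hX
  haveI := preservesFiniteColimits_up k hY
  obtain ⟨e⟩ := nonempty_rightDerived_exactComp_iso (FSch.levelMor 𝔛 hX k).push (FSch.pushF f hX hY)
    (fun Q _ n hn => by
      obtain ⟨j, rfl⟩ : ∃ j, n = j + 1 := ⟨n - 1, by lia⟩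
      haveI := isFlasque_toAb_of_injective Q
      exact isZero_rpushF_up f hX hY k Q j) G q
  haveI : (FSch.levelMor 𝔛 hX k).push.Additive := ⟨rfl⟩
  haveI : (FSch.levelMor 𝔜 hY k).push.Additive := ⟨rfl⟩
  haveI : (FSch.pushF f hX hY).Additive := ⟨rfl⟩
  exact ⟨e.symm ≪≫ (SiteCoh.rightDerivedCongr (pushUpIso f hX hY k).symm q).app G ≪≫
    (SiteCoh.rightDerivedCompExactIso (Coh.push ((f : FSch.Hom 𝔛 𝔜).app k))
      (FSch.levelMor 𝔜 hY k).push q).app G⟩

end Groth.Agent.FModLib
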