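import Groth.Agent.FModLib.RealSec
import Groth.Agent.Coherent.FormalFunctions
import Groth.Agent.Coherent.SchemeCoh

/-!
# Direct image from the smallest level and cohomology
-/

set_option autoImplicit false
set_option backward.isDefEq.respectTransparency false
set_option linter.style.haveILetI false
set_option linter.unusedSectionVars false

universe u

open CategoryTheory CategoryTheory.Limits AlgebraicGeometry Opposite TopologicalSpace
open Groth.Agent.FBlowLib Groth.Agent.DerCompLib Groth.Agent.Coherent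

namespace Groth.Agent.FModLib

/-- An isomorphism of abelian sheaves on cohomology. -/
noncomputable def hMapEquiv {C : Type u} [SmallCategory C] {J : GrothendieckTopology C}
    [HasSheafify J AddCommGrpCat.{u}] [HasExt.{u} (Sheaf J AddCommGrpCat.{u})]
    {F G : Sheaf J AddCommGrpCat.{u}} (e : F ≅ G) (q : ℕ) : Sheaf.H F q ≃+ Sheaf.H G q where
  toFun := Sheaf.H.map e.hom q
  invFun := Sheaf.H.map e.inv q
  left_inv x := by rw [← Sheaf.H.map_comp_apply, Iso.hom_inv_id, Sheaf.H.map_id_apply]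
  right_inv x := by rw [← Sheaf.H.map_comp_apply, Iso.inv_hom_id, Sheaf.H.map_id_apply]
  map_add' := map_add _

theorem hMapEquiv_apply {C : Type u} [SmallCategory C] {J : GrothendieckTopology C}
    [HasSheafify J AddCommGrpCat.{u}] [HasExt.{u} (Sheaf J AddCommGrpCat.{u})]
    {F G : Sheaf J AddCommGrpCat.{u}} (e : F ≅ G) (q : ℕ) (x : Sheaf.H F q) :
    hMapEquiv e q x = Sheaf.H.map e.hom q x := rfl

theorem hMap_comm {C : Type u} [SmallCategory C] {J : GrothendieckTopology C}
    [HasSheafify J AddCommGrpCat.{u}] [HasExt.{u} (Sheaf J AddCommGrpCat.{u})]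
    {F F' G G' : Sheaf J AddCommGrpCat.{u}} {a : F ⟶ F'} {b : F' ⟶ G'} {c : F ⟶ G} {d : G ⟶ G'}
    (w : a ≫ b = c ≫ d) (q : ℕ) (x : Sheaf.H F q) :
    Sheaf.H.map b q (Sheaf.H.map a q x) = Sheaf.H.map d q (Sheaf.H.map c q x) := by
  rw [← Sheaf.H.map_comp_apply, ← Sheaf.H.map_comp_apply, w]

variable {𝔛 : FSch.Sys.{u}} (h : 𝔛.IsFormal)

/-- The underlying sheaf. -/
noncomputable abbrev abF : ModSite.Mod (𝔛.Osh h) ⥤ CohTop.Ab (𝔛.X 0).toTopCat :=
  SheafOfModules.toSheaf (ModSite.ringSh (𝔛.Osh h))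

theorem lvU_zero (U : (𝔛.X 0).Opens) : 𝔛.lvU h 0 U = U := by
  ext x
  show (𝔛.gInv h 0) x ∈ U ↔ _
  rw [show (𝔛.gInv h 0) x = x from ConcreteCategory.congr_hom (𝔛.toX_base_gInv h 0) x]
  rfl

/-- The underlying sheaf of a direct image from the smallest level. -/
noncomputable def upZeroIso (N : (𝔛.X 0).Modules) :
    (abF h).obj (up h 0 N) ≅ Coh.toAb N :=
  (fullyFaithfulSheafToPresheaf (Opens.grothendieckTopology (𝔛.X 0).toTopCat) AddCommGrpCat.{u}).preimageIso
    (NatIso.ofComponents (fun U => N.presheaf.mapIso (eqToIso (congrArg op (lvU_zero h U.unop))))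
      fun {U V} i => by
        refine ((N.presheaf.map_comp _ _).symm.trans ?_).trans (N.presheaf.map_comp _ _)
        exact congrArg N.presheaf.map (Subsingleton.elim _ _))

theorem upZeroIso_app (N : (𝔛.X 0).Modules) (U : (Opens (𝔛.X 0).toTopCat)ᵒᵖ) :
    (upZeroIso h N).hom.hom.app U = N.presheaf.map (eqToHom (congrArg op (lvU_zero h U.unop))) := rfl

theorem upZeroIso_natural {N N' : (𝔛.X 0).Modules} (g : N ⟶ N') :
    (abF h).map ((FSch.levelMor 𝔛 h 0).push.map g) ≫ (upZeroIso h N').hom =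
      (upZeroIso h N).hom ≫ (toAbFunctor (𝔛.X 0)).map g := by
  apply Sheaf.hom_ext
  ext U x
  show N'.presheaf.map (eqToHom (congrArg op (lvU_zero h U.unop))) (g.app (𝔛.lvU h 0 U.unop) x) =
    g.app U.unop (N.presheaf.map (eqToHom (congrArg op (lvU_zero h U.unop))) x)
  exact (ConcreteCategory.congr_hom (g.mapPresheaf.naturality (eqToHom (congrArg op (lvU_zero h U.unop)))) x).symm

variable {A : Type u} [CommRing A] (φ : A →+* Γ(𝔛.X 0, ⊤))

/-- The cohomology of a direct image from the smallest level. -/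
noncomputable def upZeroH (N : (𝔛.X 0).Modules) (q : ℕ) :
    Sheaf.H ((abF h).obj (up h 0 N)) q ≃+ HA φ N (⊤ : (𝔛.X 0).Opens) q :=
  (hMapEquiv (upZeroIso h N) q).trans (HHTopEquiv N q)

theorem HHTopEquiv_natural {X : Scheme.{u}} {N N' : X.Modules} (g : N ⟶ N') (q : ℕ) (x : Coh.HH X N q) :
    HHTopEquiv N' q (Sheaf.H.map ((toAbFunctor X).map g) q x) = postHM g q ⊤ (HHTopEquiv N q x) := by
  obtain ⟨z, rfl⟩ := (H'TopEquiv (X := X.toTopCat) (Coh.toAb N) q).surjective x
  refine (congrArg (H'TopEquiv (X := X.toTopCat) (Coh.toAb N') q).symm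
    (H'TopEquiv_naturality (X := X.toTopCat) ((toAbFunctor X).map g) q z).symm).trans ?_
  refine ((H'TopEquiv (X := X.toTopCat) (Coh.toAb N') q).symm_apply_apply _).trans ?_
  exact congrArg (postHM g q (⊤ : X.Opens))
    ((H'TopEquiv (X := X.toTopCat) (Coh.toAb N) q).symm_apply_apply z).symm

theorem upZeroH_natural {N N' : (𝔛.X 0).Modules} (g : N ⟶ N') (q : ℕ)
    (x : Sheaf.H ((abF h).obj (up h 0 N)) q) :
    upZeroH h φ N' q (Sheaf.H.map ((abF h).map ((FSch.levelMor 𝔛 h 0).push.map g)) q x) =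
      postA φ g ⊤ q (upZeroH h φ N q x) := by
  rw [upZeroH, upZeroH, AddEquiv.trans_apply, AddEquiv.trans_apply, hMapEquiv_apply, hMapEquiv_apply,
    hMap_comm (upZeroIso_natural h g) q x]
  exact HHTopEquiv_natural g q _

/-- Multiplication by a scalar on cohomology. -/
theorem postA_smulModΓ (N : (𝔛.X 0).Modules) (a : A) (q : ℕ) (x : HA φ N (⊤ : (𝔛.X 0).Opens) q) :
    postA φ (Formal.smulModΓ N (φ a)) ⊤ q x = a • x := rfl

end Groth.Agent.FModLib
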