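import Groth.Agent.FModLib.Rings
import Groth.Agent.FSchLib.Systems
import Groth.Prelude.Def_DerComp
import Groth.Prelude.Def_FSch4

/-!
# Systems adic over a formal spectrum: scalars, and the ideal of definition

For `f : 𝔛 ⟶ Spf A` adic the ideal of definition on sections over affine opens is generated by `J`.
-/

set_option autoImplicit false
set_option backward.isDefEq.respectTransparency false
set_option linter.style.haveILetI false
set_option linter.unusedSectionVars false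

universe u

open CategoryTheory CategoryTheory.Limits AlgebraicGeometry Opposite TopologicalSpace
open Groth.Agent.FBlowLib

namespace Groth.Agent.FModLib

variable {A : Type u} [CommRing A] {J : Ideal A} {𝔛 : FSch.Sys.{u}} (f : 𝔛 ⟶ FSch.spf A J)

/-- The levels over `Spec A`. -/
noncomputable abbrev pSpf (n : ℕ) : 𝔛.X n ⟶ Spec (CommRingCat.of A) :=
  (f : FSch.Hom 𝔛 (FSch.spf A J)).app n ≫ FSch.spfToSpec A J n

theorem hpSpf (n : ℕ) : 𝔛.ι n ≫ pSpf f (n + 1) = pSpf f n :=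
  (Category.assoc _ _ _).symm.trans ((congrArg (· ≫ _) ((f : FSch.Hom 𝔛 (FSch.spf A J)).comm n).symm).trans
    ((Category.assoc _ _ _).trans (congrArg (_ ≫ ·) (CohB1.specQuotTrans_specQuot J n))))

variable (h : 𝔛.IsFormal)

theorem le_preimage_top (U : (𝔛.X 0).Opens) : U ≤ pSpf f 0 ⁻¹ᵁ ⊤ := fun _ _ => trivial

/-- Elements of `A` as sections. -/
noncomputable def phiV (U : (𝔛.X 0).Opens) : A →+* Sec 𝔛 h U :=
  (pull 𝔛 h (pSpf f) (hpSpf f) (le_preimage_top f U)).comp (Scheme.ΓSpecIso (CommRingCat.of A)).inv.hom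

theorem res_phiV {U V : (𝔛.X 0).Opens} (i : V ≤ U) (a : A) : res 𝔛 h i (phiV f h U a) = phiV f h V a :=
  res_pull 𝔛 h (pSpf f) (hpSpf f) _ i _

theorem proj_phiV (n : ℕ) (U : (𝔛.X 0).Opens) (a : A) :
    proj 𝔛 h n U (phiV f h U a) =
      (pSpf f n).appLE ⊤ (𝔛.lvU h n U) (lvU_le_preimage 𝔛 h (pSpf f) (hpSpf f) (le_preimage_top f U) n)
        ((Scheme.ΓSpecIso (CommRingCat.of A)).inv a) :=
  proj_pull 𝔛 h (pSpf f) (hpSpf f) _ n _

/-- Elements of `A` as global sections. -/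
noncomputable def gsec (a : A) : DerComp.GSec (𝔛.Osh h) :=
  ⟨fun U => phiV f h U a, fun _ _ g => res_phiV f h (leOfHom g) a⟩

theorem proj_phiV_eq_zero {a : A} (n : ℕ) (ha : a ∈ J ^ (n + 1)) (U : (𝔛.X 0).Opens) :
    proj 𝔛 h n U (phiV f h U a) = 0 := by
  rw [proj_phiV]
  have hker : (Scheme.ΓSpecIso (CommRingCat.of A)).inv a ∈
      RingHom.ker (FSch.spfToSpec A J n).appTop.hom := by
    have e := FSchLib.ker_specQuot A J n
    have h2 := congrArg (fun I => Scheme.IdealSheafData.ideal I ⟨⊤, isAffineOpen_top _⟩) e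
    simp only [Scheme.IdealSheafData.ideal_pow, Pi.pow_apply, FSchLib.idealSpec_ideal_top] at h2
    rw [← Ideal.map_pow] at h2
    haveI : IsClosedImmersion (FSch.spfToSpec A J n) :=
      IsClosedImmersion.spec_of_surjective _ Ideal.Quotient.mk_surjective
    rw [Scheme.Hom.ker_apply] at h2
    exact h2.symm ▸ Ideal.mem_map_of_mem _ ha
  have he : (pSpf f n).appLE ⊤ (𝔛.lvU h n U)
      (lvU_le_preimage 𝔛 h (pSpf f) (hpSpf f) (le_preimage_top f U) n) =
      (FSch.spfToSpec A J n).appTop ≫ ((f : FSch.Hom 𝔛 (FSch.spf A J)).app n).appLE ⊤ (𝔛.lvU h n U)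
        (fun _ _ => trivial) := by
    rw [show (FSch.spfToSpec A J n).appTop = (FSch.spfToSpec A J n).appLE ⊤ ⊤ le_rfl from
      (Scheme.Hom.appLE_eq_app (U := ⊤) (FSch.spfToSpec A J n)).symm]
    exact (FSch.appLE_comp_appLE_of_eq ((f : FSch.Hom 𝔛 (FSch.spf A J)).app n) (FSch.spfToSpec A J n)
      (pSpf f n) rfl _ _ _ _ _ _).symm
  rw [he, ConcreteCategory.comp_apply, RingHom.mem_ker.1 hker, map_zero]

variable (hX : 𝔛.IsLocNoethFormal) (hf : FSch.IsAdicHom f)

include hX hf in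
/-- The ideal of definition is generated by `J` on affine opens. -/
theorem jdl_eq_map {V : (𝔛.X 0).Opens} (hV : IsAffineOpen V) : jdl h V = J.map (phiV f h V) := by
  refine le_antisymm ?_ (Ideal.map_le_iff_le_comap.2 fun a ha =>
    RingHom.mem_ker.2 (proj_phiV_eq_zero f h 0 (by rwa [pow_one]) V))
  haveI := isNoetherianRing_sec h hX hV
  refine Submodule.le_of_le_smul_of_le_jacobson_bot (IsNoetherian.noetherian _)
    (jdl_le_jacobson h hX hV) fun s hs => ?_
  haveI := (h 0).1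
  haveI : IsClosedImmersion ((FSch.spf A J).ι 0) :=
    IsClosedImmersion.spec_of_surjective _ (Ideal.Quotient.factor_surjective (Ideal.pow_le_pow_right (Nat.le_succ (0 + 1))))
  let W : (𝔛.X 1).affineOpens := ⟨_, S13347.isAffineOpen_lvU 𝔛 h 1 V hV⟩
  haveI : IsClosedImmersion (FSch.spfToSpec A J 1) :=
    IsClosedImmersion.spec_of_surjective _ Ideal.Quotient.mk_surjective
  have hk : (𝔛.ι 0).ker = (FSch.idealSpec A J).comap (pSpf f 1) := by
    rw [FSchLib.ker_of_isPullback (hf 0), FSchLib.ker_eq_comap_ker_comp ((FSch.spf A J).ι 0) (FSch.spfToSpec A J 1),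
      show (FSch.spf A J).ι 0 ≫ FSch.spfToSpec A J 1 = FSch.spfToSpec A J 0 from
        CohB1.specQuotTrans_specQuot J 0,
      FSchLib.ker_specQuot, show FSch.idealSpec A J ^ (0 + 1) = FSch.idealSpec A J from pow_one _,
      ← Scheme.IdealSheafData.comap_comp]
  have h2 : proj 𝔛 h 1 V s ∈ (𝔛.ι 0).ker.ideal W := by
    rw [Scheme.Hom.ker_apply, RingHom.mem_ker]
    haveI : IsIso ((𝔛.X 0).presheaf.map (homOfLE (𝔛.lvU_le h 0 V)).op) := by
      rw [show homOfLE (𝔛.lvU_le h 0 V) = eqToHom (𝔛.lvU_succ h 0 V).symm from Subsingleton.elim _ _]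
      infer_instance
    apply (ConcreteCategory.bijective_of_isIso ((𝔛.X 0).presheaf.map (homOfLE (𝔛.lvU_le h 0 V)).op)).1
    rw [map_zero]
    exact (proj_succ 𝔛 h 0 V s).trans hs
  rw [hk, FSchLib.ideal_comap_eq_map (pSpf f 1) _ W ⟨⊤, isAffineOpen_top _⟩
    (lvU_le_preimage 𝔛 h (pSpf f) (hpSpf f) (le_preimage_top f V) 1), FSchLib.idealSpec_ideal_top,
    Ideal.map_map] at h2
  have h3 : ((pSpf f 1).appLE ⊤ (𝔛.lvU h 1 V)
      (lvU_le_preimage 𝔛 h (pSpf f) (hpSpf f) (le_preimage_top f V) 1)).hom.comp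
        (Scheme.ΓSpecIso (CommRingCat.of A)).inv.hom = (proj 𝔛 h 1 V).comp (phiV f h V) :=
    RingHom.ext fun a => (proj_phiV f h 1 V a).symm
  rw [h3, ← Ideal.map_map, Ideal.mem_map_iff_of_surjective _ ((sec_props h hX hV).2 1).1] at h2
  obtain ⟨a, ha, hab⟩ := h2
  refine Submodule.mem_sup.2 ⟨a, ha, s - a, ?_, add_sub_cancel a s⟩
  rw [smul_eq_mul, ← pow_two, ← ((sec_props h hX hV).2 1).2, RingHom.mem_ker, map_sub, hab, sub_self]

end Groth.Agent.FModLib
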