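import Groth.Agent.FModLib.LevelCoh
import Groth.Agent.FModLib.LevelZero
import Groth.Agent.FModLib.SpfScalar
import Groth.Agent.Coherent.GradedCoh
import Groth.Agent.DerCompLib.RestrAdj

/-!
# Multiplication operators between the truncations of a coherent module

For `f : 𝔛 ⟶ Spf A` adic, an element of `J` gives `F_k ⟶ F_{k+1}`, and a system of coherent modules on the
smallest level generated in degree `0`.
-/

set_option autoImplicit false
set_option backward.isDefEq.respectTransparency false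
set_option linter.style.haveILetI false
set_option linter.unusedSectionVars false

universe u

open CategoryTheory CategoryTheory.Limits AlgebraicGeometry Opposite TopologicalSpace
open Groth.Agent.FBlowLib Groth.Agent.DerCompLib Groth.Agent.Coherent

namespace Groth.Agent.FModLib

/-- Maps vanishing on sections over a basis vanish. -/
theorem hom_eq_zero_of_forall {T : TopCat.{u}} {O : Sheaf (Opens.grothendieckTopology T) CommRingCat.{u}}
    {P : Opens T → Prop} (hb : ∀ (U : Opens T) (x : T), x ∈ U → ∃ V : Opens T, P V ∧ x ∈ V ∧ V ≤ U)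
    {M N : ModSite.Mod O} (ψ : M ⟶ N) (hψ : ∀ V, P V → ∀ x, secMap ψ V x = 0) : ψ = 0 := by
  haveI : Mono (kernel.ι ψ) := inferInstance
  haveI : Epi (kernel.ι ψ) := epi_of_forall hb _ fun V hV x => exists_kernel_sec ψ V x (hψ V hV x)
  rw [← cancel_epi (kernel.ι ψ), kernel.condition, comp_zero]

/-- Members of `span (range c) • W`. -/
theorem exists_sum_of_mem_span_smul {R : Type*} [CommRing R] {P : Type*} [AddCommGroup P] [Module R P]
    {r : ℕ} (c : Fin r → R) {W : Submodule R P} {x : P} (hx : x ∈ Ideal.span (Set.range c) • W) :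
    ∃ w : Fin r → P, (∀ i, w i ∈ W) ∧ ∑ i, c i • w i = x := by
  refine Submodule.smul_induction_on hx (fun s hs y hy => ?_) (fun y z hy hz => ?_)
  · obtain ⟨d, rfl⟩ := (Submodule.mem_span_range_iff_exists_fun R).1 hs
    refine ⟨fun i => d i • y, fun i => W.smul_mem _ hy, ?_⟩
    rw [Finset.sum_smul]
    exact Finset.sum_congr rfl fun i _ => by rw [smul_comm, smul_eq_mul, mul_smul, smul_comm]
  · obtain ⟨w, hw, rfl⟩ := hy
    obtain ⟨v, hv, rfl⟩ := hz
    exact ⟨w + v, fun i => add_mem (hw i) (hv i), by simp [smul_add, Finset.sum_add_distrib]⟩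

variable {A : Type u} [CommRing A] {J : Ideal A} {𝔛 : FSch.Sys.{u}} (f : 𝔛 ⟶ FSch.spf A J)
  (h : 𝔛.IsFormal) (hX : 𝔛.IsLocNoethFormal) (hf : FSch.IsAdicHom f)
  {M : ModSite.Mod (𝔛.Osh h)} (hM : FSch.IsCohF 𝔛 h M)

/-- Multiplication by an element of `A`. -/
noncomputable abbrev scl (a : A) (N : ModSite.Mod (𝔛.Osh h)) : N ⟶ N := DerComp.smulEnd (gsec f h a) N

theorem secMap_scl (a : A) (N : ModSite.Mod (𝔛.Osh h)) (V : (𝔛.X 0).Opens) (x : DerCompLib.Sec N V) :
    secMap (scl f h a N) V x = phiV f h V a • x := rfl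

include hX hf in
theorem phiV_mem_jdl {a : A} (ha : a ∈ J) {V : (𝔛.X 0).Opens} (hV : IsAffineOpen V) :
    phiV f h V a ∈ jdl h V :=
  (jdl_eq_map f h hX hf hV).ge (Ideal.mem_map_of_mem _ ha)

include hX hf hM in
theorem kill_scl (k : ℕ) {a : A} (ha : a ∈ J) :
    kernel.ι (lt' h M k) ≫ scl f h a (up h (k + 1) (down h (k + 1) M)) = 0 := by
  rw [← DerComp.smulEnd_comm]
  refine hom_eq_zero_of_forall basis_AFF _ fun V hV x => ?_
  rw [DerCompLib.secMap_comp, secMap_scl]
  refine (congrArg _ ?_).trans (map_zero _)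
  exact (Submodule.mem_bot _).1 ((jdl_kills_lvK h hX hM hV k).le
    (Submodule.smul_mem_smul (phiV_mem_jdl f h hX hf ha hV) Submodule.mem_top))

/-- Multiplication by an element of `J`, raising the level. -/
noncomputable def mu (a : J) (k : ℕ) : up h k (down h k M) ⟶ up h (k + 1) (down h (k + 1) M) :=
  haveI := epi_levelTrans h hX hM k
  Abelian.epiDesc (lt' h M k) (scl f h a _) (kill_scl f h hX hf hM k a.2)

theorem lt_mu (a : J) (k : ℕ) : lt' h M k ≫ mu f h hX hf hM a k = scl f h a _ := by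
  haveI := epi_levelTrans h hX hM k
  exact Abelian.comp_epiDesc _ _ _

theorem mu_lt (a : J) (k : ℕ) : mu f h hX hf hM a (k + 1) ≫ lt' h M (k + 1) = scl f h a _ := by
  haveI := epi_levelTrans h hX hM (k + 1)
  rw [← cancel_epi (lt' h M (k + 1)), ← Category.assoc, lt_mu]
  exact DerComp.smulEnd_comm _ _

theorem mu_lt_comm (a : J) (k : ℕ) :
    mu f h hX hf hM a (k + 1) ≫ lt' h M (k + 1) = lt' h M k ≫ mu f h hX hf hM a k := by
  rw [mu_lt, lt_mu]

theorem mu_zero_lt (a : J) : mu f h hX hf hM a 0 ≫ lt' h M 0 = 0 := by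
  haveI := epi_levelTrans h hX hM 0
  rw [← cancel_epi (lt' h M 0), ← Category.assoc, lt_mu, comp_zero, DerComp.smulEnd_comm]
  refine hom_eq_zero_of_forall basis_AFF _ fun V hV x => ?_
  rw [DerCompLib.secMap_comp, secMap_scl]
  have := Submodule.smul_mem_smul (phiV_mem_jdl f h hX hf a.2 hV)
    (Submodule.mem_top (x := secMap (lt' h M 0) V x))
  rw [show jdl h V = jdl h V ^ (0 + 1) from (pow_one _).symm, level_killed h hX hV 0 (down h 0 M)] at this
  exact (Submodule.mem_bot _).1 this

theorem mu_comm (a b : J) (k : ℕ) :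
    mu f h hX hf hM a k ≫ mu f h hX hf hM b (k + 1) = mu f h hX hf hM b k ≫ mu f h hX hf hM a (k + 1) := by
  haveI := epi_levelTrans h hX hM k
  haveI := epi_levelTrans h hX hM (k + 1)
  rw [← cancel_epi (lt' h M k), ← Category.assoc, ← Category.assoc, lt_mu, lt_mu,
    ← cancel_epi (lt' h M (k + 1)), ← Category.assoc, ← Category.assoc, ← DerComp.smulEnd_comm,
    ← DerComp.smulEnd_comm, Category.assoc, Category.assoc, lt_mu, lt_mu]
  exact DerComp.smulEnd_comm _ _

/-- Multiplication on the kernels. -/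
noncomputable def muK (a : J) (k : ℕ) : lvK h M k ⟶ lvK h M (k + 1) :=
  kernel.lift _ (kernel.ι (lt' h M k) ≫ mu f h hX hf hM a (k + 1))
    (by rw [Category.assoc, mu_lt, kill_scl f h hX hf hM k a.2])

theorem muK_ι (a : J) (k : ℕ) :
    muK f h hX hf hM a k ≫ kernel.ι (lt' h M (k + 1)) = kernel.ι (lt' h M k) ≫ mu f h hX hf hM a (k + 1) :=
  kernel.lift_ι _ _ _

theorem muK_comm (a b : J) (k : ℕ) :
    muK f h hX hf hM a k ≫ muK f h hX hf hM b (k + 1) = muK f h hX hf hM b k ≫ muK f h hX hf hM a (k + 1) := by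
  rw [← cancel_mono (kernel.ι (lt' h M (k + 2))), Category.assoc, Category.assoc, muK_ι, muK_ι,
    ← Category.assoc, ← Category.assoc, muK_ι, muK_ι, Category.assoc, Category.assoc, mu_comm]

variable (M) in
/-- The coherent module on the smallest level underlying a kernel. -/
noncomputable abbrev lvN (k : ℕ) : (𝔛.X 0).Modules := down h 0 (lvK h M k)

/-- Multiplication on the modules on the smallest level. -/
noncomputable abbrev nu (a : J) (k : ℕ) : lvN h M k ⟶ lvN h M (k + 1) :=
  (FSch.levelMor 𝔛 h 0).pull.map (muK f h hX hf hM a k)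

theorem muK_θ (a : J) (k : ℕ) : muK f h hX hf hM a k ≫ lvθ h M (k + 1) =
    lvθ h M k ≫ (FSch.levelMor 𝔛 h 0).push.map (nu f h hX hf hM a k) :=
  (FSch.levelMor 𝔛 h 0).adj.unit.naturality (muK f h hX hf hM a k)

theorem nu_comm (a b : J) (k : ℕ) :
    nu f h hX hf hM a k ≫ nu f h hX hf hM b (k + 1) = nu f h hX hf hM b k ≫ nu f h hX hf hM a (k + 1) := by
  rw [← Functor.map_comp, ← Functor.map_comp, muK_comm]

/-- Scalars on direct images from the smallest level. -/
theorem scl_up (a : A) (N : (𝔛.X 0).Modules) :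
    scl f h a (up h 0 N) =
      (FSch.levelMor 𝔛 h 0).push.map (Formal.smulModΓ N (Coh.toGlobal (pSpf f 0) a)) := by
  apply SheafOfModules.hom_ext
  apply PresheafOfModules.hom_ext
  intro U
  refine ModuleCat.hom_ext (LinearMap.ext fun (x : DerCompLib.Sec (up h 0 N) U.unop) => ?_)
  show proj 𝔛 h 0 U.unop (phiV f h U.unop a) • upVal h x =
    (𝔛.X 0).presheaf.map (homOfLE (le_top (a := 𝔛.lvU h 0 U.unop))).op (Coh.toGlobal (pSpf f 0) a) • upVal h x
  rw [proj_phiV]
  rfl

theorem scl_θ (a : A) (k : ℕ) : scl f h a (lvK h M k) ≫ lvθ h M k = lvθ h M k ≫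
    (FSch.levelMor 𝔛 h 0).push.map (Formal.smulModΓ (lvN h M k) (Coh.toGlobal (pSpf f 0) a)) := by
  rw [← scl_up]
  exact DerComp.smulEnd_comm _ _

/-- The system on the smallest level is generated in degree `0`. -/
theorem secEG_nu {r : ℕ} (a : Fin r → J) (ha : Ideal.span (Set.range fun i => (a i : A)) = J) :
    SecEG (fun k => lvN h M k) fun i k => nu f h hX hf hM (a i) k := by
  intro W hW
  obtain ⟨V, rfl⟩ := exists_lvU h 0 W
  have hV : IsAffineOpen V := by rwa [lvU_zero] at hW
  refine ⟨0, fun k _ y => ?_⟩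
  obtain ⟨z, hz⟩ := (bijective_lvθ h hX hM hV (k + 1)).2 ((upVal h).symm y)
  have hzk : secMap (kernel.ι (lt' h M (k + 1))) V z ∈
      Ideal.span (Set.range fun i => phiV f h V (a i)) • (jdl h V ^ (k + 1) •
        (⊤ : Submodule (FBlowLib.Sec 𝔛 h V) (DerCompLib.Sec (up h (k + 2) (down h (k + 2) M)) V))) := by
    have e : Ideal.span (Set.range fun i => phiV f h V (a i)) = jdl h V := by
      rw [jdl_eq_map f h hX hf hV]
      refine Eq.trans ?_ (congrArg (Ideal.map (phiV f h V)) ha)
      rw [Ideal.map_span, ← Set.range_comp]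
      rfl
    rw [e, ← Submodule.smul_assoc, smul_eq_mul, ← pow_succ', ← (levelTrans_props h hX hM hV (k + 1)).2,
      LinearMap.mem_ker]
    exact kernel_sec_condition _ V z
  obtain ⟨w, hw, hsum⟩ := exists_sum_of_mem_span_smul _ hzk
  have hw' : ∀ i, secMap (lt' h M k) V (secMap (lt' h M (k + 1)) V (w i)) = 0 := fun i => by
    rw [← LinearMap.mem_ker, (levelTrans_props h hX hM hV k).2]
    have := Submodule.mem_map_of_mem (f := secMap (lt' h M (k + 1)) V) (hw i)
    rw [Submodule.map_smul''] at this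
    exact Submodule.smul_mono le_rfl le_top this
  choose z' hz' using fun i => exists_kernel_sec (lt' h M k) V _ (hw' i)
  refine ⟨fun i => upVal h (secMap (lvθ h M k) V (z' i)), ?_⟩
  have hzz : z = ∑ i, secMap (muK f h hX hf hM (a i) k) V (z' i) := by
    refine kernel_sec_injective (lt' h M (k + 1)) V ?_
    rw [map_sum, ← hsum]
    refine Finset.sum_congr rfl fun i _ => ?_
    rw [← DerCompLib.secMap_comp, muK_ι, DerCompLib.secMap_comp, hz', ← DerCompLib.secMap_comp,
      lt_mu, secMap_scl]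
  rw [← (upVal h).apply_symm_apply y, ← hz, hzz, map_sum, map_sum]
  refine Finset.sum_congr rfl fun i _ => ?_
  rw [← DerCompLib.secMap_comp, muK_θ, DerCompLib.secMap_comp, upVal_map]
  rfl

end Groth.Agent.FModLib
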