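import Groth.Agent.FModLib.PullSys
import Groth.Agent.Coherent.QcohLocal
import Groth.Agent.Coherent.QcohOps

/-!
# Coherent modules on formal schemes and their restrictions to the levels
-/

set_option autoImplicit false
set_option backward.isDefEq.respectTransparency false
set_option linter.style.haveILetI false
set_option linter.unusedSectionVars false

universe u

open CategoryTheory CategoryTheory.Limits AlgebraicGeometry Opposite TopologicalSpace
open Groth.Agent.FBlowLib Groth.Agent.DerCompLib Groth.Agent.Coherent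

namespace Groth.Agent.FModLib

variable {𝔛 : FSch.Sys.{u}} (h : 𝔛.IsFormal) (hX : 𝔛.IsLocNoethFormal) {M N : ModSite.Mod (𝔛.Osh h)}

include hX in
/-- Sections of the restriction to a level over an affine open. -/
theorem unitVec_props (hM : FSch.IsCohF 𝔛 h M) {V : (𝔛.X 0).Opens} (hV : IsAffineOpen V) (k : ℕ) :
    (∀ y : Γ(down h k M, 𝔛.lvU h k V), ∃ x : DerCompLib.Sec M V, unitVec h k M x = y) ∧
      ∀ x : DerCompLib.Sec M V, unitVec h k M x = 0 ↔
        x ∈ jdl h V ^ (k + 1) • (⊤ : Submodule (FBlowLib.Sec 𝔛 h V) (DerCompLib.Sec M V)) := by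
  obtain ⟨hsurj, hker⟩ := (real_props h hX (downSys h M) (isCoh_down h hX M hM) hV).2 k
  haveI := isIso_theta h hX M hM
  let e := asIso (theta h M)
  let f := secMap (theta h M) V
  let g := secMap (inv (theta h M)) V
  have hfg : ∀ x, f (g x) = x := fun x => congrArg (fun φ => secMap φ V x) (IsIso.inv_hom_id (theta h M))
  have hgf : ∀ x, g (f x) = x := fun x => congrArg (fun φ => secMap φ V x) (IsIso.hom_inv_id (theta h M))
  refine ⟨fun y => ?_, fun x => ?_⟩
  · obtain ⟨z, hz⟩ := hsurj ((upVal h).symm y)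
    refine ⟨g z, ?_⟩
    rw [← upVal_rproj_theta]
    exact (congrArg (fun w => upVal h (rproj h (downSys h M).F (downSys h M).toPush k V w)) (hfg z)).trans
      ((congrArg (upVal h) hz).trans (AddEquiv.apply_symm_apply _ _))
  · rw [← upVal_rproj_theta, map_eq_zero_iff _ (upVal h).injective, ← LinearMap.mem_ker, hker]
    refine ⟨fun hx => ?_, fun hx => ?_⟩
    · have := Submodule.mem_map_of_mem (f := g) hx
      rw [Submodule.map_smul''] at this
      exact Submodule.smul_mono le_rfl le_top (hgf x ▸ this)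
    · have := Submodule.mem_map_of_mem (f := f) hx
      rw [Submodule.map_smul''] at this
      exact Submodule.smul_mono le_rfl le_top this

theorem unitVec_natural (k : ℕ) (θ : M ⟶ N) {V : (𝔛.X 0).Opens} (x : DerCompLib.Sec M V) :
    unitVec h k N (secMap θ V x) =
      Scheme.Modules.Hom.app (M := down h k M) (N := down h k N) ((FSch.levelMor 𝔛 h k).pull.map θ)
        (𝔛.lvU h k V) (unitVec h k M x) :=
  congrArg (fun φ => upVal h (secMap φ V x)) ((FSch.levelMor 𝔛 h k).adj.unit.naturality θ)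

theorem secMap_eq_zero_of_unit (k : ℕ) (ψ : M ⟶ N)
    (hψ : ψ ≫ (FSch.levelMor 𝔛 h k).adj.unit.app N = 0) {V : (𝔛.X 0).Opens} (x : DerCompLib.Sec M V) :
    unitVec h k N (secMap ψ V x) = 0 :=
  (congrArg (fun φ => upVal h (secMap φ V x)) hψ).trans (map_zero _)

include hX in
/-- Surjectivity is detected on the smallest level. -/
theorem epi_iff_level (hM : FSch.IsCohF 𝔛 h M) (hN : FSch.IsCohF 𝔛 h N) (θ : M ⟶ N) :
    Epi θ ↔ Epi ((FSch.levelMor 𝔛 h 0).pull.map θ) := by
  refine ⟨fun _ => ?_, fun hepi => ?_⟩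
  · haveI : (FSch.levelMor 𝔛 h 0).pull.IsLeftAdjoint := (FSch.levelMor 𝔛 h 0).adj.isLeftAdjoint
    exact CategoryTheory.Functor.map_epi _ θ
  haveI : Coh.IsQCoh (down h 0 M) := (isCoh_down h hX M hM 0).1
  haveI : Coh.IsQCoh (down h 0 N) := (isCoh_down h hX N hN 0).1
  let φ : down h 0 M ⟶ down h 0 N := (FSch.levelMor 𝔛 h 0).pull.map θ
  haveI : Epi φ := hepi
  let S : ShortComplex (𝔛.X 0).Modules := ShortComplex.mk (kernel.ι φ) φ (kernel.condition φ)
  haveI : Coh.IsQCoh S.X₁ := isQCoh_kernel φ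
  have hS : S.ShortExact :=
    { exact := S.exact_of_f_is_kernel (kernelIsKernel φ)
      mono_f := inferInstanceAs (Mono (kernel.ι φ))
      epi_g := inferInstanceAs (Epi φ) }
  refine epi_of_forall (P := AFF 𝔛) basis_AFF θ fun V hV b => ?_
  haveI := (isPC_of_isCohF h hX N hN).finite V hV
  have htop : LinearMap.range (secMap θ V) = ⊤ := by
    refine span_eq_top_of_sup_smul (jdl_le_jacobson h hX hV) _ (top_unique fun y _ => ?_)
    obtain ⟨z, hz⟩ := sections_surjective hS (S13347.isAffineOpen_lvU 𝔛 h 0 V hV) (unitVec h 0 N y)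
    obtain ⟨x, hx⟩ := (unitVec_props h hX hM hV 0).1 z
    refine Submodule.mem_sup.2 ⟨_, ⟨x, rfl⟩, y - secMap θ V x, ?_, add_sub_cancel _ _⟩
    rw [← pow_one (jdl h V), ← (unitVec_props h hX hN hV 0).2]
    refine (map_sub ((upVal h).toAddMonoidHom.comp
      (secMap ((FSch.levelMor 𝔛 h 0).adj.unit.app N) V).toAddMonoidHom) y (secMap θ V x)).trans ?_
    refine sub_eq_zero.2 ?_
    refine Eq.trans ?_ (unitVec_natural h 0 θ x).symm
    exact hz.symm.trans (congrArg _ hx.symm)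
  exact LinearMap.range_eq_top.1 htop b

include hX in
/-- Perturbing an epimorphism by a morphism into the ideal of definition gives an epimorphism. -/
theorem epi_add (hN : FSch.IsCohF 𝔛 h N) (θ ψ : M ⟶ N) (k : ℕ)
    (hψ : ψ ≫ (FSch.levelMor 𝔛 h k).adj.unit.app N = 0) (hM : FSch.IsCohF 𝔛 h M) [Epi θ] : Epi (θ + ψ) := by
  refine epi_of_forall (P := AFF 𝔛) basis_AFF (θ + ψ) fun V hV b => ?_
  haveI := (isPC_of_isCohF h hX N hN).finite V hV
  have htop : LinearMap.range (secMap (θ + ψ) V) = ⊤ := by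
    refine span_eq_top_of_sup_smul (jdl_le_jacobson h hX hV) _ (top_unique fun y _ => ?_)
    obtain ⟨x, rfl⟩ := (goodRing h hX).surjective_of_epi (isPC_of_isCohF h hX M hM)
      (isPC_of_isCohF h hX N hN) θ hV y
    refine Submodule.mem_sup.2 ⟨_, ⟨x, rfl⟩, -secMap ψ V x, ?_, ?_⟩
    · exact Submodule.smul_mono (Ideal.pow_le_self k.succ_ne_zero) le_rfl
        (neg_mem (((unitVec_props h hX hN hV k).2 _).1 (secMap_eq_zero_of_unit h k ψ hψ x)))
    · show secMap θ V x + secMap ψ V x + -secMap ψ V x = secMap θ V x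
      abel
  exact LinearMap.range_eq_top.1 htop b

/-- A small perturbation of an injective map is injective. -/
theorem exists_injective_add {A : Type u} [CommRing A] [IsNoetherianRing A] {P Q : Type u} [AddCommGroup P]
    [Module A P] [Module.Finite A P] [AddCommGroup Q] [Module A Q] [Module.Finite A Q] {J : Ideal A}
    (hJ : J ≤ Ideal.jacobson ⊥) (θ : P →ₗ[A] Q) (hθ : Function.Injective θ) :
    ∃ c : ℕ, ∀ n ≥ c, ∀ ψ : P →ₗ[A] Q, (∀ x, ψ x ∈ J ^ (n + 1) • (⊤ : Submodule A Q)) →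
      ∀ x, θ x + ψ x = 0 → x = 0 := by
  obtain ⟨c, hc⟩ := Ideal.exists_pow_inf_eq_pow_smul J (LinearMap.range θ)
  refine ⟨c, fun n hn ψ hψ x hx => ?_⟩
  have hmem : ∀ m : ℕ, x ∈ J ^ m • (⊤ : Submodule A P) := by
    intro m
    induction m with
    | zero => simp
    | succ m ih =>
      have h1 : ψ x ∈ J ^ (n + 1 + m) • (⊤ : Submodule A Q) := by
        have h2 := Submodule.mem_map_of_mem (f := ψ) ih
        rw [Submodule.map_smul''] at h2
        have h3 : Submodule.map ψ ⊤ ≤ J ^ (n + 1) • (⊤ : Submodule A Q) := by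
          rintro _ ⟨w, _, rfl⟩
          exact hψ w
        have h4 := Submodule.smul_mono (le_refl (J ^ m)) h3 h2
        rw [← Submodule.smul_assoc, smul_eq_mul, ← pow_add, add_comm] at h4
        exact h4
      have h5 : θ x ∈ J ^ (n + 1 + m) • (⊤ : Submodule A Q) ⊓ LinearMap.range θ := by
        refine ⟨?_, x, rfl⟩
        rw [show θ x = -ψ x from eq_neg_of_add_eq_zero_left hx]
        exact neg_mem h1
      rw [hc (n + 1 + m) (by omega)] at h5
      have h6 : θ x ∈ J ^ (n + 1 + m - c) • LinearMap.range θ :=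
        Submodule.smul_mono le_rfl inf_le_right h5
      rw [← Submodule.map_top, ← Submodule.map_smul''] at h6
      obtain ⟨x', hx', hxx⟩ := h6
      rw [hθ hxx] at hx'
      exact Submodule.smul_mono (Ideal.pow_le_pow_right (by omega)) le_rfl hx'
  refine (Submodule.mem_bot A).1 ?_
  rw [← Ideal.iInf_pow_smul_eq_bot_of_le_jacobson (I := J) (M := P) hJ]
  exact (Submodule.mem_iInf _).2 hmem

include hX in
/-- Openness of monomorphisms and of epimorphisms. -/
theorem exists_level_mono_epi [CompactSpace (𝔛.X 0)] (hM : FSch.IsCohF 𝔛 h M) (hN : FSch.IsCohF 𝔛 h N)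
    (θ : M ⟶ N) :
    ∃ n : ℕ, ∀ ψ : M ⟶ N, ψ ≫ (FSch.levelMor 𝔛 h n).adj.unit.app N = 0 →
      (Mono θ → Mono (θ + ψ)) ∧ (Epi θ → Epi (θ + ψ)) := by
  classical
  by_cases hθ : Mono θ
  swap
  · exact ⟨0, fun ψ hψ => ⟨fun hm => absurd hm hθ, fun _ => epi_add h hX hN θ ψ 0 hψ hM⟩⟩
  have hloc : ∀ x : 𝔛.X 0, ∃ (V : (𝔛.X 0).Opens) (c : ℕ), x ∈ V ∧ IsAffineOpen V ∧
      ∀ n ≥ c, ∀ ψ : M ⟶ N, ψ ≫ (FSch.levelMor 𝔛 h n).adj.unit.app N = 0 →
        ∀ z : DerCompLib.Sec M V, secMap (θ + ψ) V z = 0 → z = 0 := fun x => by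
    obtain ⟨V, hV, hxV, -⟩ := (goodRing h hX).basis ⊤ x trivial
    haveI := (goodRing h hX).noeth V hV
    haveI := (isPC_of_isCohF h hX M hM).finite V hV
    haveI := (isPC_of_isCohF h hX N hN).finite V hV
    obtain ⟨c, hc⟩ := exists_injective_add (jdl_le_jacobson h hX hV) (secMap θ V) (injective_of_mono θ V)
    exact ⟨V, c, hxV, hV, fun n hn ψ hψ z hz => hc n hn (secMap ψ V)
      (fun w => ((unitVec_props h hX hN hV n).2 _).1 (secMap_eq_zero_of_unit h n ψ hψ w)) z hz⟩
  choose V c hxV hV hc using hloc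
  obtain ⟨F, hF⟩ := isCompact_univ.elim_finite_subcover (fun x => ((V x : (𝔛.X 0).Opens) : Set (𝔛.X 0)))
    (fun x => (V x).isOpen) fun x _ => Set.mem_iUnion.2 ⟨x, hxV x⟩
  refine ⟨F.sup c, fun ψ hψ => ⟨fun _ => ?_, fun _ => epi_add h hX hN θ ψ _ hψ hM⟩⟩
  refine mono_of_forall (P := fun W => IsAffineOpen W ∧ ∃ x ∈ F, W ≤ V x) (fun W y hy => ?_) (θ + ψ) ?_
  · obtain ⟨x, hxF, hyx⟩ := Set.mem_iUnion₂.1 (hF (Set.mem_univ y))
    obtain ⟨W', hW', hyW', hle⟩ := (goodRing h hX).basis (W ⊓ V x) y ⟨hy, hyx⟩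
    exact ⟨W', ⟨hW', x, hxF, hle.trans inf_le_right⟩, hyW', hle.trans inf_le_left⟩
  rintro W ⟨hW, x, hxF, hWx⟩
  rw [injective_iff_map_eq_zero]
  intro z hz
  obtain ⟨w, hw⟩ := exists_kernel_sec (θ + ψ) W z hz
  have hspan := ((goodRing h hX).isPC_kernel (isPC_of_isCohF h hX M hM) (isPC_of_isCohF h hX N hN) (θ + ψ)).span
    (V x) W hWx (hV x) hW
  have hzero : Set.range (mRes (kernel (θ + ψ)) hWx) ⊆
      ((⊥ : Submodule (FBlowLib.Sec 𝔛 h W) (DerCompLib.Sec (kernel (θ + ψ)) W)) : Set _) := by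
    rintro _ ⟨k, rfl⟩
    have hk : k = 0 := kernel_sec_injective (θ + ψ) (V x) ((hc x _ (Finset.le_sup hxF) ψ hψ _
      (kernel_sec_condition (θ + ψ) (V x) k)).trans (map_zero _).symm)
    rw [hk, map_zero]
    exact Submodule.zero_mem _
  have hbot := Submodule.span_le.2 hzero
  rw [hspan] at hbot
  rw [← hw, (Submodule.mem_bot _).1 (hbot (Submodule.mem_top (x := w))), map_zero]

end Groth.Agent.FModLib
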