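import Groth.Agent.FModLib.BasisExact

/-!
# Morphisms out of a module with a presentation over an open

Into a module all of whose sections are those on the open, they are families of sections on the open killed
by the relations.
-/

set_option autoImplicit false
set_option backward.isDefEq.respectTransparency false
set_option linter.unusedSectionVars false
set_option linter.style.haveILetI false

universe u

open CategoryTheory CategoryTheory.Limits Opposite TopologicalSpace
open Groth.Agent.DerCompLib

namespace Groth.Agent.FModLib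

variable {T : TopCat.{u}} {O : Sheaf (Opens.grothendieckTopology T) CommRingCat.{u}} {U : Opens T}

/-- The value of a section on the top object. -/
noncomputable abbrev topOf {G : ModSite.Mod (O.over U)} (s : G.sections) : Sec G (ovTop U) :=
  s.val (op (ovTop U))

theorem mkSec_topOf {G : ModSite.Mod (O.over U)} (s : G.sections) : mkSec G (topOf s) = s :=
  PresheafOfModules.sections_ext _ _ fun V => s.property (toTop V.unop).op

/-- Morphisms out of a finite free module on `U` are determined on the top object. -/
theorem free_hom_ext_top {I : Type u} {G : ModSite.Mod (O.over U)}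
    {a b : SheafOfModules.free (R := ModSite.ringSh (O.over U)) I ⟶ G}
    (h : ∀ i, imgVec (O.over U) a (ovTop U) i = imgVec (O.over U) b (ovTop U) i) : a = b := by
  apply G.freeHomEquiv.injective
  funext i
  rw [← mkSec_topOf (G.freeHomEquiv a i), ← mkSec_topOf (G.freeHomEquiv b i)]
  exact congrArg (mkSec G) ((imgVec_eq (O.over U) a _ i).symm.trans ((h i).trans (imgVec_eq (O.over U) b _ i)))

variable {F : ModSite.Mod (O.over U)} (Pr : SheafOfModules.Presentation (M := F))

/-- The generators on the top object. -/
noncomputable def gens (i : Pr.generators.I) : Sec F (ovTop U) := topOf (Pr.generators.s i)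

/-- The relations on the top object. -/
noncomputable def relVec (l : Pr.relations.I) : Pr.generators.I → (O.over U).obj.obj (op (ovTop U)) :=
  coordAt (O.over U) (ovTop U)
    (secMap (kernel.ι Pr.generators.π) (ovTop U) (topOf (Pr.relations.s l)))

theorem imgVec_π (V : Over U) (i : Pr.generators.I) :
    imgVec (O.over U) Pr.generators.π V i = secRes F (toTop V) (gens Pr i) := by
  rw [imgVec_eq, show F.freeHomEquiv Pr.generators.π i = Pr.generators.s i from
    congrFun (F.freeHomEquiv.apply_symm_apply _) i]
  exact ((Pr.generators.s i).property (toTop V).op).symm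

theorem imgVec_π_top (i : Pr.generators.I) :
    imgVec (O.over U) Pr.generators.π (ovTop U) i = gens Pr i := by
  rw [imgVec_π, secRes_toTop_self]

variable [Fintype Pr.generators.I]

theorem sum_relVec_gens (l : Pr.relations.I) :
    ∑ i, relVec Pr l i • gens Pr i = 0 := by
  have := kernel_sec_condition Pr.generators.π (ovTop U) (topOf (Pr.relations.s l))
  rw [secMap_free (O.over U) Pr.generators.π] at this
  simp only [imgVec_π_top] at this
  exact this

set_option maxHeartbeats 1000000 in
/-- Morphisms out of `F` are families killed by the relations. -/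
theorem exists_over_hom (N : ModSite.Mod (O.over U)) (y : Pr.generators.I → Sec N (ovTop U))
    (hy : ∀ l, ∑ i, relVec Pr l i • y i = 0) :
    ∃ α : F ⟶ N, ∀ i, secMap α (ovTop U) (gens Pr i) = y i := by
  haveI := Pr.generators.epi
  haveI := Pr.relations.epi
  let g := N.freeHomEquiv.symm fun i => mkSec N (y i)
  have hg : kernel.ι Pr.generators.π ≫ g = 0 := by
    refine comp_eq_zero_of_imgVec (O.over U) Pr.relations.π (kernel.ι Pr.generators.π) g (ovTop U)
      (fun _ _ => free_hom_ext_top) fun l => ?_
    have e : imgVec (O.over U) Pr.relations.π (ovTop U) l = topOf (Pr.relations.s l) := by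
      rw [imgVec_eq]
      exact congrArg (fun s : (kernel Pr.generators.π).sections => s.val (op (ovTop U)))
        (congrFun ((kernel Pr.generators.π).freeHomEquiv.apply_symm_apply _) l)
    rw [e]
    refine Eq.trans (Finset.sum_congr rfl fun i _ => ?_) (hy l)
    rw [imgVec_mkSec, secRes_toTop_self]
    rfl
  haveI hepi : Epi Pr.generators.π := Pr.generators.epi
  refine ⟨Abelian.epiDesc Pr.generators.π g hg, fun i => ?_⟩
  rw [← imgVec_π_top Pr i]
  refine (congrArg (fun φ => secMap φ (ovTop U) (freeVec (O.over U) i (ovTop U)))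
    (Abelian.comp_epiDesc Pr.generators.π g hg)).trans ?_
  exact (imgVec_mkSec N y (ovTop U) i).trans (secRes_toTop_self N (y i))

/-- Morphisms out of `F` are determined on the generators. -/
theorem over_hom_ext {N : ModSite.Mod (O.over U)} {α β : F ⟶ N}
    (h : ∀ i, secMap α (ovTop U) (gens Pr i) = secMap β (ovTop U) (gens Pr i)) : α = β := by
  haveI := Pr.generators.epi
  rw [← cancel_epi Pr.generators.π]
  refine free_hom_ext_top fun i => ?_
  show secMap α (ovTop U) (imgVec (O.over U) Pr.generators.π (ovTop U) i) =
    secMap β (ovTop U) (imgVec (O.over U) Pr.generators.π (ovTop U) i)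
  rw [imgVec_π_top, h]

omit [Fintype Pr.generators.I]

section Extend

variable {M N : ModSite.Mod O}
  (hN : ∀ W : Opens T, Function.Bijective (mRes N (inf_le_left : W ⊓ U ≤ W)))
include hN

set_option maxHeartbeats 1000000 in
/-- Morphisms over `U` extend into a module whose sections are those on `U`. -/
theorem exists_extend (α : overMod M U ⟶ overMod N U) :
    ∃ β : M ⟶ N, ∀ x : Sec M U, secMap β U x = secMap α (ovTop U) x := by
  let ρ : ∀ W : Opens T, Sec N W ≃+ Sec N (W ⊓ U) := fun W => AddEquiv.ofBijective _ (hN W)
  let A : ∀ W : Opens T, Sec M (W ⊓ U) →+ Sec N (W ⊓ U) := fun W =>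
    (secMap α (ov (inf_le_right : W ⊓ U ≤ U))).toAddMonoidHom
  let app : ∀ W : Opens T, Sec M W →+ Sec N W := fun W =>
    ((ρ W).symm.toAddMonoidHom.comp (A W)).comp (mRes M (inf_le_left : W ⊓ U ≤ W))
  have happ : ∀ (W : Opens T) (m : Sec M W), mRes N (inf_le_left : W ⊓ U ≤ W) (app W m) =
      A W (mRes M (inf_le_left : W ⊓ U ≤ W) m) := fun W m => (ρ W).apply_symm_apply _
  have hA : ∀ {W W' : Opens T} (i : W' ≤ W) (m : Sec M (W ⊓ U)),
      mRes N (inf_le_inf_right U i) (A W m) = A W' (mRes M (inf_le_inf_right U i) m) := fun i m =>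
    (secMap_secRes' α (Over.homMk (homOfLE (inf_le_inf_right U i)) :
      ov (inf_le_right : _ ⊓ U ≤ U) ⟶ ov (inf_le_right : _ ⊓ U ≤ U)) m).symm
  have hnat : ∀ {W W' : Opens T} (i : W' ≤ W) (m : Sec M W),
      app W' (mRes M i m) = mRes N i (app W m) := fun {W W'} i m => by
    apply (hN W').1
    rw [happ, mRes_mRes, mRes_mRes,
      ← mRes_mRes (inf_le_left : W ⊓ U ≤ W) (inf_le_inf_right U i), ← hA i, ← happ, mRes_mRes]
  have hlin : ∀ (W : Opens T) (r : O.obj.obj (op W)) (m : Sec M W), app W (r • m) = r • app W m :=
    fun W r m => by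
    apply (hN W).1
    rw [happ, mRes_smul, mRes_smul, happ]
    exact (secMap α (ov (inf_le_right : W ⊓ U ≤ U))).map_smul _ _
  let nt : M.val.presheaf ⟶ N.val.presheaf :=
    { app := fun W => AddCommGrpCat.ofHom (app W.unop)
      naturality := fun W W' f => AddCommGrpCat.ext fun m => hnat (leOfHom f.unop) m }
  refine ⟨⟨PresheafOfModules.homMk nt fun W r m => hlin W.unop r m⟩, fun x => ?_⟩
  apply (hN U).1
  refine (happ U x).trans ?_
  exact secMap_secRes' α (Over.homMk (homOfLE (inf_le_left : U ⊓ U ≤ U)) :
    ov (inf_le_right : U ⊓ U ≤ U) ⟶ ovTop U) x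

/-- Morphisms into a module whose sections are those on `U` are determined on `U`. -/
theorem extend_ext {β β' : M ⟶ N} (h : (ModSite.restr O U).map β = (ModSite.restr O U).map β') : β = β' := by
  apply SheafOfModules.hom_ext
  apply PresheafOfModules.hom_ext
  intro W
  refine ModuleCat.hom_ext (LinearMap.ext fun (x : Sec M W.unop) => (hN W.unop).1 ?_)
  show mRes N _ (secMap β W.unop x) = mRes N _ (secMap β' W.unop x)
  rw [← secMap_mRes, ← secMap_mRes]
  exact congrArg (fun φ => secMap φ (ov (inf_le_right : W.unop ⊓ U ≤ U)) (mRes M inf_le_left x)) h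

end Extend

end Groth.Agent.FModLib
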