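import Groth.Agent.FModLib.FreeLocal

/-!
# Presentations from locally spanning sections and locally spanning relations
-/

set_option autoImplicit false
set_option backward.isDefEq.respectTransparency false
set_option linter.unusedSectionVars false
set_option linter.style.haveILetI false

universe u

open CategoryTheory CategoryTheory.Limits Opposite TopologicalSpace
open Groth.Agent.DerCompLib

namespace Groth.Agent.FModLib

variable {T : TopCat.{u}} {O : Sheaf (Opens.grothendieckTopology T) CommRingCat.{u}} {U : Opens T}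

/-- Properties holding near each point hold on a cover. -/
theorem exists_over_cover_of_pt {V : Over U} (Q : ∀ ⦃W : Over U⦄, (W ⟶ V) → Prop)
    (hQ : ∀ ⦃W W' : Over U⦄ (k : W ⟶ V) (j : W' ⟶ W), Q k → Q (j ≫ k))
    (h : ∀ y ∈ V.left, ∃ (W : Over U) (k : W ⟶ V), Q k ∧ y ∈ W.left) :
    ∃ R ∈ (Opens.grothendieckTopology T).over U V, ∀ ⦃W : Over U⦄ (k : W ⟶ V), R k → Q k := by
  refine ⟨⟨fun W => {k | Q k}, fun {W W'} k hk j => hQ k j hk⟩, ?_, fun W k hk => hk⟩
  rw [GrothendieckTopology.mem_over_iff]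
  intro y hy
  obtain ⟨W, k, hk, hyW⟩ := h y hy
  refine ⟨W.left, k.left, ?_, hyW⟩
  rw [Sieve.overEquiv_iff]
  let j : Over.mk (k.left ≫ V.hom) ⟶ W := Over.homMk (𝟙 _) (Subsingleton.elim _ _)
  have := hQ k j hk
  rwa [show j ≫ k = Over.homMk k.left rfl from Over.OverMorphism.ext (Subsingleton.elim _ _)] at this

variable (N : ModSite.Mod (O.over U)) {I L : Type u} [Fintype I] [Fintype L]
  (t : I → Sec N (ovTop U)) (r : L → I → (O.over U).obj.obj (op (ovTop U)))

theorem epi_of_local_span
    (hgen : ∀ (V : Over U) (x : Sec N V), ∀ y ∈ V.left, ∃ (W : Over U) (g : W ⟶ V)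
      (c : I → (O.over U).obj.obj (op W)), secRes N g x = ∑ k, c k • secRes N (toTop W) (t k) ∧ y ∈ W.left) :
    Epi (N.freeHomEquiv.symm fun k => mkSec N (t k)) := by
  refine epi_of_locally _ fun V b => exists_over_cover_of_pt
    (fun {W} g => ∃ a, secMap (N.freeHomEquiv.symm fun k => mkSec N (t k)) W a = secRes N g b)
    (fun W W' g j ⟨a, ha⟩ => ⟨secRes _ j a, by rw [secMap_secRes', ha, secRes_comp]⟩) fun y hy => ?_
  obtain ⟨W, g, c, hc, hyW⟩ := hgen V b y hy
  refine ⟨W, g, ⟨∑ k, c k • freeVec (O.over U) k W, ?_⟩, hyW⟩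
  rw [secMap_comb, hc]
  exact Finset.sum_congr rfl fun k _ => congrArg (c k • ·) (imgVec_mkSec N t W k)

set_option maxHeartbeats 1500000 in
/-- A finite presentation from local conditions. -/
theorem exists_presentation_of_local (hr : ∀ l, ∑ k, r l k • t k = 0)
    (hgen : ∀ (V : Over U) (x : Sec N V), ∀ y ∈ V.left, ∃ (W : Over U) (g : W ⟶ V)
      (c : I → (O.over U).obj.obj (op W)), secRes N g x = ∑ k, c k • secRes N (toTop W) (t k) ∧ y ∈ W.left)
    (hrel : ∀ (V : Over U) (a : I → (O.over U).obj.obj (op V)), ∑ k, a k • secRes N (toTop V) (t k) = 0 →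
      ∀ y ∈ V.left, ∃ (W : Over U) (g : W ⟶ V) (b : L → (O.over U).obj.obj (op W)),
        (∀ k, (O.over U).obj.map g.op (a k) = ∑ l, b l * rT W (r l k)) ∧ y ∈ W.left) :
    ∃ Pr : SheafOfModules.Presentation (M := N), Pr.IsFinite := by
  let π := N.freeHomEquiv.symm fun k => mkSec N (t k)
  haveI hepi : Epi π := epi_of_local_span N t hgen
  have hker : ∀ l, secMap π (ovTop U) (∑ k, r l k • freeVec (O.over U) k (ovTop U)) = 0 := fun l => by
    rw [secMap_comb, ← hr l]
    refine Finset.sum_congr rfl fun k _ => congrArg (r l k • ·) ?_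
    rw [imgVec_mkSec, secRes_toTop_self]
  choose κ hκ using fun l => exists_kernel_sec π (ovTop U) _ (hker l)
  have hepi' : Epi ((kernel π).freeHomEquiv.symm fun l => mkSec (kernel π) (κ l)) := by
    refine epi_of_local_span (kernel π) κ fun V x y hy => ?_
    let p := secMap (kernel.ι π) V x
    have ha : ∑ k, coordAt (O.over U) V p k • secRes N (toTop V) (t k) = 0 := by
      have := kernel_sec_condition π V x
      rw [secMap_free (O.over U) π V p] at this
      simpa only [π, imgVec_mkSec] using this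
    obtain ⟨W, g, b, hb, hyW⟩ := hrel V _ ha y hy
    refine ⟨W, g, b, ?_, hyW⟩
    apply kernel_sec_injective π W
    refine free_ext (O.over U) W fun k => ?_
    refine Eq.trans ?_ (coordAt_map_comb (O.over U) (kernel.ι π) b _ (fun l k => rT W (r l k)) (fun l => ?_) k).symm
    · rw [secMap_secRes']
      exact (secMap_secRes' (coord (O.over U) k) g p).trans (hb k)
    · rw [secMap_secRes', hκ, secRes_comb]
  exact ⟨⟨⟨_, fun k => mkSec N (t k), hepi⟩, ⟨_, fun l => mkSec (kernel π) (κ l), hepi'⟩⟩,
    { isFiniteType_generators := ⟨inferInstanceAs (Finite I)⟩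
      isFiniteType_relations := ⟨inferInstanceAs (Finite L)⟩ }⟩

end Groth.Agent.FModLib
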