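import Groth.Agent.FModLib.Scheme
import Groth.Agent.Coherent.QcohOps
import Groth.Agent.Coherent.FiniteType

/-!
# Modules with the universal property of a cokernel of free modules

On an affine scheme such a module is coherent and its sections on affine opens are presented by the matrix.
-/

set_option autoImplicit false
set_option backward.isDefEq.respectTransparency false
set_option linter.style.haveILetI false
set_option linter.unusedSectionVars false

universe u

open CategoryTheory CategoryTheory.Limits AlgebraicGeometry Opposite TopologicalSpace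
open Groth.Agent.Coherent

namespace Groth.Agent.FModLib

variable {S : Scheme.{u}} [IsAffine S] (R : S.Modules) {I L : Type u} [Fintype I] [Fintype L]
  (γ : I → Γ(R, ⊤)) (c : L → I → Γ(S, ⊤))

include γ c in
/-- A module corepresenting families killed by a matrix is the cokernel of the matrix. -/
theorem coker_of_universal (hγ : ∀ l, ∑ i, c l i • γ i = 0)
    (hex : ∀ (H : S.Modules) (y : I → Γ(H, ⊤)), (∀ l, ∑ i, c l i • y i = 0) →
      ∃ α : R ⟶ H, ∀ i, α.app ⊤ (γ i) = y i)
    (huniq : ∀ (H : S.Modules) (α β : R ⟶ H), (∀ i, α.app ⊤ (γ i) = β.app ⊤ (γ i)) → α = β) :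
    Coh.IsCoh R ∧ ∀ (V : S.Opens), IsAffineOpen V →
      Submodule.span Γ(S, V) (Set.range fun i => resM R (le_top (a := V)) (γ i)) = ⊤ ∧
        ∀ a : I → Γ(S, V), ∑ i, a i • resM R (le_top (a := V)) (γ i) = 0 →
          a ∈ Submodule.span Γ(S, V)
            (Set.range fun l i => S.presheaf.map (homOfLE (le_top : V ≤ ⊤)).op (c l i)) := by
  classical
  let φ : freeMod S L ⟶ freeMod S I := freeDesc fun l =>
    unitDesc (freeMod S I) ((freeSectionsEquiv ⊤).symm (c l))
  let π : freeMod S I ⟶ R := freeDesc fun i => unitDesc R (γ i)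
  have hval : ∀ {M : S.Modules} (g : freeMod S I ⟶ M) (V : S.Opens) (b : I → Γ(S, V)),
      g.app V ((freeSectionsEquiv V).symm b) = ∑ i, b i • unitVal (freeInj i ≫ g) V := fun g V b => by
    rw [freeMod_app]
    exact Finset.sum_congr rfl fun i _ => congrArg (· • _)
      (congrFun ((freeSectionsEquiv (I := I) V).apply_symm_apply b) i)
  have hφ : ∀ {M : S.Modules} (g : freeMod S I ⟶ M) (V : S.Opens) (l : L),
      unitVal (freeInj l ≫ φ ≫ g) V =
        resM M le_top (g.app ⊤ ((freeSectionsEquiv ⊤).symm (c l))) := fun g V l => by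
    rw [← Category.assoc, freeInj_freeDesc]
    show g.app V (unitVal (unitDesc _ _) V) = _
    rw [unitVal_unitDesc]
    exact app_resM g le_top _
  have hzero : ∀ {M : S.Modules} (g : freeMod S I ⟶ M),
      (∀ l, ∑ i, c l i • unitVal (freeInj i ≫ g) ⊤ = 0) → φ ≫ g = 0 := fun {M} g hg => by
    refine freeMod_hom_ext fun l => ?_
    refine (SheafOfModules.unitHomEquiv (R := S.ringCatSheaf) M).injective
      (PresheafOfModules.sections_ext _ _ fun W => ?_)
    refine (SheafOfModules.unitHomEquiv_apply_coe M _ W).trans ?_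
    refine Eq.trans ?_ (SheafOfModules.unitHomEquiv_apply_coe M _ W).symm
    show unitVal (freeInj l ≫ φ ≫ g) W.unop = unitVal (freeInj l ≫ (0 : freeMod S L ⟶ M)) W.unop
    rw [hφ, hval, hg, map_zero, comp_zero]
    rfl
  have hπv : ∀ (i : I) (V : S.Opens), unitVal (freeInj i ≫ π) V = resM R (le_top (a := V)) (γ i) := fun i V => by
    rw [freeInj_freeDesc, unitVal_unitDesc]
  have hres : ∀ {M : S.Modules} (m : Γ(M, ⊤)), resM M (le_top : (⊤ : S.Opens) ≤ ⊤) m = m := fun {M} m =>
    congrArg (fun φ => φ m) (M.presheaf.map_id _)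
  have hw : φ ≫ π = 0 := hzero π fun l => by
    simp only [hπv, hres]
    exact hγ l
  have hlim : IsColimit (CokernelCofork.ofπ π hw) := by
    have hdesc : ∀ {M : S.Modules} (g : freeMod S I ⟶ M), φ ≫ g = 0 →
        ∃ α : R ⟶ M, ∀ i, α.app ⊤ (γ i) = unitVal (freeInj i ≫ g) ⊤ := fun {M} g hg => by
      refine hex M _ fun l => ?_
      have h1 := hφ g ⊤ l
      rw [hg, comp_zero, hres, hval] at h1
      exact h1.symm
    have hfac : ∀ {M : S.Modules} (g : freeMod S I ⟶ M) (α : R ⟶ M),
        (∀ i, α.app ⊤ (γ i) = unitVal (freeInj i ≫ g) ⊤) → π ≫ α = g := fun {M} g α hα => by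
      refine freeMod_hom_ext fun i => ?_
      refine (SheafOfModules.unitHomEquiv (R := S.ringCatSheaf) M).injective
        (PresheafOfModules.sections_ext _ _ fun W => ?_)
      refine (SheafOfModules.unitHomEquiv_apply_coe M _ W).trans ?_
      refine Eq.trans ?_ (SheafOfModules.unitHomEquiv_apply_coe M _ W).symm
      show α.app W.unop (unitVal (freeInj i ≫ π) W.unop) = unitVal (freeInj i ≫ g) W.unop
      rw [hπv, ← resM_unitVal (freeInj i ≫ g) (le_top : W.unop ≤ ⊤), ← hα i]
      exact app_resM α le_top _
    refine CokernelCofork.IsColimit.ofπ _ _ (fun g hg => (hdesc g hg).choose)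
      (fun g hg => hfac g _ (hdesc g hg).choose_spec) fun g hg m hm => huniq _ _ _ fun i => ?_
    rw [(hdesc g hg).choose_spec i]
    have := congrArg (fun ψ => unitVal (freeInj i ≫ ψ) ⊤) hm
    refine Eq.trans ?_ this
    show _ = m.app ⊤ (unitVal (freeInj i ≫ π) ⊤)
    rw [hπv, hres]
  haveI := isQCoh_freeMod (X := S) (I := I)
  haveI := isQCoh_freeMod (X := S) (I := L)
  haveI hR : Coh.IsQCoh R := by
    refine Coherent.isQCoh_of_iso ((cokernelIsCokernel φ).coconePointUniqueUpToIso hlim)
      (h := isQCoh_cokernel φ)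
  haveI : Epi π := Cofork.IsColimit.epi hlim
  have hex' : (ShortComplex.mk φ π hw).Exact := ShortComplex.exact_of_g_is_cokernel _ hlim
  have main : ∀ (V : S.Opens), IsAffineOpen V →
      Submodule.span Γ(S, V) (Set.range fun i => resM R (le_top (a := V)) (γ i)) = ⊤ ∧
        ∀ a : I → Γ(S, V), ∑ i, a i • resM R (le_top (a := V)) (γ i) = 0 →
          a ∈ Submodule.span Γ(S, V)
            (Set.range fun l i => S.presheaf.map (homOfLE (le_top : V ≤ ⊤)).op (c l i)) := by
    intro V hV
    haveI := isQCoh_kernel π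
    have hsurj : Function.Surjective (π.app V) := by
      let T : ShortComplex S.Modules := ShortComplex.mk (kernel.ι π) π (kernel.condition π)
      have hT : T.ShortExact := { exact := T.exact_of_f_is_kernel (kernelIsKernel π) }
      haveI : Coh.IsQCoh T.X₁ := isQCoh_kernel π
      exact sections_surjective hT hV
    refine ⟨top_unique fun x _ => ?_, fun a ha => ?_⟩
    · obtain ⟨p, rfl⟩ := hsurj x
      rw [freeMod_app]
      exact Submodule.sum_mem _ fun i _ => Submodule.smul_mem _ _ (Submodule.subset_span ⟨i, (hπv i V).symm⟩)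
    · haveI : Epi (kernel.lift π φ hw) := (ShortComplex.mk φ π hw).exact_iff_epi_kernel_lift.1 hex'
      have h0 : π.app V ((freeSectionsEquiv V).symm a) = 0 := by
        rw [hval]
        simpa only [hπv] using ha
      obtain ⟨k, hk⟩ := kernel_sections_exact π _ h0
      have hsurj' : Function.Surjective ((kernel.lift π φ hw).app V) := by
        let g := kernel.lift π φ hw
        let T : ShortComplex S.Modules := ShortComplex.mk (kernel.ι g) g (kernel.condition g)
        have hT : T.ShortExact := { exact := T.exact_of_f_is_kernel (kernelIsKernel g) }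
        haveI : Coh.IsQCoh T.X₁ := isQCoh_kernel g
        exact sections_surjective hT hV
      obtain ⟨p, rfl⟩ := hsurj' k
      have h1 : φ.app V p = (freeSectionsEquiv V).symm a :=
        (congrArg (fun ψ => ψ.app V p) (kernel.lift_ι π φ hw)).symm.trans hk
      have h2 : a = ∑ l, freeCoord V l p • fun i => S.presheaf.map (homOfLE (le_top : V ≤ ⊤)).op (c l i) := by
        rw [← (freeSectionsEquiv (I := I) V).apply_symm_apply a, ← h1, freeMod_app, map_sum]
        refine Finset.sum_congr rfl fun l _ => ?_
        rw [map_smul]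
        refine congrArg (freeCoord V l p • ·) (funext fun i => ?_)
        rw [freeInj_freeDesc, unitVal_unitDesc]
        refine (app_resM (freeProj i) le_top _).trans (congrArg _ ?_)
        exact congrFun ((freeSectionsEquiv (I := I) ⊤).apply_symm_apply (c l)) i
      rw [h2]
      exact Submodule.sum_mem _ fun l _ => Submodule.smul_mem _ _ (Submodule.subset_span ⟨l, rfl⟩)
  refine ⟨isCoh_of_finite_sections_cover R hR (fun _ : PUnit.{u + 1} => (⊤ : S.Opens))
    (fun _ => isAffineOpen_top S) (fun x => ⟨PUnit.unit, trivial⟩) fun _ => ?_, main⟩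
  exact ⟨⟨Finset.univ.image fun i => resM R (le_top (a := ⊤)) (γ i), by
    rw [Finset.coe_image, Finset.coe_univ, Set.image_univ]
    exact (main ⊤ (isAffineOpen_top S)).1⟩⟩

end Groth.Agent.FModLib
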