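import Groth.Agent.FModLib.Systems
import Groth.Agent.FModLib.LocalHom
import Groth.Agent.FModLib.SchemeCoker

/-!
# Inverse images to the levels of finitely presented modules

They are coherent, and over an affine open with a finite presentation their sections are presented by the
projected matrix.
-/

set_option autoImplicit false
set_option backward.isDefEq.respectTransparency false
set_option linter.style.haveILetI false
set_option linter.unusedSectionVars false

universe u

open CategoryTheory CategoryTheory.Limits AlgebraicGeometry Opposite TopologicalSpace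
open Groth.Agent.FBlowLib Groth.Agent.DerCompLib Groth.Agent.Coherent

namespace Groth.Agent.FModLib

variable {𝔛 : FSch.Sys.{u}} (h : 𝔛.IsFormal) (k : ℕ) (M : ModSite.Mod (𝔛.Osh h)) {U : (𝔛.X 0).Opens}

/-- The inverse image to a level. -/
noncomputable abbrev down : (𝔛.X k).Modules := (FSch.levelMor 𝔛 h k).pull.obj M

/-- The image of a section in the inverse image to a level. -/
noncomputable def unitVec (x : DerCompLib.Sec M U) : Γ(down h k M, 𝔛.lvU h k U) :=
  upVal h (secMap ((FSch.levelMor 𝔛 h k).adj.unit.app M) U x)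

theorem bijective_mRes_up_push (H : (𝔛.lvU h k U).toScheme.Modules) (W : (𝔛.X 0).Opens) :
    Function.Bijective (mRes (up h k ((Scheme.Modules.pushforward (𝔛.lvU h k U).ι).obj H))
      (inf_le_left : W ⊓ U ≤ W)) := by
  let ι := (𝔛.lvU h k U).ι
  have e : ι ⁻¹ᵁ 𝔛.lvU h k (W ⊓ U) = ι ⁻¹ᵁ 𝔛.lvU h k W :=
    le_antisymm (Scheme.Hom.preimage_mono ι (FBlow.lvU_mono 𝔛 h k inf_le_left)) fun x hx =>
      ⟨hx, x.2⟩
  have hb : Function.Bijective (resM H e.le) := by
    refine ⟨fun a b hab => ?_, fun b => ⟨resM H e.ge b, ?_⟩⟩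
    · have := congrArg (resM H e.ge) hab
      rwa [resM_resM, resM_resM, show resM H (e.ge.trans e.le) a = a from
        congrArg (fun φ => φ a) (H.presheaf.map_id _), show resM H (e.ge.trans e.le) b = b from
        congrArg (fun φ => φ b) (H.presheaf.map_id _)] at this
    · rw [resM_resM]
      exact congrArg (fun φ => φ b) (H.presheaf.map_id _)
  exact hb

theorem resM_id {X : Scheme.{u}} (G : X.Modules) {V : X.Opens} (i : V ≤ V) (x : Γ(G, V)) : resM G i x = x :=
  congrArg (fun φ => φ x) (G.presheaf.map_id _)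

theorem resM_bijective_of_eq {X : Scheme.{u}} (G : X.Modules) {V V' : X.Opens} (e : V' = V) :
    Function.Bijective (resM G e.le) := by
  subst e
  exact ⟨fun a b hab => by rwa [resM_id, resM_id] at hab, fun b => ⟨b, resM_id G _ b⟩⟩

theorem upVal_homEquiv {G : (𝔛.X k).Modules} (β : down h k M ⟶ G) (x : DerCompLib.Sec M U) :
    upVal h (secMap ((FSch.levelMor 𝔛 h k).adj.homEquiv M G β) U x) =
      β.app (𝔛.lvU h k U) (unitVec h k M x) := by
  rw [Adjunction.homEquiv_unit]
  rfl

section Restr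

variable {X : Scheme.{u}} (F : X.Modules) (W : X.Opens)

/-- Restriction of sections to an open subscheme. -/
noncomputable def toR (V : X.Opens) : Γ(F, V) →+ Γ(F.restrict W.ι, W.ι ⁻¹ᵁ V) :=
  (((Scheme.Modules.restrictAdjunction W.ι).unit.app F).app V).hom

theorem toR_smul (V : X.Opens) (r : Γ(X, V)) (x : Γ(F, V)) :
    toR F W V (r • x) = W.ι.app V r • toR F W V x :=
  Scheme.Modules.Hom.app_smul ((Scheme.Modules.restrictAdjunction W.ι).unit.app F) r x

theorem toR_res {V V' : X.Opens} (i : V' ≤ V) (x : Γ(F, V)) :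
    toR F W V' (resM F i x) = resM (F.restrict W.ι) (Scheme.Hom.preimage_mono W.ι i) (toR F W V x) :=
  app_resM ((Scheme.Modules.restrictAdjunction W.ι).unit.app F) i x

theorem toR_bijective {V : X.Opens} (i : V ≤ W) : Function.Bijective (toR F W V) := by
  have e : W.ι ''ᵁ W.ι ⁻¹ᵁ V = V := by
    rw [Scheme.Hom.image_preimage_eq_opensRange_inf, Scheme.Opens.opensRange_ι, inf_eq_right.2 i]
  exact resM_bijective_of_eq F e

theorem app_ι_bijective {V : X.Opens} (i : V ≤ W) : Function.Bijective (W.ι.app V) := by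
  haveI : IsIso (W.ι.app V) := W.ι.isIso_app V (by rwa [Scheme.Opens.opensRange_ι])
  exact ConcreteCategory.bijective_of_isIso _

theorem homEquiv_toR {H : W.toScheme.Modules} (α : F.restrict W.ι ⟶ H) (V : X.Opens) (x : Γ(F, V)) :
    ((Scheme.Modules.restrictAdjunction W.ι).homEquiv F H α).app V x =
      α.app (W.ι ⁻¹ᵁ V) (toR F W V x) := by
  rw [Adjunction.homEquiv_unit]
  rfl

theorem map_top_app_ι {V : X.Opens} (i : V ≤ W) (e : (⊤ : W.toScheme.Opens) ≤ W.ι ⁻¹ᵁ W) (z : Γ(X, W)) :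
    W.toScheme.presheaf.map (homOfLE (le_top : W.ι ⁻¹ᵁ V ≤ ⊤)).op
        (W.toScheme.presheaf.map (homOfLE e).op (W.ι.app W z)) =
      W.ι.app V (X.presheaf.map (homOfLE i).op z) := by
  refine (ConcreteCategory.comp_apply _ _ _).symm.trans ?_
  rw [← Functor.map_comp]
  exact (ConcreteCategory.congr_hom (W.ι.naturality (homOfLE i).op) z).symm

end Restr

variable (Pr : SheafOfModules.Presentation (M := overMod M U)) [Fintype Pr.generators.I]
  [Fintype Pr.relations.I]

/-- The generator on the open subscheme. -/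
noncomputable def genTop (hU : IsAffineOpen U) (j : Pr.generators.I) :
    Γ((down h k M).restrict (𝔛.lvU h k U).ι, ⊤) :=
  resM _ (show (⊤ : (𝔛.lvU h k U).toScheme.Opens) ≤ (𝔛.lvU h k U).ι ⁻¹ᵁ 𝔛.lvU h k U from fun x _ => x.2)
    (toR (down h k M) (𝔛.lvU h k U) _ (unitVec h k M (gens Pr j)))

/-- The projected relation on the open subscheme. -/
noncomputable def relTop (hU : IsAffineOpen U) (l : Pr.relations.I) (j : Pr.generators.I) :
    Γ((𝔛.lvU h k U).toScheme, ⊤) :=
  (𝔛.lvU h k U).toScheme.presheaf.map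
    (homOfLE (show (⊤ : (𝔛.lvU h k U).toScheme.Opens) ≤ (𝔛.lvU h k U).ι ⁻¹ᵁ 𝔛.lvU h k U from fun x _ => x.2)).op
    ((𝔛.lvU h k U).ι.app (𝔛.lvU h k U) (proj 𝔛 h k U (relVec Pr l j)))

theorem sum_relTop_genTop (hU : IsAffineOpen U) (l : Pr.relations.I) :
    ∑ j, relTop h k M Pr hU l j • genTop h k M Pr hU j = 0 := by
  have e := congrArg (fun x => resM _ (show (⊤ : (𝔛.lvU h k U).toScheme.Opens) ≤
      (𝔛.lvU h k U).ι ⁻¹ᵁ 𝔛.lvU h k U from fun x _ => x.2)
      (toR (down h k M) (𝔛.lvU h k U) _ (upVal h (secMap ((FSch.levelMor 𝔛 h k).adj.unit.app M) U x))))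
    (sum_relVec_gens Pr l : (∑ j, (show FBlowLib.Sec 𝔛 h U from relVec Pr l j) •
      (show DerCompLib.Sec M U from gens Pr j)) = 0)
  simp only [map_sum, map_zero, map_smul] at e
  refine Eq.trans (Finset.sum_congr rfl fun j _ => ?_) e
  rw [upVal_smul, toR_smul, resM_smul]
  rfl

theorem app_genTop (hU : IsAffineOpen U) {H : (𝔛.lvU h k U).toScheme.Modules}
    (α : (down h k M).restrict (𝔛.lvU h k U).ι ⟶ H) (j : Pr.generators.I) :
    α.app ⊤ (genTop h k M Pr hU j) =
      resM H (show (⊤ : (𝔛.lvU h k U).toScheme.Opens) ≤ (𝔛.lvU h k U).ι ⁻¹ᵁ 𝔛.lvU h k U from fun x _ => x.2)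
        (((Scheme.Modules.restrictAdjunction (𝔛.lvU h k U).ι).homEquiv (down h k M) H α).app (𝔛.lvU h k U)
          (unitVec h k M (gens Pr j))) := by
  refine (app_resM α _ _).trans (congrArg (resM H _) ?_)
  exact (homEquiv_toR (down h k M) (𝔛.lvU h k U) α _ _).symm

theorem exists_hom_of_killed (hU : IsAffineOpen U) (H : (𝔛.lvU h k U).toScheme.Modules)
    (y : Pr.generators.I → Γ(H, ⊤)) (hy : ∀ l, ∑ j, relTop h k M Pr hU l j • y j = 0) :
    ∃ α : (down h k M).restrict (𝔛.lvU h k U).ι ⟶ H, ∀ j, α.app ⊤ (genTop h k M Pr hU j) = y j := by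
  let e : (⊤ : (𝔛.lvU h k U).toScheme.Opens) = (𝔛.lvU h k U).ι ⁻¹ᵁ 𝔛.lvU h k U :=
    le_antisymm (fun x _ => x.2) le_top
  choose z hz using fun j => (resM_bijective_of_eq H e).2 (y j)
  let N := up h k ((Scheme.Modules.pushforward (𝔛.lvU h k U).ι).obj H)
  have hkill : ∀ l, ∑ j, (𝔛.lvU h k U).ι.app (𝔛.lvU h k U) (proj 𝔛 h k U (relVec Pr l j)) • z j = 0 :=
    fun l => by
      apply (resM_bijective_of_eq H e).1
      rw [map_sum, map_zero, ← hy l]
      refine Finset.sum_congr rfl fun j _ => ?_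
      rw [resM_smul, hz]
      rfl
  obtain ⟨α₀, hα₀⟩ := exists_over_hom Pr (overMod N U) (fun j => (upVal h).symm (z j))
    (fun l => (upVal h).injective (by
      rw [map_zero]
      refine Eq.trans ?_ (hkill l)
      exact (map_sum (upVal h) _ _).trans (Finset.sum_congr rfl fun j _ => rfl)))
  obtain ⟨β, hβ⟩ := exists_extend (bijective_mRes_up_push h k H) α₀
  refine ⟨((Scheme.Modules.restrictAdjunction _).homEquiv _ H).symm
    (((FSch.levelMor 𝔛 h k).adj.homEquiv M _).symm β), fun j => ?_⟩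
  rw [app_genTop, Equiv.apply_symm_apply, ← upVal_homEquiv, Equiv.apply_symm_apply]
  refine Eq.trans (congrArg (resM H _) ?_) (hz j)
  rw [hβ, hα₀]
  exact AddEquiv.apply_symm_apply _ _

theorem hom_ext_of_genTop (hU : IsAffineOpen U) (H : (𝔛.lvU h k U).toScheme.Modules)
    (α β : (down h k M).restrict (𝔛.lvU h k U).ι ⟶ H)
    (hαβ : ∀ j, α.app ⊤ (genTop h k M Pr hU j) = β.app ⊤ (genTop h k M Pr hU j)) : α = β := by
  let e : (⊤ : (𝔛.lvU h k U).toScheme.Opens) = (𝔛.lvU h k U).ι ⁻¹ᵁ 𝔛.lvU h k U :=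
    le_antisymm (fun x _ => x.2) le_top
  apply ((Scheme.Modules.restrictAdjunction _).homEquiv _ H).injective
  apply ((FSch.levelMor 𝔛 h k).adj.homEquiv M _).injective
  refine extend_ext (bijective_mRes_up_push h k H) (over_hom_ext Pr fun j => ?_)
  apply (upVal h).injective
  apply (resM_bijective_of_eq H e).1
  refine (congrArg _ (upVal_homEquiv h k M _ (gens Pr j))).trans
    (Eq.trans ?_ (congrArg _ (upVal_homEquiv h k M _ (gens Pr j))).symm)
  exact (app_genTop h k M Pr hU α j).symm.trans ((hαβ j).trans (app_genTop h k M Pr hU β j))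

include Pr in
set_option maxHeartbeats 1200000 in
/-- The inverse image over an affine open with a presentation. -/
theorem down_props (hU : IsAffineOpen U) :
    Coh.IsCoh ((down h k M).restrict (𝔛.lvU h k U).ι) ∧
      ∀ V : (𝔛.X 0).Opens, IsAffineOpen V → ∀ i : V ≤ U,
        Submodule.span Γ(𝔛.X k, 𝔛.lvU h k V)
          (Set.range fun j => resM (down h k M) (FBlow.lvU_mono 𝔛 h k i) (unitVec h k M (gens Pr j))) = ⊤ ∧
        ∀ a : Pr.generators.I → Γ(𝔛.X k, 𝔛.lvU h k V),
          ∑ j, a j • resM (down h k M) (FBlow.lvU_mono 𝔛 h k i) (unitVec h k M (gens Pr j)) = 0 →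
            a ∈ Submodule.span Γ(𝔛.X k, 𝔛.lvU h k V)
              (Set.range fun l j => lres h k i (proj 𝔛 h k U (relVec Pr l j))) := by
  haveI : IsAffine (𝔛.lvU h k U).toScheme := S13347.isAffineOpen_lvU 𝔛 h k U hU
  obtain ⟨hcoh, hmain⟩ := coker_of_universal ((down h k M).restrict (𝔛.lvU h k U).ι)
    (genTop h k M Pr hU) (relTop h k M Pr hU) (sum_relTop_genTop h k M Pr hU)
    (exists_hom_of_killed h k M Pr hU) (hom_ext_of_genTop h k M Pr hU)
  refine ⟨hcoh, fun V hV i => ?_⟩
  have hle : 𝔛.lvU h k V ≤ 𝔛.lvU h k U := FBlow.lvU_mono 𝔛 h k i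
  let V' := (𝔛.lvU h k U).ι ⁻¹ᵁ 𝔛.lvU h k V
  have hV' : IsAffineOpen V' := (S13347.isAffineOpen_lvU 𝔛 h k V hV).preimage_of_isOpenImmersion
    (𝔛.lvU h k U).ι (by rwa [Scheme.Opens.opensRange_ι])
  obtain ⟨hs, hr⟩ := hmain V' hV'
  let r := (𝔛.lvU h k U).ι.app (𝔛.lvU h k V)
  have hgen : ∀ j, resM _ (le_top (a := V')) (genTop h k M Pr hU j) =
      toR (down h k M) (𝔛.lvU h k U) (𝔛.lvU h k V)
        (resM (down h k M) hle (unitVec h k M (gens Pr j))) := fun j => by
    rw [genTop, resM_resM, toR_res]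
  have hrel : ∀ l j, (𝔛.lvU h k U).toScheme.presheaf.map (homOfLE (le_top : V' ≤ ⊤)).op
      (relTop h k M Pr hU l j) = r (lres h k i (proj 𝔛 h k U (relVec Pr l j))) := fun l j => by
    exact map_top_app_ι (𝔛.lvU h k U) hle _ _
  refine ⟨top_unique fun x _ => ?_, fun a ha => ?_⟩
  · obtain ⟨b, hb⟩ := (Submodule.mem_span_range_iff_exists_fun _).1
      (show toR (down h k M) (𝔛.lvU h k U) (𝔛.lvU h k V) x ∈ Submodule.span _
        (Set.range fun j => resM _ (le_top (a := V')) (genTop h k M Pr hU j)) by rw [hs]; trivial)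
    choose c hc using fun j => (app_ι_bijective (𝔛.lvU h k U) hle).2 (b j)
    refine (Submodule.mem_span_range_iff_exists_fun _).2 ⟨c, (toR_bijective (down h k M) (𝔛.lvU h k U) hle).1 ?_⟩
    rw [← hb, map_sum]
    exact Finset.sum_congr rfl fun j _ => by rw [toR_smul, hc, hgen]
  · have h1 := hr (fun j => r (a j)) (by
      have := congrArg (toR (down h k M) (𝔛.lvU h k U) (𝔛.lvU h k V)) ha
      rw [map_sum, map_zero] at this
      refine Eq.trans (Finset.sum_congr rfl fun j _ => ?_) this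
      rw [toR_smul, hgen])
    obtain ⟨b, hb⟩ := (Submodule.mem_span_range_iff_exists_fun _).1 h1
    choose c hc using fun l => (app_ι_bijective (𝔛.lvU h k U) hle).2 (b l)
    refine (Submodule.mem_span_range_iff_exists_fun _).2 ⟨c, funext fun j => ?_⟩
    apply (app_ι_bijective (𝔛.lvU h k U) hle).1
    refine Eq.trans ?_ (congrFun hb j)
    simp only [Finset.sum_apply, Pi.smul_apply, smul_eq_mul, map_sum, map_mul]
    refine Finset.sum_congr rfl fun l _ => ?_
    rw [hc, hrel]

end Groth.Agent.FModLib
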