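import Groth.Agent.FModLib.IndExt
import Groth.Agent.FModLib.RpushDSum
import Groth.Agent.FModLib.ComplFunctor
import Groth.Agent.Formal2Lib.ComplModFF
import Groth.Agent.Et18.ShriekProper
import Groth.Agent.Coherent.QcohOps
import Groth.Agent.Coherent.CohOps
import Groth.Agent.SerreDual.QCohCat
import Groth.Agent.CAlgSmall.FPExtend
import Groth.Agent.S2128
import Groth.Agent.S3864
import Groth.Agent.S13339
import Groth.Agent.S13345

/-!
# Inverse image to the completion of a proper scheme over a complete ring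

It is fully faithful on quasi-coherent modules and its essential image consists of the filtered colimits of
coherent modules.
-/

set_option autoImplicit false
set_option backward.isDefEq.respectTransparency false
set_option linter.style.haveILetI false
set_option linter.unusedSectionVars false
set_option maxHeartbeats 1000000

universe u

open CategoryTheory CategoryTheory.Limits AlgebraicGeometry Opposite TopologicalSpace
open Groth.Agent.FBlowLib Groth.Agent.DerCompLib Groth.Agent.Coherent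

namespace Groth.Agent.FModLib

/-- A morphism vanishing on generators over a cover is zero. -/
theorem eq_zero_of_generators {T : TopCat.{u}} {O : Sheaf (Opens.grothendieckTopology T) CommRingCat.{u}}
    {P : Opens T → Prop} (hb : ∀ (U : Opens T) (y : T), y ∈ U → ∃ W : Opens T, P W ∧ y ∈ W ∧ W ≤ U)
    {G Q : ModSite.Mod O} (hG : IsPC P G) {κ : Type*} {V : κ → Opens T} (hV : ∀ k, P (V k))
    (hcov : ∀ y : T, ∃ k, y ∈ V k) {n : κ → ℕ} (t : ∀ k, Fin (n k) → DerCompLib.Sec G (V k))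
    (ht : ∀ k, Submodule.span (O.obj.obj (op (V k))) (Set.range (t k)) = ⊤) (α : G ⟶ Q)
    (hα : ∀ k q, secMap α (V k) (t k q) = 0) : α = 0 :=
  hom_ext_secMap fun U y => by
    refine sec_ext_basis (P := fun W => P W ∧ ∃ k, W ≤ V k) (fun U' z hz => ?_) _ _ fun W i hW => ?_
    · obtain ⟨k, hk⟩ := hcov z
      obtain ⟨W, hW, hzW, hWU⟩ := hb (U' ⊓ V k) z ⟨hz, hk⟩
      exact ⟨W, ⟨hW, k, hWU.trans inf_le_right⟩, hzW, hWU.trans inf_le_left⟩
    · obtain ⟨k, i'⟩ := hW.2
      obtain ⟨c, hc'⟩ := (Submodule.mem_span_range_iff_exists_fun _).1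
        ((hG.span_range i' (hV k) hW.1 (t k) (ht k)).symm ▸ Submodule.mem_top :
          mRes G i y ∈ Submodule.span (O.obj.obj (op W)) (Set.range fun q => mRes G i' (t k q)))
      rw [← secMap_mRes, ← secMap_mRes, ← hc', map_sum, map_sum]
      refine Finset.sum_congr rfl fun q _ => ?_
      rw [map_smul, map_smul, secMap_mRes, hα, map_zero, smul_zero]
      exact (smul_zero _).symm

variable {X : Scheme.{u}} (𝓘 : X.IdealSheafData) (hX : (FSch.completionAlong X 𝓘).IsFormal)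

/-- Inverse image to the completion. -/
noncomputable abbrev pullC : X.Modules ⥤ FSch.ModF (FSch.completionAlong X 𝓘) hX :=
  (FSch.toSchemeMor (FSch.completionAlong X 𝓘) hX (FSch.completionToX X 𝓘) (FSch.completionToX_comm X 𝓘)).pull

theorem preservesColimits_pullC : PreservesColimitsOfSize.{u, u} (pullC 𝓘 hX) :=
  (FSch.toSchemeMor (FSch.completionAlong X 𝓘) hX (FSch.completionToX X 𝓘)
    (FSch.completionToX_comm X 𝓘)).adj.leftAdjoint_preservesColimits

variable [IsLocallyNoetherian X]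

/-- On coherent modules, inverse image is completion, naturally. -/
theorem exists_natIso_complF :
    ∃ e : ∀ F : X.Modules, Coh.IsCoh F → ((pullC 𝓘 hX).obj F ≅ (complF 𝓘 hX).obj F),
      ∀ (F G : X.Modules) (hF : Coh.IsCoh F) (hG : Coh.IsCoh G) (φ : F ⟶ G),
        (pullC 𝓘 hX).map φ ≫ (e G hG).hom = (e F hF).hom ≫ (complF 𝓘 hX).map φ := by
  choose e he using fun F hF => S13339.result X 𝓘 hX F hF
  refine ⟨e, fun F G hF hG φ => limit.hom_ext fun j => ?_⟩
  obtain ⟨k⟩ := j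
  let f := FSch.toSchemeMor (FSch.completionAlong X 𝓘) hX (FSch.completionToX X 𝓘) (FSch.completionToX_comm X 𝓘)
  apply (f.adj.homEquiv _ _).injective
  refine ((congrArg _ (Category.assoc _ _ _)).trans
    (f.adj.homEquiv_naturality_left φ ((e G hG).hom ≫ _))).trans ?_
  refine (congrArg (φ ≫ ·) ((f.adj.homEquiv_naturality_right _ _).trans (he G hG k))).trans ?_
  refine Eq.trans ?_ (congrArg (f.adj.homEquiv _ _) (Category.assoc _ _ _)).symm
  refine Eq.trans ?_ (congrArg (fun ψ => f.adj.homEquiv _ _ ((e F hF).hom ≫ ψ))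
    (FSch.realLimMap_realProj (FSch.completionAlong X 𝓘) hX _
      (FSch.ModSys.Hom.toPush_comm (FSch.complModMap 𝓘 φ)) k)).symm
  refine Eq.trans ?_ (congrArg (f.adj.homEquiv _ _) (Category.assoc _ _ _))
  refine Eq.trans ?_ (f.adj.homEquiv_naturality_right _ _).symm
  refine Eq.trans ?_ (congrArg (· ≫ _) ((f.adj.homEquiv_naturality_right _ _).trans (he F hF k))).symm
  refine Eq.trans ?_ (Category.assoc _ _ _).symm
  refine Eq.trans ?_ (congrArg ((Scheme.Modules.pullbackPushforwardAdjunction (FSch.completionToX X 𝓘 k)).unit.app F ≫ ·)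
    ((FSch.schPushCompare (FSch.completionAlong X 𝓘) hX (FSch.completionToX X 𝓘)
      (FSch.completionToX_comm X 𝓘) k).naturality
      ((Scheme.Modules.pullback (FSch.completionToX X 𝓘 k)).map φ)))
  refine Eq.trans ?_ (Category.assoc _ _ _)
  refine Eq.trans (Category.assoc _ _ _).symm ?_
  exact congrArg (· ≫ _) ((Scheme.Modules.pullbackPushforwardAdjunction (FSch.completionToX X 𝓘 k)).unit.naturality φ)

/-- Inverse images of coherent modules are coherent. -/
theorem isCohF_pullC {F : X.Modules} (hF : Coh.IsCoh F) :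
    FSch.IsCohF _ hX ((pullC 𝓘 hX).obj F) := by
  obtain ⟨e, -⟩ := exists_natIso_complF 𝓘 hX
  haveI := weakSerre_cohP hX (FSchLib.isLocNoethFormal_completionAlong 𝓘)
  exact (cohP hX).prop_of_iso (e F hF).symm (isCohF_complF 𝓘 hX hF)

/-- Quasi-coherent modules are filtered colimits of coherent ones. -/
theorem exists_coh_presentation [CompactSpace X] (F : X.Modules) (hF : Coh.IsQCoh F) :
    ∃ (J : Type u) (_ : SmallCategory J) (_ : IsFiltered J) (pres : ColimitPresentation J F),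
      ∀ j, Coh.IsCoh (pres.diag.obj j) := by
  obtain ⟨J, hJ, hJ', D, c, hc, hD, rfl⟩ := S2128.result X F hF
  exact ⟨J, hJ, hJ', ⟨D, c.ι, hc⟩, fun j =>
    ⟨Groth.Agent.CAlgSmall.FPExtend.isQCoh_of_isFP _ (hD j),
      Groth.Agent.CAlgSmall.FPExtend.isFT_of_isFP _ (hD j)⟩⟩

theorem indCoh_pullC [CompactSpace X] (F : X.Modules) (hF : Coh.IsQCoh F) :
    indCoh hX ((pullC 𝓘 hX).obj F) := by
  obtain ⟨J, _, _, pres, hc⟩ := exists_coh_presentation F hF
  haveI := preservesColimits_pullC 𝓘 hX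
  exact ⟨J, inferInstance, inferInstance, pres.map (pullC 𝓘 hX), fun j => isCohF_pullC 𝓘 hX (hc j)⟩

variable {A : Type u} [CommRing A] [IsNoetherianRing A] (I : Ideal A) [IsAdicComplete I A]
  (f : X ⟶ Spec (CommRingCat.of A)) [IsProper f] (h𝓘 : 𝓘 = (FSch.idealSpec A I).comap f)

include h𝓘 in
/-- Full faithfulness on coherent modules. -/
theorem bijective_pullC_coh {F G : X.Modules} (hF : Coh.IsCoh F) (hG : Coh.IsCoh G) :
    Function.Bijective (fun φ : F ⟶ G => (pullC 𝓘 hX).map φ) := by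
  letI : X.Over (Spec (CommRingCat.of A)) := ⟨f⟩
  haveI : LocallyOfFiniteType (X ↘ Spec (CommRingCat.of A)) := inferInstanceAs (LocallyOfFiniteType f)
  haveI : QuasiCompact (X ↘ Spec (CommRingCat.of A)) := inferInstanceAs (QuasiCompact f)
  have hb : Function.Bijective (fun φ : F ⟶ G => (complF 𝓘 hX).map φ) :=
    (bijective_realModMap_complMod 𝓘 hX (G := G) hF).comp
      (Formal2Lib.ModSysAlgz.bijective_complModMap_of_isProperOver I 𝓘 h𝓘 hF hG
        (Et18.isProperOver_of_isProper f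
          ((isClosed_support F (locallyFinGen_of_isFT F hF.2)).inter
            (isClosed_support G (locallyFinGen_of_isFT G hG.2)))))
  obtain ⟨e, he⟩ := exists_natIso_complF 𝓘 hX
  have h2 : (fun φ : F ⟶ G => (pullC 𝓘 hX).map φ) =
      (Iso.homCongr (e F hF) (e G hG)).symm ∘ fun φ : F ⟶ G => (complF 𝓘 hX).map φ := funext fun φ => by
    rw [Function.comp_apply, Equiv.eq_symm_apply, Iso.homCongr_apply, he F G hF hG, Iso.inv_hom_id_assoc]
  rw [h2]
  exact (Equiv.bijective _).comp hb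

include h𝓘 in
/-- Coherent modules on the completion algebraize. -/
theorem exists_coh_pullC_iso (𝔉 : FSch.ModF (FSch.completionAlong X 𝓘) hX) (h𝔉 : FSch.IsCohF _ hX 𝔉) :
    ∃ G : X.Modules, Coh.IsCoh G ∧ Nonempty ((pullC 𝓘 hX).obj G ≅ 𝔉) := by
  letI : X.Over (Spec (CommRingCat.of A)) := ⟨f⟩
  haveI : IsProper (X ↘ Spec (CommRingCat.of A)) := inferInstanceAs (IsProper f)
  have hX' := FSchLib.isLocNoethFormal_completionAlong 𝓘
  haveI := isIso_theta hX hX' 𝔉 h𝔉
  obtain ⟨G, hG, ⟨a⟩⟩ := S3864.exists_completionMod_iso I X 𝓘 h𝓘 (downSys hX 𝔉) (isCoh_down hX hX' 𝔉 h𝔉)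
  obtain ⟨i⟩ := S3864.nonempty_iso_complMod I 𝓘 h𝓘 (downSys hX 𝔉) G G a (Iso.refl G)
  obtain ⟨e, -⟩ := exists_natIso_complF 𝓘 hX
  exact ⟨G, hG, ⟨e G hG ≪≫ (realModIso hX i).symm ≪≫ (asIso (theta hX 𝔉)).symm⟩⟩

variable [CompactSpace X]

include h𝓘 in
/-- Filtered colimits of coherent modules on the completion are inverse images. -/
theorem exists_qcoh_pullC_iso (𝔉 : FSch.ModF (FSch.completionAlong X 𝓘) hX) (h𝔉 : indCoh hX 𝔉) :
    ∃ G : X.Modules, Coh.IsQCoh G ∧ Nonempty ((pullC 𝓘 hX).obj G ≅ 𝔉) := by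
  obtain ⟨J, hJ, hJ', pres, hc⟩ := h𝔉
  choose G hG hi using fun j => exists_coh_pullC_iso 𝓘 hX I f h𝓘 _ (hc j)
  let i := fun j => (hi j).some
  choose m hm using fun {j k : J} (g : j ⟶ k) =>
    (bijective_pullC_coh 𝓘 hX I f h𝓘 (hG j) (hG k)).2 ((i j).hom ≫ pres.diag.map g ≫ (i k).inv)
  dsimp only at hm
  let D : J ⥤ X.Modules :=
    { obj := G
      map := fun g => m g
      map_id := fun j => (bijective_pullC_coh 𝓘 hX I f h𝓘 (hG j) (hG j)).1 (by
        show (pullC 𝓘 hX).map (m (𝟙 j)) = (pullC 𝓘 hX).map (𝟙 (G j))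
        rw [hm]; simp)
      map_comp := fun {j k l} g g' => (bijective_pullC_coh 𝓘 hX I f h𝓘 (hG j) (hG l)).1 (by
        show (pullC 𝓘 hX).map (m (g ≫ g')) = (pullC 𝓘 hX).map (m g ≫ m g')
        simp only [hm, Functor.map_comp, Category.assoc, Iso.inv_hom_id_assoc]) }
  haveI := preservesColimits_pullC 𝓘 hX
  let a : D ⋙ pullC 𝓘 hX ≅ pres.diag := NatIso.ofComponents i fun {j k} g => by
    show (pullC 𝓘 hX).map (m g) ≫ _ = _
    rw [hm]; simp
  exact ⟨colimit D, Groth.Agent.SerreDual.isQCoh_colimit X D fun j => (hG j).1,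
    ⟨IsColimit.coconePointsIsoOfNatIso (isColimitOfPreserves (pullC 𝓘 hX) (colimit.isColimit D))
      pres.isColimit a⟩⟩

include h𝓘 in
/-- A quasi-coherent module with zero inverse image is zero. -/
theorem isZero_of_isZero_pullC (F : X.Modules) [Coh.IsQCoh F] (h : IsZero ((pullC 𝓘 hX).obj F)) :
    IsZero F := by
  haveI : PreservesFiniteLimits (pullC 𝓘 hX) := S13345.result X 𝓘 hX
  obtain ⟨J, _, _, pres, hc⟩ := exists_coh_presentation F ‹Coh.IsQCoh F›
  rw [IsZero.iff_id_eq_zero]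
  refine pres.isColimit.hom_ext fun j => ?_
  rw [Category.comp_id, comp_zero]
  haveI := (hc j).1
  haveI : Coh.IsQCoh (((Functor.const _).obj F).obj j) := ‹Coh.IsQCoh F›
  haveI := isQCoh_image (pres.ι.app j)
  have hI : Coh.IsCoh (Abelian.image (pres.ι.app j)) :=
    ⟨inferInstance, Coherent.isFT_of_epi (Abelian.factorThruImage (pres.ι.app j)) (hc j).2⟩
  have h0 : (pullC 𝓘 hX).map (Abelian.image.ι (pres.ι.app j)) = 0 := h.eq_of_tgt _ _
  have h1 : 𝟙 (Abelian.image (pres.ι.app j)) = 0 :=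
    (bijective_pullC_coh 𝓘 hX I f h𝓘 hI hI).1 (by
      show (pullC 𝓘 hX).map _ = (pullC 𝓘 hX).map 0
      rw [← cancel_mono ((pullC 𝓘 hX).map (Abelian.image.ι (pres.ι.app j))), ← Functor.map_comp,
        Category.id_comp, ← Functor.map_comp, zero_comp, h0, Functor.map_zero])
  rw [← Abelian.image.fac (pres.ι.app j), ← Category.id_comp (Abelian.image.ι (pres.ι.app j)), h1,
    zero_comp, comp_zero]

include h𝓘 in
/-- Faithfulness on quasi-coherent modules. -/
theorem injective_pullC {G H : X.Modules} (hG : Coh.IsQCoh G) (hH : Coh.IsQCoh H) :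
    Function.Injective (fun φ : G ⟶ H => (pullC 𝓘 hX).map φ) := fun φ φ' he => by
  haveI := hG
  haveI := hH
  haveI : PreservesFiniteLimits (pullC 𝓘 hX) := S13345.result X 𝓘 hX
  haveI := preservesColimits_pullC 𝓘 hX
  haveI : PreservesColimitsOfSize.{0, 0} (pullC 𝓘 hX) := preservesColimitsOfSize_shrink _
  haveI := (FSch.toSchemeMor (FSch.completionAlong X 𝓘) hX (FSch.completionToX X 𝓘)
    (FSch.completionToX_comm X 𝓘)).adj.left_adjoint_additive
  haveI := isQCoh_image (φ - φ')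
  have h0 : (pullC 𝓘 hX).map (φ - φ') = 0 := by rw [Functor.map_sub]; exact sub_eq_zero.2 he
  have h1 : (pullC 𝓘 hX).map (Abelian.image.ι (φ - φ')) = 0 := by
    rw [← cancel_epi ((pullC 𝓘 hX).map (Abelian.factorThruImage (φ - φ'))), ← Functor.map_comp,
      Abelian.image.fac, h0, comp_zero]
  have h2 : IsZero (Abelian.image (φ - φ')) := isZero_of_isZero_pullC 𝓘 hX I f h𝓘 _ (by
    rw [IsZero.iff_id_eq_zero, ← cancel_mono ((pullC 𝓘 hX).map (Abelian.image.ι (φ - φ'))), Category.id_comp,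
      zero_comp, h1])
  rw [← sub_eq_zero, ← Abelian.image.fac (φ - φ'), h2.eq_of_src (Abelian.image.ι (φ - φ')) 0, comp_zero]

include h𝓘 in
/-- Fullness, from coherent modules. -/
theorem exists_map_eq_of_coh {G H : X.Modules} (hG : Coh.IsCoh G) (hH : Coh.IsQCoh H)
    (ψ : (pullC 𝓘 hX).obj G ⟶ (pullC 𝓘 hX).obj H) : ∃ φ : G ⟶ H, (pullC 𝓘 hX).map φ = ψ := by
  classical
  haveI := hH
  have hX' := FSchLib.isLocNoethFormal_completionAlong 𝓘
  haveI := hX'.2.2 0
  haveI : PreservesFiniteLimits (pullC 𝓘 hX) := S13345.result X 𝓘 hX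
  haveI := preservesColimits_pullC 𝓘 hX
  haveI : PreservesColimitsOfSize.{0, 0} (pullC 𝓘 hX) := preservesColimitsOfSize_shrink _
  haveI : CompactSpace ((FSch.completionAlong X 𝓘).X 0) :=
    (FSch.completionToX X 𝓘 0).isClosedEmbedding.compactSpace
  haveI : NoetherianSpace ((FSch.completionAlong X 𝓘).X 0).toTopCat := noetherianSpace_X0 hX'
  haveI : PrespectralSpace ((FSch.completionAlong X 𝓘).X 0).toTopCat :=
    inferInstanceAs (PrespectralSpace ((FSch.completionAlong X 𝓘).X 0))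
  haveI : QuasiSeparatedSpace ((FSch.completionAlong X 𝓘).X 0).toTopCat :=
    inferInstanceAs (QuasiSeparatedSpace ((FSch.completionAlong X 𝓘).X 0))
  let T := (FSch.completionAlong X 𝓘).X 0
  obtain ⟨s, hs⟩ := CompactSpace.isCompact_univ.elim_finite_subcover
    (fun V : T.affineOpens => (V.1 : Set T)) (fun V => V.1.2) (fun z _ => by
      obtain ⟨V, hV, hz, -⟩ := Opens.isBasis_iff_nbhd.mp T.isBasis_affineOpens (Opens.mem_top z)
      exact Set.mem_iUnion.2 ⟨⟨V, hV⟩, hz⟩)
  have hPC := isPC_of_isCohF hX hX' _ (isCohF_pullC 𝓘 hX hG)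
  choose n t ht using fun V : s => (hPC.finite V.1.1 V.1.2).exists_fin
  obtain ⟨J, _, _, pres, hc⟩ := exists_coh_presentation H hH
  obtain ⟨j, hj⟩ := exists_stage (pres.map (pullC 𝓘 hX)) (σ := Σ V : s, Fin (n V))
    (fun q => q.1.1.1) (fun q => q.1.1.2.isCompact) (fun q => secMap ψ q.1.1.1 (t q.1 q.2))
  haveI := (hc j).1
  haveI : Coh.IsQCoh (((Functor.const J).obj H).obj j) := hH
  let ι' := Abelian.image.ι (pres.ι.app j)
  haveI := isQCoh_image (pres.ι.app j)
  have hI : Coh.IsCoh (Abelian.image (pres.ι.app j)) :=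
    ⟨inferInstance, Coherent.isFT_of_epi (Abelian.factorThruImage (pres.ι.app j)) (hc j).2⟩
  haveI : Mono ((pullC 𝓘 hX).map ι') := inferInstance
  have hψ : ψ ≫ cokernel.π ((pullC 𝓘 hX).map ι') = 0 := by
    refine eq_zero_of_generators (P := AFF (FSch.completionAlong X 𝓘)) basis_AFF hPC
      (V := fun V : s => V.1.1) (fun V => V.1.2) (fun y => ?_) t ht _ fun V q => ?_
    · obtain ⟨V, hV, hy⟩ := Set.mem_iUnion₂.1 (hs (Set.mem_univ y))
      exact ⟨⟨V, hV⟩, hy⟩
    · obtain ⟨y, hy⟩ := hj ⟨V, q⟩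
      rw [secMap_comp_apply, ← hy]
      show secMap (cokernel.π ((pullC 𝓘 hX).map ι')) _ (secMap ((pullC 𝓘 hX).map (pres.ι.app j)) _ y) = 0
      rw [← secMap_comp_apply]
      have e : (pullC 𝓘 hX).map (pres.ι.app j) ≫ cokernel.π ((pullC 𝓘 hX).map ι') = 0 := by
        refine (congrArg (fun z => (pullC 𝓘 hX).map z ≫ cokernel.π ((pullC 𝓘 hX).map ι'))
          (Abelian.image.fac (pres.ι.app j)).symm).trans ?_
        show (pullC 𝓘 hX).map (Abelian.factorThruImage (pres.ι.app j) ≫ ι') ≫ _ = 0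
        rw [Functor.map_comp, Category.assoc, cokernel.condition, comp_zero]
      exact congrArg (fun z => secMap z V.1.1 y) e
  obtain ⟨φ, hφ⟩ := (bijective_pullC_coh 𝓘 hX I f h𝓘 hG hI).2 (Abelian.monoLift ((pullC 𝓘 hX).map ι') ψ hψ)
  refine ⟨φ ≫ ι', ?_⟩
  rw [Functor.map_comp]
  exact (congrArg (· ≫ _) hφ).trans (Abelian.monoLift_comp _ _ _)

include h𝓘 in
/-- Full faithfulness on quasi-coherent modules. -/
theorem bijective_pullC {G H : X.Modules} (hG : Coh.IsQCoh G) (hH : Coh.IsQCoh H) :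
    Function.Bijective (fun φ : G ⟶ H => (pullC 𝓘 hX).map φ) := by
  refine ⟨injective_pullC 𝓘 hX I f h𝓘 hG hH, fun ψ => ?_⟩
  haveI := preservesColimits_pullC 𝓘 hX
  obtain ⟨J, _, _, pres, hc⟩ := exists_coh_presentation G hG
  choose φ hφ using fun j => exists_map_eq_of_coh 𝓘 hX I f h𝓘 (hc j) hH ((pullC 𝓘 hX).map (pres.ι.app j) ≫ ψ)
  let c : Cocone pres.diag := Cocone.mk H
    { app := φ
      naturality := fun j k g => by
        refine injective_pullC 𝓘 hX I f h𝓘 (hc j).1 hH ?_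
        show (pullC 𝓘 hX).map (pres.diag.map g ≫ φ k) = (pullC 𝓘 hX).map (φ j ≫ 𝟙 H)
        rw [Category.comp_id, Functor.map_comp, hφ, hφ, ← Category.assoc, ← Functor.map_comp, pres.w] }
  refine ⟨pres.isColimit.desc c, (isColimitOfPreserves (pullC 𝓘 hX) pres.isColimit).hom_ext fun j => ?_⟩
  show (pullC 𝓘 hX).map (pres.ι.app j) ≫ (pullC 𝓘 hX).map _ = (pullC 𝓘 hX).map (pres.ι.app j) ≫ ψ
  rw [← Functor.map_comp, ← hφ j]
  exact congrArg _ (pres.isColimit.fac c j)

end Groth.Agent.FModLib
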