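import Groth.Agent.FModLib.ComplExact
import Groth.Agent.FModLib.HomBasis
import Groth.Agent.ZClosLib.Descent

/-!
# The completion of a coherent module is its inverse image to the completion
-/

set_option autoImplicit false
set_option backward.isDefEq.respectTransparency false
set_option linter.style.haveILetI false
set_option linter.unusedSectionVars false

universe u

open CategoryTheory CategoryTheory.Limits AlgebraicGeometry Opposite TopologicalSpace
open Groth.Agent.FBlowLib Groth.Agent.DerCompLib Groth.Agent.Coherent Groth.Agent.PicLib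

namespace Groth.Agent.FModLib

variable {X : Scheme.{u}} {𝔛 : FSch.Sys.{u}} (p : ∀ n, 𝔛.X n ⟶ X) (hp : ∀ n, 𝔛.ι n ≫ p (n + 1) = p n)
  (h : 𝔛.IsFormal) (F : X.Modules)

theorem res_self {U : (𝔛.X 0).Opens} (a : FBlowLib.Sec 𝔛 h U) : res 𝔛 h (le_refl U) a = a :=
  ConcreteCategory.congr_hom ((𝔛.Osh h).obj.map_id (op U)) a

theorem mRes_self' {T : TopCat.{u}} {O : Sheaf (Opens.grothendieckTopology T) CommRingCat.{u}}
    (N : ModSite.Mod O) {U : Opens T} (x : DerCompLib.Sec N U) : mRes N (le_refl U) x = x :=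
  ConcreteCategory.congr_hom (N.val.presheaf.map_id (op U)) x

/-- The map on functions to the formal scheme. -/
noncomputable def sharp (U : X.Opens) : Γ(X, U) →+* FBlowLib.Sec 𝔛 h (tr₀ p U) :=
  ((FSch.schSharp 𝔛 h p hp).hom.app (op U)).hom

theorem proj_sharp (k : ℕ) (U : X.Opens) (r : Γ(X, U)) :
    proj 𝔛 h k (tr₀ p U) (sharp p hp h U r) =
      (p k).appLE U (𝔛.lvU h k (tr₀ p U)) (lvU_tr₀ p hp h k U).ge r :=
  congrArg (fun φ => (φ : X.sheaf ⟶ _).hom.app (op U) r) (FSch.schSharp_proj 𝔛 h p hp k)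

theorem eta_smul (k : ℕ) (U : X.Opens) (r : Γ(X, U)) (m : Γ(F, U)) :
    eta p hp h F k U (r • m) = sharp p hp h U r • eta p hp h F k U m := by
  apply (upVal h).injective
  rw [upVal_smul, proj_sharp, upVal_eta, upVal_eta, pullSec_smul, resM_smul]
  rfl

theorem eta_res (k : ℕ) {U U' : X.Opens} (i : U' ≤ U) (m : Γ(F, U)) :
    eta p hp h F k U' (resM F i m) =
      mRes (up h k ((Scheme.Modules.pullback (p k)).obj F)) (Scheme.Hom.preimage_mono (p 0) i)
        (eta p hp h F k U m) := by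
  apply (upVal h).injective
  rw [upVal_mRes, upVal_eta, upVal_eta, ← resM_pullSec (p k) i, resM_resM, resM_resM]

/-- The limit of the pullbacks, with its name. -/
noncomputable abbrev cMod : ModSite.Mod (𝔛.Osh h) := (pullSys p hp F).realMod h

theorem exists_etaL (U : X.Opens) :
    ∃ f : Γ(F, U) →+ DerCompLib.Sec (cMod p hp h F) (tr₀ p U),
      ∀ m k, rproj h (pullSys p hp F).F (pullSys p hp F).toPush k (tr₀ p U) (f m) = eta p hp h F k U m := by
  choose f hf using fun m => exists_rsec h (pullSys p hp F).F (pullSys p hp F).toPush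
    (fun k => eta p hp h F k U m) (fun k => trSec_eta p hp h F k U m)
  exact ⟨AddMonoidHom.mk' f fun a b => rsec_ext h _ _ fun k => by rw [map_add, hf, hf, hf, map_add],
    fun m k => hf m k⟩

/-- A section of the module as a section of its completion. -/
noncomputable def etaL (U : X.Opens) : Γ(F, U) →+ DerCompLib.Sec (cMod p hp h F) (tr₀ p U) :=
  (exists_etaL p hp h F U).choose

theorem rproj_etaL (U : X.Opens) (m : Γ(F, U)) (k : ℕ) :
    rproj h (pullSys p hp F).F (pullSys p hp F).toPush k (tr₀ p U) (etaL p hp h F U m) = eta p hp h F k U m :=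
  (exists_etaL p hp h F U).choose_spec m k

theorem etaL_smul (U : X.Opens) (r : Γ(X, U)) (m : Γ(F, U)) :
    etaL p hp h F U (r • m) = sharp p hp h U r • etaL p hp h F U m :=
  rsec_ext h _ _ fun k => by rw [rproj_etaL, eta_smul, map_smul, rproj_etaL]

theorem etaL_res {U U' : X.Opens} (i : U' ≤ U) (m : Γ(F, U)) :
    etaL p hp h F U' (resM F i m) =
      mRes (cMod p hp h F) (Scheme.Hom.preimage_mono (p 0) i) (etaL p hp h F U m) :=
  rsec_ext h _ _ fun k => by
    rw [rproj_etaL, eta_res, ← rproj_etaL p hp h F U m k]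
    exact (secMap_mRes (FSch.realProj 𝔛 h (pullSys p hp F).F (pullSys p hp F).toPush k) _ _).symm

variable (hX : 𝔛.IsLocNoethFormal) (hci : ∀ n, IsClosedImmersion (p n)) (𝓘 : X.IdealSheafData)
  (hker : ∀ n, (p n).ker = 𝓘 ^ (n + 1)) [IsLocallyNoetherian X] (hF : Coh.IsCoh F)

include hp hF hci in
theorem isCoh_pullSys : (pullSys p hp F).IsCoh := fun n => by
  haveI := hci n
  exact ZClosLib.isCoh_pullback (p n) F hF

include hX hci hker hF in
theorem span_etaL {W : X.Opens} (hW : IsAffineOpen W) {ι : Type u} [Fintype ι] (m : ι → Γ(F, W))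
    (hm : Submodule.span Γ(X, W) (Set.range m) = ⊤) :
    Submodule.span (FBlowLib.Sec 𝔛 h (tr₀ p W)) (Set.range fun j => etaL p hp h F W (m j)) = ⊤ := by
  haveI : Coh.IsQCoh F := hF.1
  obtain ⟨hfin, hlev⟩ := real_props h hX (pullSys p hp F) (isCoh_pullSys p hp F hci hF)
    (isAffineOpen_tr₀ p hci hW)
  refine span_eq_top_of_sup_smul (jdl_le_jacobson h hX (isAffineOpen_tr₀ p hci hW)) _ (top_unique fun y _ => ?_)
  obtain ⟨m0, hm0⟩ := eta_surjective p hp h F hci 0 hW
    (rproj h (pullSys p hp F).F (pullSys p hp F).toPush 0 (tr₀ p W) y)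
  obtain ⟨c, hc⟩ := (Submodule.mem_span_range_iff_exists_fun _).1
    (show m0 ∈ Submodule.span Γ(X, W) (Set.range m) by rw [hm]; trivial)
  refine Submodule.mem_sup.2 ⟨etaL p hp h F W m0,
    (Submodule.mem_span_range_iff_exists_fun _).2 ⟨fun j => sharp p hp h W (c j), ?_⟩,
    y - etaL p hp h F W m0, ?_, add_sub_cancel _ _⟩
  · rw [← hc, map_sum]
    exact Finset.sum_congr rfl fun j _ => (etaL_smul p hp h F W (c j) (m j)).symm
  · rw [← pow_one (jdl h (tr₀ p W)), ← (hlev 0).2, LinearMap.mem_ker, map_sub]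
    exact sub_eq_zero.2 ((rproj_etaL p hp h F W m0 0).trans hm0).symm

include hX hci hker hF in
theorem rels_etaL {W : X.Opens} (hW : IsAffineOpen W) {ι : Type u} [Fintype ι] (m : ι → Γ(F, W))
    (hm : Submodule.span Γ(X, W) (Set.range m) = ⊤) (a : ι → FBlowLib.Sec 𝔛 h (tr₀ p W))
    (ha : ∑ j, a j • etaL p hp h F W (m j) = 0) :
    a ∈ Submodule.span (FBlowLib.Sec 𝔛 h (tr₀ p W))
      ((fun r => sharp p hp h W ∘ r) '' (relsOf Γ(X, W) m : Set (ι → Γ(X, W)))) := by
  haveI : Coh.IsQCoh F := hF.1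
  haveI := isNoetherianRing_sec h hX (isAffineOpen_tr₀ p hci hW)
  refine mem_of_forall_mem_sup_pow (jdl_le_jacobson h hX (isAffineOpen_tr₀ p hci hW)) _ fun k => ?_
  choose r hr using fun j => appLE_surjective_tr₀ p hp h hci k hW (proj 𝔛 h k (tr₀ p W) (a j))
  have hdiff : ∀ j, a j - sharp p hp h W (r j) ∈ jdl h (tr₀ p W) ^ (k + 1) := fun j => by
    rw [← ((sec_props h hX (isAffineOpen_tr₀ p hci hW)).2 k).2, RingHom.mem_ker, map_sub, proj_sharp]
    exact sub_eq_zero.2 (hr j).symm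
  have h1 : eta p hp h F k W (∑ j, r j • m j) = 0 := by
    have h2 := congrArg (rproj h (pullSys p hp F).F (pullSys p hp F).toPush k (tr₀ p W)) ha
    rw [map_sum, map_zero] at h2
    rw [map_sum]
    refine Eq.trans (Finset.sum_congr rfl fun j _ => ?_) h2
    rw [eta_smul, map_smul, rproj_etaL]
    apply (upVal h).injective
    rw [upVal_smul, upVal_smul]
    refine congrArg (· • _) ?_
    rw [proj_sharp]
    exact hr j
  have h2 := (eta_eq_zero_iff p hp h F hci 𝓘 hker k hW _).1 h1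
  rw [← hm, Submodule.mem_ideal_smul_span_iff_exists_sum] at h2
  obtain ⟨εf, hε, hεm⟩ := h2
  set ε : ι → Γ(X, W) := ⇑εf with hεdef
  replace hεm : ∑ j, ε j • m j = ∑ j, r j • m j :=
    (Finsupp.sum_fintype εf (fun i c => c • m i) fun i => zero_smul _ _).symm.trans hεm
  have hrel : (fun j => r j - ε j) ∈ relsOf Γ(X, W) m := by
    rw [mem_relsOf]
    simp only [sub_smul, Finset.sum_sub_distrib, hεm, sub_self]
  refine Submodule.mem_sup.2 ⟨sharp p hp h W ∘ fun j => r j - ε j, Submodule.subset_span ⟨_, hrel, rfl⟩,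
    a - sharp p hp h W ∘ (fun j => r j - ε j), mem_pow_smul_pi _ fun j => ?_, add_sub_cancel _ _⟩
  refine Ideal.pow_le_pow_right (Nat.le_succ k) ?_
  simp only [Pi.sub_apply, Function.comp_apply, map_sub, sub_sub_eq_add_sub, add_sub_right_comm]
  refine add_mem (hdiff j) ?_
  rw [← ((sec_props h hX (isAffineOpen_tr₀ p hci hW)).2 k).2, RingHom.mem_ker, proj_sharp]
  have := hε j
  rw [← ker_appLE_tr₀ p hp h hci 𝓘 hker k hW, RingHom.mem_ker] at this
  exact this

/-- The canonical morphism to the direct image of the completion. -/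
noncomputable def psi : F ⟶ (FSch.toSchemeMor 𝔛 h p hp).push.obj (cMod p hp h F) :=
  ⟨PresheafOfModules.homMk
    { app := fun U => AddCommGrpCat.ofHom (etaL p hp h F U.unop)
      naturality := fun U V f => AddCommGrpCat.ext fun x => etaL_res p hp h F (leOfHom f.unop) x }
    fun U r x => etaL_smul p hp h F U.unop r x⟩

variable {N : ModSite.Mod (𝔛.Osh h)}

/-- The value of a morphism to a direct image. -/
noncomputable def pv (φ : F ⟶ (FSch.toSchemeMor 𝔛 h p hp).push.obj N) (U : X.Opens) :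
    Γ(F, U) →+ DerCompLib.Sec N (tr₀ p U) :=
  (secMap φ U).toAddMonoidHom

theorem pv_smul (φ : F ⟶ (FSch.toSchemeMor 𝔛 h p hp).push.obj N) (U : X.Opens) (r : Γ(X, U)) (m : Γ(F, U)) :
    pv p hp h F φ U (r • m) = sharp p hp h U r • pv p hp h F φ U m :=
  (secMap φ U).map_smul r m

theorem pv_res (φ : F ⟶ (FSch.toSchemeMor 𝔛 h p hp).push.obj N) {U U' : X.Opens} (i : U' ≤ U) (m : Γ(F, U)) :
    pv p hp h F φ U' (resM F i m) = mRes N (Scheme.Hom.preimage_mono (p 0) i) (pv p hp h F φ U m) :=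
  secMap_secRes' φ (homOfLE i) m

include hX hci hker hF in
theorem exists_local_map (φ : F ⟶ (FSch.toSchemeMor 𝔛 h p hp).push.obj N) {W : X.Opens} (hW : IsAffineOpen W) :
    ∃ β : DerCompLib.Sec (cMod p hp h F) (tr₀ p W) →ₗ[FBlowLib.Sec 𝔛 h (tr₀ p W)] DerCompLib.Sec N (tr₀ p W),
      ∀ m, β (etaL p hp h F W m) = pv p hp h F φ W m := by
  haveI : Coh.IsQCoh F := hF.1
  obtain ⟨n, m, hm⟩ := (finite_sections F (locallyFinGen_of_isFT F hF.2) hW).exists_fin
  let m' : ULift.{u} (Fin n) → Γ(F, W) := fun j => m j.down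
  have hm' : Submodule.span Γ(X, W) (Set.range m') = ⊤ := by
    rw [← hm]; exact congrArg _ (Equiv.ulift.surjective.range_comp m)
  let f := Fintype.linearCombination (FBlowLib.Sec 𝔛 h (tr₀ p W)) fun j => etaL p hp h F W (m' j)
  let g := Fintype.linearCombination (FBlowLib.Sec 𝔛 h (tr₀ p W)) fun j => pv p hp h F φ W (m' j)
  have hf : Function.Surjective f := fun y => (Submodule.mem_span_range_iff_exists_fun _).1
    (show y ∈ Submodule.span _ (Set.range fun j => etaL p hp h F W (m' j)) by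
      rw [span_etaL p hp h F hX hci 𝓘 hker hF hW m' hm']; trivial)
  have hker' : LinearMap.ker f ≤ LinearMap.ker g := fun a ha => by
    refine Submodule.span_le.2 ?_ (rels_etaL p hp h F hX hci 𝓘 hker hF hW m' hm' a ha)
    rintro _ ⟨r, hr, rfl⟩
    show ∑ j, sharp p hp h W (r j) • pv p hp h F φ W (m' j) = 0
    rw [← map_zero (pv p hp h F φ W), ← (mem_relsOf.1 hr : ∑ j, r j • m' j = 0), map_sum]
    exact Finset.sum_congr rfl fun j _ => (pv_smul p hp h F φ W (r j) (m' j)).symm
  refine ⟨(LinearMap.ker f).liftQ g hker' ∘ₗ (f.quotKerEquivOfSurjective hf).symm.toLinearMap, fun x => ?_⟩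
  obtain ⟨c, hc⟩ := (Submodule.mem_span_range_iff_exists_fun _).1
    (show x ∈ Submodule.span Γ(X, W) (Set.range m') by rw [hm']; trivial)
  have hfx : f (fun j => sharp p hp h W (c j)) = etaL p hp h F W x := by
    rw [← hc, map_sum]
    refine (Fintype.linearCombination_apply _ _ _).trans ?_
    exact Finset.sum_congr rfl fun j _ => (etaL_smul p hp h F W (c j) (m' j)).symm
  rw [← hfx]
  refine (congrArg ((LinearMap.ker f).liftQ g hker')
    ((f.quotKerEquivOfSurjective hf).symm_apply_apply (Submodule.Quotient.mk _))).trans ?_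
  rw [Submodule.liftQ_apply, ← hc, map_sum]
  refine (Fintype.linearCombination_apply _ _ _).trans ?_
  exact Finset.sum_congr rfl fun j _ => (pv_smul p hp h F φ W (c j) (m' j)).symm

include hX hci hker hF in
/-- Linear maps on the completion are determined on sections of the module. -/
theorem eq_of_forall_etaL {W : X.Opens} (hW : IsAffineOpen W) {V : (𝔛.X 0).Opens} (i : V ≤ tr₀ p W)
    {g₁ g₂ : DerCompLib.Sec (cMod p hp h F) (tr₀ p W) →+ DerCompLib.Sec N V}
    (h₁ : ∀ a x, g₁ (a • x) = res 𝔛 h i a • g₁ x) (h₂ : ∀ a x, g₂ (a • x) = res 𝔛 h i a • g₂ x)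
    (he : ∀ m, g₁ (etaL p hp h F W m) = g₂ (etaL p hp h F W m)) : g₁ = g₂ := by
  haveI : Coh.IsQCoh F := hF.1
  obtain ⟨n, m, hm⟩ := (finite_sections F (locallyFinGen_of_isFT F hF.2) hW).exists_fin
  ext x
  obtain ⟨c, rfl⟩ := (Submodule.mem_span_range_iff_exists_fun _).1
    (show x ∈ Submodule.span _ (Set.range fun j : ULift.{u} (Fin n) => etaL p hp h F W (m j.down)) by
      rw [span_etaL p hp h F hX hci 𝓘 hker hF hW (fun j : ULift.{u} (Fin n) => m j.down)
        (by rw [← hm]; exact congrArg _ (Equiv.ulift.surjective.range_comp m))]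
      trivial)
  rw [map_sum, map_sum]
  exact Finset.sum_congr rfl fun j _ => by rw [h₁, h₂, he]

include hX hci hker hF in
set_option maxHeartbeats 1000000 in
/-- Morphisms out of the completion are morphisms to direct images. -/
theorem bijective_psi_comp (N : ModSite.Mod (𝔛.Osh h)) :
    Function.Bijective fun α : cMod p hp h F ⟶ N => psi p hp h F ≫ (FSch.toSchemeMor 𝔛 h p hp).push.map α := by
  have hb := basis_tr₀ p hci
  have hev : ∀ (α : cMod p hp h F ⟶ N) (U : X.Opens) (m : Γ(F, U)),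
      pv p hp h F (psi p hp h F ≫ (FSch.toSchemeMor 𝔛 h p hp).push.map α) U m =
        secMap α (tr₀ p U) (etaL p hp h F U m) := fun _ _ _ => rfl
  refine ⟨fun α α' he => ?_, fun φ => ?_⟩
  · apply SheafOfModules.hom_ext
    apply PresheafOfModules.hom_ext
    intro U
    refine ModuleCat.hom_ext (LinearMap.ext fun x => sec_ext_basis hb (N := N) _ _ ?_)
    rintro V i ⟨W, hW, rfl⟩
    show mRes N i (secMap α U.unop x) = mRes N i (secMap α' U.unop x)
    rw [← secMap_mRes, ← secMap_mRes]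
    have h0 := eq_of_forall_etaL p hp h F hX hci 𝓘 hker hF hW le_rfl
      (g₁ := (secMap α (tr₀ p W)).toAddMonoidHom) (g₂ := (secMap α' (tr₀ p W)).toAddMonoidHom)
      (fun a y => by rw [res_self]; exact map_smul (secMap α (tr₀ p W)) a y)
      (fun a y => by rw [res_self]; exact map_smul (secMap α' (tr₀ p W)) a y)
      fun m => (hev α W m).symm.trans ((congrArg (fun ψ => pv p hp h F ψ W m) he).trans (hev α' W m))
    exact DFunLike.congr_fun h0 (mRes (cMod p hp h F) i x)
  choose β hβ using fun (W : X.Opens) (hW : IsAffineOpen W) => exists_local_map p hp h F hX hci 𝓘 hker hF φ hW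
  have hres : ∀ (W W' : X.Opens) (hW : IsAffineOpen W) (hW' : IsAffineOpen W') (i : W' ≤ W) (x),
      mRes N (Scheme.Hom.preimage_mono (p 0) i) (β W hW x) =
        β W' hW' (mRes (cMod p hp h F) (Scheme.Hom.preimage_mono (p 0) i) x) := fun W W' hW hW' i x => by
    refine DFunLike.congr_fun (eq_of_forall_etaL p hp h F hX hci 𝓘 hker hF hW (Scheme.Hom.preimage_mono (p 0) i)
      (g₁ := (mRes N (Scheme.Hom.preimage_mono (p 0) i)).comp (β W hW).toAddMonoidHom)
      (g₂ := (β W' hW').toAddMonoidHom.comp (mRes (cMod p hp h F) (Scheme.Hom.preimage_mono (p 0) i)))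
      (fun a y => ?_) (fun a y => ?_) fun m => ?_) x
    · show mRes N _ (β W hW (a • y)) = _
      rw [map_smul, mRes_smul]
      rfl
    · show β W' hW' (mRes _ _ (a • y)) = _
      rw [mRes_smul, map_smul]
      rfl
    · show mRes N _ (β W hW (etaL p hp h F W m)) = β W' hW' (mRes _ _ (etaL p hp h F W m))
      rw [hβ, ← etaL_res p hp h F i, hβ, pv_res]
  have hchar : ∀ (W : X.Opens) (hW : IsAffineOpen W) (U : X.Opens) (i : tr₀ p W ≤ tr₀ p U) (m : Γ(F, U)),
      β W hW (mRes (cMod p hp h F) i (etaL p hp h F U m)) = mRes N i (pv p hp h F φ U m) := fun W hW U i m => by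
    refine sec_ext_basis (N := N) (P := fun V => ∃ W' : X.Opens, IsAffineOpen W' ∧
      (V ≤ tr₀ p W → W' ≤ W ⊓ U) ∧ V = tr₀ p W') (fun V y hy => ?_) _ _ ?_
    · by_cases hyW : y ∈ tr₀ p W
      · obtain ⟨V₁, ⟨W₁, hW₁, rfl⟩, hy₁, hV₁⟩ := hb V y hy
        obtain ⟨W', hW', hyW', hle⟩ := exists_isAffineOpen_mem_and_subset (x := p 0 y) (U := W₁ ⊓ (W ⊓ U))
          ⟨hy₁, hyW, i hyW⟩
        exact ⟨_, ⟨W', hW', fun _ z hz => (hle hz).2, rfl⟩, hyW', fun z hz => hV₁ (hle hz).1⟩
      · obtain ⟨V₁, ⟨W₁, hW₁, rfl⟩, hy₁, hV₁⟩ := hb V y hy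
        exact ⟨_, ⟨W₁, hW₁, fun hle => absurd (hle hy₁) hyW, rfl⟩, hy₁, hV₁⟩
    · rintro V j ⟨W', hW', hle', rfl⟩
      have hle := hle' j
      rw [show mRes N j (β W hW (mRes (cMod p hp h F) i (etaL p hp h F U m))) =
        β W' hW' (mRes (cMod p hp h F) j (mRes (cMod p hp h F) i (etaL p hp h F U m))) from
          hres W W' hW hW' (hle.trans inf_le_left) _, mRes_mRes, mRes_mRes,
        show mRes (cMod p hp h F) (j.trans i) (etaL p hp h F U m) =
          etaL p hp h F W' (resM F (hle.trans inf_le_right) m) from (etaL_res p hp h F _ m).symm, hβ, pv_res]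
  let βV : ∀ V : (𝔛.X 0).Opens, (∃ W : X.Opens, IsAffineOpen W ∧ V = tr₀ p W) →
      DerCompLib.Sec (cMod p hp h F) V →ₗ[(𝔛.Osh h).obj.obj (op V)] DerCompLib.Sec N V := fun V hV =>
    hV.choose_spec.2 ▸ β hV.choose hV.choose_spec.1
  have hβV : ∀ (V : (𝔛.X 0).Opens) (hV : ∃ W : X.Opens, IsAffineOpen W ∧ V = tr₀ p W) (U : X.Opens)
      (i : V ≤ tr₀ p U) (m : Γ(F, U)),
      βV V hV (mRes (cMod p hp h F) i (etaL p hp h F U m)) = mRes N i (pv p hp h F φ U m) := by
    intro V hV
    have key : ∀ (W : X.Opens) (hW : IsAffineOpen W) (e : V = tr₀ p W) (U : X.Opens) (i : V ≤ tr₀ p U)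
        (m : Γ(F, U)),
        (e ▸ β W hW : DerCompLib.Sec (cMod p hp h F) V →ₗ[(𝔛.Osh h).obj.obj (op V)] DerCompLib.Sec N V)
          (mRes (cMod p hp h F) i (etaL p hp h F U m)) = mRes N i (pv p hp h F φ U m) := by
      intro W hW e
      subst e
      exact fun U i m => hchar W hW U i m
    exact key hV.choose hV.choose_spec.1 hV.choose_spec.2
  obtain ⟨α, hα⟩ := exists_hom_of_basis hb βV fun V V' j hV hV' x => by
    obtain ⟨W, hW, rfl⟩ := hV
    refine DFunLike.congr_fun (eq_of_forall_etaL p hp h F hX hci 𝓘 hker hF hW j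
      (g₁ := (mRes N j).comp (βV _ ⟨W, hW, rfl⟩).toAddMonoidHom)
      (g₂ := (βV V' hV').toAddMonoidHom.comp (mRes (cMod p hp h F) j))
      (fun a y => ?_) (fun a y => ?_) fun m => ?_) x
    · show mRes N _ (βV _ _ (a • y)) = _
      rw [map_smul, mRes_smul]
      rfl
    · show βV _ _ (mRes _ _ (a • y)) = _
      rw [mRes_smul, map_smul]
      rfl
    · show mRes N j (βV _ _ (etaL p hp h F W m)) = βV V' hV' (mRes _ j (etaL p hp h F W m))
      rw [hβV V' hV' W j m]
      refine congrArg (mRes N j) ?_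
      have := hβV _ ⟨W, hW, rfl⟩ W le_rfl m
      rwa [mRes_self', mRes_self'] at this
  refine ⟨α, ?_⟩
  apply SheafOfModules.hom_ext
  apply PresheafOfModules.hom_ext
  intro U
  refine ModuleCat.hom_ext (LinearMap.ext fun m => sec_ext_basis hb (N := N) _ _ ?_)
  intro V i hV
  show mRes N i (secMap α (tr₀ p U.unop) (etaL p hp h F U.unop m)) = mRes N i (pv p hp h F φ U.unop m)
  refine (secMap_mRes α i _).symm.trans ?_
  rw [hα V hV]
  exact hβV V hV U.unop i m

end Groth.Agent.FModLib
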