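import Groth.Agent.FModLib.Real

/-!
# Direct image from a level is fully faithful; adjuncts of projections

`u_{k,*}` is fully faithful on all modules, and a map `M ⟶ u_{k,*} F` surjective on affine opens with kernel
`J^{k+1} M` exhibits `F` as the inverse image of `M`.
-/

set_option autoImplicit false
set_option backward.isDefEq.respectTransparency false
set_option linter.style.haveILetI false
set_option linter.unusedSectionVars false

universe u

open CategoryTheory CategoryTheory.Limits AlgebraicGeometry Opposite TopologicalSpace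
open Groth.Agent.FBlowLib Groth.Agent.DerCompLib Groth.Agent.Coherent

namespace Groth.Agent.FModLib

variable {𝔛 : FSch.Sys.{u}} (h : 𝔛.IsFormal) (hX : 𝔛.IsLocNoethFormal) (k : ℕ)

/-- The open of the common space corresponding to an open of a level. -/
noncomputable abbrev preU (W : (𝔛.X k).Opens) : (𝔛.X 0).Opens := 𝔛.toX k ⁻¹ᵁ W

theorem lvU_preU (W : (𝔛.X k).Opens) : 𝔛.lvU h k (preU k W) = W := by
  change (Opens.map (𝔛.gInv h k ≫ (𝔛.toX k).base)).obj W = W
  rw [FSch.Sys.gInv_toX_base]
  rfl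

theorem exists_lvU (W : (𝔛.X k).Opens) : ∃ U, 𝔛.lvU h k U = W := ⟨_, lvU_preU h k W⟩

theorem push_faithful {G G' : (𝔛.X k).Modules} {φ ψ : G ⟶ G'}
    (e : (FSch.levelMor 𝔛 h k).push.map φ = (FSch.levelMor 𝔛 h k).push.map ψ) : φ = ψ := by
  refine Scheme.Modules.hom_ext _ _ fun W => ?_
  obtain ⟨U, rfl⟩ := exists_lvU h k W
  exact AddCommGrpCat.ext fun m =>
    congrArg (fun f => upVal h (secMap f U ((upVal h).symm m))) e

include hX in
theorem level_linear {G G' : (𝔛.X k).Modules} (χ : up h k G ⟶ up h k G') (U : (𝔛.X 0).Opens)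
    (a : Γ(𝔛.X k, 𝔛.lvU h k U)) (m : Γ(G, 𝔛.lvU h k U)) :
    upVal h (secMap χ U ((upVal h).symm (a • m))) = a • upVal h (secMap χ U ((upVal h).symm m)) := by
  apply (upVal h).symm.injective
  rw [AddEquiv.symm_apply_apply]
  obtain ⟨R, hR, hRQ⟩ := exists_cover_of_forall (P := AFF 𝔛) basis_AFF (U := U)
    (fun {V} (j : V ⟶ U) => secRes (up h k G') j (secMap χ U ((upVal h).symm (a • m))) =
      secRes (up h k G') j ((upVal h).symm (a • upVal h (secMap χ U ((upVal h).symm m)))))
    (fun V V' j l hj => by rw [← secRes_comp, hj, secRes_comp])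
    (fun V j hV => by
      obtain ⟨s, hs⟩ := ((sec_props h hX hV).2 k).1
        ((𝔛.X k).presheaf.map (homOfLE (FBlow.lvU_mono 𝔛 h k (leOfHom j))).op a)
      have e : ∀ (H : (𝔛.X k).Modules) (x : Γ(H, 𝔛.lvU h k U)),
          secRes (up h k H) j ((upVal h).symm (a • x)) = s • secRes (up h k H) j ((upVal h).symm x) := by
        intro H x
        apply (upVal h).injective
        rw [upVal_smul, hs]
        exact resM_smul H (FBlow.lvU_mono 𝔛 h k (leOfHom j)) a x
      rw [← secMap_secRes', e, map_smul, secMap_secRes', e, AddEquiv.symm_apply_apply])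
  exact DerCompLib.sec_ext _ R hR _ _ fun V j hj => hRQ j hj

/-- The additive map on a level induced by a map of direct images. -/
noncomputable def downApp {G G' : (𝔛.X k).Modules} (χ : up h k G ⟶ up h k G') (W : (𝔛.X k).Opens) :
    Γ(G, W) →+ Γ(G', W) :=
  (resM G' (lvU_preU h k W).ge).comp (((upVal h).toAddMonoidHom.comp
    ((secMap χ (preU k W)).toAddMonoidHom.comp (upVal h).symm.toAddMonoidHom)).comp
      (resM G (lvU_preU h k W).le))

theorem downApp_lvU {G G' : (𝔛.X k).Modules} (χ : up h k G ⟶ up h k G') (U : (𝔛.X 0).Opens)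
    (m : Γ(G, 𝔛.lvU h k U)) :
    downApp h k χ (𝔛.lvU h k U) m = upVal h (secMap χ U ((upVal h).symm m)) := by
  have hU : preU k (𝔛.lvU h k U) = U := by
    change (Opens.map ((𝔛.toX k).base ≫ 𝔛.gInv h k)).obj U = U
    rw [FSch.Sys.toX_base_gInv]
    rfl
  change resM G' _ (upVal h (secMap χ (preU k (𝔛.lvU h k U)) ((upVal h).symm (resM G _ m)))) = _
  rw [show (upVal h).symm (resM G (lvU_preU h k (𝔛.lvU h k U)).le m) =
      mRes (up h k G) hU.le ((upVal h).symm m) from rfl, secMap_mRes]
  change resM G' _ (resM G' _ (upVal h (secMap χ U ((upVal h).symm m)))) = _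
  rw [resM_resM]
  exact congrArg (fun φ => φ (upVal h (secMap χ U ((upVal h).symm m)))) (G'.presheaf.map_id _)

theorem downApp_res {G G' : (𝔛.X k).Modules} (χ : up h k G ⟶ up h k G') {W W' : (𝔛.X k).Opens} (i : W' ≤ W)
    (m : Γ(G, W)) :
    downApp h k χ W' (resM G i m) = resM G' i (downApp h k χ W m) := by
  obtain ⟨U, rfl⟩ := exists_lvU h k W
  have j : preU k W' ≤ U := by
    refine (Scheme.Hom.preimage_mono (𝔛.toX k) i).trans (le_of_eq ?_)
    change (Opens.map ((𝔛.toX k).base ≫ 𝔛.gInv h k)).obj U = U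
    rw [FSch.Sys.toX_base_gInv]
    rfl
  rw [downApp_lvU]
  change resM G' _ (upVal h (secMap χ (preU k W') ((upVal h).symm (resM G _ (resM G i m))))) = _
  rw [resM_resM]
  rw [show (upVal h).symm (resM G (((lvU_preU h k W').le).trans i) m) =
      mRes (up h k G) j ((upVal h).symm m) from rfl, secMap_mRes]
  change resM G' _ (resM G' _ (upVal h (secMap χ U ((upVal h).symm m)))) = _
  rw [resM_resM]

include hX in
theorem push_full {G G' : (𝔛.X k).Modules} (χ : up h k G ⟶ up h k G') :
    ∃ φ : G ⟶ G', (FSch.levelMor 𝔛 h k).push.map φ = χ := by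
  have hlin : ∀ (W : (𝔛.X k).Opens) (a : Γ(𝔛.X k, W)) (m : Γ(G, W)),
      downApp h k χ W (a • m) = a • downApp h k χ W m := by
    intro W a m
    obtain ⟨U, rfl⟩ := exists_lvU h k W
    rw [downApp_lvU, downApp_lvU]
    exact level_linear h hX k χ U a m
  let nt : G.val.presheaf ⟶ G'.val.presheaf :=
    { app := fun W => AddCommGrpCat.ofHom (downApp h k χ W.unop)
      naturality := fun W W' f => AddCommGrpCat.ext fun m => downApp_res h k χ (leOfHom f.unop) m }
  refine ⟨⟨PresheafOfModules.homMk nt fun W a m => hlin W.unop a m⟩, ?_⟩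
  apply SheafOfModules.hom_ext
  apply PresheafOfModules.hom_ext
  intro U
  refine ModuleCat.hom_ext (LinearMap.ext fun (m : DerCompLib.Sec (up h k G) U.unop) => ?_)
  exact downApp_lvU h k χ U.unop (upVal h m)

variable {M : ModSite.Mod (𝔛.Osh h)} {F : (𝔛.X k).Modules} (f : M ⟶ up h k F)
  (hsurj : ∀ V : (𝔛.X 0).Opens, IsAffineOpen V → Function.Surjective (secMap f V))
  (hker : ∀ V : (𝔛.X 0).Opens, IsAffineOpen V → ∀ x, secMap f V x = 0 →
    x ∈ jdl h V ^ (k + 1) • (⊤ : Submodule (FBlowLib.Sec 𝔛 h V) (DerCompLib.Sec M V)))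

include hX hsurj hker in
/-- Maps to direct images from the level factor uniquely. -/
theorem bijective_comp_push (G : (𝔛.X k).Modules) :
    Function.Bijective fun φ : F ⟶ G => f ≫ (FSch.levelMor 𝔛 h k).push.map φ := by
  haveI : Epi f := epi_of_forall basis_AFF f hsurj
  refine ⟨fun φ ψ e => push_faithful h k ((cancel_epi f).1 e), fun ψ => ?_⟩
  have hK : kernel.ι f ≫ ψ = 0 := by
    apply SheafOfModules.hom_ext
    apply PresheafOfModules.hom_ext
    intro U
    refine ModuleCat.hom_ext (LinearMap.ext fun (x : DerCompLib.Sec (kernel f) U.unop) => ?_)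
    show secMap ψ U.unop (secMap (kernel.ι f) U.unop x) = 0
    obtain ⟨R, hR, hRQ⟩ := exists_cover_of_forall (P := AFF 𝔛) basis_AFF (U := U.unop)
      (fun {V} (j : V ⟶ U.unop) => secRes (up h k G) j (secMap ψ U.unop (secMap (kernel.ι f) U.unop x)) = 0)
      (fun V V' j l hj => by rw [← secRes_comp, hj, map_zero])
      (fun V j hV => by
        rw [← secMap_secRes', ← secMap_secRes']
        set y := secMap (kernel.ι f) V (secRes (kernel f) j x)
        have hy := hker V hV y (kernel_sec_condition f V _)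
        have h2 := Submodule.mem_map_of_mem (f := secMap ψ V) hy
        rw [Submodule.map_smul''] at h2
        exact (Submodule.mem_bot _).1 ((level_killed h hX hV k G).le
          (Submodule.smul_mono le_rfl le_top h2)))
    exact DerCompLib.sec_ext _ R hR _ 0 fun V j hj => (hRQ j hj).trans (map_zero _).symm
  let χ : up h k F ⟶ up h k G := Abelian.epiDesc f ψ hK
  obtain ⟨φ, hφ⟩ := push_full h hX k χ
  exact ⟨φ, by simp only [hφ, χ]; exact Abelian.comp_epiDesc f ψ hK⟩

include hX hsurj hker in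
/-- The adjunct is an isomorphism. -/
theorem isIso_adjunct : IsIso (((FSch.levelMor 𝔛 h k).adj.homEquiv _ _).symm f) := by
  let g := ((FSch.levelMor 𝔛 h k).adj.homEquiv _ _).symm f
  have key : ∀ (G : (𝔛.X k).Modules) (φ : F ⟶ G), g ≫ φ =
      ((FSch.levelMor 𝔛 h k).adj.homEquiv _ _).symm (f ≫ (FSch.levelMor 𝔛 h k).push.map φ) :=
    fun G φ => ((FSch.levelMor 𝔛 h k).adj.homEquiv_naturality_right_symm f φ).symm
  obtain ⟨σ, hσ⟩ := (bijective_comp_push h hX k f hsurj hker _).2
    ((FSch.levelMor 𝔛 h k).adj.homEquiv _ _ (𝟙 _))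
  have h1 : g ≫ σ = 𝟙 _ := by
    refine (key _ σ).trans ?_
    exact (congrArg _ hσ).trans (Equiv.symm_apply_apply _ _)
  refine ⟨σ, h1, (bijective_comp_push h hX k f hsurj hker _).1 ?_⟩
  apply ((FSch.levelMor 𝔛 h k).adj.homEquiv _ _).symm.injective
  refine (key _ _).symm.trans (Eq.trans ?_ (key _ _))
  rw [← Category.assoc, h1, Category.id_comp, Category.comp_id]

end Groth.Agent.FModLib
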