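import Groth.Agent.FModLib.LocalPres
import Groth.Agent.FModLib.BasisExact

/-!
# Quasi-coherent modules of finite type over a good sheaf of rings are finitely presented
-/

set_option autoImplicit false
set_option backward.isDefEq.respectTransparency false
set_option linter.unusedSectionVars false
set_option linter.style.haveILetI false

universe u

open CategoryTheory CategoryTheory.Limits Opposite TopologicalSpace
open Groth.Agent.DerCompLib

namespace Groth.Agent.FModLib

variable {T : TopCat.{u}} {O : Sheaf (Opens.grothendieckTopology T) CommRingCat.{u}}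
  {P : Opens T → Prop} (hG : GoodRing O P)

include hG in
/-- Flatness for finite families of vectors. -/
theorem rels_vec_fintype {U V : Opens T} (i : V ≤ U) (hU : P U) (hV : P V) {J D : Type u} [Fintype J] [Fintype D]
    (s : J → D → O.obj.obj (op U)) (a : J → O.obj.obj (op V)) (ha : ∀ k, ∑ j, a j * oRes O i (s j k) = 0) :
    a ∈ Submodule.span (O.obj.obj (op V))
      ((fun y => oRes O i ∘ y) '' {y : J → O.obj.obj (op U) | ∀ k, ∑ j, y j * s j k = 0}) := by
  let e := Fintype.equivFin J
  let f := Fintype.equivFin D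
  have h1 := hG.rels_vec i hU hV (Fintype.card D) (Fintype.card J) (fun j k => s (e.symm j) (f.symm k))
    (fun j => a (e.symm j)) fun k => (Equiv.sum_comp e.symm fun j => a j * oRes O i (s j (f.symm k))).trans (ha _)
  have h2 := Submodule.mem_map_of_mem (f := LinearMap.funLeft (O.obj.obj (op V)) (O.obj.obj (op V)) e) h1
  rw [Submodule.map_span] at h2
  rw [show LinearMap.funLeft (O.obj.obj (op V)) (O.obj.obj (op V)) e (fun j => a (e.symm j)) = a from
    funext fun j => congrArg a (e.symm_apply_apply j)] at h2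
  refine Submodule.span_mono ?_ h2
  rintro _ ⟨_, ⟨y, hy, rfl⟩, rfl⟩
  refine ⟨y ∘ e, fun k => ?_, rfl⟩
  have := congrFun (mem_relsOf.1 hy) (f k)
  simp only [Finset.sum_apply, Pi.smul_apply, smul_eq_mul, Equiv.symm_apply_apply, Pi.zero_apply] at this
  refine Eq.trans ?_ this
  exact (Equiv.sum_comp e.symm fun j => (y ∘ e) j * s j k).symm.trans
    (Finset.sum_congr rfl fun j _ => by simp)

theorem comp_mem_span {A : Type u} [CommRing A] {J K : Type u} (f : K → J) {S : Set (J → A)}
    {N : Submodule A (K → A)} {a : J → A} (ha : a ∈ Submodule.span A S) (h : ∀ x ∈ S, x ∘ f ∈ N) :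
    a ∘ f ∈ N :=
  Submodule.span_le (p := N.comap (LinearMap.funLeft A A f)).2 (fun x hx => h x hx) ha

/-- A solution of the linearised equations is a relation between the lifted generators. -/
theorem rel_of_vec {A N I K L : Type u} [CommRing A] [AddCommGroup N] [Module A N] [Fintype K] [Fintype L]
    [DecidableEq I] (x : I → N) (s S' : Finset I) (hs : s ⊆ S') (t : K → N) (c : K → I → A)
    (ht : ∀ k, t k = ∑ i ∈ s, c k i • x i) (ρ : L → I → A) {S : L → Finset I}
    (hS : ∀ l i, i ∉ S l → ρ l i = 0) (hSsum : ∀ l, ∑ i ∈ S l, ρ l i • x i = 0) (hsub : ∀ l, S l ⊆ S')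
    (z : K ⊕ L → A) (hz : ∀ i ∈ S', ∑ k, z (Sum.inl k) * (if i ∈ s then c k i else 0) =
      ∑ l, z (Sum.inr l) * ρ l i) :
    ∑ k, (z ∘ Sum.inl) k • t k = 0 := by
  calc ∑ k, (z ∘ Sum.inl) k • t k
      = ∑ k, ∑ i ∈ S', (z (Sum.inl k) * if i ∈ s then c k i else 0) • x i := by
        refine Finset.sum_congr rfl fun k _ => ?_
        rw [Function.comp_apply, ht k, Finset.smul_sum]
        refine Eq.trans (Finset.sum_congr rfl fun i hi => ?_)
          (Finset.sum_subset hs fun i _ hi => by rw [if_neg hi, mul_zero, zero_smul])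
        rw [if_pos hi, mul_smul]
    _ = ∑ i ∈ S', (∑ l, z (Sum.inr l) * ρ l i) • x i := by
        rw [Finset.sum_comm]
        refine Finset.sum_congr rfl fun i hi => ?_
        rw [← Finset.sum_smul, hz i hi]
    _ = 0 := by
        simp only [Finset.sum_smul, mul_smul]
        rw [Finset.sum_comm]
        refine Finset.sum_eq_zero fun l _ => ?_
        rw [← Finset.smul_sum]
        refine (congrArg (z (Sum.inr l) • ·) ?_).trans (smul_zero _)
        refine Eq.trans ?_ (hSsum l)
        exact (Finset.sum_subset (hsub l) fun i _ hi => by rw [hS l i hi, zero_smul]).symm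

theorem oRes_oRes {U V W : Opens T} (i : V ≤ U) (j : W ≤ V) (x : O.obj.obj (op U)) :
    oRes O j (oRes O i x) = oRes O (j.trans i) x := by
  refine (ConcreteCategory.comp_apply (O.obj.map (homOfLE i).op) (O.obj.map (homOfLE j).op) x).symm.trans ?_
  rw [← O.obj.map_comp]
  rfl

include hG in
/-- Linearised equations over a smaller member of the basis give relations between lifted generators. -/
theorem mem_span_of_eqn {W V : Opens T} (j : V ≤ W) (hW : P W) (hV : P V) {N I K L : Type u}
    [AddCommGroup N] [Module (O.obj.obj (op W)) N] [Fintype K] [Fintype L] [DecidableEq I]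
    (x : I → N) (s : Finset I) (t : K → N) (c : K → I → O.obj.obj (op W))
    (ht : ∀ k, t k = ∑ i ∈ s, c k i • x i) (ρ : L → I → O.obj.obj (op W)) (S : L → Finset I)
    (hS : ∀ l i, i ∉ S l → ρ l i = 0) (hSsum : ∀ l, ∑ i ∈ S l, ρ l i • x i = 0)
    (a : K → O.obj.obj (op V)) (b : L → O.obj.obj (op V))
    (heq : ∀ i, ∑ k, a k * oRes O j (if i ∈ s then c k i else 0) = ∑ l, b l * oRes O j (ρ l i)) :
    a ∈ Submodule.span (O.obj.obj (op V))
      ((fun y => oRes O j ∘ y) '' (relsOf (O.obj.obj (op W)) t : Set (K → O.obj.obj (op W)))) := by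
  let S' := s ∪ Finset.univ.biUnion S
  have h2 := rels_vec_fintype hG j hW hV (J := K ⊕ L) (D := {i // i ∈ S'})
    (Sum.elim (fun k i => if i.1 ∈ s then c k i.1 else 0) (fun l i => -ρ l i.1)) (Sum.elim a b) fun i => by
      rw [Fintype.sum_sum_type]
      simp only [Sum.elim_inl, Sum.elim_inr, map_neg, mul_neg, Finset.sum_neg_distrib]
      rw [← sub_eq_add_neg, sub_eq_zero]
      exact heq i.1
  refine comp_mem_span (a := Sum.elim a b) (Sum.inl : K → K ⊕ L) h2 ?_
  rintro _ ⟨z, hz, rfl⟩
  refine Submodule.subset_span ⟨z ∘ Sum.inl, mem_relsOf.2 ?_, rfl⟩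
  refine rel_of_vec x s S' Finset.subset_union_left t c ht ρ hS hSsum
    (fun l => (Finset.subset_biUnion_of_mem S (Finset.mem_univ l)).trans Finset.subset_union_right) z fun i hi => ?_
  have := hz ⟨i, hi⟩
  rw [Fintype.sum_sum_type] at this
  simp only [Sum.elim_inl, Sum.elim_inr, mul_neg, Finset.sum_neg_distrib] at this
  rwa [← sub_eq_add_neg, sub_eq_zero] at this

variable {M : ModSite.Mod O}

/-- A property of opens holding near each point gives a covering sieve. -/
theorem sec_eq_of_local {N : ModSite.Mod O} {W : Opens T} (x x' : Sec N W)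
    (h : ∀ y ∈ W, ∃ (V : Opens T) (i : V ≤ W), y ∈ V ∧ mRes N i x = mRes N i x') : x = x' := by
  let R : Sieve W := ⟨fun V => {k | secRes N k x = secRes N k x'}, fun {V V'} k hk j => by
    have := congrArg (secRes N j) (show secRes N k x = secRes N k x' from hk)
    rwa [secRes_comp, secRes_comp] at this⟩
  refine DerCompLib.sec_ext N R (fun y hy => ?_) x x' fun V k hk => hk
  obtain ⟨V, i, hyV, hV⟩ := h y hy
  exact ⟨V, homOfLE i, hV, hyV⟩

section Main

variable {U : Opens T} (Pr : SheafOfModules.Presentation (M := overMod M U))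

/-- Near each point a relation has finite support. -/
theorem exists_local_support (l : Pr.relations.I) {y : T} (hy : y ∈ U) :
    ∃ (V : Opens T) (i : V ≤ U) (s : Finset Pr.generators.I), y ∈ V ∧
      (∀ j, j ∉ s → oRes O i (relC Pr l j) = 0) ∧
      ∑ j ∈ s, oRes O i (relC Pr l j) • mRes M i (gens Pr j) = 0 := by
  classical
  let p := secMap (kernel.ι Pr.generators.π) (ovTop U) (topOf (Pr.relations.s l))
  obtain ⟨W, g, s, c, hyW, hc⟩ := exists_local_comb (I := Pr.generators.I) (V := ovTop U) p hy
  have hcoord : ∀ j, oRes O (leOfHom g.left) (relC Pr l j) = if j ∈ s then c j else 0 := fun j => by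
    refine Eq.trans ?_ (coordAt_finset_comb s c j)
    refine Eq.trans ?_ (congrArg (fun q => coordAt (O.over U) W q j) hc)
    exact (secMap_secRes' (coord (O.over U) j) g p).symm
  refine ⟨W.left, leOfHom g.left, s, hyW, fun j hj => (hcoord j).trans (if_neg hj), ?_⟩
  have hk : secMap Pr.generators.π W (∑ j ∈ s, c j • freeVec (O.over U) j W) = 0 := by
    rw [← hc, secMap_secRes', kernel_sec_condition, map_zero]
  refine Eq.trans ?_ hk
  rw [map_sum]
  refine Finset.sum_congr rfl fun j hj => ?_
  refine (congrArg (· • _) ((hcoord j).trans (if_pos hj))).trans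
    ((congrArg (c j • ·) (Eq.symm ?_)).trans (map_smul _ _ _).symm)
  rw [show g = toTop W from Over.OverMorphism.ext (Subsingleton.elim _ _)]
  exact imgVec_π Pr W j

variable (hc : ∀ V, P V → IsCompact (V : Set T))

include hc in
/-- Over a compact open a relation has finite support. -/
theorem exists_support {W : Opens T} (hW : P W) (hWU : W ≤ U) (l : Pr.relations.I) :
    ∃ S : Finset Pr.generators.I, (∀ j, j ∉ S → oRes O hWU (relC Pr l j) = 0) ∧
      ∑ j ∈ S, oRes O hWU (relC Pr l j) • mRes M hWU (gens Pr j) = 0 := by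
  classical
  choose V i s hyV hzero hsum using fun y : W => exists_local_support Pr l (hWU y.2)
  obtain ⟨F, hF⟩ := (hc W hW).elim_finite_subcover (fun y : W => ((V y : Opens T) : Set T))
    (fun y => (V y).isOpen) fun y hy => Set.mem_iUnion.2 ⟨⟨y, hy⟩, hyV ⟨y, hy⟩⟩
  have hcov : ∀ y ∈ W, ∃ z ∈ F, y ∈ V z := fun y hy => by
    obtain ⟨z, hzF, hz⟩ := Set.mem_iUnion₂.1 (hF hy)
    exact ⟨z, hzF, hz⟩
  refine ⟨F.biUnion s, fun j hj => ?_, ?_⟩
  · refine sec_eq_of_local (N := SheafOfModules.unit (ModSite.ringSh O))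
      (show Sec (SheafOfModules.unit (ModSite.ringSh O)) W from oRes O hWU (relC Pr l j)) 0 fun y hy => ?_
    obtain ⟨z, hzF, hz⟩ := hcov y hy
    refine ⟨W ⊓ V z, inf_le_left, ⟨hy, hz⟩, ?_⟩
    rw [map_zero]
    refine (oRes_oRes (O := O) hWU (inf_le_left : W ⊓ V z ≤ W) _).trans ?_
    refine ((oRes_oRes (O := O) (i z) (inf_le_right : W ⊓ V z ≤ V z) _).symm.trans ?_)
    rw [hzero z j fun h => hj (Finset.mem_biUnion.2 ⟨z, hzF, h⟩), map_zero]
  · refine sec_eq_of_local _ _ fun y hy => ?_
    obtain ⟨z, hzF, hz⟩ := hcov y hy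
    refine ⟨W ⊓ V z, inf_le_left, ⟨hy, hz⟩, ?_⟩
    rw [map_zero, map_sum]
    refine Eq.trans (Eq.symm ?_) ((congrArg (mRes M (inf_le_right : W ⊓ V z ≤ V z)) (hsum z)).trans (map_zero _))
    rw [map_sum]
    refine (Finset.sum_subset (Finset.subset_biUnion_of_mem s hzF) fun j _ hj => ?_).trans
      (Finset.sum_congr rfl fun j _ => ?_)
    · rw [mRes_smul, hzero z j hj, map_zero, zero_smul]
    · rw [mRes_smul, mRes_smul, oRes_oRes, oRes_oRes, mRes_mRes, mRes_mRes]

include hc hG in
set_option maxHeartbeats 1500000 in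
/-- Finite presentation over a member of the basis on which the finite generators lift. -/
theorem exists_presentation_of_ft {K : Type u} [Fintype K]
    (g : SheafOfModules.free (R := ModSite.ringSh (O.over U)) K ⟶ overMod M U) [Epi g]
    {W : Opens T} (hW : P W) (hWU : W ≤ U) (s : Finset Pr.generators.I)
    (c : K → Pr.generators.I → O.obj.obj (op W))
    (ht : ∀ k, mRes M hWU (imgVec (O.over U) g (ovTop U) k) = ∑ i ∈ s, c k i • mRes M hWU (gens Pr i)) :
    ∃ Q : SheafOfModules.Presentation (M := overMod M W), Q.IsFinite := by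
  classical
  haveI := hG.noeth W hW
  let A := O.obj.obj (op W)
  let t : K → Sec M W := fun k => mRes M hWU (imgVec (O.over U) g (ovTop U) k)
  obtain ⟨n, r, hr⟩ := Submodule.fg_iff_exists_fin_generating_family.1
    (IsNoetherian.noetherian (relsOf A t : Submodule A (K → A)))
  choose S hS hSsum using exists_support Pr hc hW hWU
  refine exists_presentation_of_local (overMod M W) (L := ULift.{u} (Fin n)) t (fun l => r l.down)
    (fun l => mem_relsOf.1 (hr ▸ Submodule.subset_span ⟨l.down, rfl⟩ : r l.down ∈ relsOf A t))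
    (fun V x y hy => ?_) (fun V a ha y hy => ?_)
  · obtain ⟨V', i, s', d, hyV', hd⟩ := exists_local_span g ((leOfHom V.hom).trans hWU) x hy
    refine ⟨ov (i.trans (leOfHom V.hom)), Over.homMk (homOfLE i),
      fun k => if k ∈ s' then d k else 0, ?_, hyV'⟩
    refine hd.trans ?_
    rw [← Finset.sum_subset (Finset.subset_univ s') (fun k _ hk => (congrArg (· • _) (if_neg hk)).trans (zero_smul _ _))]
    refine Finset.sum_congr rfl fun k hk => ?_
    refine Eq.trans ?_ (congrArg (· • _) (if_pos hk)).symm
    exact congrArg (d k • ·) (mRes_mRes hWU (i.trans (leOfHom V.hom)) _).symm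
  · let iV : V.left ≤ W := leOfHom V.hom
    let a' : K → O.obj.obj (op V.left) := a
    let c' : Pr.generators.I → O.obj.obj (op V.left) := fun i => ∑ k, a' k * oRes O iV (c k i)
    have hc' : ∑ i ∈ s, c' i • mRes M (iV.trans hWU) (gens Pr i) = 0 := by
      refine Eq.trans ?_ ha
      simp only [c', Finset.sum_smul]
      rw [Finset.sum_comm]
      refine Finset.sum_congr rfl fun k _ => ?_
      refine Eq.trans ?_ (congrArg (a' k • ·) (congrArg (mRes M iV) (ht k)).symm)
      rw [map_sum, Finset.smul_sum]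
      refine Finset.sum_congr rfl fun i _ => ?_
      rw [mRes_smul, mRes_mRes, mul_smul]
    obtain ⟨V1, j1, L0, b, hy1, hb⟩ := exists_local_rel Pr (iV.trans hWU) s c' hc' hy
    obtain ⟨V2, hV2, hy2, h21⟩ := hG.basis V1 y hy1
    let j2 : V2 ≤ W := (h21.trans j1).trans iV
    have h3 := mem_span_of_eqn hG j2 hW hV2 (L := {l // l ∈ L0}) (fun i => mRes M hWU (gens Pr i)) s t c ht
      (fun l i => oRes O hWU (relC Pr l.1 i)) (fun l => S l.1) (fun l => hS l.1) (fun l => hSsum l.1)
      (fun k => oRes O (h21.trans j1) (a' k)) (fun l => oRes O h21 (b l.1)) fun i => by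
        have h1 := congrArg (oRes O h21) (hb i)
        rw [map_sum] at h1
        refine Eq.trans ?_ (h1.trans ?_)
        · rw [oRes_oRes]
          by_cases hi : i ∈ s
          · simp only [hi, if_true, c', map_sum, map_mul, oRes_oRes]
          · simp only [hi, if_false, map_zero, mul_zero, Finset.sum_const_zero]
        · rw [← Finset.sum_coe_sort L0]
          exact Finset.sum_congr rfl fun l _ => by rw [map_mul, oRes_oRes, oRes_oRes]
    have h4 : (fun k => oRes O (h21.trans j1) (a' k)) ∈ Submodule.span (O.obj.obj (op V2))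
        (Set.range fun l : ULift.{u} (Fin n) => oRes O j2 ∘ r l.down) := by
      refine Submodule.span_le.2 ?_ h3
      rintro _ ⟨z, hz, rfl⟩
      rw [SetLike.mem_coe, ← hr] at hz
      obtain ⟨e, he⟩ := (Submodule.mem_span_range_iff_exists_fun _).1 hz
      refine (Submodule.mem_span_range_iff_exists_fun _).2 ⟨fun l => oRes O j2 (e l.down), funext fun k => ?_⟩
      have := congrArg (oRes O j2) (congrFun he k)
      simp only [Finset.sum_apply, Pi.smul_apply, smul_eq_mul, map_sum, map_mul] at this
      simp only [Finset.sum_apply, Pi.smul_apply, smul_eq_mul, Function.comp_apply]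
      exact (Equiv.sum_comp Equiv.ulift fun l => oRes O j2 (e l) * oRes O j2 (r l k)).trans this
    obtain ⟨d, hd⟩ := (Submodule.mem_span_range_iff_exists_fun _).1 h4
    refine ⟨ov j2, Over.homMk (homOfLE (h21.trans j1)), d, fun k => ?_, hy2⟩
    refine (congrFun hd k).symm.trans ?_
    simp only [Finset.sum_apply, Pi.smul_apply, smul_eq_mul, Function.comp_apply]
    rfl

end Main

include hG in
set_option maxHeartbeats 1000000 in
/-- Finite presentation near a point, from a presentation and finitely many generators. -/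
theorem exists_presentation_at (hc : ∀ V, P V → IsCompact (V : Set T)) {U : Opens T}
    (Pr : SheafOfModules.Presentation (M := overMod M U)) (τ : (overMod M U).GeneratingSections)
    (hτ : τ.IsFiniteType) {x : T} (hxU : x ∈ U) :
    ∃ W : Opens T, x ∈ W ∧ ∃ Q : SheafOfModules.Presentation (M := overMod M W), Q.IsFinite := by
  classical
  haveI := τ.epi
  haveI : Finite τ.I := hτ.finite
  haveI := Fintype.ofFinite τ.I
  haveI := Pr.generators.epi
  choose V iV s c hxV hV using fun k : τ.I => exists_local_span Pr.generators.π (le_refl U)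
    (imgVec (O.over U) τ.π (ovTop U) k) hxU
  obtain ⟨W, hW, hxW, hWV⟩ := hG.basis (U ⊓ Finset.univ.inf V) x
    ⟨hxU, by show x ∈ ((Finset.univ.inf V : Opens T) : Set T); rw [Opens.coe_finset_inf]; simp [hxV]⟩
  have hWk : ∀ k, W ≤ V k := fun k => hWV.trans (inf_le_right.trans (Finset.inf_le (Finset.mem_univ k)))
  have hWU : W ≤ U := hWV.trans inf_le_left
  refine ⟨W, hxW, exists_presentation_of_ft hG Pr hc τ.π hW hWU (Finset.univ.biUnion s)
    (fun k l => if l ∈ s k then oRes O (hWk k) (c k l) else 0) fun k => ?_⟩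
  have h1 := congrArg (mRes M (hWk k)) (hV k)
  rw [mRes_mRes, map_sum] at h1
  refine h1.trans ?_
  rw [← Finset.sum_subset (Finset.subset_biUnion_of_mem s (Finset.mem_univ k))
    (fun l _ hl => by rw [if_neg hl, zero_smul])]
  refine Finset.sum_congr rfl fun l hl => ?_
  rw [if_pos hl, mRes_smul, mRes_mRes]
  exact congrArg (oRes O (hWk k) (c k l) • ·) (congrArg (mRes M hWU) (imgVec_π_top Pr l))

include hG in
/-- Quasi-coherent modules of finite type are finitely presented. -/
theorem isFinitePresentation_of_qcoh_ft (hc : ∀ V, P V → IsCompact (V : Set T))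
    [hq : SheafOfModules.IsQuasicoherent.{u} M] [hf : SheafOfModules.IsFiniteType.{u} M]
    (hres : ∀ {U V : Opens T} (_ : V ≤ U) (_ : SheafOfModules.Presentation (M := overMod M U)),
      Nonempty (SheafOfModules.Presentation (M := overMod M V)))
    (hgen : ∀ {U V : Opens T} (_ : V ≤ U) (σ : (overMod M U).GeneratingSections), σ.IsFiniteType →
      ∃ σ' : (overMod M V).GeneratingSections, σ'.IsFiniteType) :
    SheafOfModules.IsFinitePresentation.{u} M := by
  obtain ⟨q⟩ := hq.nonempty_quasicoherentData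
  obtain ⟨σ, hσ⟩ := hf.exists_localGeneratorsData
  have key : ∀ x : T, ∃ W : Opens T, x ∈ W ∧
      ∃ Q : SheafOfModules.Presentation (M := overMod M W), Q.IsFinite := fun x => by
    classical
    obtain ⟨_, _, ⟨i, ⟨f⟩⟩, hxf⟩ := q.coversTop (⊤ : Opens T) x trivial
    obtain ⟨_, _, ⟨j, ⟨f'⟩⟩, hxf'⟩ := σ.coversTop (⊤ : Opens T) x trivial
    let U : Opens T := q.X i ⊓ σ.X j
    have hxU : x ∈ U := ⟨leOfHom f hxf, leOfHom f' hxf'⟩
    obtain ⟨Pr⟩ := hres (inf_le_left : U ≤ q.X i) (q.presentation i)
    obtain ⟨τ, hτ⟩ := hgen (inf_le_right : U ≤ σ.X j) (σ.generators j) (hσ.isFiniteType j)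
    exact exists_presentation_at hG hc Pr τ hτ hxU
  choose W hxW Q hQ using key
  constructor
  refine ⟨{ I := T, X := W, coversTop := fun V x hx => ?_, presentation := Q }, ?_⟩
  swap
  · constructor
    exact hQ
  exact ⟨V ⊓ W x, homOfLE inf_le_left, ⟨x, ⟨homOfLE inf_le_right⟩⟩, hx, hxW x⟩

end Groth.Agent.FModLib
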