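import Groth.Agent.FModLib.QcohFT
import Groth.Agent.FModLib.PullSys

/-!
# Quasi-coherent modules of finite type on locally noetherian formal schemes
-/

set_option autoImplicit false
set_option backward.isDefEq.respectTransparency false
set_option linter.style.haveILetI false
set_option linter.unusedSectionVars false

universe u

open CategoryTheory CategoryTheory.Limits AlgebraicGeometry Opposite TopologicalSpace
open Groth.Agent.FBlowLib Groth.Agent.DerCompLib

namespace Groth.Agent.FModLib

variable {𝔛 : FSch.Sys.{u}} (h : 𝔛.IsFormal) (hX : 𝔛.IsLocNoethFormal) {M : ModSite.Mod (𝔛.Osh h)}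

theorem nonempty_presentation_le {U V : (𝔛.X 0).Opens} (i : V ≤ U)
    (Pr : SheafOfModules.Presentation (M := overMod M U)) :
    Nonempty (SheafOfModules.Presentation (M := overMod M V)) := by
  let R := ModSite.ringSh (𝔛.Osh h)
  haveI : PreservesColimitsOfSize.{u, u} (SheafOfModules.overMap.{u} R (homOfLE i)) := inferInstance
  exact ⟨(Pr.map (SheafOfModules.overMap.{u} R (homOfLE i))
    (SheafOfModules.overMapUnitIso (R := R) (homOfLE i)).symm).ofIsIso
      ((SheafOfModules.overFunctorMap R (homOfLE i)).hom.app M)⟩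

theorem exists_generators_le {U V : (𝔛.X 0).Opens} (i : V ≤ U) (σ : (overMod M U).GeneratingSections)
    (hσ : σ.IsFiniteType) : ∃ σ' : (overMod M V).GeneratingSections, σ'.IsFiniteType := by
  let R := ModSite.ringSh (𝔛.Osh h)
  haveI : PreservesColimitsOfSize.{u, u} (SheafOfModules.overMap.{u} R (homOfLE i)) := inferInstance
  exact ⟨(σ.map (SheafOfModules.overMap.{u} R (homOfLE i))
    (SheafOfModules.overMapUnitIso (R := R) (homOfLE i)).symm).ofEpi
      ((SheafOfModules.overFunctorMap R (homOfLE i)).hom.app M), ⟨hσ.finite⟩⟩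

include hX in
/-- Quasi-coherent modules of finite type are coherent. -/
theorem isCohF_of_qcoh_ft (hq : SheafOfModules.IsQuasicoherent.{u} M)
    (hf : SheafOfModules.IsFiniteType.{u} M) : FSch.IsCohF 𝔛 h M :=
  isFinitePresentation_of_qcoh_ft (goodRing h hX)
    (fun V (hV : IsAffineOpen V) => hV.isCompact)
    (fun i Pr => nonempty_presentation_le h i Pr) (fun i σ hσ => exists_generators_le h i σ hσ)

include hX in
/-- A quasi-coherent submodule of a coherent module is of finite type. -/
theorem isFiniteType_of_mono {N : ModSite.Mod (𝔛.Osh h)} (hN : FSch.IsCohF 𝔛 h N)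
    (hq : SheafOfModules.IsQuasicoherent.{u} M) (ι : M ⟶ N) [Mono ι] : SheafOfModules.IsFiniteType.{u} M := by
  classical
  obtain ⟨q⟩ := hq.nonempty_quasicoherentData
  have hPC := isPC_of_isCohF h hX N hN
  have key : ∀ x : 𝔛.X 0, ∃ V : (𝔛.X 0).Opens, x ∈ V ∧
      ∃ σ : (overMod M V).GeneratingSections, σ.IsFiniteType := fun x => by
    obtain ⟨_, _, ⟨i, ⟨f⟩⟩, hxf⟩ := q.coversTop (⊤ : (𝔛.X 0).Opens) x trivial
    obtain ⟨V, hV, hxV, hVi⟩ := (goodRing h hX).basis (q.X i) x (leOfHom f hxf)
    obtain ⟨Pr⟩ := nonempty_presentation_le h hVi (q.presentation i)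
    haveI := hPC.finite V hV
    haveI := (goodRing h hX).noeth V hV
    let s : Pr.generators.I → DerCompLib.Sec M V := fun j => gens Pr j
    let A := (𝔛.Osh h).obj.obj (op V)
    obtain ⟨F₀, hF₀⟩ : ∃ F₀ : Finset Pr.generators.I, ∀ j, secMap ι V (s j) ∈
        Submodule.span A ((fun j => secMap ι V (s j)) '' (F₀ : Set Pr.generators.I)) := by
      obtain ⟨G, hG⟩ := IsNoetherian.noetherian
        (Submodule.span A (Set.range fun j => secMap ι V (s j)))
      have hsub : ∀ g ∈ G, ∃ T : Finset Pr.generators.I,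
          g ∈ Submodule.span A ((fun j => secMap ι V (s j)) '' (T : Set Pr.generators.I)) := fun g hg => by
        obtain ⟨c, hc⟩ := Finsupp.mem_span_range_iff_exists_finsupp.1 (hG ▸ Submodule.subset_span hg :
          g ∈ Submodule.span A (Set.range fun j => secMap ι V (s j)))
        refine ⟨c.support, hc ▸ Submodule.sum_mem _ fun j hj => Submodule.smul_mem _ _ ?_⟩
        exact Submodule.subset_span ⟨j, hj, rfl⟩
      choose T hT using hsub
      refine ⟨G.attach.biUnion fun g => T g.1 g.2, fun j => ?_⟩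
      refine Submodule.span_le.2 (fun g hg => ?_)
        (hG.ge (Submodule.subset_span ⟨j, rfl⟩) : secMap ι V (s j) ∈ Submodule.span A (G : Set _))
      refine Submodule.span_mono (Set.image_mono ?_) (hT g hg)
      exact Finset.coe_subset.2 (Finset.subset_biUnion_of_mem (fun g : G => T g.1 g.2) (Finset.mem_attach G ⟨g, hg⟩))
    let N' := overMod M V
    let I₀ : Type u := {j : Pr.generators.I // j ∈ F₀}
    let g := N'.freeHomEquiv.symm fun j : I₀ => mkSec N' (s j.1)
    have hc : ∀ j, ∃ c : I₀ → A, s j = ∑ k, c k • s k.1 := fun j => by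
      have hj := hF₀ j
      rw [Set.image_eq_range] at hj
      obtain ⟨c, hc⟩ := (Submodule.mem_span_range_iff_exists_fun A).1 hj
      refine ⟨c, injective_of_mono ι V ?_⟩
      rw [map_sum, ← hc]
      exact Finset.sum_congr rfl fun k _ => (map_smul _ _ _).symm
    choose c hc using hc
    let F' := SheafOfModules.free (R := ModSite.ringSh ((𝔛.Osh h).over V)) I₀
    let r := F'.freeHomEquiv.symm fun j => mkSec F'
      (∑ k, (show ((𝔛.Osh h).over V).obj.obj (op (ovTop V)) from c j k) • freeVec ((𝔛.Osh h).over V) k (ovTop V))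
    have hr : r ≫ g = Pr.generators.π := free_hom_ext_top fun j => by
      rw [imgVec_comp, imgVec_mkSec, secRes_toTop_self, secMap_comb, imgVec_π_top]
      refine Eq.trans (Finset.sum_congr rfl fun k _ => congrArg (c j k • ·) ?_) (hc j).symm
      exact (imgVec_mkSec N' (fun j : I₀ => s j.1) (ovTop V) k).trans (secRes_toTop_self N' _)
    haveI := Pr.generators.epi
    haveI : Epi g := epi_of_epi_fac hr
    refine ⟨V, hxV, ⟨I₀, fun j : I₀ => mkSec N' (s j.1), ‹Epi g›⟩, ⟨?_⟩⟩
    exact inferInstanceAs (Finite I₀)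
  choose V hxV σ hσ using key
  constructor
  refine ⟨{ I := 𝔛.X 0, X := V, coversTop := fun W x hx => ?_, generators := σ }, ?_⟩
  swap
  · constructor
    exact hσ
  exact ⟨W ⊓ V x, homOfLE inf_le_left, ⟨x, ⟨homOfLE inf_le_right⟩⟩, hx, hxV x⟩

/-- A quotient of a module of finite type is of finite type. -/
theorem isFiniteType_of_epi {N : ModSite.Mod (𝔛.Osh h)} (hM : SheafOfModules.IsFiniteType.{u} M)
    (π : M ⟶ N) [Epi π] : SheafOfModules.IsFiniteType.{u} N := by
  obtain ⟨σ, hσ⟩ := hM.exists_localGeneratorsData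
  haveI : ∀ i, Epi ((ModSite.restr (𝔛.Osh h) (σ.X i)).map π) := fun i => by
    haveI := DerCompLib.preservesColimitsOfShape_restr (𝔛.Osh h) (σ.X i)
    exact CategoryTheory.Functor.map_epi _ π
  constructor
  refine ⟨{ I := σ.I, X := σ.X, coversTop := σ.coversTop,
            generators := fun i => (σ.generators i).ofEpi ((ModSite.restr (𝔛.Osh h) (σ.X i)).map π) }, ?_⟩
  constructor
  exact fun i => ⟨(hσ.isFiniteType i).finite⟩

end Groth.Agent.FModLib
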