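import Groth.Agent.FModLib.RestrSys
import Groth.Agent.DerCompLib.KoszulOrth
import Groth.Agent.SiteDer16.Devissage

/-!
# Quasi-coherent modules on formal schemes are the locally ind-coherent ones
-/

set_option autoImplicit false
set_option backward.isDefEq.respectTransparency false
set_option linter.style.haveILetI false
set_option linter.unusedSectionVars false
set_option maxHeartbeats 800000

universe u

open CategoryTheory CategoryTheory.Limits AlgebraicGeometry Opposite TopologicalSpace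
open Groth.Agent.FBlowLib

namespace Groth.Agent.FModLib

variable {𝔛 : FSch.Sys.{u}} (h : 𝔛.IsFormal) (hX : 𝔛.IsLocNoethFormal) (U : (𝔛.X 0).Opens)

include hX in
theorem locNoeth_sub : (sub h U).IsLocNoethFormal := FSchLib.isLocNoethFormal_restrictOpen h hX U

instance subEquiv_functor_additive : (subEquiv h U).functor.Additive :=
  haveI : PreservesBinaryBiproducts (subEquiv h U).functor :=
    preservesBinaryBiproducts_of_preservesBinaryProducts _
  Functor.additive_of_preservesBinaryBiproducts _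

instance toSub_preservesFiniteLimits : PreservesFiniteLimits (toSub h U) :=
  @comp_preservesFiniteLimits _ _ _ _ _ _ (ModSite.restr (𝔛.Osh h) (opn h U)) (subEquiv h U).functor
    inferInstance inferInstance

instance toSub_preservesFiniteColimits : PreservesFiniteColimits (toSub h U) :=
  @comp_preservesFiniteColimits _ _ _ _ _ _ (ModSite.restr (𝔛.Osh h) (opn h U)) (subEquiv h U).functor
    inferInstance inferInstance

instance toSub_additive : (toSub h U).Additive :=
  haveI : PreservesBinaryBiproducts (toSub h U) := preservesBinaryBiproducts_of_preservesBinaryProducts _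
  Functor.additive_of_preservesBinaryBiproducts _

variable {h U}

theorem top_affine_sub (hU : IsAffineOpen U) : AFF (sub h U) ⊤ := by
  haveI : IsAffine ((sub h U).X 0) :=
    show IsAffineOpen (𝔛.lvU h 0 U) from (lvU_zero_eq h U).symm ▸ hU
  exact isAffineOpen_top _

include hX in
theorem indCoh_toSub_of_presentation {M : FSch.ModF 𝔛 h}
    (Pr : SheafOfModules.Presentation (M := overMod M (opn h U))) :
    indCoh (hsub h U) ((toSub h U).obj M) := by
  let Q := Pr.map (subEquiv h U).functor (subEquivUnit h U).symm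
  haveI := Q.generators.epi
  haveI := Q.relations.epi
  haveI := closed_indCoh (𝔛 := sub h U) (hsub h U)
  refine (indCoh (hsub h U)).prop_of_iso
    (cokernelEpiComp Q.relations.π (kernel.ι Q.generators.π) ≪≫
      (colimit.isColimit _).coconePointUniqueUpToIso
        (Abelian.epiIsCokernelOfKernel _ (limit.isLimit (parallelPair Q.generators.π 0))))
    (ind_cokernel (hsub h U) (locNoeth_sub h hX U) ?_ ?_ _)
  · exact indCoh_free (hsub h U) (locNoeth_sub h hX U) _
  · exact indCoh_free (hsub h U) (locNoeth_sub h hX U) _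

include hX in
theorem nonempty_presentation_of_indCoh_toSub (hU : IsAffineOpen U) {M : FSch.ModF 𝔛 h}
    (hM : indCoh (hsub h U) ((toSub h U).obj M)) :
    Nonempty (SheafOfModules.Presentation (M := overMod M U)) := by
  obtain ⟨α, β, φ, ⟨e⟩⟩ :=
    (indCoh_iff_exists_cokernel_free (hsub h U) (locNoeth_sub h hX U) (top_affine_sub hU) _).1 hM
  let Q : SheafOfModules.Presentation (M := (toSub h U).obj M) :=
    (SheafOfModules.presentationOfIsCokernelFree φ (cokernel.π φ) (cokernel.condition φ)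
      (cokernelIsCokernel φ)).ofIsIso e.hom
  haveI : PreservesColimitsOfSize.{u, u} (subEquiv h U).inverse :=
    (subEquiv h U).symm.toAdjunction.leftAdjoint_preservesColimits
  let Pr := (Q.map (subEquiv h U).inverse
      ((subEquiv h U).unitIso.app _ ≪≫ (subEquiv h U).inverse.mapIso (subEquivUnit h U))).ofIsIso
    ((subEquiv h U).unitIso.inv.app (overMod M (opn h U)))
  exact nonempty_presentation_le h (lvU_zero_eq h U).ge Pr

include hX in
/-- Quasi-coherent modules are ind-coherent on small affine opens. -/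
theorem exists_indCoh_toSub {M : FSch.ModF 𝔛 h} (hM : SheafOfModules.IsQuasicoherent.{u} M)
    (x : 𝔛.X 0) {V : (𝔛.X 0).Opens} (hx : x ∈ V) :
    ∃ W : (𝔛.X 0).Opens, IsAffineOpen W ∧ x ∈ W ∧ W ≤ V ∧
      ∀ W' : (𝔛.X 0).Opens, W' ≤ W → indCoh (hsub h W') ((toSub h W').obj M) := by
  obtain ⟨q⟩ := hM.nonempty_quasicoherentData
  obtain ⟨_, _, ⟨i, ⟨f⟩⟩, hxf⟩ := q.coversTop (⊤ : (𝔛.X 0).Opens) x trivial
  obtain ⟨W, hW, hxW, hWi⟩ := Opens.isBasis_iff_nbhd.mp (𝔛.X 0).isBasis_affineOpens
    (show x ∈ q.X i ⊓ V from ⟨leOfHom f hxf, hx⟩)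
  refine ⟨W, hW, hxW, hWi.trans inf_le_right, fun W' hW' => ?_⟩
  obtain ⟨Pr⟩ := nonempty_presentation_le h
    ((lvU_zero_eq h W').le.trans (hW'.trans (hWi.trans inf_le_left))) (q.presentation i)
  exact indCoh_toSub_of_presentation hX Pr

include hX in
/-- Modules which are ind-coherent near each point on affine opens are quasi-coherent. -/
theorem isQuasicoherent_of_indCoh_toSub {M : FSch.ModF 𝔛 h}
    (hM : ∀ x : 𝔛.X 0, ∃ W : (𝔛.X 0).Opens, IsAffineOpen W ∧ x ∈ W ∧
      indCoh (hsub h W) ((toSub h W).obj M)) : SheafOfModules.IsQuasicoherent.{u} M := by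
  choose W hW hxW hi using hM
  constructor
  refine ⟨{ I := 𝔛.X 0, X := W, coversTop := fun V x hx => ?_,
            presentation := fun x => (nonempty_presentation_of_indCoh_toSub hX (hW x) (hi x)).some }⟩
  exact ⟨W x ⊓ V, homOfLE inf_le_right, ⟨x, ⟨homOfLE inf_le_left⟩⟩, hxW x, hx⟩

include hX in
theorem isQuasicoherent_kernel {F G : FSch.ModF 𝔛 h} (hF : SheafOfModules.IsQuasicoherent.{u} F)
    (hG : SheafOfModules.IsQuasicoherent.{u} G) (φ : F ⟶ G) :
    SheafOfModules.IsQuasicoherent.{u} (kernel φ) := by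
  refine isQuasicoherent_of_indCoh_toSub hX fun x => ?_
  obtain ⟨V, hV, hxV, -, hFV⟩ := exists_indCoh_toSub hX hF x (V := ⊤) trivial
  obtain ⟨W, hW, hxW, hWV, hGW⟩ := exists_indCoh_toSub hX hG x hxV
  refine ⟨W, hW, hxW, ?_⟩
  haveI := closed_indCoh (𝔛 := sub h W) (hsub h W)
  exact (indCoh (hsub h W)).prop_of_iso (PreservesKernel.iso (toSub h W) φ).symm
    (ind_kernel (hsub h W) (locNoeth_sub h hX W) (hFV W hWV) (hGW W le_rfl) _)

include hX in
theorem isQuasicoherent_cokernel {F G : FSch.ModF 𝔛 h} (hF : SheafOfModules.IsQuasicoherent.{u} F)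
    (hG : SheafOfModules.IsQuasicoherent.{u} G) (φ : F ⟶ G) :
    SheafOfModules.IsQuasicoherent.{u} (cokernel φ) := by
  refine isQuasicoherent_of_indCoh_toSub hX fun x => ?_
  obtain ⟨V, hV, hxV, -, hFV⟩ := exists_indCoh_toSub hX hF x (V := ⊤) trivial
  obtain ⟨W, hW, hxW, hWV, hGW⟩ := exists_indCoh_toSub hX hG x hxV
  refine ⟨W, hW, hxW, ?_⟩
  haveI := closed_indCoh (𝔛 := sub h W) (hsub h W)
  exact (indCoh (hsub h W)).prop_of_iso (PreservesCokernel.iso (toSub h W) φ).symm
    (ind_cokernel (hsub h W) (locNoeth_sub h hX W) (hFV W hWV) (hGW W le_rfl) _)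

include hX in
theorem isQuasicoherent_fiveTerm (S : ComposableArrows (FSch.ModF 𝔛 h) 4) (hS : S.Exact)
    (h₀ : SheafOfModules.IsQuasicoherent.{u} (S.obj 0)) (h₁ : SheafOfModules.IsQuasicoherent.{u} (S.obj 1))
    (h₃ : SheafOfModules.IsQuasicoherent.{u} (S.obj 3)) (h₄ : SheafOfModules.IsQuasicoherent.{u} (S.obj 4)) :
    SheafOfModules.IsQuasicoherent.{u} (S.obj 2) := by
  refine isQuasicoherent_of_indCoh_toSub hX fun x => ?_
  obtain ⟨V₀, hV₀, hx₀, -, g₀⟩ := exists_indCoh_toSub hX h₀ x (V := ⊤) trivial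
  obtain ⟨V₁, hV₁, hx₁, le₁, g₁⟩ := exists_indCoh_toSub hX h₁ x hx₀
  obtain ⟨V₃, hV₃, hx₃, le₃, g₃⟩ := exists_indCoh_toSub hX h₃ x hx₁
  obtain ⟨W, hW, hxW, le₄, g₄⟩ := exists_indCoh_toSub hX h₄ x hx₃
  refine ⟨W, hW, hxW, ?_⟩
  haveI : CompactSpace ((sub h W).X 0) := by
    haveI : IsAffine ((sub h W).X 0) :=
      show IsAffineOpen (𝔛.lvU h 0 W) from (lvU_zero_eq h W).symm ▸ hW
    infer_instance
  haveI := isWeakSerre_indCoh (hsub h W) (locNoeth_sub h hX W)
  exact SiteDer16.prop_fiveTerm (indCoh (hsub h W))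
    ((toSub h W).map (S.map' 0 1)) ((toSub h W).map (S.map' 1 2)) ((toSub h W).map (S.map' 2 3))
    ((toSub h W).map (S.map' 3 4)) _ _ _
    ((hS.exact 0).map (toSub h W)) ((hS.exact 1).map (toSub h W)) ((hS.exact 2).map (toSub h W))
    (g₀ W ((le₄.trans le₃).trans le₁)) (g₁ W (le₄.trans le₃)) (g₃ W le₄) (g₄ W le_rfl)

end Groth.Agent.FModLib
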