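import Groth.Agent.FModLib.HomQcoh
import Groth.Agent.SiteTen.RHomDevissage
import Groth.Agent.DCat.SuppOpen

/-!
# `RHom` between modules on a formal scheme keeps quasi-coherence and coherence
-/

set_option autoImplicit false
set_option backward.isDefEq.respectTransparency false
set_option backward.isDefEq.respectTransparency.types false
set_option linter.style.haveILetI false
set_option linter.unusedSectionVars false
set_option maxHeartbeats 1000000

universe u v w

open CategoryTheory CategoryTheory.Limits AlgebraicGeometry Opposite TopologicalSpace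
open Groth.Agent.HTop16

attribute [local instance] CategoryTheory.Abelian.hasFiniteBiproducts
attribute [local instance] HasDerivedCategory.standard

namespace Groth.Agent.FModLib

/-- The preimage of a weak Serre class under an exact functor. -/
theorem isWeakSerre_inverseImage {A : Type w} [Category.{v} A] [Abelian A] {B : Type w} [Category.{v} B] [Abelian B]
    (E : A ⥤ B) [E.Additive] [PreservesFiniteLimits E] [PreservesFiniteColimits E]
    (P : ObjectProperty B) [WSerre.IsWeakSerre P] : WSerre.IsWeakSerre (P.inverseImage E) := by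
  haveI : ObjectProperty.ContainsZero (P.inverseImage E) := by
    obtain ⟨Z, hZ⟩ := HasZeroObject.zero (C := A)
    obtain ⟨Z', hZ', hP⟩ := P.exists_prop_of_containsZero
    exact ⟨⟨Z, hZ, P.prop_of_iso (hZ'.iso (E.map_isZero hZ)) hP⟩⟩
  haveI : ObjectProperty.IsClosedUnderKernels (P.inverseImage E) :=
    ⟨by
      rintro _ ⟨φ, k, hk, hM, hN⟩
      exact P.prop_of_iso ((PreservesKernel.iso E φ).symm ≪≫ E.mapIso ((kernelIsKernel φ).conePointUniqueUpToIso hk))
        (P.prop_kernel (E.map φ) hM hN)⟩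
  haveI : ObjectProperty.IsClosedUnderCokernels (P.inverseImage E) :=
    ⟨by
      rintro _ ⟨φ, k, hk, hM, hN⟩
      exact P.prop_of_iso ((PreservesCokernel.iso E φ).symm ≪≫
        E.mapIso ((cokernelIsCokernel φ).coconePointUniqueUpToIso hk)) (P.prop_cokernel (E.map φ) hM hN)⟩
  haveI : ObjectProperty.IsClosedUnderExtensions (P.inverseImage E) :=
    ⟨fun {S} hS h₁ h₃ => P.prop_X₂_of_shortExact (hS.map_of_exact E) h₁ h₃⟩
  exact {}

variable {𝔛 : FSch.Sys.{u}} (h : 𝔛.IsFormal) (hX : 𝔛.IsLocNoethFormal)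

include hX in
theorem isCohF_free' (I : Type u) [Finite I] : FSch.IsCohF 𝔛 h (SheafOfModules.free I : FSch.ModF 𝔛 h) := by
  classical
  haveI := Fintype.ofFinite I
  haveI := isWeakSerre_isCohF h hX
  let P : ObjectProperty (FSch.ModF 𝔛 h) := fun G => FSch.IsCohF 𝔛 h G
  let q : Fin (Fintype.card I) ≃ I := (Fintype.equivFin I).symm
  refine prop_of_sum P (N := FSch.unitF 𝔛 h)
    (fun k => (Sigma.desc fun j => if j = q k then 𝟙 _ else 0 :
      (SheafOfModules.free I : FSch.ModF 𝔛 h) ⟶ FSch.unitF 𝔛 h))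
    (fun k => SheafOfModules.ιFree (q k)) ?_
    ((goodRing h hX).isFinitePresentation (isPC_unitF h hX))
  refine Cofan.IsColimit.hom_ext (SheafOfModules.isColimitFreeCofan I) _ _ fun j => ?_
  rw [SheafOfModules.freeCofan_inj, Preadditive.comp_sum]
  refine Eq.trans ?_ (Category.comp_id _).symm
  have e' : ∀ k, SheafOfModules.ιFree j ≫ ((Sigma.desc fun j' => if j' = q k then 𝟙 _ else 0 :
      (SheafOfModules.free I : FSch.ModF 𝔛 h) ⟶ FSch.unitF 𝔛 h) ≫
        SheafOfModules.ιFree (q k)) =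
      if j = q k then (SheafOfModules.ιFree (q k)) else 0 := fun k => by
    refine (Sigma.ι_desc_assoc _ _ _).trans ?_
    split_ifs with h
    · exact Category.id_comp _
    · exact zero_comp
  refine (Finset.sum_congr rfl fun k _ => e' k).trans ?_
  rw [Equiv.sum_comp q (fun i => if j = i then (SheafOfModules.ιFree i) else 0)]
  simp

include hX in
/-- A coherent module on an affine formal scheme is a quotient of a finite free one, with coherent kernel. -/
theorem exists_cover_free (htop : AFF 𝔛 ⊤) {M : FSch.ModF 𝔛 h} (hM : FSch.IsCohF 𝔛 h M) :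
    ∃ (I : Type u) (_ : Finite I) (π : (SheafOfModules.free I : FSch.ModF 𝔛 h) ⟶ M),
      Epi π ∧ FSch.IsCohF 𝔛 h (kernel π) := by
  have hPC := isPC_of_isCohF h hX M hM
  haveI := hPC.finite ⊤ htop
  obtain ⟨n, g, hg⟩ := Module.Finite.exists_fin
    (R := (𝔛.Osh h).obj.obj (op ⊤)) (M := DerCompLib.Sec M ⊤)
  let π : (SheafOfModules.free (ULift.{u} (Fin n)) : FSch.ModF 𝔛 h) ⟶ M :=
    M.freeHomEquiv.symm (fun k => famTop M (g k.down))
  haveI hπ : Epi π := by
    refine Abelian.epi_of_cokernel_π_eq_zero π ?_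
    refine hom_ext_top (P := AFF 𝔛) basis_AFF htop hPC fun y => ?_
    have hy : y ∈ Submodule.span ((𝔛.Osh h).obj.obj (op ⊤)) (Set.range g) := hg ▸ Submodule.mem_top
    refine (DerCompLib.secMap (cokernel.π π) ⊤).eqOn_span (g := DerCompLib.secMap 0 ⊤) ?_ hy
    rintro _ ⟨k, rfl⟩
    have h1 := congrFun (congrArg (cokernel π).freeHomEquiv (cokernel.condition π)) ⟨k⟩
    rw [SheafOfModules.freeHomEquiv_comp_apply, Equiv.apply_symm_apply] at h1
    have h2 := congrArg (fun s : (cokernel π).sections => s.1 (op ⊤)) h1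
    refine Eq.trans (congrArg (DerCompLib.secMap (cokernel.π π) ⊤) ?_) (h2.trans ?_)
    · exact (FunctorToTypes.map_id_apply (M.val.presheaf ⋙ CategoryTheory.forget AddCommGrpCat.{u}) (g k)).symm
    · rfl
  haveI := isWeakSerre_isCohF h hX
  let P : ObjectProperty (FSch.ModF 𝔛 h) := fun G => FSch.IsCohF 𝔛 h G
  exact ⟨_, inferInstance, π, hπ, P.prop_kernel π (isCohF_free' h hX (ULift.{u} (Fin n))) hM⟩

include hX in
/-- Coherent modules are coherent on every affine open. -/
theorem isCohF_toSub_affine {M : FSch.ModF 𝔛 h} (hM : FSch.IsCohF 𝔛 h M) {W : (𝔛.X 0).Opens}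
    (hW : IsAffineOpen W) : FSch.IsCohF (sub h W) (hsub h W) ((toSub h W).obj M) := by
  obtain ⟨Pr, hPr⟩ := (goodRing h hX).exists_presentation (isPC_of_isCohF h hX M hM) (U := W) hW
  obtain ⟨Pr', hPr'⟩ := exists_presentation_le h M (lvU_zero_eq h W).le Pr hPr
  let Q := Pr'.map (subEquiv h W).functor (subEquivUnit h W).symm
  haveI := Q.generators.epi
  haveI := Q.relations.epi
  haveI := isWeakSerre_isCohF (hsub h W) (locNoeth_sub h hX W)
  haveI := hPr'.isFiniteType_relations.finite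
  haveI := hPr'.isFiniteType_generators.finite
  let e := cokernelEpiComp Q.relations.π (kernel.ι Q.generators.π) ≪≫
      (colimit.isColimit _).coconePointUniqueUpToIso
        (Abelian.epiIsCokernelOfKernel _ (limit.isLimit (parallelPair Q.generators.π 0)))
  let P : ObjectProperty (FSch.ModF (sub h W) (hsub h W)) := fun G => FSch.IsCohF (sub h W) (hsub h W) G
  exact P.prop_of_iso e (P.prop_cokernel _
    (isCohF_free' (hsub h W) (locNoeth_sub h hX W) Pr'.relations.I)
    (isCohF_free' (hsub h W) (locNoeth_sub h hX W) Pr'.generators.I))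

include hX in
/-- Finitely many quasi-coherent modules are ind-coherent on a common affine neighbourhood. -/
theorem exists_indCoh_toSub_family {ι : Type*} (s : Finset ι) (M : ι → FSch.ModF 𝔛 h)
    (hM : ∀ j ∈ s, SheafOfModules.IsQuasicoherent.{u} (M j)) (x : 𝔛.X 0) :
    ∃ W : (𝔛.X 0).Opens, IsAffineOpen W ∧ x ∈ W ∧
      ∀ W' : (𝔛.X 0).Opens, W' ≤ W → ∀ j ∈ s, indCoh (hsub h W') ((toSub h W').obj (M j)) := by
  classical
  induction s using Finset.induction with
  | empty =>
    obtain ⟨W, hW, hxW, -⟩ := exists_isAffineOpen_mem_and_subset (x := x) (U := ⊤) trivial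
    exact ⟨W, hW, hxW, fun _ _ j hj => absurd hj (Finset.notMem_empty j)⟩
  | insert a s ha ih =>
    obtain ⟨V, -, hxV, hV⟩ := ih fun j hj => hM j (Finset.mem_insert_of_mem hj)
    obtain ⟨W, hW, hxW, hWV, hW'⟩ := exists_indCoh_toSub hX (hM a (Finset.mem_insert_self a s)) x hxV
    refine ⟨W, hW, hxW, fun W' hle j hj => ?_⟩
    rcases Finset.mem_insert.1 hj with rfl | hj
    exacts [hW' W' hle, hV W' (hle.trans hWV) j hj]

include hX in
/-- Cohomology of `RHom`, on an affine open. -/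
theorem prop_toSub_hmod_rhom (F : CochainComplex (FSch.ModF 𝔛 h) ℤ) [ModSite.HasLTensorCx F] [DerComp.HasRHom F]
    (hF : ∀ i : ℤ, FSch.IsCohF 𝔛 h (SiteCmp.HMod (DerivedCategory.Q.obj F) i))
    (m : ℤ) (hFm : ∀ i : ℤ, m ≤ i → IsZero (SiteCmp.HMod (DerivedCategory.Q.obj F) i))
    (G : DerivedCategory (FSch.ModF 𝔛 h))
    (n : ℤ) (hGn : ∀ i : ℤ, i ≤ n → IsZero (SiteCmp.HMod G i)) (i : ℤ)
    {W : (𝔛.X 0).Opens} (hW : IsAffineOpen W) (P : ObjectProperty (FSch.ModF (sub h W) (hsub h W)))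
    [WSerre.IsWeakSerre P]
    (hP : ∀ j, n < j → j ≤ i + m + 2 → P ((toSub h W).obj (SiteCmp.HMod G j))) :
    P ((toSub h W).obj (SiteCmp.HMod ((DerComp.RHom F).obj G) i)) := by
  let S := opn h W
  let O := 𝔛.Osh h
  let E : ModSite.Mod (O.over S) ⥤ FSch.ModF (sub h W) (hsub h W) := (subEquiv h W).functor
  haveI hE : E.IsEquivalence := inferInstanceAs ((subEquiv h W).functor.IsEquivalence)
  haveI : E.Additive := inferInstanceAs ((subEquiv h W).functor.Additive)
  haveI : PreservesColimitsOfSize.{u, u} E := (subEquiv h W).toAdjunction.leftAdjoint_preservesColimits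
  let cohW : ObjectProperty (FSch.ModF (sub h W) (hsub h W)) := fun M => FSch.IsCohF (sub h W) (hsub h W) M
  haveI : WSerre.IsWeakSerre cohW := isWeakSerre_isCohF (hsub h W) (locNoeth_sub h hX W)
  let Q := cohW.inverseImage E
  let R := P.inverseImage E
  haveI : WSerre.IsWeakSerre Q := isWeakSerre_inverseImage E cohW
  haveI : WSerre.IsWeakSerre R := isWeakSerre_inverseImage E P
  have hQ : ∀ M, Q M → ∃ (I : Type u) (_ : Finite I) (π : SheafOfModules.free (R := ModSite.ringSh (O.over S)) I ⟶ M)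
      (_ : Epi π), Q (kernel π) := fun M hM => by
    obtain ⟨I, hI, π, hπ, hk⟩ := exists_cover_free (hsub h W) (locNoeth_sub h hX W) (top_affine_sub hW) hM
    let e : E.obj (SheafOfModules.free (R := ModSite.ringSh (O.over S)) I) ≅
        (SheafOfModules.free I : FSch.ModF (sub h W) (hsub h W)) :=
      PreservesCoproduct.iso E (fun _ : I => SheafOfModules.unit _) ≪≫
        Sigma.mapIso fun _ => subEquivUnit h W
    let π' := E.preimage (e.hom ≫ π)
    have hπ' : E.map π' = e.hom ≫ π := E.map_preimage _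
    haveI : Epi π' := E.epi_of_epi_map (by rw [hπ']; infer_instance)
    refine ⟨I, hI, π', inferInstance, ?_⟩
    exact cohW.prop_of_iso ((kernelIsIsoComp e.hom π).symm ≪≫ kernelIsoOfEq hπ'.symm ≪≫
      (PreservesKernel.iso E π').symm) hk
  let K' := ((ModSite.restr O S).mapHomologicalComplex (ComplexShape.up ℤ)).obj F
  haveI := SiteTen.hasLTensorCx K'
  haveI := SiteTen.hasRHom K'
  obtain ⟨e⟩ := SiteTen.nonempty_restr_rhom O S F K' (Iso.refl _)
  let hd := fun (X : DerivedCategory (ModSite.Mod O)) (j : ℤ) =>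
    DCat.SuppOpen.hdMapIso (ModSite.restr O S) X j
  have hz : ∀ (X : DerivedCategory (ModSite.Mod O)) (j : ℤ), IsZero (SiteCmp.HMod X j) →
      IsZero (SiteCmp.HMod ((DerCompLib.restrD S).obj X) j) := fun X j hj =>
    IsZero.of_iso ((ModSite.restr O S).map_isZero hj) (hd X j)
  let eK : DerivedCategory.Q.obj K' ≅ (DerCompLib.restrD S).obj (DerivedCategory.Q.obj F) :=
    ((ModSite.restr O S).mapDerivedCategoryFactors.app F).symm
  have hK : ∀ j, Q (SiteCmp.HMod (DerivedCategory.Q.obj K') j) := fun j =>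
    Q.prop_of_iso ((hd (DerivedCategory.Q.obj F) j).symm ≪≫ (DerivedCategory.homologyFunctor _ j).mapIso eK.symm)
      (isCohF_toSub_affine h hX (hF j) hW)
  haveI : (DerivedCategory.Q.obj K').IsLE m := by
    rw [DerivedCategory.isLE_iff]
    intro j hj
    exact IsZero.of_iso (hz _ j (hFm j hj.le)) ((DerivedCategory.homologyFunctor _ j).mapIso eK)
  haveI : ((DerCompLib.restrD S).obj G).IsGE (n + 1) := by
    rw [DerivedCategory.isGE_iff]
    intro j hj
    exact hz _ j (hGn j (by omega))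
  have hL : ∀ j ≤ i + m + 2, R (SiteCmp.HMod ((DerCompLib.restrD S).obj G) j) := fun j hj => by
    by_cases hjn : n < j
    · exact R.prop_of_iso (hd G j).symm (hP j hjn hj)
    · obtain ⟨Z, hZ, hRZ⟩ := R.exists_prop_of_containsZero
      exact R.prop_of_iso (hZ.iso (hz _ j (hGn j (by omega)))) hRZ
  have key := SiteTen.prop_hmod_rhom R hQ (fun M hM => by
      obtain ⟨Z, hZ, hQZ⟩ := Q.exists_prop_of_containsZero
      exact Q.prop_of_iso (hZ.iso hM) hQZ) K' hK m
    ((DerCompLib.restrD S).obj G) (n + 1) i _ le_rfl hL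
  exact R.prop_of_iso ((DerivedCategory.homologyFunctor _ i).mapIso (e.app G).symm ≪≫
    hd ((DerComp.RHom F).obj G) i) key

include hX in
theorem isQuasicoherent_hmod_rhom (F : CochainComplex (FSch.ModF 𝔛 h) ℤ) [ModSite.HasLTensorCx F]
    [DerComp.HasRHom F] (hF : ∀ i : ℤ, FSch.IsCohF 𝔛 h (SiteCmp.HMod (DerivedCategory.Q.obj F) i))
    (m : ℤ) (hFm : ∀ i : ℤ, m ≤ i → IsZero (SiteCmp.HMod (DerivedCategory.Q.obj F) i))
    (G : DerivedCategory (FSch.ModF 𝔛 h)) (hG : ∀ i : ℤ, SheafOfModules.IsQuasicoherent.{u} (SiteCmp.HMod G i))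
    (n : ℤ) (hGn : ∀ i : ℤ, i ≤ n → IsZero (SiteCmp.HMod G i)) (i : ℤ) :
    SheafOfModules.IsQuasicoherent.{u} (SiteCmp.HMod ((DerComp.RHom F).obj G) i) := by
  refine isQuasicoherent_of_indCoh_toSub hX fun x => ?_
  obtain ⟨W, hW, hxW, hGW⟩ := exists_indCoh_toSub_family h hX (Finset.Icc (n + 1) (i + m + 2))
    (fun j => SiteCmp.HMod G j) (fun j _ => hG j) x
  refine ⟨W, hW, hxW, ?_⟩
  haveI : CompactSpace ((sub h W).X 0) := by
    haveI : IsAffine ((sub h W).X 0) :=
      show IsAffineOpen (𝔛.lvU h 0 W) from (lvU_zero_eq h W).symm ▸ hW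
    infer_instance
  haveI := isWeakSerre_indCoh (hsub h W) (locNoeth_sub h hX W)
  exact prop_toSub_hmod_rhom h hX F hF m hFm G n hGn i hW _ fun j hj hj' =>
    hGW W le_rfl j (Finset.mem_Icc.2 ⟨hj, hj'⟩)

include hX in
theorem isCohF_hmod_rhom (F : CochainComplex (FSch.ModF 𝔛 h) ℤ) [ModSite.HasLTensorCx F]
    [DerComp.HasRHom F] (hF : ∀ i : ℤ, FSch.IsCohF 𝔛 h (SiteCmp.HMod (DerivedCategory.Q.obj F) i))
    (m : ℤ) (hFm : ∀ i : ℤ, m ≤ i → IsZero (SiteCmp.HMod (DerivedCategory.Q.obj F) i))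
    (G : DerivedCategory (FSch.ModF 𝔛 h)) (hG : ∀ i : ℤ, FSch.IsCohF 𝔛 h (SiteCmp.HMod G i))
    (n : ℤ) (hGn : ∀ i : ℤ, i ≤ n → IsZero (SiteCmp.HMod G i)) (i : ℤ) :
    FSch.IsCohF 𝔛 h (SiteCmp.HMod ((DerComp.RHom F).obj G) i) := by
  refine isCohF_of_qcoh_ft h hX (isQuasicoherent_hmod_rhom h hX F hF m hFm G
    (fun j => (SheafOfModules.IsFinitePresentation.exists_quasicoherentData
      (M := SiteCmp.HMod G j) (self := hG j)).choose.isQuasicoherent) n hGn i)
    (isFiniteType_of_isCohF_toSub h hX fun x => ?_)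
  obtain ⟨W, hW, hxW, -⟩ := exists_isAffineOpen_mem_and_subset (x := x) (U := ⊤) trivial
  refine ⟨W, hW, hxW, ?_⟩
  haveI := isWeakSerre_isCohF (hsub h W) (locNoeth_sub h hX W)
  exact prop_toSub_hmod_rhom h hX F hF m hFm G n hGn i hW
    (fun M => FSch.IsCohF (sub h W) (hsub h W) M) fun j _ _ => isCohF_toSub_affine h hX (hG j) hW

end Groth.Agent.FModLib
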