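import Groth.Agent.FModLib.RealSec
import Groth.Agent.Coherent.FiniteType

/-!
# The module of a system of coherent modules on the levels

On affine opens it has finite complete modules of sections with truncations the sections of the levels,
compatible with base change.
-/

set_option autoImplicit false
set_option backward.isDefEq.respectTransparency false
set_option linter.style.haveILetI false
set_option linter.unusedSectionVars false

universe u

open CategoryTheory CategoryTheory.Limits AlgebraicGeometry Opposite TopologicalSpace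
open Groth.Agent.FBlowLib Groth.Agent.DerCompLib Groth.Agent.Coherent Groth.Agent.PicLib

namespace Groth.Agent.FModLib

variable {𝔛 : FSch.Sys.{u}} (h : 𝔛.IsFormal) (hX : 𝔛.IsLocNoethFormal) (𝔐 : FSch.ModSys 𝔛)

theorem upVal_trSec_toPush (k : ℕ) (U : (𝔛.X 0).Opens)
    (x : DerCompLib.Sec (up h (k + 1) (𝔐.F (k + 1))) U) :
    upVal h (trSec h 𝔐.F 𝔐.toPush k U x) =
      (𝔐.e k).hom.app (𝔛.lvU h k U) (resM _ (𝔛.lvU_le h k U) (pullSec (𝔛.ι k) (upVal h x))) := by
  rw [upVal_trSec]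
  refine Eq.trans (congrArg (resM (𝔐.F k) (𝔛.lvU_le h k U)) ?_)
    (app_resM (𝔐.e k).hom (𝔛.lvU_le h k U) (pullSec (𝔛.ι k) (upVal h x))).symm
  rw [FSch.ModSys.toPush, Adjunction.homEquiv_unit]
  rfl

variable (hM : 𝔐.IsCoh) {V : (𝔛.X 0).Opens} (hV : IsAffineOpen V)

include hM hV in
theorem trSec_surjective (k : ℕ) : Function.Surjective (trSec h 𝔐.F 𝔐.toPush k V) := by
  haveI : Coh.IsQCoh (𝔐.F (k + 1)) := (hM (k + 1)).1
  intro z
  obtain ⟨m, hm⟩ := pullSec_surjective (M := 𝔐.F (k + 1)) (𝔛.ι k)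
    (S13347.isAffineOpen_lvU 𝔛 h (k + 1) V hV) (S13347.isAffineOpen_lvU 𝔛 h k V hV) (𝔛.lvU_le h k V)
    (tr_surjective h hV k) ((𝔐.e k).inv.app _ (upVal h z))
  refine ⟨(upVal h).symm m, (upVal h).injective ?_⟩
  rw [upVal_trSec_toPush, AddEquiv.apply_symm_apply, hm, ← ConcreteCategory.comp_apply,
    ← Scheme.Modules.Hom.comp_app, (𝔐.e k).inv_hom_id]
  rfl

include hX hV in
theorem level_killed (k : ℕ) (G : (𝔛.X k).Modules) :
    jdl h V ^ (k + 1) • (⊤ : Submodule (FBlowLib.Sec 𝔛 h V) (DerCompLib.Sec (up h k G) V)) = ⊥ := by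
  rw [eq_bot_iff, Submodule.smul_le]
  intro r hr m _
  rw [← ((sec_props h hX hV).2 k).2, RingHom.mem_ker] at hr
  rw [Submodule.mem_bot]
  apply (upVal h).injective
  rw [upVal_smul, hr, zero_smul, map_zero]

include hX hV in
theorem mem_smul_of_mem_map_smul (k : ℕ) (G : (𝔛.X k).Modules) (I : Ideal (FBlowLib.Sec 𝔛 h V))
    (x : DerCompLib.Sec (up h k G) V)
    (hx : upVal h x ∈ I.map (proj 𝔛 h k V) • (⊤ : Submodule Γ(𝔛.X k, 𝔛.lvU h k V) Γ(G, 𝔛.lvU h k V))) :
    x ∈ I • (⊤ : Submodule (FBlowLib.Sec 𝔛 h V) (DerCompLib.Sec (up h k G) V)) := by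
  have key : ∀ z : Γ(G, 𝔛.lvU h k V),
      z ∈ I.map (proj 𝔛 h k V) • (⊤ : Submodule Γ(𝔛.X k, 𝔛.lvU h k V) Γ(G, 𝔛.lvU h k V)) →
      (upVal h).symm z ∈ I • (⊤ : Submodule (FBlowLib.Sec 𝔛 h V) (DerCompLib.Sec (up h k G) V)) := by
    intro z hz
    refine Submodule.smul_induction_on hz (fun b hb w _ => ?_) (fun z z' hz hz' => ?_)
    · rw [Ideal.mem_map_iff_of_surjective _ ((sec_props h hX hV).2 k).1] at hb
      obtain ⟨a, ha, rfl⟩ := hb
      rw [show (upVal h).symm (proj 𝔛 h k V a • w) = a • (upVal h).symm w from rfl]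
      exact Submodule.smul_mem_smul ha Submodule.mem_top
    · rw [map_add]; exact add_mem hz hz'
  simpa using key _ hx

include hM hX hV in
theorem ker_trSec (k : ℕ) :
    LinearMap.ker (trSec h 𝔐.F 𝔐.toPush k V) =
      jdl h V ^ (k + 1) • (⊤ : Submodule (FBlowLib.Sec 𝔛 h V) (DerCompLib.Sec (up h (k + 1) (𝔐.F (k + 1))) V)) := by
  haveI : Coh.IsQCoh (𝔐.F (k + 1)) := (hM (k + 1)).1
  refine le_antisymm (fun x hx => ?_) ?_
  · rw [LinearMap.mem_ker] at hx
    have h1 : resM _ (𝔛.lvU_le h k V) (pullSec (𝔛.ι k) (upVal h x)) = 0 := by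
      have h2 := congrArg (fun z => (𝔐.e k).inv.app (𝔛.lvU h k V) (upVal h z)) hx
      simp only [map_zero, upVal_trSec_toPush] at h2
      rw [← h2, ← ConcreteCategory.comp_apply, ← Scheme.Modules.Hom.comp_app, (𝔐.e k).hom_inv_id]
      rfl
    have h3 := pullSec_ker (M := 𝔐.F (k + 1)) (𝔛.ι k) (S13347.isAffineOpen_lvU 𝔛 h (k + 1) V hV)
      (S13347.isAffineOpen_lvU 𝔛 h k V hV) (𝔛.lvU_le h k V) (tr_surjective h hV k) (upVal h x) h1
    refine mem_smul_of_mem_map_smul h hX hV (k + 1) _ _ x ?_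
    have hk : RingHom.ker (tr h k V) = (jdl h V ^ (k + 1)).map (proj 𝔛 h (k + 1) V) := by
      rw [← ((sec_props h hX hV).2 k).2,
        show proj 𝔛 h k V = (tr h k V).comp (proj 𝔛 h (k + 1) V) from
          RingHom.ext fun s => (proj_succ 𝔛 h k V s).symm, ← RingHom.comap_ker,
        Ideal.map_comap_of_surjective _ ((sec_props h hX hV).2 (k + 1)).1]
    rw [← hk]
    exact h3
  · rw [Submodule.smul_le]
    intro r hr m _
    rw [LinearMap.mem_ker, map_smul]
    exact (Submodule.mem_bot _).1 ((level_killed h hX hV k (𝔐.F k)).le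
      (Submodule.smul_mem_smul hr Submodule.mem_top))

include hM hX hV in
theorem finite_level (k : ℕ) :
    Module.Finite (FBlowLib.Sec 𝔛 h V) (DerCompLib.Sec (up h k (𝔐.F k)) V) := by
  haveI : Coh.IsQCoh (𝔐.F k) := (hM k).1
  obtain ⟨n, g, hg⟩ := (finite_sections (𝔐.F k) (locallyFinGen_of_isFT (𝔐.F k) (hM k).2)
    (S13347.isAffineOpen_lvU 𝔛 h k V hV)).exists_fin
  classical
  refine ⟨⟨Finset.univ.image fun j => (upVal h).symm (g j), top_unique fun x _ => ?_⟩⟩
  obtain ⟨c, hc⟩ := (Submodule.mem_span_range_iff_exists_fun _).1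
    (show upVal h x ∈ Submodule.span _ (Set.range g) by rw [hg]; trivial)
  choose a ha using fun j => ((sec_props h hX hV).2 k).1 (c j)
  have : x = ∑ j, a j • (upVal h).symm (g j) := (upVal h).injective (by
    rw [map_sum, ← hc]
    exact Finset.sum_congr rfl fun j _ => by rw [upVal_smul, ha, AddEquiv.apply_symm_apply])
  rw [this]
  exact Submodule.sum_mem _ fun j _ => Submodule.smul_mem _ _ (Submodule.subset_span (by simp))

include hM hX hV in
/-- Sections of the module of a coherent system over an affine open. -/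
theorem real_props :
    Module.Finite (FBlowLib.Sec 𝔛 h V) (DerCompLib.Sec (𝔐.realMod h) V) ∧
      ∀ k, Function.Surjective (rproj h 𝔐.F 𝔐.toPush k V) ∧
        LinearMap.ker (rproj h 𝔐.F 𝔐.toPush k V) =
          jdl h V ^ (k + 1) • (⊤ : Submodule (FBlowLib.Sec 𝔛 h V) (DerCompLib.Sec (𝔐.realMod h) V)) := by
  haveI := (sec_props h hX hV).1
  have := S7852.result (FBlowLib.Sec 𝔛 h V) (jdl h V) (fun k => DerCompLib.Sec (up h k (𝔐.F k)) V)
    (fun k => trSec h 𝔐.F 𝔐.toPush k V) (trSec_surjective h 𝔐 hM hV)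
    (fun k => level_killed h hX hV k (𝔐.F k)) (ker_trSec h hX 𝔐 hM hV)
    (DerCompLib.Sec (𝔐.realMod h) V) (fun k => rproj h 𝔐.F 𝔐.toPush k V)
    (fun k => LinearMap.ext fun x => trSec_rproj h 𝔐.F 𝔐.toPush k V x)
    (fun x hx => rsec_ext h 𝔐.F 𝔐.toPush fun k => (hx k).trans (map_zero _).symm)
    (fun y hy => exists_rsec h 𝔐.F 𝔐.toPush y hy) (finite_level h hX 𝔐 hM hV 0)
  exact ⟨this.1, this.2.2⟩

theorem rproj_mRes (k : ℕ) {U V : (𝔛.X 0).Opens} (i : V ≤ U)
    (x : DerCompLib.Sec (𝔐.realMod h) U) :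
    upVal h (rproj h 𝔐.F 𝔐.toPush k V (mRes (𝔐.realMod h) i x)) =
      resM (𝔐.F k) (FBlow.lvU_mono 𝔛 h k i) (upVal h (rproj h 𝔐.F 𝔐.toPush k U x)) := by
  rw [← upVal_mRes h i]
  exact congrArg _ (secMap_mRes (FSch.realProj 𝔛 h 𝔐.F 𝔐.toPush k) i x)

include hX hM in
/-- The module of a coherent system is compatible with base change on affine opens. -/
theorem isPC_realMod : IsPC (AFF 𝔛) (𝔐.realMod h) := by
  refine ⟨fun U hU => (real_props h hX 𝔐 hM hU).1, fun U V i hU hV => ?_,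
    fun U V i hU hV q s a ha => ?_⟩
  · haveI : Coh.IsQCoh (𝔐.F 0) := (hM 0).1
    haveI := (real_props h hX 𝔐 hM hV).1
    refine span_eq_top_of_sup_smul (jdl_le_jacobson h hX hV) _ (top_unique fun x _ => ?_)
    obtain ⟨n, g, hg⟩ := (finite_sections (𝔐.F 0) (locallyFinGen_of_isFT (𝔐.F 0) (hM 0).2)
      (S13347.isAffineOpen_lvU 𝔛 h 0 U hU)).exists_fin
    choose g' hg' using fun j => ((real_props h hX 𝔐 hM hU).2 0).1 ((upVal h).symm (g j))
    obtain ⟨c, hc⟩ := (Submodule.mem_span_range_iff_exists_fun _).1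
      (show upVal h (rproj h 𝔐.F 𝔐.toPush 0 V x) ∈ Submodule.span _ (Set.range fun j =>
          resM (𝔐.F 0) (FBlow.lvU_mono 𝔛 h 0 i) (g j)) by
        rw [span_resM (S13347.isAffineOpen_lvU 𝔛 h 0 U hU) (S13347.isAffineOpen_lvU 𝔛 h 0 V hV) _ g hg]
        trivial)
    choose c' hc' using fun j => ((sec_props h hX hV).2 0).1 (c j)
    refine Submodule.mem_sup.2 ⟨∑ j, c' j • mRes (𝔐.realMod h) i (g' j),
      Submodule.sum_mem _ fun j _ => Submodule.smul_mem _ _ (Submodule.subset_span ⟨g' j, rfl⟩),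
      x - ∑ j, c' j • mRes (𝔐.realMod h) i (g' j), ?_, add_sub_cancel _ _⟩
    have hk := ((real_props h hX 𝔐 hM hV).2 0).2
    rw [pow_one] at hk
    rw [← hk, LinearMap.mem_ker, map_sub, sub_eq_zero]
    apply (upVal h).injective
    rw [map_sum, map_sum]
    refine hc.symm.trans (Finset.sum_congr rfl fun j _ => ?_)
    rw [map_smul, upVal_smul, hc']
    refine congrArg (c j • ·) (Eq.symm ((rproj_mRes h 𝔐 0 i (g' j)).trans ?_))
    rw [hg', AddEquiv.apply_symm_apply]
  · haveI := isNoetherianRing_sec h hX hU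
    haveI := isNoetherianRing_sec h hX hV
    haveI := (real_props h hX 𝔐 hM hU).1
    refine mem_span_rels_of_levels (res 𝔛 h i) (jdl h U) (jdl h V) (map_jdl_le h i)
      (jdl_le_jacobson h hX hV) (fun n => proj 𝔛 h n U) (fun n => proj 𝔛 h n V)
      (fun n => lres h n i) (fun n x => (proj_res 𝔛 h n i x).symm)
      (fun n => ((sec_props h hX hU).2 n).1) (fun n => ((sec_props h hX hV).2 n).1)
      (fun n => ((sec_props h hX hV).2 n).2.le.trans (Ideal.pow_le_pow_right n.le_succ)) s a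
      (fun n => relsOf Γ(𝔛.X n, 𝔛.lvU h n U) (fun j => upVal h (rproj h 𝔐.F 𝔐.toPush n U (s j))))
      (fun n y hy => ?_) (fun n => ?_)
    · refine Submodule.smul_mono (Ideal.pow_le_pow_right n.le_succ) le_rfl ?_
      rw [← ((real_props h hX 𝔐 hM hU).2 n).2, LinearMap.mem_ker]
      apply (upVal h).injective
      rw [map_sum, map_sum, map_zero]
      refine Eq.trans ?_ (mem_relsOf.1 hy)
      exact Finset.sum_congr rfl fun j _ => by rw [map_smul, upVal_smul]; rfl
    · haveI : Coh.IsQCoh (𝔐.F n) := (hM n).1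
      refine rels_resM (M := 𝔐.F n) (S13347.isAffineOpen_lvU 𝔛 h n U hU)
        (S13347.isAffineOpen_lvU 𝔛 h n V hV) (FBlow.lvU_mono 𝔛 h n i) _ _ ?_
      have := congrArg (fun z => upVal h (rproj h 𝔐.F 𝔐.toPush n V z)) ha
      simp only [map_sum, map_zero] at this
      refine (Finset.sum_congr rfl fun j _ => ?_).trans this
      rw [map_smul, upVal_smul]
      exact congrArg (proj 𝔛 h n V (a j) • ·) (rproj_mRes h 𝔐 n i (s j)).symm

include hX hM in
/-- The projection to a level is an epimorphism. -/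
theorem epi_realProj (k : ℕ) : Epi (FSch.realProj 𝔛 h 𝔐.F 𝔐.toPush k) :=
  epi_of_forall basis_AFF _ fun _ hV => ((real_props h hX 𝔐 hM hV).2 k).1

end Groth.Agent.FModLib
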