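import Groth.Agent.FModLib.Formal

/-!
# Sections of direct images from the levels and of their limits
-/

set_option autoImplicit false
set_option backward.isDefEq.respectTransparency false
set_option linter.style.haveILetI false
set_option linter.unusedSectionVars false
set_option linter.deprecated false

universe u

open CategoryTheory CategoryTheory.Limits AlgebraicGeometry Opposite TopologicalSpace
open Groth.Agent.FBlowLib Groth.Agent.DerCompLib Groth.Agent.Coherent

namespace Groth.Agent.FModLib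

variable {𝔛 : FSch.Sys.{u}} (h : 𝔛.IsFormal)

/-- The direct image of a module on the level `k`. -/
noncomputable abbrev up (k : ℕ) (G : (𝔛.X k).Modules) : ModSite.Mod (𝔛.Osh h) :=
  (FSch.levelMor 𝔛 h k).push.obj G

/-- Sections of the direct image are sections on the level. -/
noncomputable def upVal {k : ℕ} {G : (𝔛.X k).Modules} {U : (𝔛.X 0).Opens} :
    DerCompLib.Sec (up h k G) U ≃+ Γ(G, 𝔛.lvU h k U) :=
  AddEquiv.refl _

theorem upVal_smul {k : ℕ} {G : (𝔛.X k).Modules} {U : (𝔛.X 0).Opens} (r : FBlowLib.Sec 𝔛 h U)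
    (x : DerCompLib.Sec (up h k G) U) :
    upVal h (r • x) = proj 𝔛 h k U r • upVal h x := rfl

theorem upVal_mRes {k : ℕ} {G : (𝔛.X k).Modules} {U V : (𝔛.X 0).Opens} (i : V ≤ U)
    (x : DerCompLib.Sec (up h k G) U) :
    upVal h (mRes (up h k G) i x) = resM G (FBlow.lvU_mono 𝔛 h k i) (upVal h x) := rfl

theorem upVal_map {k : ℕ} {G G' : (𝔛.X k).Modules} (φ : G ⟶ G') {U : (𝔛.X 0).Opens}
    (x : DerCompLib.Sec (up h k G) U) :
    upVal h (secMap ((FSch.levelMor 𝔛 h k).push.map φ) U x) = φ.app (𝔛.lvU h k U) (upVal h x) := rfl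

section Lim

variable (G : ∀ k, (𝔛.X k).Modules) (t : ∀ k, G (k + 1) ⟶ (Scheme.Modules.pushforward (𝔛.ι k)).obj (G k))

/-- The transition map on sections. -/
noncomputable abbrev trSec (k : ℕ) (U : (𝔛.X 0).Opens) :
    DerCompLib.Sec (up h (k + 1) (G (k + 1))) U →ₗ[FBlowLib.Sec 𝔛 h U] DerCompLib.Sec (up h k (G k)) U :=
  secMap ((FSch.levelMor 𝔛 h (k + 1)).push.map (t k) ≫ (FSch.pushCompare 𝔛 h k).app (G k)) U

theorem upVal_trSec (k : ℕ) (U : (𝔛.X 0).Opens) (x : DerCompLib.Sec (up h (k + 1) (G (k + 1))) U) :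
    upVal h (trSec h G t k U x) =
      resM (G k) (𝔛.lvU_le h k U) ((t k).app (𝔛.lvU h (k + 1) U) (upVal h x)) := rfl

/-- The projection of the limit on sections. -/
noncomputable abbrev rproj (k : ℕ) (U : (𝔛.X 0).Opens) :
    DerCompLib.Sec (FSch.realLim 𝔛 h G t) U →ₗ[FBlowLib.Sec 𝔛 h U] DerCompLib.Sec (up h k (G k)) U :=
  secMap (FSch.realProj 𝔛 h G t k) U

theorem trSec_rproj (k : ℕ) (U : (𝔛.X 0).Opens) (x : DerCompLib.Sec (FSch.realLim 𝔛 h G t) U) :
    trSec h G t k U (rproj h G t (k + 1) U x) = rproj h G t k U x :=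
  congrArg (fun φ => secMap φ U x) (FSch.realProj_map 𝔛 h G t k)

/-- Evaluation at an open, to types. -/
noncomputable abbrev evalM (U : (𝔛.X 0).Opens) : ModSite.Mod (𝔛.Osh h) ⥤ Type u :=
  SheafOfModules.evaluation.{u} (ModSite.ringSh (𝔛.Osh h)) (op U) ⋙ forget _

/-- Sections of the limit as a limit of types. -/
noncomputable def isLimitRSec (U : (𝔛.X 0).Opens) :
    IsLimit ((evalM h U).mapCone (limit.cone (FSch.levelSysOf 𝔛 h G t))) :=
  isLimitOfPreserves (evalM h U) (limit.isLimit (FSch.levelSysOf 𝔛 h G t))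

theorem rsec_ext {U : (𝔛.X 0).Opens} {x y : DerCompLib.Sec (FSch.realLim 𝔛 h G t) U}
    (hxy : ∀ k, rproj h G t k U x = rproj h G t k U y) : x = y :=
  (Types.isLimitEquivSections (isLimitRSec h G t U)).injective
    (Subtype.ext (funext fun k => hxy k.unop))

theorem exists_rsec {U : (𝔛.X 0).Opens} (y : ∀ k, DerCompLib.Sec (up h k (G k)) U)
    (hy : ∀ k, trSec h G t k U (y (k + 1)) = y k) :
    ∃ x : DerCompLib.Sec (FSch.realLim 𝔛 h G t) U, ∀ k, rproj h G t k U x = y k := by
  let F := FSch.levelSysOf 𝔛 h G t ⋙ evalM h U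
  have hsucc : ∀ n, F.map (homOfLE (Nat.le_add_right n 1)).op (y (n + 1)) = y n := fun n => by
    change secMap ((FSch.levelSysOf 𝔛 h G t).map (homOfLE (Nat.le_add_right n 1)).op) U (y (n + 1)) = y n
    rw [FSch.levelSysOf_map_succ]
    exact hy n
  have hgen : ∀ (i j : ℕ) (hij : i ≤ j), F.map (homOfLE hij).op (y j) = y i := by
    intro i j hij
    induction j, hij using Nat.le_induction with
    | base => exact FunctorToTypes.map_id_apply F _
    | succ k hik ih =>
      rw [show homOfLE (Nat.le_succ_of_le hik) =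
        homOfLE hik ≫ homOfLE (Nat.le_add_right k 1) from rfl, op_comp, F.map_comp]
      change F.map _ (F.map _ (y (k + 1))) = _
      rw [hsucc]
      exact ih
  refine ⟨(Types.isLimitEquivSections (isLimitRSec h G t U)).symm ⟨fun j => y j.unop, ?_⟩, fun n => ?_⟩
  · rintro ⟨j⟩ ⟨i⟩ g
    exact hgen i j (leOfHom g.unop)
  · exact Types.isLimitEquivSections_symm_apply (isLimitRSec h G t U) _ (op n)

end Lim

end Groth.Agent.FModLib
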