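import Groth.Agent.FModLib.RelTower
import Groth.Agent.FModLib.LevelLim

/-!
# Cohomology of the truncations of a coherent module over an open with finite cohomology
-/

set_option autoImplicit false
set_option backward.isDefEq.respectTransparency false
set_option linter.style.haveILetI false
set_option linter.unusedSectionVars false

universe u

open CategoryTheory CategoryTheory.Limits CategoryTheory.Abelian AlgebraicGeometry Opposite TopologicalSpace
open Groth.Agent.FBlowLib Groth.Agent.DerCompLib Groth.Agent.Coherent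

namespace Groth.Agent.FModLib.Rel

section Generic

variable {X : Scheme.{u}} {A : Type u} [CommRing A] (ψ : A →+* Γ(X, ⊤))

/-- Cohomology of a module as a module over the scalars. -/
noncomputable def toHA (N : X.Modules) (q : ℕ) :
    Sheaf.H (Coh.toAb N) q ≃+ HA ψ N (⊤ : X.Opens) q :=
  HHTopEquiv N q

theorem toHA_natural {N N' : X.Modules} (g : N ⟶ N') (q : ℕ) (x : Sheaf.H (Coh.toAb N) q) :
    toHA ψ N' q (Sheaf.H.map ((toAbFunctor X).map g) q x) = postA ψ g ⊤ q (toHA ψ N q x) :=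
  HHTopEquiv_natural g q x

theorem postA_smulModΓ' (N : X.Modules) (a : A) (q : ℕ) (x : HA ψ N (⊤ : X.Opens) q) :
    postA ψ (Formal.smulModΓ N (ψ a)) ⊤ q x = a • x := rfl

end Generic

variable {𝔛 : FSch.Sys.{u}} (h : 𝔛.IsFormal) (U : (𝔛.X 0).Opens) {A : Type u} [CommRing A]
  (φ : A →+* FBlowLib.Sec 𝔛 h U) {M : ModSite.Mod (𝔛.Osh h)} (hX : 𝔛.IsLocNoethFormal)
  (hM : FSch.IsCohF 𝔛 h M) {J : Ideal A}
  (hJ : ∀ W : U.toScheme.Opens, IsAffineOpen W → jdl h (im U W) = J.map (act h U φ W))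

variable (M) in
/-- The restricted sequence. -/
noncomputable abbrev seqU (k : ℕ) : ShortComplex (CohTop.Ab U.toScheme.toTopCat) :=
  (ShortComplex.mk (kernel.ι (lt' h M k)) (lt' h M k) (kernel.condition _)).map (rAb h U)

/-- Multiplication on the restricted sequences. -/
noncomputable def muSeqU (a : J) (k : ℕ) : seqU h U M k ⟶ seqU h U M (k + 1) where
  τ₁ := muK h U φ hX hJ hM a k
  τ₂ := mu h U φ hX hJ hM a (k + 1)
  τ₃ := mu h U φ hX hJ hM a k
  comm₁₂ := muK_ι h U φ hX hJ hM a k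
  comm₂₃ := mu_lt_comm h U φ hX hJ hM a k

/-- Scalars on the restricted sequences. -/
noncomputable def sclSeqU (a : A) (k : ℕ) : seqU h U M k ⟶ seqU h U M k where
  τ₁ := scl h U φ a _
  τ₂ := scl h U φ a _
  τ₃ := scl h U φ a _
  comm₁₂ := scl_natural h U φ a _
  comm₂₃ := scl_natural h U φ a _

/-- The connecting map, on the restricted kernels. -/
noncomputable def delS (n k : ℕ) :
    Sheaf.H ((rAb h U).obj (up h k (down h k M))) n →+ Sheaf.H (Coh.toAb (lvNU h U M k)) (n + 1) :=
  delGen (shortExact_seq h U hX hM k) (thU h U hX hM k).hom n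

theorem delS_natural {n j k : ℕ} (τ : seqU h U M j ⟶ seqU h U M k) (g : lvNU h U M j ⟶ lvNU h U M k)
    (w : τ.τ₁ ≫ (thU h U hX hM k).hom = (thU h U hX hM j).hom ≫ (toAbFunctor U.toScheme).map g)
    (x : Sheaf.H ((rAb h U).obj (up h j (down h j M))) n) :
    delS h U hX hM n k (Sheaf.H.map τ.τ₃ n x) =
      Sheaf.H.map ((toAbFunctor U.toScheme).map g) (n + 1) (delS h U hX hM n j x) :=
  delGen_natural (shortExact_seq h U hX hM j) (shortExact_seq h U hX hM k) τ (thU h U hX hM j).hom
    (thU h U hX hM k).hom _ w n x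

theorem exists_of_delS_eq_zero {n k : ℕ} (x : Sheaf.H ((rAb h U).obj (up h k (down h k M))) n)
    (hx : delS h U hX hM n k x = 0) : ∃ y, Sheaf.H.map ((rAb h U).map (lt' h M k)) n y = x :=
  exists_of_delGen_eq_zero (shortExact_seq h U hX hM k) (thU h U hX hM k).hom n x hx

/-- The connecting map, to the cohomology on the smallest level. -/
noncomputable def del (n k : ℕ) :
    Sheaf.H ((rAb h U).obj (up h k (down h k M))) n →+
      HA (phi0 h U φ) (lvNU h U M k) (⊤ : U.toScheme.Opens) (n + 1) :=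
  (toHA (phi0 h U φ) (lvNU h U M k) (n + 1)).toAddMonoidHom.comp (delS h U hX hM n k)

theorem del_apply {n k : ℕ} (x : Sheaf.H ((rAb h U).obj (up h k (down h k M))) n) :
    del h U φ hX hM n k x =
      toHA (phi0 h U φ) (lvNU h U M k) (n + 1) (delS h U hX hM n k x) := rfl

theorem del_natural {n j k : ℕ} (τ : seqU h U M j ⟶ seqU h U M k) (g : lvNU h U M j ⟶ lvNU h U M k)
    (w : τ.τ₁ ≫ (thU h U hX hM k).hom = (thU h U hX hM j).hom ≫ (toAbFunctor U.toScheme).map g)
    (x : Sheaf.H ((rAb h U).obj (up h j (down h j M))) n) :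
    del h U φ hX hM n k (Sheaf.H.map τ.τ₃ n x) =
      postA (phi0 h U φ) g ⊤ (n + 1) (del h U φ hX hM n j x) := by
  rw [del_apply, del_apply, delS_natural h U hX hM τ g w x]
  exact toHA_natural (phi0 h U φ) g (n + 1) _

include hX hJ hM in
/-- The images of the transition maps over `U` are eventually constant. -/
theorem exists_stable [IsNoetherianRing A] [CompactSpace U.toScheme] (hfin : FinCoh (phi0 h U φ)) (n : ℕ) :
    ∃ r, ∀ k s, r ≤ s → ∀ x : Sheaf.H ((rAb h U).obj (up h (k + s) (down h (k + s) M))) n,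
      ∃ y : Sheaf.H ((rAb h U).obj (up h (k + (s + 1)) (down h (k + (s + 1)) M))) n,
        TowerML.trc (G := fun k => Sheaf.H ((rAb h U).obj (up h k (down h k M))) n)
          (fun k => Sheaf.H.map ((rAb h U).map (lt' h M k)) n) (s + 1) k y =
        TowerML.trc (G := fun k => Sheaf.H ((rAb h U).obj (up h k (down h k M))) n)
          (fun k => Sheaf.H.map ((rAb h U).map (lt' h M k)) n) s k x := by
  obtain ⟨r, a, ha⟩ := Submodule.fg_iff_exists_fin_generating_family.1 (IsNoetherian.noetherian J)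
  let a' : Fin r → J := fun i => ⟨a i, ha.le (Submodule.subset_span ⟨i, rfl⟩)⟩
  haveI := hX.2.2 0
  haveI : IsLocallyNoetherian U.toScheme := isLocallyNoetherian_of_isOpenImmersion U.ι
  have hN : ∀ k, Coh.IsCoh (lvNU h U M k) := fun k =>
    isCoh_restrict U (isCoh_down h hX _ (isCohF_lvK h hX hM k) 0)
  have hEG := eg_HA (phi0 h U φ) Set.univ (fun N hN _ q => hfin N hN q) r
    (fun k => lvNU h U M k) hN (fun k => Set.subset_univ _) (fun i k => nu h U φ hX hM hJ (a' i) k)
    (fun i j k => nu_comm h U φ hX hM hJ (a' i) (a' j) k) (secEG_nu h U φ hX hM hJ a' ha) (n + 1)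
  refine TowerML.exists_stable _ (fun k => del h U φ hX hM n k)
    (fun k b => Sheaf.H.map (scl h U φ b (up h k (down h k M))) n)
    (fun k b x => ?_) (fun k b x => ?_)
    (fun i k => Sheaf.H.map (mu h U φ hX hJ hM (a' i) k) n)
    (fun i k => postA (phi0 h U φ) (nu h U φ hX hM hJ (a' i) k) ⊤ (n + 1)) (fun i k x => ?_) (fun i k x => ?_)
    (fun i x => ?_) (fun k => hfin _ (hN k) (n + 1)) (fun k x hx => ?_) (fun i j k x => ?_) hEG
  · exact hMap_comm (scl_natural h U φ b (lt' h M k)) n x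
  · exact (del_natural h U φ hX hM (sclSeqU h U φ b k) _ (scl_thU h U φ hX hM b k) x).trans
      (postA_smulModΓ' (phi0 h U φ) _ b (n + 1) _)
  · exact del_natural h U φ hX hM (muSeqU h U φ hX hM hJ (a' i) k) _ (muK_thU h U φ hX hM hJ (a' i) k) x
  · exact hMap_comm (mu_lt_comm h U φ hX hJ hM (a' i) k) n x
  · show Sheaf.H.map ((rAb h U).map (lt' h M 0)) n (Sheaf.H.map (mu h U φ hX hJ hM (a' i) 0) n x) = 0
    rw [← Sheaf.H.map_comp_apply, mu_zero_lt]
    show ((Sheaf.functorH _ n).map (0 : _ ⟶ _)).hom x = 0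
    rw [Functor.map_zero]
    rfl
  · rw [del_apply, AddEquiv.map_eq_zero_iff] at hx
    exact exists_of_delS_eq_zero h U hX hM x hx
  · rw [← postA_comp, ← postA_comp, nu_comm]

/-- Cohomology over `U` of a sheaf, on the restriction. -/
noncomputable def rhoU (G : ModSite.Mod (𝔛.Osh h)) (n : ℕ) :
    CohTop.HU ((abF h).obj G) n U ≃+ Sheaf.H ((rAb h U).obj G) n :=
  ((H'Congr ((abF h).obj G) n (U.ι_image_top.trans rfl).symm).trans
    (H'RestrictEquiv (X := (𝔛.X 0).toTopCat) (U := U.toScheme.toTopCat) U.ι.isOpenEmbedding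
      ((abF h).obj G) ⊤ n)).trans (H'TopEquiv (X := U.toScheme.toTopCat) ((rAb h U).obj G) n)

theorem rhoU_natural {G G' : ModSite.Mod (𝔛.Osh h)} (ψ : G ⟶ G') (n : ℕ)
    (x : CohTop.HU ((abF h).obj G) n U) :
    rhoU h U G' n (CohTop.HUmap ((abF h).map ψ) n U x) = Sheaf.H.map ((rAb h U).map ψ) n (rhoU h U G n x) := by
  refine Eq.trans ?_ (H'TopEquiv_naturality ((rAb h U).map ψ) n _)
  refine congrArg (H'TopEquiv (X := U.toScheme.toTopCat) ((rAb h U).obj G') n) ?_
  refine Eq.trans ?_ (H'RestrictEquiv_naturality U.ι.isOpenEmbedding ((abF h).map ψ) ⊤ n _)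
  exact congrArg _ (H'Congr_naturality ((abF h).map ψ) n _ x)

/-- The transition maps over `U`. -/
noncomputable abbrev tU (M : ModSite.Mod (𝔛.Osh h)) (n k : ℕ) :
    CohTop.HU ((abF h).obj (up h (k + 1) (down h (k + 1) M))) n U →+
      CohTop.HU ((abF h).obj (up h k (down h k M))) n U :=
  CohTop.HUmap ((abF h).map (lt' h M k)) n U

variable (M) in
theorem rhoU_trc (n k : ℕ) : ∀ (s : ℕ) (x : CohTop.HU ((abF h).obj (up h (k + s) (down h (k + s) M))) n U),
    rhoU h U (up h k (down h k M)) n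
        (TowerML.trc (G := fun k => CohTop.HU ((abF h).obj (up h k (down h k M))) n U) (tU h U M n) s k x) =
      TowerML.trc (G := fun k => Sheaf.H ((rAb h U).obj (up h k (down h k M))) n)
        (fun k => Sheaf.H.map ((rAb h U).map (lt' h M k)) n) s k (rhoU h U (up h (k + s) (down h (k + s) M)) n x)
  | 0, _ => rfl
  | s + 1, x => (rhoU_trc n k s _).trans (congrArg _ (rhoU_natural h U (lt' h M (k + s)) n x))

include hX hJ hM in
/-- The images of the transition maps in cohomology over `U` are eventually constant. -/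
theorem exists_stable_HU [IsNoetherianRing A] [CompactSpace U.toScheme] (hfin : FinCoh (phi0 h U φ)) (n : ℕ) :
    ∃ r, ∀ k s, r ≤ s → ∀ x : CohTop.HU ((abF h).obj (up h (k + s) (down h (k + s) M))) n U,
      ∃ y : CohTop.HU ((abF h).obj (up h (k + (s + 1)) (down h (k + (s + 1)) M))) n U,
        TowerML.trc (G := fun k => CohTop.HU ((abF h).obj (up h k (down h k M))) n U) (tU h U M n) (s + 1) k y =
        TowerML.trc (G := fun k => CohTop.HU ((abF h).obj (up h k (down h k M))) n U) (tU h U M n) s k x := by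
  obtain ⟨r, hr⟩ := exists_stable h U φ hX hM hJ hfin n
  refine ⟨r, fun k s hs x => ?_⟩
  obtain ⟨y, hy⟩ := hr k s hs (rhoU h U (up h (k + s) (down h (k + s) M)) n x)
  refine ⟨(rhoU h U (up h (k + (s + 1)) (down h (k + (s + 1)) M)) n).symm y,
    (rhoU h U (up h k (down h k M)) n).injective ?_⟩
  rw [rhoU_trc, rhoU_trc, AddEquiv.apply_symm_apply, hy]

/-- The inverse system in cohomology over `U`. -/
noncomputable abbrev huSys (M : ModSite.Mod (𝔛.Osh h)) (n : ℕ) : ℕᵒᵖ ⥤ AddCommGrpCat.{u} :=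
  downAb h M ⋙ Sheaf.cohomologyPresheafFunctor (Opens.grothendieckTopology (𝔛.X 0).toTopCat) n ⋙
    (evaluation _ _).obj (op U)

variable (M) in
theorem huSys_map (n k : ℕ) (x : CohTop.HU ((abF h).obj (up h (k + 1) (down h (k + 1) M))) n U) :
    ((huSys h U M n).map (homOfLE (Nat.le_succ k)).op).hom x = tU h U M n k x :=
  congrArg (fun g => CohTop.HUmap g n U x) (downAb_map h M k)

include hX hJ hM in
theorem isMittagLeffler_huSys [IsNoetherianRing A] [CompactSpace U.toScheme] (hfin : FinCoh (phi0 h U φ))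
    (n : ℕ) : (huSys h U M n ⋙ forget AddCommGrpCat).IsMittagLeffler :=
  TowerML.isMittagLeffler_of_stable _ (tU h U M n) (huSys_map h U M n)
    (exists_stable_HU h U φ hX hM hJ hfin n)

include hX hM in
/-- Compatible classes over `U` come from one class. -/
theorem exists_HU_levels (n : ℕ) (y : ∀ k, CohTop.HU ((abF h).obj (up h k (down h k M))) n U)
    (hy : ∀ k, tU h U M n k (y (k + 1)) = y k) :
    ∃ x : CohTop.HU ((abF h).obj M) n U,
      ∀ k, CohTop.HUmap ((abF h).map ((FSch.levelMor 𝔛 h k).adj.unit.app M)) n U x = y k := by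
  obtain ⟨e, he⟩ := exists_limit_iso h hX M hM
  obtain ⟨η, hη⟩ := LimCohLib.exists_of_compatible (downAb h M)
    (LimCohLib.detects_freeTests (𝔛.X 0).isBasis_affineOpens)
    (fun k => LimCohLib.acy_freeTests _ fun V hV =>
      hvan_levelAb h (downSys h M) (isCoh_down h hX M hM) V hV k)
    (LimCohLib.lifts (downAb h M) _ (hsurj_levelAb h hX (downSys h M) (isCoh_down h hX M hM)))
    (CohCx.freeSheaf (Opens.grothendieckTopology (𝔛.X 0).toTopCat) U) n y
    fun k => (huSys_map h U M n k (y (k + 1))).trans (hy k)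
  refine ⟨Ext.comp η (Ext.mk₀ e.inv) (add_zero n), fun k => ?_⟩
  show Ext.comp (Ext.comp η (Ext.mk₀ e.inv) (add_zero n)) (Ext.mk₀ _) (add_zero n) = y k
  rw [Ext.comp_assoc_of_third_deg_zero, Ext.mk₀_comp_mk₀, ← he k, e.inv_hom_id_assoc]
  exact hη k

include hX hJ hM in
/-- Classes over `U` vanishing on all truncations vanish. -/
theorem eq_zero_HU_levels [IsNoetherianRing A] [CompactSpace U.toScheme] (hfin : FinCoh (phi0 h U φ)) (n : ℕ)
    (x : CohTop.HU ((abF h).obj M) n U)
    (hx : ∀ k, CohTop.HUmap ((abF h).map ((FSch.levelMor 𝔛 h k).adj.unit.app M)) n U x = 0) : x = 0 := by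
  obtain ⟨e, he⟩ := exists_limit_iso h hX M hM
  suffices h0 : Ext.comp x (Ext.mk₀ e.hom) (add_zero n) = 0 by
    have := congrArg (fun z => Ext.comp z (Ext.mk₀ e.inv) (add_zero n)) h0
    simpa [Ext.comp_assoc_of_third_deg_zero, Ext.mk₀_comp_mk₀, e.hom_inv_id] using this
  have hx' : ∀ k, Ext.comp (Ext.comp x (Ext.mk₀ e.hom) (add_zero n)) (Ext.mk₀ (limit.π (downAb h M) (op k)))
      (add_zero n) = 0 := fun k => by
    rw [Ext.comp_assoc_of_third_deg_zero, Ext.mk₀_comp_mk₀, he k]
    exact hx k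
  generalize Ext.comp x (Ext.mk₀ e.hom) (add_zero n) = η at hx'
  cases n with
  | zero =>
    obtain ⟨g, rfl⟩ := (Ext.mk₀_bijective _ _).2 η
    have hg : g = 0 := by
      refine limit.hom_ext fun j => ?_
      obtain ⟨k⟩ := j
      rw [zero_comp]
      refine (Ext.mk₀_bijective _ _).1 ?_
      rw [← Ext.mk₀_comp_mk₀, Ext.mk₀_zero]
      exact hx' k
    rw [hg, Ext.mk₀_zero]
  | succ p =>
    exact LimCohLib.eq_zero_of_components (downAb h M)
      (LimCohLib.detects_freeTests (𝔛.X 0).isBasis_affineOpens)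
      (fun k => LimCohLib.acy_freeTests _ fun V hV =>
        hvan_levelAb h (downSys h M) (isCoh_down h hX M hM) V hV k)
      (LimCohLib.lifts (downAb h M) _ (hsurj_levelAb h hX (downSys h M) (isCoh_down h hX M hM)))
      (CohCx.freeSheaf (Opens.grothendieckTopology (𝔛.X 0).toTopCat) U) p
      (fun a => LimCohLib.exists_sub_eq_of_isMittagLeffler (huSys h U M p)
        (isMittagLeffler_huSys h U φ hX hM hJ hfin p) a) η hx'

end Groth.Agent.FModLib.Rel
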