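import Groth.Agent.FModLib.LevelML
import Groth.Agent.Coherent.SchemeCoh

/-!
# Scalars and multiplication operators on truncations over an open of the common space

Given `φ : A →+* Γ(U, O_𝔛)` with the ideal of definition generated by `J` on affine opens below `U`.
-/

set_option autoImplicit false
set_option backward.isDefEq.respectTransparency false
set_option linter.style.haveILetI false
set_option linter.unusedSectionVars false

universe u

open CategoryTheory CategoryTheory.Limits AlgebraicGeometry Opposite TopologicalSpace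
open Groth.Agent.FBlowLib Groth.Agent.DerCompLib Groth.Agent.Coherent

namespace Groth.Agent.FModLib.Rel

variable {𝔛 : FSch.Sys.{u}} (h : 𝔛.IsFormal) (U : (𝔛.X 0).Opens)

/-- The image of an open of `U`. -/
noncomputable abbrev im (W : U.toScheme.Opens) : (𝔛.X 0).Opens := U.ι ''ᵁ W

theorem im_le (W : U.toScheme.Opens) : im U W ≤ U := U.ι_image_le W

/-- The underlying sheaf on `U`. -/
noncomputable abbrev rAb : ModSite.Mod (𝔛.Osh h) ⥤ CohTop.Ab U.toScheme.toTopCat :=
  abF h ⋙ restrictSh (X := (𝔛.X 0).toTopCat) (U := U.toScheme.toTopCat) U.ι.isOpenEmbedding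

/-- Maps of abelian sheaves on `U` agreeing on affine opens agree. -/
theorem hom_ext_affine' (h : 𝔛.IsFormal) (U : (𝔛.X 0).Opens) {F G : CohTop.Ab U.toScheme.toTopCat} (α β : F ⟶ G)
    (hαβ : ∀ W : U.toScheme.Opens, IsAffineOpen W → ∀ x, α.hom.app (op W) x = β.hom.app (op W) x) : α = β := by
  apply Sheaf.hom_ext
  refine NatTrans.ext (funext fun W => AddCommGrpCat.ext fun x => ?_)
  choose V hV hxV hVW using fun z : W.unop =>
    Opens.isBasis_iff_nbhd.mp U.toScheme.isBasis_affineOpens z.2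
  refine TopCat.Sheaf.eq_of_locally_eq' G V W.unop (fun z => homOfLE (hVW z)) (fun z hz =>
    Opens.mem_iSup.2 ⟨⟨z, hz⟩, hxV ⟨z, hz⟩⟩) _ _ fun z => ?_
  exact ((ConcreteCategory.congr_hom (α.hom.naturality (homOfLE (hVW z)).op) x).symm.trans
    (hαβ _ (hV z) _)).trans (ConcreteCategory.congr_hom (β.hom.naturality (homOfLE (hVW z)).op) x)

/-- The maps on sections of a map of sheaves on `U`. -/
noncomputable def ev {G G' : ModSite.Mod (𝔛.Osh h)} (ψ : (rAb h U).obj G ⟶ (rAb h U).obj G')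
    (W : U.toScheme.Opens) : DerCompLib.Sec G (im U W) →+ DerCompLib.Sec G' (im U W) :=
  (ψ.hom.app (op W)).hom

theorem ev_comp {G G' G'' : ModSite.Mod (𝔛.Osh h)} (ψ : (rAb h U).obj G ⟶ (rAb h U).obj G')
    (χ : (rAb h U).obj G' ⟶ (rAb h U).obj G'') (W : U.toScheme.Opens) (x : DerCompLib.Sec G (im U W)) :
    ev h U (ψ ≫ χ) W x = ev h U χ W (ev h U ψ W x) := rfl

theorem ev_map {G G' : ModSite.Mod (𝔛.Osh h)} (ψ : G ⟶ G') (W : U.toScheme.Opens)
    (x : DerCompLib.Sec G (im U W)) : ev h U ((rAb h U).map ψ) W x = secMap ψ (im U W) x := rfl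

theorem ev_zero (G G' : ModSite.Mod (𝔛.Osh h)) (W : U.toScheme.Opens) (x : DerCompLib.Sec G (im U W)) :
    ev h U (0 : (rAb h U).obj G ⟶ (rAb h U).obj G') W x = 0 := rfl

theorem ev_ext {G G' : ModSite.Mod (𝔛.Osh h)} {ψ χ : (rAb h U).obj G ⟶ (rAb h U).obj G'}
    (hh : ∀ W : U.toScheme.Opens, IsAffineOpen W → ∀ x, ev h U ψ W x = ev h U χ W x) : ψ = χ :=
  hom_ext_affine' h U ψ χ hh

variable {A : Type u} [CommRing A] (φ : A →+* FBlowLib.Sec 𝔛 h U)

/-- The action of `A` on sections below `U`. -/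
noncomputable def act (W : U.toScheme.Opens) : A →+* FBlowLib.Sec 𝔛 h (im U W) :=
  (res 𝔛 h (im_le U W)).comp φ

theorem act_res {W W' : U.toScheme.Opens} (i : im U W' ≤ im U W) (a : A) :
    res 𝔛 h i (act h U φ W a) = act h U φ W' a :=
  FBlow.IdealSh.map_comp_apply (im_le U W) i _

/-- Multiplication by a scalar, on `U`. -/
noncomputable def scl (a : A) (G : ModSite.Mod (𝔛.Osh h)) : (rAb h U).obj G ⟶ (rAb h U).obj G :=
  ⟨{ app := fun W => AddCommGrpCat.ofHom (DistribSMul.toAddMonoidHom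
      (DerCompLib.Sec G (im U W.unop)) (act h U φ W.unop a))
     naturality := fun W W' g => AddCommGrpCat.ext fun (x : DerCompLib.Sec G (im U W.unop)) => by
       show act h U φ W'.unop a • secRes G ((U.ι.isOpenEmbedding.functor).map g.unop) x =
         secRes G ((U.ι.isOpenEmbedding.functor).map g.unop) (act h U φ W.unop a • x)
       rw [secRes_smul', ← act_res h U φ (leOfHom ((U.ι.isOpenEmbedding.functor).map g.unop))]
       rfl }⟩

theorem scl_app (a : A) (G : ModSite.Mod (𝔛.Osh h)) (W : U.toScheme.Opens)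
    (x : DerCompLib.Sec G (im U W)) : (scl h U φ a G).hom.app (op W) x = act h U φ W a • x := rfl

theorem scl_natural (a : A) {G G' : ModSite.Mod (𝔛.Osh h)} (ψ : G ⟶ G') :
    scl h U φ a G ≫ (rAb h U).map ψ = (rAb h U).map ψ ≫ scl h U φ a G' := by
  apply Sheaf.hom_ext
  ext W x
  exact (secMap ψ (im U W.unop)).map_smul (act h U φ W.unop a) x

theorem rAb_map_app {G G' : ModSite.Mod (𝔛.Osh h)} (ψ : G ⟶ G') (W : U.toScheme.Opens)
    (x : DerCompLib.Sec G (im U W)) : ((rAb h U).map ψ).hom.app (op W) x = secMap ψ (im U W) x := rfl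

variable {J : Ideal A} (hX : 𝔛.IsLocNoethFormal)
  (hJ : ∀ W : U.toScheme.Opens, IsAffineOpen W → jdl h (im U W) = J.map (act h U φ W))
  {M : ModSite.Mod (𝔛.Osh h)} (hM : FSch.IsCohF 𝔛 h M)

include hX hM in
/-- The restricted sequence of a transition map. -/
theorem shortExact_seq (k : ℕ) :
    ((ShortComplex.mk (kernel.ι (lt' h M k)) (lt' h M k) (kernel.condition _)).map (rAb h U)).ShortExact := by
  haveI := epi_levelTrans h hX hM k
  have hS : (ShortComplex.mk (kernel.ι (lt' h M k)) (lt' h M k) (kernel.condition _)).ShortExact :=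
    { exact := ShortComplex.exact_of_f_is_kernel _ (kernelIsKernel (lt' h M k))
      mono_f := inferInstanceAs (Mono (kernel.ι (lt' h M k)))
      epi_g := inferInstanceAs (Epi (lt' h M k)) }
  exact (shortExact_toSheaf hS).map_of_exact (restrictSh (X := (𝔛.X 0).toTopCat) (U := U.toScheme.toTopCat) U.ι.isOpenEmbedding)

include hX hM in
theorem epi_rAb_lt (k : ℕ) : Epi ((rAb h U).map (lt' h M k)) := (shortExact_seq h U hX hM k).epi_g

include hX hJ hM in
theorem scl_lvK (a : J) (k : ℕ) : scl h U φ a (lvK h M k) = 0 := by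
  refine ev_ext h U fun W hW x => ?_
  show act h U φ W (a : A) • x = 0
  exact (Submodule.mem_bot _).1 ((jdl_kills_lvK h hX hM (hW.image_of_isOpenImmersion U.ι) k).le
    (Submodule.smul_mem_smul ((hJ W hW).ge (Ideal.mem_map_of_mem _ a.2)) Submodule.mem_top))

include hX hJ hM in
theorem kill (a : J) (k : ℕ) :
    (rAb h U).map (kernel.ι (lt' h M k)) ≫ scl h U φ a (up h (k + 1) (down h (k + 1) M)) = 0 := by
  rw [← scl_natural, scl_lvK h U φ hX hJ hM a k, zero_comp]

/-- Multiplication by an element of `J`, raising the level. -/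
noncomputable def mu (a : J) (k : ℕ) :
    (rAb h U).obj (up h k (down h k M)) ⟶ (rAb h U).obj (up h (k + 1) (down h (k + 1) M)) :=
  haveI := (shortExact_seq h U hX hM k).epi_g
  (shortExact_seq h U hX hM k).exact.desc (scl h U φ a _) (kill h U φ hX hJ hM a k)

theorem lt_mu (a : J) (k : ℕ) : (rAb h U).map (lt' h M k) ≫ mu h U φ hX hJ hM a k = scl h U φ a _ := by
  haveI := (shortExact_seq h U hX hM k).epi_g
  exact (shortExact_seq h U hX hM k).exact.g_desc _ _

theorem mu_lt (a : J) (k : ℕ) :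
    mu h U φ hX hJ hM a (k + 1) ≫ (rAb h U).map (lt' h M (k + 1)) = scl h U φ a _ := by
  haveI := epi_rAb_lt h U hX hM (k + 1)
  rw [← cancel_epi ((rAb h U).map (lt' h M (k + 1))), ← Category.assoc, lt_mu]
  exact scl_natural h U φ _ _

theorem mu_lt_comm (a : J) (k : ℕ) :
    mu h U φ hX hJ hM a (k + 1) ≫ (rAb h U).map (lt' h M (k + 1)) =
      (rAb h U).map (lt' h M k) ≫ mu h U φ hX hJ hM a k := by
  rw [mu_lt, lt_mu]

theorem scl_comm (a b : A) (G : ModSite.Mod (𝔛.Osh h)) :
    scl h U φ a G ≫ scl h U φ b G = scl h U φ b G ≫ scl h U φ a G := by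
  apply Sheaf.hom_ext
  ext W x
  exact smul_comm (act h U φ W.unop b) (act h U φ W.unop a) (x : DerCompLib.Sec G (im U W.unop))

theorem mu_zero_lt (a : J) : mu h U φ hX hJ hM a 0 ≫ (rAb h U).map (lt' h M 0) = 0 := by
  haveI := epi_rAb_lt h U hX hM 0
  rw [← cancel_epi ((rAb h U).map (lt' h M 0)), ← Category.assoc, lt_mu, comp_zero, scl_natural]
  refine ev_ext h U fun W hW x => ?_
  show act h U φ W (a : A) • secMap (lt' h M 0) (im U W) x = 0
  have := Submodule.smul_mem_smul ((hJ W hW).ge (Ideal.mem_map_of_mem _ a.2))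
    (Submodule.mem_top (x := secMap (lt' h M 0) (im U W) x))
  rw [show jdl h (im U W) = jdl h (im U W) ^ (0 + 1) from (pow_one _).symm,
    level_killed h hX (hW.image_of_isOpenImmersion U.ι) 0 (down h 0 M)] at this
  exact (Submodule.mem_bot _).1 this

theorem mu_scl (a : J) (b : A) (k : ℕ) :
    scl h U φ b _ ≫ mu h U φ hX hJ hM a k = mu h U φ hX hJ hM a k ≫ scl h U φ b _ := by
  haveI := epi_rAb_lt h U hX hM k
  rw [← cancel_epi ((rAb h U).map (lt' h M k)), ← Category.assoc, ← scl_natural, Category.assoc, lt_mu,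
    ← Category.assoc ((rAb h U).map (lt' h M k)), lt_mu, scl_comm]

theorem mu_comm (a b : J) (k : ℕ) :
    mu h U φ hX hJ hM a k ≫ mu h U φ hX hJ hM b (k + 1) =
      mu h U φ hX hJ hM b k ≫ mu h U φ hX hJ hM a (k + 1) := by
  haveI := epi_rAb_lt h U hX hM k
  rw [← cancel_epi ((rAb h U).map (lt' h M k)), ← Category.assoc, ← Category.assoc, lt_mu, lt_mu,
    mu_scl, mu_scl]
  haveI := epi_rAb_lt h U hX hM (k + 1)
  rw [← cancel_epi ((rAb h U).map (lt' h M (k + 1))), ← Category.assoc, ← Category.assoc, lt_mu, lt_mu,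
    scl_comm]

include hX hJ hM in
/-- Multiplication is linear over sections on affine opens. -/
theorem mu_smul (a : J) (k : ℕ) (W : U.toScheme.Opens) (hW : IsAffineOpen W)
    (s : FBlowLib.Sec 𝔛 h (im U W)) (x : DerCompLib.Sec (up h k (down h k M)) (im U W)) :
    ev h U (mu h U φ hX hJ hM a k) W (s • x) = s • ev h U (mu h U φ hX hJ hM a k) W x := by
  have key : ∀ y, ev h U (mu h U φ hX hJ hM a k) W (secMap (lt' h M k) (im U W) y) = act h U φ W a • y :=
    fun y => congrArg (fun ψ => ev h U ψ W y) (lt_mu h U φ hX hJ hM a k)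
  obtain ⟨y, rfl⟩ := (levelTrans_props h hX hM (hW.image_of_isOpenImmersion U.ι) k).1 x
  rw [← map_smul, key, key, smul_comm]

/-- Multiplication on the kernels. -/
noncomputable def muK (a : J) (k : ℕ) : (rAb h U).obj (lvK h M k) ⟶ (rAb h U).obj (lvK h M (k + 1)) :=
  haveI := (shortExact_seq h U hX hM (k + 1)).mono_f
  (shortExact_seq h U hX hM (k + 1)).exact.lift
    ((rAb h U).map (kernel.ι (lt' h M k)) ≫ mu h U φ hX hJ hM a (k + 1))
    (by
      refine (Category.assoc _ _ _).trans ((congrArg (_ ≫ ·) (mu_lt h U φ hX hJ hM a k)).trans ?_)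
      exact kill h U φ hX hJ hM a k)

theorem muK_ι (a : J) (k : ℕ) :
    muK h U φ hX hJ hM a k ≫ (rAb h U).map (kernel.ι (lt' h M (k + 1))) =
      (rAb h U).map (kernel.ι (lt' h M k)) ≫ mu h U φ hX hJ hM a (k + 1) := by
  haveI := (shortExact_seq h U hX hM (k + 1)).mono_f
  exact (shortExact_seq h U hX hM (k + 1)).exact.lift_f _ _

theorem muK_comm (a b : J) (k : ℕ) :
    muK h U φ hX hJ hM a k ≫ muK h U φ hX hJ hM b (k + 1) =
      muK h U φ hX hJ hM b k ≫ muK h U φ hX hJ hM a (k + 1) := by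
  haveI : Mono ((rAb h U).map (kernel.ι (lt' h M (k + 2)))) := (shortExact_seq h U hX hM (k + 2)).mono_f
  rw [← cancel_mono ((rAb h U).map (kernel.ι (lt' h M (k + 2)))), Category.assoc, Category.assoc, muK_ι,
    muK_ι, ← Category.assoc, ← Category.assoc, muK_ι, muK_ι, Category.assoc, Category.assoc, mu_comm]

include hX hJ hM in
theorem muK_smul (a : J) (k : ℕ) (W : U.toScheme.Opens) (hW : IsAffineOpen W)
    (s : FBlowLib.Sec 𝔛 h (im U W)) (x : DerCompLib.Sec (lvK h M k) (im U W)) :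
    ev h U (muK h U φ hX hJ hM a k) W (s • x) = s • ev h U (muK h U φ hX hJ hM a k) W x := by
  refine kernel_sec_injective (lt' h M (k + 1)) (im U W) ?_
  have key : ∀ y, secMap (kernel.ι (lt' h M (k + 1))) (im U W) (ev h U (muK h U φ hX hJ hM a k) W y) =
      ev h U (mu h U φ hX hJ hM a (k + 1)) W (secMap (kernel.ι (lt' h M k)) (im U W) y) := fun y =>
    congrArg (fun ψ => ev h U ψ W y) (muK_ι h U φ hX hJ hM a k)
  rw [key, map_smul, mu_smul h U φ hX hJ hM a (k + 1) W hW, map_smul, key]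

end Groth.Agent.FModLib.Rel
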