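import Groth.Agent.FModLib.RelScalar

/-!
# The kernels of the truncations over an open of the common space, on the scheme of the smallest level
-/

set_option autoImplicit false
set_option backward.isDefEq.respectTransparency false
set_option linter.style.haveILetI false
set_option linter.unusedSectionVars false

universe u

open CategoryTheory CategoryTheory.Limits CategoryTheory.Abelian AlgebraicGeometry Opposite TopologicalSpace
open Groth.Agent.FBlowLib Groth.Agent.DerCompLib Groth.Agent.Coherent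

namespace Groth.Agent.FModLib.Rel

/-- A map of underlying sheaves on sections. -/
noncomputable def abV {X : Scheme.{u}} {M N : X.Modules} (ψ : Coh.toAb M ⟶ Coh.toAb N) (W : X.Opens) :
    Γ(M, W) →+ Γ(N, W) :=
  (ψ.hom.app (op W)).hom

/-- Maps of underlying sheaves of modules linear on affine opens are linear. -/
theorem linear_of_affine {X : Scheme.{u}} {M N : X.Modules} (ψ : Coh.toAb M ⟶ Coh.toAb N)
    (hψ : ∀ W : X.Opens, IsAffineOpen W → ∀ (s : Γ(X, W)) (x : Γ(M, W)),
      abV ψ W (s • x) = s • abV ψ W x)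
    (W : X.Opens) (s : Γ(X, W)) (x : Γ(M, W)) :
    abV ψ W (s • x) = s • abV ψ W x := by
  choose V hV hxV hVW using fun z : W => Opens.isBasis_iff_nbhd.mp X.isBasis_affineOpens z.2
  refine TopCat.Sheaf.eq_of_locally_eq' (Coh.toAb N) V W (fun z => homOfLE (hVW z)) (fun z hz =>
    Opens.mem_iSup.2 ⟨⟨z, hz⟩, hxV ⟨z, hz⟩⟩) _ _ fun z => ?_
  have key : ∀ m : Γ(M, W), N.presheaf.map (homOfLE (hVW z)).op (abV ψ W m) =
      abV ψ (V z) (M.presheaf.map (homOfLE (hVW z)).op m) := fun m =>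
    (ConcreteCategory.congr_hom (ψ.hom.naturality (homOfLE (hVW z)).op) m).symm
  show N.presheaf.map (homOfLE (hVW z)).op _ = N.presheaf.map (homOfLE (hVW z)).op _
  rw [key, Scheme.Modules.map_smul, Scheme.Modules.map_smul, hψ _ (hV z), key]

/-- Morphisms of modules from maps of underlying sheaves linear on affine opens. -/
noncomputable def homOfAb {X : Scheme.{u}} {M N : X.Modules} (ψ : Coh.toAb M ⟶ Coh.toAb N)
    (hψ : ∀ W : X.Opens, IsAffineOpen W → ∀ (s : Γ(X, W)) (x : Γ(M, W)),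
      abV ψ W (s • x) = s • abV ψ W x) : M ⟶ N :=
  ⟨PresheafOfModules.homMk (M₁ := M.val) (M₂ := N.val) ψ.hom fun W s x => linear_of_affine ψ hψ W.unop s x⟩

theorem toAb_homOfAb {X : Scheme.{u}} {M N : X.Modules} (ψ : Coh.toAb M ⟶ Coh.toAb N)
    (hψ : ∀ W : X.Opens, IsAffineOpen W → ∀ (s : Γ(X, W)) (x : Γ(M, W)),
      abV ψ W (s • x) = s • abV ψ W x) :
    (toAbFunctor X).map (homOfAb ψ hψ) = ψ := rfl

/-- Scalars on a restriction to an open. -/
theorem restrict_smul' {X : Scheme.{u}} {V : X.Opens} (M : X.Modules) (W : V.toScheme.Opens)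
    (r : Γ(X, V.ι ''ᵁ W)) (x : Γ(M, V.ι ''ᵁ W)) :
    (show Γ(V.toScheme, W) from r) • (show Γ(M.restrict V.ι, W) from x) = r • x := by
  show ((V.ι.appIso W).inv (show Γ(V.toScheme, W) from r)) • x = r • x
  rw [Scheme.Opens.ι_appIso]
  rfl

variable {𝔛 : FSch.Sys.{u}} (h : 𝔛.IsFormal) (U : (𝔛.X 0).Opens)

/-- The projection to functions on the smallest level. -/
noncomputable def p0 (W : U.toScheme.Opens) : FBlowLib.Sec 𝔛 h (im U W) →+* Γ(U.toScheme, W) :=
  ((𝔛.X 0).presheaf.map (eqToHom (congrArg op (lvU_zero h (im U W))))).hom.comp (proj 𝔛 h 0 (im U W))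

theorem surjective_p0 (hX : 𝔛.IsLocNoethFormal) {W : U.toScheme.Opens} (hW : IsAffineOpen W) :
    Function.Surjective (p0 h U W) :=
  (ConcreteCategory.bijective_of_isIso ((𝔛.X 0).presheaf.map (eqToHom (congrArg op (lvU_zero h (im U W)))))).2.comp
    ((sec_props h hX (hW.image_of_isOpenImmersion U.ι)).2 0).1

theorem p0_res {W W' : U.toScheme.Opens} (i : W' ≤ W) (hi : im U W' ≤ im U W)
    (s : FBlowLib.Sec 𝔛 h (im U W)) :
    p0 h U W' (res 𝔛 h hi s) = U.toScheme.presheaf.map (homOfLE i).op (p0 h U W s) := by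
  show (𝔛.X 0).presheaf.map (eqToHom (congrArg op (lvU_zero h (im U W')))) (proj 𝔛 h 0 (im U W') (res 𝔛 h hi s)) =
    (𝔛.X 0).presheaf.map (U.ι.opensFunctor.map (homOfLE i)).op
      ((𝔛.X 0).presheaf.map (eqToHom (congrArg op (lvU_zero h (im U W)))) (proj 𝔛 h 0 (im U W) s))
  have key : ∀ {a b c b' : (Opens (𝔛.X 0).toTopCat)ᵒᵖ} (g₁ : a ⟶ b) (g₂ : b ⟶ c) (g₃ : a ⟶ b')
      (g₄ : b' ⟶ c) (v : (𝔛.X 0).presheaf.obj a), (𝔛.X 0).presheaf.map g₂ ((𝔛.X 0).presheaf.map g₁ v) =
      (𝔛.X 0).presheaf.map g₄ ((𝔛.X 0).presheaf.map g₃ v) := fun g₁ g₂ g₃ g₄ v => by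
    rw [← ConcreteCategory.comp_apply, ← ConcreteCategory.comp_apply, ← Functor.map_comp, ← Functor.map_comp,
      Subsingleton.elim (g₁ ≫ g₂) (g₃ ≫ g₄)]
  rw [proj_res]
  exact key _ _ _ _ _

variable {A : Type u} [CommRing A] (φ : A →+* FBlowLib.Sec 𝔛 h U)

/-- Scalars as functions on the smallest level. -/
noncomputable def phi0 : A →+* Γ(U.toScheme, ⊤) := (p0 h U ⊤).comp (act h U φ ⊤)

theorem p0_act (W : U.toScheme.Opens) (a : A) :
    p0 h U W (act h U φ W a) = U.toScheme.presheaf.map (homOfLE (le_top (a := W))).op (phi0 h U φ a) := by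
  rw [← act_res h U φ (U.ι.image_mono le_top) a, p0_res h U le_top]
  rfl

variable (M : ModSite.Mod (𝔛.Osh h))

/-- The kernels on the smallest level over `U`. -/
noncomputable abbrev lvNU (k : ℕ) : U.toScheme.Modules := (lvN h M k).restrict U.ι

variable {M} (hX : 𝔛.IsLocNoethFormal) (hM : FSch.IsCohF 𝔛 h M)

/-- The kernels, on the smallest level over `U`. -/
noncomputable def thU (k : ℕ) : (rAb h U).obj (lvK h M k) ≅ Coh.toAb (lvNU h U M k) :=
  haveI := isIso_lvθ h hX hM k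
  (rAb h U).mapIso (asIso (lvθ h M k)) ≪≫
    (restrictSh (X := (𝔛.X 0).toTopCat) (U := U.toScheme.toTopCat) U.ι.isOpenEmbedding).mapIso
      (upZeroIso h (lvN h M k))

/-- The kernels on sections. -/
noncomputable def tv (k : ℕ) (W : U.toScheme.Opens) :
    DerCompLib.Sec (lvK h M k) (im U W) →+ Γ(lvNU h U M k, W) :=
  ((thU h U hX hM k).hom.hom.app (op W)).hom

theorem tv_apply (k : ℕ) (W : U.toScheme.Opens) (x : DerCompLib.Sec (lvK h M k) (im U W)) :
    tv h U hX hM k W x = (lvN h M k).presheaf.map (eqToHom (congrArg op (lvU_zero h (im U W))))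
      (upVal h (secMap (lvθ h M k) (im U W) x)) := rfl

theorem bijective_tv (k : ℕ) (W : U.toScheme.Opens) : Function.Bijective (tv h U hX hM k W) := by
  haveI : IsIso ((thU h U hX hM k).hom.hom.app (op W)) :=
    ((Functor.mapIso (sheafToPresheaf _ _) (thU h U hX hM k)).app (op W)).isIso_hom
  exact ConcreteCategory.bijective_of_isIso ((thU h U hX hM k).hom.hom.app (op W))

theorem tv_smul (k : ℕ) (W : U.toScheme.Opens) (s : FBlowLib.Sec 𝔛 h (im U W))
    (x : DerCompLib.Sec (lvK h M k) (im U W)) :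
    tv h U hX hM k W (s • x) = p0 h U W s • tv h U hX hM k W x := by
  have key : ∀ {a b : (𝔛.X 0).Opens} (g : op a ⟶ op b) (r : Γ(𝔛.X 0, a)) (v : Γ(lvN h M k, a)),
      (lvN h M k).presheaf.map g (r • v) = (𝔛.X 0).presheaf.map g r • (lvN h M k).presheaf.map g v :=
    fun g r v => (lvN h M k).map_smul g.unop r v
  rw [tv_apply, tv_apply, map_smul, upVal_smul]
  exact (key _ _ _).trans (restrict_smul' (lvN h M k) W _ _).symm

variable {J : Ideal A}
  (hJ : ∀ W : U.toScheme.Opens, IsAffineOpen W → jdl h (im U W) = J.map (act h U φ W))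

/-- Multiplication on the smallest level, as a map of sheaves. -/
noncomputable def nuAb (a : J) (k : ℕ) : Coh.toAb (lvNU h U M k) ⟶ Coh.toAb (lvNU h U M (k + 1)) :=
  (thU h U hX hM k).inv ≫ muK h U φ hX hJ hM a k ≫ (thU h U hX hM (k + 1)).hom

theorem nuAb_tv (a : J) (k : ℕ) (W : U.toScheme.Opens) (x : DerCompLib.Sec (lvK h M k) (im U W)) :
    abV (nuAb h U φ hX hM hJ a k) W (tv h U hX hM k W x) =
      tv h U hX hM (k + 1) W (ev h U (muK h U φ hX hJ hM a k) W x) :=
  congrArg (fun ψ => ψ.hom.app (op W) x)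
    ((thU h U hX hM k).hom_inv_id_assoc (muK h U φ hX hJ hM a k ≫ (thU h U hX hM (k + 1)).hom))

theorem nuAb_linear (a : J) (k : ℕ) (W : U.toScheme.Opens) (hW : IsAffineOpen W) (r : Γ(U.toScheme, W))
    (y : Γ(lvNU h U M k, W)) :
    abV (nuAb h U φ hX hM hJ a k) W (r • y) = r • abV (nuAb h U φ hX hM hJ a k) W y := by
  obtain ⟨s, rfl⟩ := surjective_p0 h U hX hW r
  obtain ⟨x, rfl⟩ := (bijective_tv h U hX hM k W).2 y
  rw [← tv_smul, nuAb_tv, nuAb_tv, muK_smul h U φ hX hJ hM a k W hW, tv_smul]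

/-- Multiplication on the smallest level. -/
noncomputable def nu (a : J) (k : ℕ) : lvNU h U M k ⟶ lvNU h U M (k + 1) :=
  homOfAb (nuAb h U φ hX hM hJ a k) fun W hW r y => nuAb_linear h U φ hX hM hJ a k W hW r y

theorem nu_app (a : J) (k : ℕ) (W : U.toScheme.Opens) (x : DerCompLib.Sec (lvK h M k) (im U W)) :
    (nu h U φ hX hM hJ a k).app W (tv h U hX hM k W x) =
      tv h U hX hM (k + 1) W (ev h U (muK h U φ hX hJ hM a k) W x) :=
  nuAb_tv h U φ hX hM hJ a k W x

theorem muK_thU (a : J) (k : ℕ) : muK h U φ hX hJ hM a k ≫ (thU h U hX hM (k + 1)).hom =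
    (thU h U hX hM k).hom ≫ (toAbFunctor U.toScheme).map (nu h U φ hX hM hJ a k) :=
  ((thU h U hX hM k).hom_inv_id_assoc _).symm

theorem nu_comm (a b : J) (k : ℕ) :
    nu h U φ hX hM hJ a k ≫ nu h U φ hX hM hJ b (k + 1) = nu h U φ hX hM hJ b k ≫ nu h U φ hX hM hJ a (k + 1) := by
  refine Scheme.Modules.hom_ext _ _ fun W => AddCommGrpCat.ext fun y => ?_
  obtain ⟨x, rfl⟩ := (bijective_tv h U hX hM k W).2 y
  show (nu h U φ hX hM hJ b (k + 1)).app W ((nu h U φ hX hM hJ a k).app W (tv h U hX hM k W x)) =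
    (nu h U φ hX hM hJ a (k + 1)).app W ((nu h U φ hX hM hJ b k).app W (tv h U hX hM k W x))
  rw [nu_app, nu_app, nu_app, nu_app, ← ev_comp, ← ev_comp, muK_comm]

theorem scl_thU (a : A) (k : ℕ) : scl h U φ a (lvK h M k) ≫ (thU h U hX hM k).hom =
    (thU h U hX hM k).hom ≫ (toAbFunctor U.toScheme).map (Formal.smulModΓ (lvNU h U M k) (phi0 h U φ a)) := by
  apply Sheaf.hom_ext
  refine NatTrans.ext (funext fun W => AddCommGrpCat.ext fun (x : DerCompLib.Sec (lvK h M k) (im U W.unop)) => ?_)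
  show tv h U hX hM k W.unop (act h U φ W.unop a • x) =
    abV ((toAbFunctor U.toScheme).map (Formal.smulModΓ (lvNU h U M k) (phi0 h U φ a))) W.unop
      (tv h U hX hM k W.unop x)
  rw [tv_smul, p0_act]
  rfl

/-- The system over `U` is generated in degree `0`. -/
theorem secEG_nu {r : ℕ} (a : Fin r → J) (ha : Ideal.span (Set.range fun i => (a i : A)) = J) :
    SecEG (fun k => lvNU h U M k) fun i k => nu h U φ hX hM hJ (a i) k := by
  intro W hW
  have hV := hW.image_of_isOpenImmersion U.ι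
  refine ⟨0, fun k _ y => ?_⟩
  obtain ⟨z, rfl⟩ := (bijective_tv h U hX hM (k + 1) W).2 y
  have hzk : secMap (kernel.ι (lt' h M (k + 1))) (im U W) z ∈
      Ideal.span (Set.range fun i => act h U φ W (a i)) • (jdl h (im U W) ^ (k + 1) •
        (⊤ : Submodule (FBlowLib.Sec 𝔛 h (im U W))
          (DerCompLib.Sec (up h (k + 2) (down h (k + 2) M)) (im U W)))) := by
    have e : Ideal.span (Set.range fun i => act h U φ W (a i)) = jdl h (im U W) := by
      rw [hJ W hW]
      refine Eq.trans ?_ (congrArg (Ideal.map (act h U φ W)) ha)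
      rw [Ideal.map_span, ← Set.range_comp]
      rfl
    rw [e, ← Submodule.smul_assoc, smul_eq_mul, ← pow_succ', ← (levelTrans_props h hX hM hV (k + 1)).2,
      LinearMap.mem_ker]
    exact kernel_sec_condition _ _ z
  obtain ⟨w, hw, hsum⟩ := exists_sum_of_mem_span_smul _ hzk
  have hw' : ∀ i, secMap (lt' h M k) (im U W) (secMap (lt' h M (k + 1)) (im U W) (w i)) = 0 := fun i => by
    rw [← LinearMap.mem_ker, (levelTrans_props h hX hM hV k).2]
    have := Submodule.mem_map_of_mem (f := secMap (lt' h M (k + 1)) (im U W)) (hw i)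
    rw [Submodule.map_smul''] at this
    exact Submodule.smul_mono le_rfl le_top this
  choose z' hz' using fun i => exists_kernel_sec (lt' h M k) (im U W) _ (hw' i)
  refine ⟨fun i => tv h U hX hM k W (z' i), ?_⟩
  have hzz : z = ∑ i, ev h U (muK h U φ hX hJ hM (a i) k) W (z' i) := by
    refine kernel_sec_injective (lt' h M (k + 1)) (im U W) ?_
    rw [map_sum, ← hsum]
    refine Finset.sum_congr rfl fun i _ => ?_
    rw [← ev_map, ← ev_comp, muK_ι, ev_comp, ev_map, hz', ← ev_map h U (lt' h M (k + 1)), ← ev_comp, lt_mu]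
    rfl
  rw [hzz, map_sum]
  exact Finset.sum_congr rfl fun i _ => (nu_app h U φ hX hM hJ (a i) k W (z' i)).symm

end Groth.Agent.FModLib.Rel
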