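import Groth.Agent.FModLib.IndExt
import Groth.Agent.FModLib.IndAffine
import Groth.Agent.FModLib.QcohFormal
import Groth.Agent.FSchLib.Restrict
import Groth.Agent.FBlowLib.Sections
import Mathlib.Topology.Sheaves.Module

/-!
# Modules on an open of a formal scheme as modules on the induced formal scheme
-/

set_option autoImplicit false
set_option backward.isDefEq.respectTransparency false
set_option linter.style.haveILetI false
set_option linter.unusedSectionVars false

universe u

open CategoryTheory CategoryTheory.Limits AlgebraicGeometry Opposite TopologicalSpace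
open Groth.Agent.FBlowLib

namespace Groth.Agent.FModLib

variable {𝔛 : FSch.Sys.{u}} (h : 𝔛.IsFormal) (U : (𝔛.X 0).Opens)

theorem lvU_zero_eq : 𝔛.lvU h 0 U = U := by
  refine TopologicalSpace.Opens.ext (Set.ext fun x => ?_)
  have e2 : (𝔛.gInv h 0) x = x := ConcreteCategory.congr_hom (𝔛.toX_base_gInv h 0) x
  show (𝔛.gInv h 0) x ∈ U ↔ x ∈ U
  rw [e2]

/-- The induced system. -/
noncomputable abbrev sub : FSch.Sys.{u} := 𝔛.restrictOpen h U

theorem hsub : (sub h U).IsFormal := FSchLib.isFormal_restrictOpen h U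

theorem bijective_levelPush (n : ℕ) {V : (𝔛.X 0).Opens} (hV : V ≤ 𝔛.lvU h 0 U) :
    Function.Bijective ((FSch.Hom.levelPush (𝔛.restrictOpenι h U) (hsub h U) h n).hom.app (op V)) := by
  have hle : 𝔛.lvU h n V ≤ (𝔛.lvU h n U).ι.opensRange := by
    rw [Scheme.Opens.opensRange_ι]
    exact FBlow.lvU_mono 𝔛 h n (hV.trans (lvU_zero_eq h U).le)
  haveI := Scheme.Hom.isIso_app (𝔛.lvU h n U).ι (𝔛.lvU h n V) hle
  have heq : (sub h U).lvU (hsub h U) n (((𝔛.restrictOpenι h U : FSch.Hom _ _).app 0) ⁻¹ᵁ V) =
      (𝔛.lvU h n U).ι ⁻¹ᵁ 𝔛.lvU h n V :=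
    (FSch.Hom.lvU_preimage (𝔛.restrictOpenι h U) (hsub h U) h n V).symm
  rw [FSch.Hom.levelPush_app]
  suffices h' : IsIso ((𝔛.lvU h n U).ι.appLE (𝔛.lvU h n V) _
      (FSch.Hom.lvU_preimage (𝔛.restrictOpenι h U) (hsub h U) h n V).ge) from
    (ConcreteCategory.isIso_iff_bijective (C := CommRingCat.{u}) _).1 h'
  rw [Scheme.Hom.appLE]
  refine @IsIso.comp_isIso _ _ _ _ _ _ _ (inferInstanceAs (IsIso ((𝔛.lvU h n U).ι.app (𝔛.lvU h n V)))) ?_
  rw [show homOfLE (FSch.Hom.lvU_preimage (𝔛.restrictOpenι h U) (hsub h U) h n V).ge = eqToHom heq from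
    Subsingleton.elim _ _]
  exact inferInstanceAs (IsIso (((sub h U).X n).presheaf.map (eqToHom heq).op))

/-- The structure map of the inclusion, on sections. -/
noncomputable abbrev shι (V : (𝔛.X 0).Opens) :
    Sec 𝔛 h V ⟶ Sec (sub h U) (hsub h U) (((𝔛.restrictOpenι h U : FSch.Hom _ _).app 0) ⁻¹ᵁ V) :=
  (FSch.Hom.sharp (𝔛.restrictOpenι h U) (hsub h U) h).hom.app (op V)

theorem proj_shι (n : ℕ) (V : (𝔛.X 0).Opens) (s : Sec 𝔛 h V) :
    proj (sub h U) (hsub h U) n _ (shι h U V s) =
      (FSch.Hom.levelPush (𝔛.restrictOpenι h U) (hsub h U) h n).hom.app (op V) (proj 𝔛 h n V s) :=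
  ConcreteCategory.congr_hom
    (congr_app (congrArg (fun k => k.hom) (FSch.Hom.sharp_proj (𝔛.restrictOpenι h U) (hsub h U) h n)) (op V)) s

theorem bijective_shι {V : (𝔛.X 0).Opens} (hV : V ≤ 𝔛.lvU h 0 U) : Function.Bijective (shι h U V) := by
  refine ⟨fun s t hst => sec_ext 𝔛 h fun n => (bijective_levelPush h U n hV).1 ?_, fun t => ?_⟩
  · rw [← proj_shι, ← proj_shι, hst]
  choose y hy using fun n => (bijective_levelPush h U n hV).2 (proj (sub h U) (hsub h U) n _ t)
  obtain ⟨s, hs⟩ := exists_sec 𝔛 h (U := V) y fun n => (bijective_levelPush h U n hV).1 (by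
    have h1 := ConcreteCategory.congr_hom (congr_app (congrArg (fun k => k.hom)
      (FSch.Hom.levelMap_levelPush (𝔛.restrictOpenι h U) (hsub h U) h n)) (op V)) (y (n + 1))
    exact h1.trans ((congrArg _ (hy (n + 1))).trans ((proj_succ (sub h U) (hsub h U) n _ t).trans (hy n).symm)))
  exact ⟨s, sec_ext (sub h U) (hsub h U) fun n => by rw [proj_shι, hs, hy]; rfl⟩

/-- The open as a space. -/
noncomputable abbrev opn : (𝔛.X 0).Opens := 𝔛.lvU h 0 U

/-- The structure sheaf of the induced system is the restricted one. -/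
noncomputable def oshMap :
    (opn h U).sheafRestrict.obj (𝔛.Osh h) ⟶ (sub h U).Osh (hsub h U) :=
  ⟨{ app := fun W => shι h U ((opn h U).ι ''ᵁ W.unop) ≫
        ((sub h U).Osh (hsub h U)).obj.map (eqToHom ((opn h U).ι.preimage_image_eq W.unop).symm).op
     naturality := fun W W' g => by
       have h1 := (FSch.Hom.sharp (𝔛.restrictOpenι h U) (hsub h U) h).hom.naturality
         ((opn h U).ι.opensFunctor.map g.unop).op
       change (𝔛.Osh h).obj.map ((opn h U).ι.opensFunctor.map g.unop).op ≫ _ = _
       rw [← Category.assoc, h1, Category.assoc, Category.assoc]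
       refine congrArg (_ ≫ ·) ?_
       change ((sub h U).Osh (hsub h U)).obj.map _ ≫ _ = _
       rw [← Functor.map_comp, ← Functor.map_comp]
       rfl }⟩

instance isIso_oshMap : IsIso (oshMap h U) := by
  haveI : IsIso (oshMap h U).hom := by
    haveI : ∀ W, IsIso ((oshMap h U).hom.app W) := fun W => by
      haveI : IsIso (shι h U ((opn h U).ι ''ᵁ W.unop)) :=
        (ConcreteCategory.isIso_iff_bijective _).2 (bijective_shι h U (by
          rintro _ ⟨z, -, rfl⟩
          exact z.2))
      exact IsIso.comp_isIso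
    exact NatIso.isIso_of_isIso_app _
  exact @isIso_of_fully_faithful _ _ _ _ (sheafToPresheaf _ _) _ _ _ _ (oshMap h U) (by assumption)

/-- The isomorphism of sheaves of rings. -/
noncomputable def ringIso : (opn h U).sheafRestrict.obj (ModSite.ringSh (𝔛.Osh h)) ≅
    ModSite.ringSh ((sub h U).Osh (hsub h U)) :=
  (sheafCompose _ (forget₂ CommRingCat.{u} RingCat.{u})).mapIso (asIso (oshMap h U))

/-- Change of the sheaf of rings along an isomorphism. -/
noncomputable def ringEquiv {C : Type u} [Category.{u} C] {J : GrothendieckTopology C}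
    {R S : Sheaf J RingCat.{u}} (α : R ≅ S) :
    SheafOfModules.{u} R ≌ SheafOfModules.{u} S :=
  haveI : (CategoryTheory.Equivalence.refl (C := C)).functor.IsContinuous J J := Functor.isContinuous_id J
  haveI : (CategoryTheory.Equivalence.refl (C := C)).inverse.IsContinuous J J := Functor.isContinuous_id J
  SheafOfModules.pushforwardPushforwardEquivalence (CategoryTheory.Equivalence.refl (C := C))
    (φ := α.inv) (ψ := α.hom)
    (by
      refine NatTrans.ext (funext fun W => ?_)
      show R.obj.map _ = α.hom.hom.app W ≫ α.inv.hom.app W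
      rw [← NatTrans.comp_app, ← ObjectProperty.FullSubcategory.comp_hom, α.hom_inv_id]
      exact R.obj.map_id W)
    (by
      refine NatTrans.ext (funext fun W => ?_)
      show α.inv.hom.app W ≫ α.hom.hom.app W ≫ S.obj.map _ = _
      rw [← Category.assoc, ← NatTrans.comp_app, ← ObjectProperty.FullSubcategory.comp_hom, α.inv_hom_id]
      exact (Category.id_comp _).trans (S.obj.map_id W))

/-- The structure sheaves correspond under a change of rings along an isomorphism. -/
noncomputable def ringEquivUnit {C : Type u} [Category.{u} C] {J : GrothendieckTopology C}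
    {R S : Sheaf J RingCat.{u}} (α : R ≅ S) :
    (ringEquiv α).functor.obj (SheafOfModules.unit R) ≅ SheafOfModules.unit S :=
  haveI : Functor.IsContinuous (𝟭 C) J J := Functor.isContinuous_id J
  haveI : IsIso (SheafOfModules.unitToPushforwardObjUnit (F := 𝟭 C) α.inv) := by
    let g := SheafOfModules.unitToPushforwardObjUnit (F := 𝟭 C) α.inv
    haveI : IsIso ((SheafOfModules.toSheaf S).map g) := by
      haveI : ∀ W, IsIso (((sheafToPresheaf J AddCommGrpCat.{u}).map ((SheafOfModules.toSheaf S).map g)).app W) := fun W =>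
        inferInstanceAs (IsIso ((forget₂ RingCat.{u} AddCommGrpCat.{u}).map (α.inv.hom.app W)))
      haveI : IsIso ((sheafToPresheaf J AddCommGrpCat.{u}).map ((SheafOfModules.toSheaf S).map g)) :=
        NatIso.isIso_of_isIso_app _
      exact isIso_of_reflects_iso _ (sheafToPresheaf J AddCommGrpCat.{u})
    exact isIso_of_reflects_iso g (SheafOfModules.toSheaf S)
  (asIso (SheafOfModules.unitToPushforwardObjUnit (F := 𝟭 C) α.inv)).symm

/-- Modules on the open are modules on the induced system. -/
noncomputable def subEquiv :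
    SheafOfModules.{u} ((ModSite.ringSh (𝔛.Osh h)).over (opn h U)) ≌ FSch.ModF (sub h U) (hsub h U) :=
  ((opn h U).sheafOfModulesEquivOver (ModSite.ringSh (𝔛.Osh h))).trans (ringEquiv (ringIso h U))

/-- Restriction to the induced system. -/
noncomputable def toSub : FSch.ModF 𝔛 h ⥤ FSch.ModF (sub h U) (hsub h U) :=
  ModSite.restr (𝔛.Osh h) (opn h U) ⋙ (subEquiv h U).functor

/-- Free modules correspond. -/
noncomputable def subEquivUnit :
    (subEquiv h U).functor.obj (SheafOfModules.unit _) ≅ SheafOfModules.unit _ :=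
  ((ringEquiv (ringIso h U)).functor.mapIso ((opn h U).sheafOfModulesEquivOverUnit _)).trans
    (ringEquivUnit (ringIso h U))

end Groth.Agent.FModLib
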