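import Groth.Agent.FModLib.Scheme
import Groth.Agent.FBlowLib.Sections
import Groth.Agent.S13347
import Groth.Agent.S4339
import Groth.Agent.S2291
import Groth.Agent.S2292
import Groth.Agent.S7852
import Mathlib.AlgebraicGeometry.Noetherian

/-!
# Rings of sections of a locally Noetherian formal scheme on affine opens

Over an affine open `V` the sections of `O_𝔛` form a Noetherian ring, complete for the kernel `jdl V` of the
projection to level `0`, with truncations the rings of the levels.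
-/

set_option autoImplicit false
set_option backward.isDefEq.respectTransparency false
set_option linter.style.haveILetI false
set_option linter.unusedSectionVars false

universe u

open CategoryTheory CategoryTheory.Limits AlgebraicGeometry Opposite TopologicalSpace
open Groth.Agent.FBlowLib

namespace Groth.Agent.FModLib

variable {𝔛 : FSch.Sys.{u}} (h : 𝔛.IsFormal)

/-- The transition map on sections. -/
noncomputable abbrev tr (n : ℕ) (V : (𝔛.X 0).Opens) :
    Γ(𝔛.X (n + 1), 𝔛.lvU h (n + 1) V) →+* Γ(𝔛.X n, 𝔛.lvU h n V) :=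
  ((𝔛.ι n).appLE (𝔛.lvU h (n + 1) V) (𝔛.lvU h n V) (𝔛.lvU_le h n V)).hom

/-- Restriction on a level. -/
noncomputable abbrev lres (n : ℕ) {U V : (𝔛.X 0).Opens} (i : V ≤ U) :
    Γ(𝔛.X n, 𝔛.lvU h n U) →+* Γ(𝔛.X n, 𝔛.lvU h n V) :=
  ((𝔛.X n).presheaf.map (homOfLE (FBlow.lvU_mono 𝔛 h n i)).op).hom

theorem lvU_le_toX (n : ℕ) (V : (𝔛.X 0).Opens) :
    𝔛.lvU h 0 V ≤ 𝔛.toX n ⁻¹ᵁ 𝔛.lvU h n V := by
  induction n with
  | zero => exact le_rfl
  | succ n ih =>
    refine ih.trans ?_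
    exact Scheme.Hom.preimage_mono (𝔛.toX n) (𝔛.lvU_le h n V)

/-- The map of sections to level `0`. -/
noncomputable abbrev toZero (n : ℕ) (V : (𝔛.X 0).Opens) :
    Γ(𝔛.X n, 𝔛.lvU h n V) →+* Γ(𝔛.X 0, 𝔛.lvU h 0 V) :=
  ((𝔛.toX n).appLE (𝔛.lvU h n V) (𝔛.lvU h 0 V) (lvU_le_toX h n V)).hom

theorem toZero_zero (V : (𝔛.X 0).Opens) : toZero h 0 V = RingHom.id _ := by
  have : (𝔛.toX 0).appLE (𝔛.lvU h 0 V) (𝔛.lvU h 0 V) (lvU_le_toX h 0 V) = 𝟙 _ := by
    simp only [FSch.Sys.toX, Scheme.Hom.appLE, Scheme.Hom.id_app]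
    erw [Category.id_comp]
    exact (𝔛.X 0).presheaf.map_id _
  rw [toZero, this]
  rfl

theorem toZero_succ (n : ℕ) (V : (𝔛.X 0).Opens) :
    (toZero h n V).comp (tr h n V) = toZero h (n + 1) V := by
  exact RingHom.ext fun a => ConcreteCategory.congr_hom
    (FSch.appLE_comp_appLE_of_eq (𝔛.toX n) (𝔛.ι n) (𝔛.toX (n + 1)) rfl _ _ _ (𝔛.lvU_le h n V)
      (lvU_le_toX h n V) (lvU_le_toX h (n + 1) V)) a

theorem toZero_proj (n : ℕ) (V : (𝔛.X 0).Opens) (s : Sec 𝔛 h V) :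
    toZero h n V (proj 𝔛 h n V s) = proj 𝔛 h 0 V s := by
  induction n with
  | zero => rw [toZero_zero]; rfl
  | succ n ih =>
    rw [← toZero_succ, RingHom.comp_apply]
    exact (congrArg _ (proj_succ 𝔛 h n V s)).trans ih

/-- The ideal of definition on sections. -/
noncomputable abbrev jdl (V : (𝔛.X 0).Opens) : Ideal (Sec 𝔛 h V) := RingHom.ker (proj 𝔛 h 0 V)

theorem map_jdl_le {U V : (𝔛.X 0).Opens} (i : V ≤ U) : (jdl h U).map (res 𝔛 h i) ≤ jdl h V :=
  Ideal.map_le_iff_le_comap.2 fun s hs => by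
    rw [Ideal.mem_comap, RingHom.mem_ker, proj_res]
    exact (congrArg _ (RingHom.mem_ker.1 hs)).trans (map_zero _)

variable (hX : 𝔛.IsLocNoethFormal) {V : (𝔛.X 0).Opens} (hV : IsAffineOpen V)

include hV in
theorem tr_surjective (n : ℕ) : Function.Surjective (tr h n V) :=
  S13347.surjective_levelMap_app 𝔛 h n V hV

include hV hX in
theorem isNoetherianRing_level (n : ℕ) : IsNoetherianRing Γ(𝔛.X n, 𝔛.lvU h n V) := by
  haveI := hX.2.2 n
  exact IsLocallyNoetherian.component_noetherian ⟨_, S13347.isAffineOpen_lvU 𝔛 h n V hV⟩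

include hV hX in
theorem ker_tr (n : ℕ) :
    RingHom.ker (tr h n V) = RingHom.ker (toZero h (n + 1) V) ^ (n + 1) := by
  haveI := (h n).1
  haveI := FSch.Sys.toX_isClosedImmersion 𝔛 h (n + 1)
  let W : (𝔛.X (n + 1)).affineOpens := ⟨_, S13347.isAffineOpen_lvU 𝔛 h (n + 1) V hV⟩
  have hk : ∀ (m : ℕ) (Z : Scheme.{u}) (f : Z ⟶ 𝔛.X (n + 1)) (P : Z.Opens) (e : P ≤ f ⁻¹ᵁ W.1)
      [IsClosedImmersion f], P = f ⁻¹ᵁ W.1 →
      RingHom.ker (f.appLE W.1 P e).hom = f.ker.ideal W := by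
    intro m Z f P e _ hP
    haveI : IsIso (Z.presheaf.map (homOfLE e).op) := by
      rw [show homOfLE e = eqToHom hP from Subsingleton.elim _ _]
      infer_instance
    rw [Scheme.Hom.ker_apply, Scheme.Hom.appLE, CommRingCat.hom_comp]
    exact RingHom.ker_comp_of_injective _ (ConcreteCategory.bijective_of_isIso _).1
  have h0 : 𝔛.lvU h 0 V = 𝔛.toX (n + 1) ⁻¹ᵁ 𝔛.lvU h (n + 1) V := by
    refine le_antisymm (lvU_le_toX h (n + 1) V) fun x hx => ?_
    change (𝔛.gInv h 0) x ∈ V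
    have e1 : (𝔛.gInv h (n + 1)) ((𝔛.toX (n + 1)).base x) = x :=
      ConcreteCategory.congr_hom (𝔛.toX_base_gInv h (n + 1)) x
    have e2 : (𝔛.gInv h 0) x = x := ConcreteCategory.congr_hom (𝔛.toX_base_gInv h 0) x
    rw [e2, ← e1]
    exact hx
  rw [hk n _ (𝔛.ι n) _ (𝔛.lvU_le h n V) (𝔛.lvU_succ h n V).symm, hX.2.1 n,
    hk 0 _ (𝔛.toX (n + 1)) _ (lvU_le_toX h (n + 1) V) h0, Scheme.IdealSheafData.ideal_pow]
  rfl

include hV hX in
theorem isNoetherianRing_sec : IsNoetherianRing (Sec 𝔛 h V) := by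
  haveI := isNoetherianRing_level h hX hV 1
  exact (S4339.result (fun n => Γ(𝔛.X n, 𝔛.lvU h n V)) (fun n => tr h n V) (tr_surjective h hV)
    (fun n => toZero h n V) (toZero_zero h V) (fun n => toZero_succ h n V) (ker_tr h hX hV)
    (IsNoetherian.noetherian _) (Sec 𝔛 h V) (fun n => proj 𝔛 h n V)
    (fun n => RingHom.ext fun s => proj_succ 𝔛 h n V s)
    (fun x hx => sec_ext 𝔛 h fun n => (hx n).trans (map_zero _).symm)
    (fun y hy => exists_sec 𝔛 h y hy)).2 (isNoetherianRing_level h hX hV 0)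

include hV hX in
theorem sec_props :
    IsAdicComplete (jdl h V) (Sec 𝔛 h V) ∧
      (∀ n, Function.Surjective (proj 𝔛 h n V) ∧ RingHom.ker (proj 𝔛 h n V) = jdl h V ^ (n + 1)) := by
  haveI := isNoetherianRing_level h hX hV 1
  have := S2292.result (fun n => Γ(𝔛.X n, 𝔛.lvU h n V)) (fun n => tr h n V) (tr_surjective h hV)
    (fun n => toZero h n V) (toZero_zero h V) (fun n => toZero_succ h n V) (ker_tr h hX hV)
    (IsNoetherian.noetherian _) (Sec 𝔛 h V) (fun n => proj 𝔛 h n V)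
    (fun n => RingHom.ext fun s => proj_succ 𝔛 h n V s)
    (fun x hx => sec_ext 𝔛 h fun n => (hx n).trans (map_zero _).symm)
    (fun y hy => exists_sec 𝔛 h y hy)
  exact ⟨this.1, this.2.1⟩

include hV hX in
theorem jdl_le_jacobson : jdl h V ≤ Ideal.jacobson ⊥ := by
  haveI := (sec_props h hX hV).1
  exact IsAdicComplete.le_jacobson_bot (jdl h V)

end Groth.Agent.FModLib
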