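import Groth.Agent.FModLib.IndExt
import Groth.Agent.FModLib.RpushDSum
import Groth.Agent.FModLib.FormalRpushDCoh
import Groth.Agent.ModRpush.Sheafify

/-!
# Derived direct images of ind-coherent cohomology complexes along proper morphisms
-/

set_option autoImplicit false
set_option backward.isDefEq.respectTransparency false
set_option linter.style.haveILetI false
set_option linter.unusedSectionVars false
set_option maxHeartbeats 1000000

universe u

open CategoryTheory CategoryTheory.Limits AlgebraicGeometry Opposite TopologicalSpace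
open Groth.Agent.FBlowLib Groth.Agent.DerCompLib Groth.Agent.Coherent

attribute [local instance] HasDerivedCategory.standard

namespace Groth.Agent.FModLib

/-- Functors into presheaves preserve colimits when their values do. -/
theorem preservesColimitsOfShape_whiskered {A B : Type*} [Category A] [Category B] {C D : Type u} [SmallCategory C]
    [SmallCategory D] {Λ : Type u} [SmallCategory Λ] (G : A ⥤ B) (H : B ⥤ (Cᵒᵖ ⥤ AddCommGrpCat.{u})) (w : D ⥤ C)
    [PreservesColimitsOfShape Λ G] (h : ∀ V : D, PreservesColimitsOfShape Λ (H.flip.obj (op (w.obj V)))) :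
    PreservesColimitsOfShape Λ ((G ⋙ H) ⋙ (Functor.whiskeringLeft Dᵒᵖ Cᵒᵖ AddCommGrpCat.{u}).obj w.op) :=
  ⟨fun {_} => ⟨fun {_} hc => ⟨evaluationJointlyReflectsColimits _ fun V =>
    haveI := h V.unop
    isColimitOfPreserves (G ⋙ H.flip.obj (op (w.obj V.unop))) hc⟩⟩⟩

/-- Transfer of colimit preservation through a natural isomorphism and a reflecting functor. -/
theorem preservesColimitsOfShape_of_iso_comp {A B C P : Type*} [Category A] [Category B] [Category C] [Category P]
    {Λ : Type u} [SmallCategory Λ] (R : A ⥤ B) (ab : B ⥤ C) (cp : A ⥤ P) (L : P ⥤ C) (e : R ⋙ ab ≅ cp ⋙ L)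
    [PreservesColimitsOfShape Λ cp] [PreservesColimitsOfShape Λ L] [ReflectsColimitsOfShape Λ ab] :
    PreservesColimitsOfShape Λ R :=
  haveI : PreservesColimitsOfShape Λ (R ⋙ ab) := preservesColimitsOfShape_of_natIso e.symm
  preservesColimitsOfShape_of_reflects_of_preserves R ab

/-- Higher direct images along a morphism of ringed sites preserve colimits which cohomology preserves. -/
theorem preservesColimitsOfShape_Rpush {C : Type u} [SmallCategory C] {J : GrothendieckTopology C}
    {O : Sheaf J CommRingCat.{u}} {D : Type u} [SmallCategory D] {K : GrothendieckTopology D}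
    {O_D : Sheaf K CommRingCat.{u}} [HasExt.{u} (ModSite.Mod O)] [EnoughInjectives (ModSite.Mod O)]
    [HasInjectiveResolutions (ModSite.Mod O)] (φ : ModSite.RMor O O_D) (q : ℕ) (Λ : Type u) [SmallCategory Λ]
    (h : ∀ V : D, PreservesColimitsOfShape Λ
      ((Sheaf.cohomologyPresheafFunctor.{u} J q).flip.obj (op (φ.fn.obj V)))) :
    PreservesColimitsOfShape Λ (φ.Rpush q) :=
  haveI : PreservesColimitsOfShape Λ (ModRpush.toAb O) := DerCompLib.preservesColimitsOfShape_toSheaf (O := O) Λ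
  haveI : PreservesColimitsOfShape Λ (ModRpush.toAb O_D) :=
    DerCompLib.preservesColimitsOfShape_toSheaf (O := O_D) Λ
  haveI : ReflectsColimitsOfShape Λ (ModRpush.toAb O_D) := reflectsColimitsOfShape_of_reflectsIsomorphisms
  haveI : PreservesColimitsOfShape Λ (ModRpush.cohPshF φ q) :=
    preservesColimitsOfShape_whiskered (ModRpush.toAb O) _ φ.fn h
  haveI : PreservesColimitsOfShape Λ (presheafToSheaf K AddCommGrpCat.{u}) :=
    haveI := (sheafificationAdjunction K AddCommGrpCat.{u}).leftAdjoint_preservesColimits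
    inferInstance
  preservesColimitsOfShape_of_iso_comp (φ.Rpush q) (ModRpush.toAb O_D) (ModRpush.cohPshF φ q)
    (presheafToSheaf K AddCommGrpCat.{u}) (ModRpush.rpushIso φ q)

variable {𝔛 𝔜 : FSch.Sys.{u}} (f : 𝔛 ⟶ 𝔜) (hX : 𝔛.IsFormal) (hY : 𝔜.IsFormal) (hX' : 𝔛.IsLocNoethFormal)
  [HasInjectiveResolutions (FSch.ModF 𝔛 hX)] [CompactSpace (𝔛.X 0)]

include hX' in
/-- Higher direct images commute with filtered colimits. -/
theorem preservesColimitsOfShape_rpushF (q : ℕ) (Λ : Type u) [SmallCategory Λ] [IsFiltered Λ] :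
    PreservesColimitsOfShape Λ (FSch.RpushF f hX hY q) := by
  haveI := hX'.2.2 0
  haveI : NoetherianSpace (𝔛.X 0).toTopCat := noetherianSpace_X0 hX'
  haveI : PrespectralSpace (𝔛.X 0).toTopCat := inferInstanceAs (PrespectralSpace (𝔛.X 0))
  haveI : QuasiSeparatedSpace (𝔛.X 0).toTopCat := inferInstanceAs (QuasiSeparatedSpace (𝔛.X 0))
  exact preservesColimitsOfShape_Rpush (FSch.homMor f hX hY) q Λ
    fun V => FlatMorStrat.preservesFilteredColimits_HAt (𝔛.X 0).toTopCat (U := (FSch.homMor f hX hY).fn.obj V)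
      (NoetherianSpace.isCompact _) Λ q

include hX' in
/-- Higher direct images of ind-coherent modules along proper morphisms are ind-coherent. -/
theorem ind_rpush (hY' : 𝔜.IsLocNoethFormal) (hp : FSch.IsProperHom f) {M : FSch.ModF 𝔛 hX} (hM : indCoh hX M) (q : ℕ) :
    indCoh hY ((FSch.RpushF f hX hY q).obj M) := by
  obtain ⟨Λ, _, _, pres, hc⟩ := hM
  haveI := preservesColimitsOfShape_rpushF f hX hY hX' q Λ
  exact ⟨Λ, inferInstance, inferInstance, pres.map (FSch.RpushF f hX hY q),
    fun l => isCohF_rpush f hX hY hX' hY' hp (hc l) q⟩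

variable [CompactSpace (𝔜.X 0)] [SiteCmp.HasRpushD (FSch.homMor f hX hY)]

/-- Ind-coherence of the cohomology of derived direct images. -/
theorem indCoh_hMod_rpushD (hX' : 𝔛.IsLocNoethFormal) (hY' : 𝔜.IsLocNoethFormal) (hp : FSch.IsProperHom f)
    (G : DerivedCategory (FSch.ModF 𝔛 hX)) (hG : ∀ i : ℤ, indCoh hX (SiteCmp.HMod G i)) (i : ℤ) :
    indCoh hY (SiteCmp.HMod ((SiteCmp.RpushD (FSch.homMor f hX hY)).obj G) i) := by
  haveI := isWeakSerre_indCoh hX hX'
  haveI := isWeakSerre_indCoh hY hY'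
  obtain ⟨e, B, hb, hacy⟩ := exists_basis_bound f hX hX'
  refine (SiteDer16.rpushD_cohIn_and_isIso (FSch.homMor f hX hY) (indCoh hX)
    {V : Opens (𝔛.X 0).toTopCat | IsAffineOpen (X := 𝔛.X 0) V} ?_ ?_ (e : ℤ) ?_ G hG
    (indCoh hY) {V : Opens (𝔜.X 0).toTopCat | IsAffineOpen (X := 𝔜.X 0) V} ?_ ?_ ?_).1 i
  · intro U
    obtain ⟨ι, Y, g, -, h2, h3⟩ := exists_cover_of_basis (T := (𝔛.X 0).toTopCat)
      (B := fun V => IsAffineOpen (X := 𝔛.X 0) V) basis_AFF U ⊤ (GrothendieckTopology.top_mem _ _)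
    exact ⟨ι, Y, g, h2, h3⟩
  · intro V _
    refine ⟨0, fun T hT => ?_⟩
    obtain ⟨ι, Y, g, h1, h2, h3⟩ := exists_cover_of_basis (T := (𝔛.X 0).toTopCat)
      (B := fun V => IsAffineOpen (X := 𝔛.X 0) V) basis_AFF V T hT
    exact ⟨ι, Y, g, h1, h2, fun j M hM k hk => affine_subsingleton_HU hX hX' M hM (h3 j) k hk⟩
  · exact fun M hM p hp' => isZero_rpushF_of_basis f hX hY M p (B := B) hb
      fun V hV => hacy M hM V hV p (by exact_mod_cast hp')
  · intro U
    obtain ⟨ι, Y, g, -, h2, h3⟩ := exists_cover_of_basis (T := (𝔜.X 0).toTopCat)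
      (B := fun V => IsAffineOpen (X := 𝔜.X 0) V) basis_AFF U ⊤ (GrothendieckTopology.top_mem _ _)
    exact ⟨ι, Y, g, h2, h3⟩
  · intro V _
    refine ⟨0, fun T hT => ?_⟩
    obtain ⟨ι, Y, g, h1, h2, h3⟩ := exists_cover_of_basis (T := (𝔜.X 0).toTopCat)
      (B := fun V => IsAffineOpen (X := 𝔜.X 0) V) basis_AFF V T hT
    exact ⟨ι, Y, g, h1, h2, fun j M hM k hk => affine_subsingleton_HU hY hY' M hM (h3 j) k hk⟩
  · exact fun M hM p => ind_rpush f hX hY hX' hY' hp hM p

end Groth.Agent.FModLib
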