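import Groth.Agent.FModLib.RpushCmp
import Groth.Prelude.Def_ARSys

/-!
# The higher direct images of the truncations of a coherent module under a proper morphism
-/

set_option autoImplicit false
set_option backward.isDefEq.respectTransparency false
set_option linter.style.haveILetI false
set_option linter.unusedSectionVars false

universe u

open CategoryTheory CategoryTheory.Limits CategoryTheory.Abelian AlgebraicGeometry Opposite TopologicalSpace
open Groth.Agent.FBlowLib Groth.Agent.DerCompLib Groth.Agent.Coherent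

namespace Groth.Agent.FModLib

section Sub

variable {T : TopCat.{u}} {O : Sheaf (Opens.grothendieckTopology T) CommRingCat.{u}}
  {P : Opens T → Prop}

/-- Subobjects given by images are ordered by their images on sections over a basis. -/
theorem imageSubobject_le_of_sections
    (hb : ∀ (U : Opens T) (x : T), x ∈ U → ∃ V : Opens T, P V ∧ x ∈ V ∧ V ≤ U)
    {M N Q : ModSite.Mod O} (f : M ⟶ Q) (g : N ⟶ Q)
    (h : ∀ V, P V → ∀ x, ∃ y, secMap g V y = secMap f V x) : imageSubobject f ≤ imageSubobject g := by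
  have hg : g ≫ cokernel.π (imageSubobject g).arrow = 0 := by
    conv_lhs => arg 1; rw [← imageSubobject_arrow_comp g]
    rw [Category.assoc, cokernel.condition, comp_zero]
  have hf : f ≫ cokernel.π (imageSubobject g).arrow = 0 := hom_eq_zero_of_forall hb _ fun V hV x => by
    obtain ⟨y, hy⟩ := h V hV x
    rw [DerCompLib.secMap_comp, ← hy, ← DerCompLib.secMap_comp, hg]
    rfl
  exact imageSubobject_le f (Abelian.monoLift (imageSubobject g).arrow f hf) (Abelian.monoLift_comp _ _ _)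

/-- Composites of the maps of a sequence of modules. -/
noncomputable def compT (N : ℕ → ModSite.Mod O) (τ : ∀ n, N (n + 1) ⟶ N n) : ∀ (s k : ℕ), N (k + s) ⟶ N k
  | 0, k => 𝟙 _
  | s + 1, k => τ (k + s) ≫ compT N τ s k

theorem secMap_compT (N : ℕ → ModSite.Mod O) (τ : ∀ n, N (n + 1) ⟶ N n) (V : Opens T) :
    ∀ (s k : ℕ) (x : DerCompLib.Sec (N (k + s)) V), secMap (compT N τ s k) V x =
      TowerML.trc (G := fun n => DerCompLib.Sec (N n) V) (fun n => (secMap (τ n) V).toAddMonoidHom) s k x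
  | 0, _, _ => rfl
  | s + 1, k, x => (DerCompLib.secMap_comp _ _ _ _).trans (secMap_compT N τ V s k _)

theorem trc_natural {G G' : ℕ → Type u} [∀ n, AddCommGroup (G n)] [∀ n, AddCommGroup (G' n)]
    (t : ∀ n, G (n + 1) →+ G n) (t' : ∀ n, G' (n + 1) →+ G' n) (c : ∀ n, G n →+ G' n)
    (hc : ∀ n x, c n (t n x) = t' n (c (n + 1) x)) :
    ∀ (s k : ℕ) (x : G (k + s)), c k (TowerML.trc t s k x) = TowerML.trc t' s k (c (k + s) x)
  | 0, _, _ => rfl
  | s + 1, k, x => (trc_natural t t' c hc s k _).trans (congrArg (TowerML.trc t' s k) (hc (k + s) x))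

end Sub

variable {𝔛 𝔜 : FSch.Sys.{u}} (f : 𝔛 ⟶ 𝔜) (hX : 𝔛.IsFormal) (hY : 𝔜.IsFormal)
  (hX' : 𝔛.IsLocNoethFormal) (hY' : 𝔜.IsLocNoethFormal)

/-- Modules from a level have no higher cohomology on affine opens. -/
theorem acV_up (k : ℕ) (G : (𝔜.X k).Modules) [Coh.IsQCoh G] {V : (𝔜.X 0).Opens} (hV : IsAffineOpen V) :
    acV hY V (up hY k G) := fun j => by
  have hG : AcyclicOverBasis (X := (𝔜.X k).toTopCat) (Y := (𝔜.X 0).toTopCat) (𝔜.gInv hY k)
      (𝔜.X 0).affineOpens (Coh.toAb G) := fun W hW n =>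
    subsingleton_H'_qcoh G (S13347.isAffineOpen_lvU 𝔜 hY k W hW) n
  have := hG V hV j
  exact (H'PushEquiv (𝔜.X 0).isBasis_affineOpens (Coh.toAb G) hG V (j + 1)).symm.toEquiv.subsingleton

variable [HasInjectiveResolutions (FSch.ModF 𝔛 hX)]

include hY' in
theorem exists_iso_up (hp : FSch.IsProperHom f) (k : ℕ) (G : (𝔛.X k).Modules) (hG : Coh.IsCoh G) (q : ℕ) :
    ∃ G' : (𝔜.X k).Modules, Coh.IsCoh G' ∧ Nonempty ((FSch.RpushF f hX hY q).obj (up hX k G) ≅ up hY k G') := by
  haveI := hp.2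
  haveI := hY'.2.2 k
  haveI : IsProper ((f : FSch.Hom 𝔛 𝔜).app k) := FSchLib.isProper_app hY' hp.1 k
  haveI := hasInjectiveResolutions_modules (𝔛.X k)
  exact ⟨_, isCoh_rpush ((f : FSch.Hom 𝔛 𝔜).app k) hG q, nonempty_rpushF_up_iso f hX hY k G q⟩

include hY' in
theorem isPC_rpush_up (hp : FSch.IsProperHom f) (k : ℕ) (G : (𝔛.X k).Modules) (hG : Coh.IsCoh G) (q : ℕ) :
    IsPC (AFF 𝔜) ((FSch.RpushF f hX hY q).obj (up hX k G)) := by
  obtain ⟨G', hG', ⟨e⟩⟩ := exists_iso_up f hX hY hY' hp k G hG q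
  exact (isPC_up hY hY' k G' hG').of_iso e.symm

include hY' in
theorem acV_rpush_up (hp : FSch.IsProperHom f) (k : ℕ) (G : (𝔛.X k).Modules) (hG : Coh.IsCoh G) (q : ℕ)
    {V : (𝔜.X 0).Opens} (hV : IsAffineOpen V) : acV hY V ((FSch.RpushF f hX hY q).obj (up hX k G)) := by
  obtain ⟨G', hG', ⟨e⟩⟩ := exists_iso_up f hX hY hY' hp k G hG q
  haveI : Coh.IsQCoh G' := hG'.1
  exact (acV hY V).prop_of_iso e.symm (acV_up hY k G' hV)

variable (M : FSch.ModF 𝔛 hX)

/-- The higher direct images of the truncations. -/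
noncomputable abbrev rPush (q k : ℕ) : FSch.ModF 𝔜 hY := (FSch.RpushF f hX hY q).obj (up hX k (down hX k M))

/-- The transition maps of the higher direct images of the truncations. -/
noncomputable abbrev rPushTr (q k : ℕ) : rPush f hX hY M q (k + 1) ⟶ rPush f hX hY M q k :=
  (FSch.RpushF f hX hY q).map (FSch.levelTrans 𝔛 hX M k)

/-- The composites of transition maps. -/
noncomputable abbrev rPushC (q s k : ℕ) : rPush f hX hY M q (k + s) ⟶ rPush f hX hY M q k :=
  compT (rPush f hX hY M q) (rPushTr f hX hY M q) s k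

variable [EnoughInjectives (FSch.ModF 𝔛 hX)] [HasExt.{u} (FSch.ModF 𝔛 hX)]

theorem rT_cmpV (q : ℕ) (V : (𝔜.X 0).Opens) (n : ℕ)
    (y : CohTop.HU ((abF hX).obj (up hX (n + 1) (down hX (n + 1) M))) q (preV f V)) :
    secMap (rPushTr f hX hY M q n) V (cmpV f hX hY q (up hX (n + 1) (down hX (n + 1) M)) V y) =
      cmpV f hX hY q (up hX n (down hX n M)) V (Rel.tU hX (preV f V) M q n y) :=
  cmpV_natural f hX hY q (lt' hX M n) V y

theorem rC_cmpV (q : ℕ) (V : (𝔜.X 0).Opens) (s k : ℕ)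
    (x : CohTop.HU ((abF hX).obj (up hX (k + s) (down hX (k + s) M))) q (preV f V)) :
    secMap (rPushC f hX hY M q s k) V (cmpV f hX hY q (up hX (k + s) (down hX (k + s) M)) V x) =
      cmpV f hX hY q (up hX k (down hX k M)) V
        (TowerML.trc (G := fun k => CohTop.HU ((abF hX).obj (up hX k (down hX k M))) q (preV f V))
          (Rel.tU hX (preV f V) M q) s k x) := by
  have h1 := secMap_compT (rPush f hX hY M q) (rPushTr f hX hY M q) V s k
    (cmpV f hX hY q (up hX (k + s) (down hX (k + s) M)) V x)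
  have h2 := trc_natural (G := fun n => CohTop.HU ((abF hX).obj (up hX n (down hX n M))) q (preV f V))
    (G' := fun n => DerCompLib.Sec (rPush f hX hY M q n) V)
    (Rel.tU hX (preV f V) M q) (fun n => (secMap (rPushTr f hX hY M q n) V).toAddMonoidHom)
    (fun n => cmpV f hX hY q (up hX n (down hX n M)) V)
    (fun n y => (rT_cmpV f hX hY M q V n y).symm) s k x
  exact h1.trans h2.symm

variable {M}

include hX' hY' in
theorem bijective_cmpV_trunc (hp : FSch.IsProperHom f) (hM : FSch.IsCohF 𝔛 hX M) (q k : ℕ)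
    {V : (𝔜.X 0).Opens} (hV : IsAffineOpen V) :
    Function.Bijective (cmpV f hX hY q (up hX k (down hX k M)) V) :=
  bijective_cmpV f hX hY q _ V fun j =>
    acV_rpush_up f hX hY hY' hp k _ (isCoh_down hX hX' M hM k) j hV

include hX' hY' in
/-- The images of the transition maps are eventually constant on sections over an affine open. -/
theorem exists_stable_sec (hp : FSch.IsProperHom f) (hM : FSch.IsCohF 𝔛 hX M) (q : ℕ)
    {V : (𝔜.X 0).Opens} (hV : IsAffineOpen V) :
    ∃ r, ∀ k s, r ≤ s → ∀ x, ∃ y,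
      secMap (rPushC f hX hY M q (s + 1) k) V y = secMap (rPushC f hX hY M q s k) V x := by
  haveI := hp.2
  haveI := compactSpace_preV f hY' hV
  haveI := isNoetherianRing_sec hY hY' hV
  obtain ⟨r, hr⟩ := Rel.exists_stable_HU hX (preV f V) (shU f hX hY V) hX' hM
    (hJ_preV f hX hY hX' hY' hp.1 hV) (finCoh_preV f hX hY hY' hV) q
  refine ⟨r, fun k s hs x => ?_⟩
  obtain ⟨x, rfl⟩ := (bijective_cmpV_trunc f hX hY hX' hY' hp hM q (k + s) hV).2 x
  obtain ⟨y, hy⟩ := hr k s hs x
  refine ⟨cmpV f hX hY q (up hX (k + (s + 1)) (down hX (k + (s + 1)) M)) V y, ?_⟩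
  rw [rC_cmpV, rC_cmpV, hy]

include hX' hY' in
/-- Stability passes to smaller affine opens. -/
theorem stable_of_le (hp : FSch.IsProperHom f) (hM : FSch.IsCohF 𝔛 hX M) (q : ℕ)
    {V W : (𝔜.X 0).Opens} (hV : IsAffineOpen V) (hW : IsAffineOpen W) (i : W ≤ V) (k s : ℕ)
    (h : ∀ x, ∃ y, secMap (rPushC f hX hY M q (s + 1) k) V y = secMap (rPushC f hX hY M q s k) V x) (x) :
    ∃ y, secMap (rPushC f hX hY M q (s + 1) k) W y = secMap (rPushC f hX hY M q s k) W x := by
  have hx : x ∈ Submodule.span (FBlowLib.Sec 𝔜 hY W) (Set.range (mRes (rPush f hX hY M q (k + s)) i)) :=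
    ((isPC_rpush_up f hX hY hY' hp (k + s) _ (isCoh_down hX hX' M hM (k + s)) q).span V W i hV hW).symm ▸
      Submodule.mem_top
  show secMap (rPushC f hX hY M q s k) W x ∈ LinearMap.range (secMap (rPushC f hX hY M q (s + 1) k) W)
  have h2 := Submodule.mem_map_of_mem (f := secMap (rPushC f hX hY M q s k) W) hx
  rw [Submodule.map_span] at h2
  refine Submodule.span_le.2 ?_ h2
  rintro _ ⟨_, ⟨m, rfl⟩, rfl⟩
  obtain ⟨y, hy⟩ := h m
  exact ⟨mRes _ i y, by rw [secMap_mRes, hy, secMap_mRes]⟩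

include hX' hY' in
/-- The Mittag-Leffler condition for the higher direct images of the truncations. -/
theorem isML_rSys (hp : FSch.IsProperHom f) (hM : FSch.IsCohF 𝔛 hX M) [CompactSpace (𝔜.X 0)] (q : ℕ) :
    ARSys.IsML (Functor.ofOpSequence (X := rPush f hX hY M q) (rPushTr f hX hY M q)) := by
  classical
  choose r hr using fun V : (𝔜.X 0).affineOpens => exists_stable_sec f hX hY hX' hY' hp hM q V.2
  obtain ⟨t, ht⟩ := CompactSpace.isCompact_univ.elim_finite_subcover
    (fun V : (𝔜.X 0).affineOpens => (V.1 : Set (𝔜.X 0))) (fun V => V.1.2) (fun z _ => by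
      obtain ⟨V, hV, hz, -⟩ := Opens.isBasis_iff_nbhd.mp (𝔜.X 0).isBasis_affineOpens (Opens.mem_top z)
      exact Set.mem_iUnion.2 ⟨⟨V, hV⟩, hz⟩)
  let P : Opens (𝔜.X 0).carrier → Prop := fun W => AFF 𝔜 W ∧ ∃ V ∈ t, W ≤ V.1
  have hb : ∀ (U : Opens (𝔜.X 0).carrier) (x : (𝔜.X 0).carrier), x ∈ U → ∃ W, P W ∧ x ∈ W ∧ W ≤ U := by
    intro U x hx
    obtain ⟨V, hV, hxV⟩ := Set.mem_iUnion₂.1 (ht (Set.mem_univ x))
    obtain ⟨W, hW, hxW, hWU⟩ := basis_AFF (U ⊓ V.1) x ⟨hx, hxV⟩
    exact ⟨W, ⟨hW, V, hV, hWU.trans inf_le_right⟩, hxW, hWU.trans inf_le_left⟩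
  let F := Functor.ofOpSequence (X := rPush f hX hY M q) (rPushTr f hX hY M q)
  have hC : ∀ s k, ARSys.shiftMap F s k = rPushC f hX hY M q s k := by
    intro s k
    induction s with
    | zero => exact F.map_id (op k)
    | succ s ih =>
      rw [show rPushC f hX hY M q (s + 1) k = rPushTr f hX hY M q (k + s) ≫ rPushC f hX hY M q s k from rfl, ← ih]
      refine (congrArg F.map (Subsingleton.elim _ ((homOfLE (Nat.le_add_right (k + s) 1)).op ≫
        (homOfLE (Nat.le_add_right k s)).op))).trans ((F.map_comp _ _).trans ?_)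
      rw [Functor.ofOpSequence_map_homOfLE_succ]
  intro k
  refine ⟨t.sup r, fun s hs => ?_⟩
  induction s, hs using Nat.le_induction with
  | base => rfl
  | succ s hs ih =>
    rw [← ih]
    refine le_antisymm (imageSubobject_le_of_sections hb _ _ fun W _ x => ?_)
      (imageSubobject_le_of_sections hb _ _ fun W hW x => ?_)
    · refine ⟨secMap (rPushTr f hX hY M q (k + s)) W x, ?_⟩
      refine (congrArg (fun g => secMap g W _) (hC s k)).trans ?_
      refine ((congrArg (fun g => secMap g W x) (hC (s + 1) k)).trans ?_).symm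
      exact DerCompLib.secMap_comp _ _ _ _
    · obtain ⟨hWa, V, hVt, hWV⟩ := hW
      obtain ⟨y, hy⟩ := stable_of_le f hX hY hX' hY' hp hM q V.2 hWa hWV k s
        (hr V k s ((Finset.le_sup hVt).trans hs)) x
      exact ⟨y, (congrArg (fun g => secMap g W y) (hC (s + 1) k)).trans
        (hy.trans (congrArg (fun g => secMap g W x) (hC s k)).symm)⟩

end Groth.Agent.FModLib
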