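import Groth.Agent.FModLib.FFSections
import Groth.Agent.FModLib.PullIsoT
import Groth.Agent.FModLib.PushFinite
import Groth.Agent.FModLib.BasisExact
import Groth.Agent.FSchLib.IdealSheaf

/-!
# The completion of a direct image along a proper morphism

For `f : X ⟶ Y` proper with `𝓚 = 𝓘 O_X`, the completion of `f_* F` is the direct image of the completion of `F`,
by the theorem on formal functions on the preimages of affine opens.
-/

set_option autoImplicit false
set_option backward.isDefEq.respectTransparency false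
set_option linter.style.haveILetI false
set_option linter.unusedSectionVars false
set_option maxHeartbeats 1000000

universe u

open CategoryTheory CategoryTheory.Limits AlgebraicGeometry Opposite TopologicalSpace
open Groth.Agent.FBlowLib Groth.Agent.DerCompLib Groth.Agent.Coherent Groth.Agent.PicLib
open Groth.Agent.Coherent.Existence

namespace Groth.Agent.FModLib

variable {X Y : Scheme.{u}} (f : X ⟶ Y)

theorem inv_comp_appTop_preimage {W : Y.Opens} (hW : IsAffineOpen W) :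
    (Scheme.ΓSpecIso Γ(Y, W)).inv ≫ ((f ∣_ W) ≫ hW.isoSpec.hom).appTop =
      f.appLE W ((f ⁻¹ᵁ W).ι ''ᵁ ⊤) (Scheme.Opens.ι_image_top _).le := by
  rw [Scheme.Hom.comp_appTop, IsAffineOpen.isoSpec_hom_appTop, Category.assoc, Iso.inv_hom_id_assoc,
    morphismRestrict_appTop, Scheme.Opens.topIso_inv, Scheme.Hom.app_eq_appLE, Scheme.Hom.appLE_map,
    Scheme.Hom.map_appLE]
  rfl

variable {𝔛 : FSch.Sys.{u}} (p : ∀ n, 𝔛.X n ⟶ X) (hp : ∀ n, 𝔛.ι n ≫ p (n + 1) = p n) (h : 𝔛.IsFormal)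
  (F : X.Modules)

theorem eta_le {j k : ℕ} (hjk : j ≤ k) (U : X.Opens) {m m' : Γ(F, U)}
    (he : eta p hp h F k U m = eta p hp h F k U m') : eta p hp h F j U m = eta p hp h F j U m' := by
  induction k, hjk using Nat.le_induction with
  | base => exact he
  | succ k _ ih => exact ih (by rw [← trSec_eta p hp h F k U m, ← trSec_eta p hp h F k U m', he])

theorem rproj_eq_eta_le {j k : ℕ} (hjk : j ≤ k) (U : X.Opens) {x : DerCompLib.Sec (cMod p hp h F) (tr₀ p U)}
    {m : Γ(F, U)} (he : rproj h (pullSys p hp F).F (pullSys p hp F).toPush k (tr₀ p U) x = eta p hp h F k U m) :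
    rproj h (pullSys p hp F).F (pullSys p hp F).toPush j (tr₀ p U) x = eta p hp h F j U m := by
  induction k, hjk using Nat.le_induction with
  | base => exact he
  | succ k _ ih => exact ih (by rw [← trSec_rproj, he, trSec_eta])

variable [IsLocallyNoetherian X] (hci : ∀ n, IsClosedImmersion (p n)) (𝓚 : X.IdealSheafData)
  (hker : ∀ n, (p n).ker = 𝓚 ^ (n + 1)) (hF : Coh.IsCoh F)

/-- The two conclusions of the theorem on formal functions, on an open. -/
def FFOn (U : X.Opens) {R : Type u} [CommRing R] (ρ : R →+* Γ(X, U)) (I : Ideal R) : Prop :=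
  ∃ c : ℕ, (∀ k : ℕ, c ≤ k → ∀ m : Γ(F, U), eta p hp h F k U m = 0 →
      m ∈ (I.map ρ) ^ (k - c) • (⊤ : Submodule Γ(X, U) Γ(F, U))) ∧
    ∀ z : ∀ k, DerCompLib.Sec (up h k ((Scheme.Modules.pullback (p k)).obj F)) (tr₀ p U),
      (∀ k, trSec h (pullSys p hp F).F (pullSys p hp F).toPush k (tr₀ p U) (z (k + 1)) = z k) →
        ∀ n : ℕ, ∃ m : Γ(F, U), eta p hp h F n U m = z n

theorem FFOn.congr {U V : X.Opens} (e : U = V) {R : Type u} [CommRing R] {ρ : R →+* Γ(X, U)} {ρ' : R →+* Γ(X, V)}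
    (hρ : ∀ r, X.presheaf.map (homOfLE e.ge).op (ρ r) = ρ' r) {I : Ideal R} (hff : FFOn p hp h F U ρ I) :
    FFOn p hp h F V ρ' I := by
  subst e
  obtain rfl : ρ = ρ' := RingHom.ext fun r =>
    (ConcreteCategory.congr_hom (X.presheaf.map_id (op U)) (ρ r)).symm.trans (hρ r)
  exact hff

include hci hker hF in
/-- Formal functions over the preimage of an affine open. -/
theorem ffOn_preimage [IsProper f] [IsLocallyNoetherian Y] (𝓘 : Y.IdealSheafData) (h𝓚 : 𝓚 = 𝓘.comap f)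
    {W : Y.Opens} (hW : IsAffineOpen W) :
    FFOn p hp h F (f ⁻¹ᵁ W) (f.app W).hom (𝓘.ideal ⟨W, hW⟩) := by
  haveI : IsNoetherianRing Γ(Y, W) := IsLocallyNoetherian.component_noetherian ⟨W, hW⟩
  letI : (f ⁻¹ᵁ W : Scheme.{u}).Over (Spec (CommRingCat.of Γ(Y, W))) := ⟨(f ∣_ W) ≫ hW.isoSpec.hom⟩
  haveI : IsProper (f ∣_ W) := IsZariskiLocalAtTarget.restrict (P := @IsProper) inferInstance W
  haveI : IsProper ((f ⁻¹ᵁ W : Scheme.{u}) ↘ Spec (CommRingCat.of Γ(Y, W))) :=
    inferInstanceAs (IsProper ((f ∣_ W) ≫ hW.isoSpec.hom))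
  have hρ : ∀ r, scalHom (f ⁻¹ᵁ W) r = f.appLE W ((f ⁻¹ᵁ W).ι ''ᵁ ⊤) (Scheme.Opens.ι_image_top _).le r :=
    fun r => ConcreteCategory.congr_hom (inv_comp_appTop_preimage f hW) r
  have hI : ∀ (O : (f ⁻¹ᵁ W : Scheme.{u}).Opens) (hO : IsAffineOpen O),
      (show Ideal Γ((f ⁻¹ᵁ W : Scheme.{u}), O) from
        𝓚.ideal ⟨(f ⁻¹ᵁ W).ι ''ᵁ O, hO.image_of_isOpenImmersion _⟩) = openIdeal (𝓘.ideal ⟨W, hW⟩) O := by
    intro O hO
    subst h𝓚
    rw [FSchLib.ideal_comap_eq_map f 𝓘 ⟨_, hO.image_of_isOpenImmersion _⟩ ⟨W, hW⟩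
      ((f ⁻¹ᵁ W).ι_image_le O), openIdeal]
    refine congrArg (fun φ => Ideal.map φ (𝓘.ideal ⟨W, hW⟩)) (RingHom.ext fun r => ?_)
    show f.appLE W ((f ⁻¹ᵁ W).ι ''ᵁ O) _ r =
      X.presheaf.map (homOfLE ((f ⁻¹ᵁ W).ι.opensFunctor.map (homOfLE (le_top : O ≤ ⊤))).le).op
        (scalHom (f ⁻¹ᵁ W) r)
    rw [hρ r, ← ConcreteCategory.comp_apply, Scheme.Hom.appLE_map]
  obtain ⟨c, hc⟩ := exists_eta_ker_le p hp h F hci 𝓚 hker hF (f ⁻¹ᵁ W) (𝓘.ideal ⟨W, hW⟩) hI
  refine FFOn.congr p hp h F (Scheme.Opens.ι_image_top (f ⁻¹ᵁ W)) (ρ := scalHom (f ⁻¹ᵁ W)) (fun r => ?_)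
    ⟨c, hc, exists_eta_eq p hp h F hci 𝓚 hker hF (f ⁻¹ᵁ W) (𝓘.ideal ⟨W, hW⟩) hI⟩
  rw [hρ r, ← ConcreteCategory.comp_apply, Scheme.Hom.appLE_map, ← Scheme.Hom.app_eq_appLE]

include hci hker hF in
/-- The adjunct of the map to the completion is an isomorphism. -/
theorem isIso_adjunct_psi (hX : 𝔛.IsLocNoethFormal) :
    IsIso (((FSch.toSchemeMor 𝔛 h p hp).adj.homEquiv F (cMod p hp h F)).symm (psi p hp h F)) := by
  let g := FSch.toSchemeMor 𝔛 h p hp
  refine isIso_of_coyoneda_map_bijective _ fun N => ?_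
  have hcomp : (g.adj.homEquiv F N) ∘ (fun x : cMod p hp h F ⟶ N =>
      (g.adj.homEquiv F (cMod p hp h F)).symm (psi p hp h F) ≫ x) =
      fun α => psi p hp h F ≫ g.push.map α := funext fun α => by
    rw [Function.comp_apply, g.adj.homEquiv_naturality_right, Equiv.apply_symm_apply]
  refine (Function.Bijective.of_comp_iff' (g.adj.homEquiv F N).bijective _).1 ?_
  rw [hcomp]
  exact bijective_psi_comp p hp h F hX hci 𝓚 hker hF N

section Square

variable {𝔜 : FSch.Sys.{u}} (r : ∀ n, 𝔜.X n ⟶ Y) (hr : ∀ n, 𝔜.ι n ≫ r (n + 1) = r n) (hY : 𝔜.IsFormal)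
  (φ : 𝔛 ⟶ 𝔜) (hsq : ∀ n, p n ≫ f = (φ : FSch.Hom 𝔛 𝔜).app n ≫ r n)

/-- The direct image of the completion. -/
noncomputable abbrev pushC : ModSite.Mod (𝔜.Osh hY) := (FSch.pushF φ h hY).obj (cMod p hp h F)

/-- The map from the direct image to the direct image of the completion. -/
noncomputable def pushPsi :
    (Scheme.Modules.pushforward f).obj F ⟶ (FSch.toSchemeMor 𝔜 hY r hr).push.obj (pushC p hp h F hY φ) :=
  (Scheme.Modules.pushforward f).map (psi p hp h F) ≫
    (FSch.schPushSq φ h hY f p hp r hr hsq).hom.app (cMod p hp h F)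

include hsq in
theorem preV_tr₀ (W : Y.Opens) : preV φ (tr₀ r W) = tr₀ p (f ⁻¹ᵁ W) :=
  (FSch.sch_sq_preimage φ f p r hsq W).symm

theorem pv_pushPsi (W : Y.Opens) (m : Γ((Scheme.Modules.pushforward f).obj F, W)) :
    pv r hr hY ((Scheme.Modules.pushforward f).obj F) (pushPsi f p hp h F r hr hY φ hsq) W m =
      mRes (cMod p hp h F) (preV_tr₀ f p r φ hsq W).le (etaL p hp h F (f ⁻¹ᵁ W) m) := rfl

variable (hX' : 𝔛.IsLocNoethFormal) (hY' : 𝔜.IsLocNoethFormal) (𝓘 : Y.IdealSheafData) (h𝓚 : 𝓚 = 𝓘.comap f)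
  (hci' : ∀ n, IsClosedImmersion (r n)) (hker' : ∀ n, (r n).ker = 𝓘 ^ (n + 1)) [IsProper f]
  [IsLocallyNoetherian Y]

include hX' hY' hci hker h𝓚 hci' hker' hF in
/-- The completion of the direct image is the direct image of the completion. -/
theorem exists_isIso_pushPsi (hG : Coh.IsCoh ((Scheme.Modules.pushforward f).obj F)) :
    ∃ α : cMod r hr hY ((Scheme.Modules.pushforward f).obj F) ⟶ pushC p hp h F hY φ, IsIso α ∧
      psi r hr hY ((Scheme.Modules.pushforward f).obj F) ≫ (FSch.toSchemeMor 𝔜 hY r hr).push.map α =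
        pushPsi f p hp h F r hr hY φ hsq := by
  let G := (Scheme.Modules.pushforward f).obj F
  haveI : Coh.IsQCoh G := hG.1
  obtain ⟨α, hα⟩ := (bijective_psi_comp r hr hY G hY' hci' 𝓘 hker' hG
    (pushC p hp h F hY φ)).2 (pushPsi f p hp h F r hr hY φ hsq)
  refine ⟨α, isIso_of_forall (P := fun V => ∃ W : Y.Opens, IsAffineOpen W ∧ V = tr₀ r W) (basis_tr₀ r hci') α ?_, hα⟩
  rintro V ⟨W, hW, rfl⟩
  have hα' : ∀ m : Γ(G, W), secMap α (tr₀ r W) (etaL r hr hY G W m) =
      mRes (cMod p hp h F) (preV_tr₀ f p r φ hsq W).le (etaL p hp h F (f ⁻¹ᵁ W) m) := fun m =>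
    (congrArg (fun ψ => pv r hr hY G ψ W m) hα).trans (pv_pushPsi f p hp h F r hr hY φ hsq W m)
  have hsame : ∀ (M : ModSite.Mod (𝔛.Osh h)) (y : DerCompLib.Sec M (tr₀ p (f ⁻¹ᵁ W))),
      mRes M (preV_tr₀ f p r φ hsq W).ge (mRes M (preV_tr₀ f p r φ hsq W).le y) = y := fun M y => by
    rw [mRes_mRes, mRes_self']
  let θ : DerCompLib.Sec (cMod r hr hY G) (tr₀ r W) → DerCompLib.Sec (cMod p hp h F) (tr₀ p (f ⁻¹ᵁ W)) :=
    fun x => mRes (cMod p hp h F) (preV_tr₀ f p r φ hsq W).ge (secMap α (tr₀ r W) x)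
  have hθadd : ∀ a b, θ (a + b) = θ a + θ b := fun a b => by
    simp only [θ, map_add]
  obtain ⟨c, hc, hlift⟩ := ffOn_preimage f p hp h F hci 𝓚 hker hF 𝓘 h𝓚 hW
  obtain ⟨-, hlev⟩ := real_props hY hY' (pullSys r hr G) (isCoh_pullSys r hr G hci' hG)
    (isAffineOpen_tr₀ r hci' hW)
  have hlevel : ∀ (k : ℕ) (x : DerCompLib.Sec (cMod r hr hY G) (tr₀ r W)) (m : Γ(G, W)),
      rproj hY (pullSys r hr G).F (pullSys r hr G).toPush k (tr₀ r W) x = eta r hr hY G k W m →
      rproj h (pullSys p hp F).F (pullSys p hp F).toPush k (tr₀ p (f ⁻¹ᵁ W)) (θ x) =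
        eta p hp h F k (f ⁻¹ᵁ W) m := by
    intro k x m hxm
    have hker0 : x - etaL r hr hY G W m ∈
        jdl hY (tr₀ r W) ^ (k + 1) • (⊤ : Submodule (FBlowLib.Sec 𝔜 hY (tr₀ r W)) _) := by
      rw [← (hlev k).2, LinearMap.mem_ker, map_sub]
      exact (congrArg₂ (· - ·) hxm (rproj_etaL r hr hY G W m k)).trans (sub_self _)
    have hθm : θ (etaL r hr hY G W m) = etaL p hp h F (f ⁻¹ᵁ W) m := by
      show mRes (cMod p hp h F) _ (secMap α (tr₀ r W) (etaL r hr hY G W m)) = _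
      rw [hα']
      exact hsame _ _
    have h0 : rproj h (pullSys p hp F).F (pullSys p hp F).toPush k (tr₀ p (f ⁻¹ᵁ W))
        (θ (x - etaL r hr hY G W m)) = 0 := by
      refine Submodule.smul_induction_on (p := fun y => rproj h (pullSys p hp F).F (pullSys p hp F).toPush k
        (tr₀ p (f ⁻¹ᵁ W)) (θ y) = 0) hker0 (fun a ha y _ => ?_) fun a b ha hb => ?_
      · show rproj h _ _ k _ (mRes (cMod p hp h F) (preV_tr₀ f p r φ hsq W).ge (secMap α (tr₀ r W) (a • y))) = 0
        rw [map_smul]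
        refine (congrArg (rproj h _ _ k _) (mRes_smul (preV_tr₀ f p r φ hsq W).ge
          (shU φ h hY (tr₀ r W) a) (secMap α (tr₀ r W) y))).trans ?_
        rw [map_smul]
        apply (upVal h).injective
        rw [upVal_smul, map_zero]
        refine (congrArg (· • _) ?_).trans (zero_smul _ _)
        have ha0 : proj 𝔜 hY k (tr₀ r W) a = 0 := by
          rw [← RingHom.mem_ker, ((sec_props hY hY' (isAffineOpen_tr₀ r hci' hW)).2 k).2]
          exact ha
        refine (proj_res 𝔛 h k (preV_tr₀ f p r φ hsq W).ge (shU φ h hY (tr₀ r W) a)).trans ?_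
        rw [proj_shU, ha0, map_zero, map_zero]
      · rw [hθadd, map_add, ha, hb, add_zero]
    have hx : x = (x - etaL r hr hY G W m) + etaL r hr hY G W m := (sub_add_cancel _ _).symm
    rw [hx, hθadd, map_add, h0, zero_add, hθm, rproj_etaL]
  have hetaG : ∀ (k : ℕ) (x : DerCompLib.Sec (cMod r hr hY G) (tr₀ r W)), ∃ m : Γ(G, W),
      eta r hr hY G k W m = rproj hY (pullSys r hr G).F (pullSys r hr G).toPush k (tr₀ r W) x :=
    fun k x => eta_surjective r hr hY G hci' k hW _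
  have hmem : ∀ (j : ℕ) (m : Γ(F, f ⁻¹ᵁ W)),
      m ∈ ((𝓘.ideal ⟨W, hW⟩).map (f.app W).hom) ^ (j + 1) • (⊤ : Submodule Γ(X, f ⁻¹ᵁ W) Γ(F, f ⁻¹ᵁ W)) →
      eta r hr hY G j W (show Γ(G, W) from m) = 0 := by
    intro j m hm
    rw [← Ideal.map_pow] at hm
    have hgen : ∀ a ∈ ((𝓘.ideal ⟨W, hW⟩) ^ (j + 1)).map (f.app W).hom, ∀ y : Γ(F, f ⁻¹ᵁ W),
        eta r hr hY G j W (show Γ(G, W) from a • y) = 0 := by
      intro a ha
      induction ha using Submodule.span_induction with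
      | mem a ha =>
        obtain ⟨b, hb, rfl⟩ := ha
        intro y
        exact (eta_eq_zero_iff r hr hY G hci' 𝓘 hker' j hW _).2
          (Submodule.smul_mem_smul hb (Submodule.mem_top (x := (show Γ(G, W) from y))))
      | zero =>
        intro y
        rw [zero_smul]
        exact map_zero _
      | add a b _ _ ha hb =>
        intro y
        rw [add_smul]
        refine (map_add (eta r hr hY G j W) (show Γ(G, W) from a • y) (show Γ(G, W) from b • y)).trans ?_
        rw [ha y, hb y, add_zero]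
      | smul d a _ ha =>
        intro y
        rw [smul_eq_mul, mul_comm, mul_smul]
        exact ha (d • y)
    refine Submodule.smul_induction_on (p := fun y : Γ(F, f ⁻¹ᵁ W) => eta r hr hY G j W (show Γ(G, W) from y) = 0)
      hm (fun a ha y _ => hgen a ha y) fun a b ha hb => ?_
    refine (map_add (eta r hr hY G j W) (show Γ(G, W) from a) (show Γ(G, W) from b)).trans ?_
    rw [ha, hb, add_zero]
  constructor
  · rw [injective_iff_map_eq_zero]
    intro x hx
    refine rsec_ext hY _ _ fun j => ?_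
    rw [map_zero]
    obtain ⟨m, hm⟩ := hetaG (j + 1 + c) x
    rw [rproj_eq_eta_le r hr hY G (show j ≤ j + 1 + c by omega) W hm.symm]
    refine hmem j m ?_
    have h1 := hlevel (j + 1 + c) x m hm.symm
    simp only [θ, hx, map_zero] at h1
    have h2 := hc (j + 1 + c) (by omega) m h1.symm
    rwa [show j + 1 + c - c = j + 1 by omega] at h2
  · intro y
    let y' := mRes (cMod p hp h F) (preV_tr₀ f p r φ hsq W).ge
      (show DerCompLib.Sec (cMod p hp h F) (preV φ (tr₀ r W)) from y)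
    choose m hm using hlift (fun k => rproj h (pullSys p hp F).F (pullSys p hp F).toPush k (tr₀ p (f ⁻¹ᵁ W)) y')
      (fun k => trSec_rproj h _ _ k _ y')
    have hmj : ∀ {j k : ℕ}, j ≤ k → eta p hp h F j (f ⁻¹ᵁ W) (m k) =
        rproj h (pullSys p hp F).F (pullSys p hp F).toPush j (tr₀ p (f ⁻¹ᵁ W)) y' := fun {j k} hjk =>
      (rproj_eq_eta_le p hp h F hjk _ (hm k).symm).symm
    obtain ⟨x, hx⟩ := exists_rsec hY (pullSys r hr G).F (pullSys r hr G).toPush
      (fun j => eta r hr hY G j W (show Γ(G, W) from m (j + 1 + c))) fun j => by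
        rw [trSec_eta, ← sub_eq_zero]
        refine (map_sub (eta r hr hY G j W) _ _).symm.trans (hmem j _ ?_)
        have h2 := hc (j + 1 + c) (by omega) (m (j + 1 + 1 + c) - m (j + 1 + c))
          (by rw [map_sub, hmj (by omega), hm, sub_self])
        rwa [show j + 1 + c - c = j + 1 by omega] at h2
    refine ⟨x, ?_⟩
    have h1 : θ x = y' := rsec_ext h _ _ fun j =>
      (hlevel j x _ (hx j)).trans (hmj (show j ≤ j + 1 + c by omega))
    have h2 := congrArg (mRes (cMod p hp h F) (preV_tr₀ f p r φ hsq W).le) h1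
    simp only [θ, y'] at h2
    rw [mRes_mRes, mRes_mRes, mRes_self', mRes_self'] at h2
    exact h2

include hX' hY' hci hker h𝓚 hci' hker' hF in
/-- The base-change morphism of the square of a proper morphism and its completion is an isomorphism. -/
theorem isIso_schBcMap (hG : Coh.IsCoh ((Scheme.Modules.pushforward f).obj F)) :
    IsIso (FSch.schBcMap φ h hY f p hp r hr hsq F) := by
  let G := (Scheme.Modules.pushforward f).obj F
  let a := ((FSch.toSchemeMor 𝔛 h p hp).adj.homEquiv F (cMod p hp h F)).symm (psi p hp h F)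
  let b := ((FSch.toSchemeMor 𝔜 hY r hr).adj.homEquiv G (cMod r hr hY G)).symm (psi r hr hY G)
  haveI : IsIso a := isIso_adjunct_psi p hp h F hci 𝓚 hker hF hX'
  haveI : IsIso b := isIso_adjunct_psi r hr hY G hci' 𝓘 hker' hG hY'
  obtain ⟨α, hαiso, hα⟩ := exists_isIso_pushPsi f p hp h F hci 𝓚 hker hF r hr hY φ hsq hX' hY' 𝓘 h𝓚
    hci' hker' hG
  have e : FSch.schBcMap φ h hY f p hp r hr hsq F ≫ (FSch.pushF φ h hY).map a = b ≫ α := by
    apply ((FSch.toSchemeMor 𝔜 hY r hr).adj.homEquiv _ _).injective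
    rw [Adjunction.homEquiv_naturality_right, Adjunction.homEquiv_naturality_right, Equiv.apply_symm_apply, hα]
    refine (congrArg (· ≫ _) (ModSite.RMor.bcMap_transpose
      (FSch.schSharp_sq φ h hY f p hp r hr hsq) F)).trans ?_
    refine (Category.assoc _ _ _).trans ?_
    refine (congrArg (_ ≫ ·) ((ModSite.RMor.pushSq (FSch.schSharp_sq φ h hY f p hp r hr hsq)).hom.naturality a).symm).trans ?_
    refine (Category.assoc _ _ _).symm.trans ?_
    refine congrArg (· ≫ _) ?_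
    refine ((ModSite.RMor.ofScheme f).push.map_comp _ _).symm.trans ?_
    refine congrArg (Scheme.Modules.pushforward f).map ?_
    exact ((FSch.toSchemeMor 𝔛 h p hp).adj.homEquiv_unit F _ a).symm.trans (Equiv.apply_symm_apply _ _)
  haveI : IsIso (FSch.schBcMap φ h hY f p hp r hr hsq F ≫ (FSch.pushF φ h hY).map a) := by
    rw [e]; infer_instance
  exact IsIso.of_isIso_comp_right _ ((FSch.pushF φ h hY).map a)

end Square

end Groth.Agent.FModLib
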