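import Groth.Agent.FModLib.Alg
import Groth.Agent.Coherent.PullUnit
import Groth.Agent.OmegaLib.StalkLocal
import Groth.Agent.FittLib.Basic
import Groth.Agent.EGA43.InjFibre.PullSections
import Mathlib.AlgebraicGeometry.Morphisms.Flat

/-!
# Sections of quasi-coherent modules on affine opens

Restriction to a smaller affine open is a flat base change; spans and relations of restricted families;
sections of the pullback along a closed immersion.
-/

set_option autoImplicit false
set_option backward.isDefEq.respectTransparency false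
set_option linter.style.haveILetI false
set_option linter.unusedSectionVars false

universe u

open CategoryTheory CategoryTheory.Limits AlgebraicGeometry Opposite TopologicalSpace
open Groth.Agent.Coherent Groth.Agent.EGA43.InjFibre Groth.Agent.PicLib

namespace Groth.Agent.FModLib

/-- The kernel of a base change along a surjection. -/
theorem mem_ker_smul_of_isBC {R S N P : Type u} [CommRing R] [CommRing S] [Algebra R S]
    [AddCommGroup N] [Module R N] [AddCommGroup P] [Module R P] [Module S P] [IsScalarTower R S P]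
    (hs : Function.Surjective (algebraMap R S)) {μ : N →ₗ[R] P} (hb : IsBaseChange S μ) {m : N}
    (hm : μ m = 0) : m ∈ RingHom.ker (algebraMap R S) • (⊤ : Submodule R N) := by
  let e : (R ⧸ RingHom.ker (Algebra.ofId R S)) ≃ₐ[R] S :=
    Ideal.quotientKerAlgEquivOfSurjective (f := Algebra.ofId R S) hs
  have h1 : (1 : S) ⊗ₜ[R] m = 0 := hb.equiv.injective (by rw [hb.equiv_tmul, one_smul, hm, map_zero])
  have h2 := congrArg (TensorProduct.map e.symm.toLinearMap (LinearMap.id (R := R) (M := N))) h1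
  rw [TensorProduct.map_tmul, map_zero] at h2
  have h3 := congrArg (TensorProduct.quotTensorEquivQuotSMul N (RingHom.ker (Algebra.ofId R S))) h2
  rw [map_zero] at h3
  have h4 : e.symm.toLinearMap (1 : S) = Ideal.Quotient.mk _ (1 : R) := by
    show e.symm 1 = _
    rw [map_one, map_one]
  rw [h4, TensorProduct.quotTensorEquivQuotSMul_mk_tmul, one_smul, LinearMap.id_apply] at h3
  exact (Submodule.Quotient.mk_eq_zero _).1 h3

variable {X : Scheme.{u}} (M : X.Modules) [Coh.IsQCoh M] {U V : X.Opens}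

/-- Restriction to a smaller affine open is a base change. -/
theorem isBaseChange_resM (hU : IsAffineOpen U) (hV : IsAffineOpen V) (i : V ≤ U) :
    letI := (X.presheaf.map (homOfLE i).op).hom.toAlgebra
    letI := Module.compHom Γ(M, V) (X.presheaf.map (homOfLE i).op).hom
    haveI : IsScalarTower Γ(X, U) Γ(X, V) Γ(M, V) := IsScalarTower.of_algebraMap_smul fun _ _ => rfl
    ∃ μ : Γ(M, U) →ₗ[Γ(X, U)] Γ(M, V), IsBaseChange Γ(X, V) μ ∧ ∀ m, μ m = resM M i m := by
  let e : V ≤ (𝟙 X : X ⟶ X) ⁻¹ᵁ U := i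
  let φ := (𝟙 X : X ⟶ X).appLE U V e
  have hφ : φ = X.presheaf.map (homOfLE i).op := by
    simp only [φ, Scheme.Hom.appLE, Scheme.Hom.id_app, Category.id_comp]
  rw [← hφ]
  letI := φ.hom.toAlgebra
  let P := (Scheme.Modules.pullback (𝟙 X)).obj M
  letI : Module Γ(X, U) Γ(P, V) := Module.compHom _ φ.hom
  letI : Module Γ(X, U) Γ(M, V) := Module.compHom _ φ.hom
  haveI : IsScalarTower Γ(X, U) Γ(X, V) Γ(P, V) := IsScalarTower.of_algebraMap_smul fun _ _ => rfl
  haveI : IsScalarTower Γ(X, U) Γ(X, V) Γ(M, V) := IsScalarTower.of_algebraMap_smul fun _ _ => rfl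
  obtain ⟨μ, hμ, hμe⟩ := pullMap_isBaseChange (𝟙 X) hU hV e M
  let ε := (Scheme.Modules.pullbackId X).app M
  let E : Γ(P, V) ≃ₗ[Γ(X, V)] Γ(M, V) :=
    { toFun := fun x => ε.hom.app V x
      invFun := fun x => ε.inv.app V x
      left_inv := fun x => by
        show ε.inv.app V (ε.hom.app V x) = x
        rw [← ConcreteCategory.comp_apply, ← Scheme.Modules.Hom.comp_app, ε.hom_inv_id]; rfl
      right_inv := fun x => by
        show ε.hom.app V (ε.inv.app V x) = x
        rw [← ConcreteCategory.comp_apply, ← Scheme.Modules.Hom.comp_app, ε.inv_hom_id]; rfl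
      map_add' := fun x y => map_add _ x y
      map_smul' := fun r x => Scheme.Modules.Hom.app_smul _ r x }
  refine ⟨(E.restrictScalars Γ(X, U)).toLinearMap ∘ₗ μ,
    IsBaseChange.of_equiv (hμ.equiv.trans E) (fun x => ?_), fun m => ?_⟩
  · rw [LinearEquiv.trans_apply, hμ.equiv_tmul, one_smul]
    rfl
  show E (μ m) = _
  rw [hμe, pullMap_eq_resM_pullSec]
  refine (app_resM ε.hom e _).trans (congrArg (resM M e) ?_)
  have h4 := OmegaLib.pullbackId_inv_app M U m
  refine (congrArg (ε.hom.app U) h4.symm).trans ?_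
  rw [← ConcreteCategory.comp_apply, ← Scheme.Modules.Hom.comp_app]
  exact congr($(ε.inv_hom_id).app U m)

variable {M}

/-- Restrictions of generators generate. -/
theorem span_resM (hU : IsAffineOpen U) (hV : IsAffineOpen V) (i : V ≤ U) {ι : Type*} (x : ι → Γ(M, U))
    (hx : Submodule.span Γ(X, U) (Set.range x) = ⊤) :
    Submodule.span Γ(X, V) (Set.range fun j => resM M i (x j)) = ⊤ := by
  letI := (X.presheaf.map (homOfLE i).op).hom.toAlgebra
  letI := Module.compHom Γ(M, V) (X.presheaf.map (homOfLE i).op).hom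
  haveI : IsScalarTower Γ(X, U) Γ(X, V) Γ(M, V) := IsScalarTower.of_algebraMap_smul fun _ _ => rfl
  obtain ⟨μ, hμ, hμe⟩ := isBaseChange_resM M hU hV i
  have := FittLib.span_range_comp_isBaseChange hμ x hx
  rwa [show μ ∘ x = fun j => resM M i (x j) from funext fun j => hμe _] at this

/-- Relations between restrictions come from relations on the bigger open. -/
theorem rels_resM (hU : IsAffineOpen U) (hV : IsAffineOpen V) (i : V ≤ U) {ι : Type*} [Fintype ι]
    (x : ι → Γ(M, U)) (a : ι → Γ(X, V)) (ha : ∑ j, a j • resM M i (x j) = 0) :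
    a ∈ Submodule.span Γ(X, V)
      ((fun y => (X.presheaf.map (homOfLE i).op).hom ∘ y) '' (relsOf Γ(X, U) x : Set (ι → Γ(X, U)))) := by
  letI := (X.presheaf.map (homOfLE i).op).hom.toAlgebra
  letI := Module.compHom Γ(M, V) (X.presheaf.map (homOfLE i).op).hom
  haveI : IsScalarTower Γ(X, U) Γ(X, V) Γ(M, V) := IsScalarTower.of_algebraMap_smul fun _ _ => rfl
  haveI : Module.Flat Γ(X, U) Γ(X, V) := by
    have h1 := HasRingHomProperty.appLE @Flat (𝟙 X) inferInstance ⟨U, hU⟩ ⟨V, hV⟩ i
    simp only [Scheme.Hom.appLE, Scheme.Hom.id_app, Category.id_comp] at h1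
    exact h1
  obtain ⟨μ, hμ, hμe⟩ := isBaseChange_resM M hU hV i
  refine relsOf_le_span_of_isBaseChange hμ x ?_
  rw [mem_relsOf]
  simpa [hμe] using ha

/-- Sections of the pullback along a morphism surjective on functions: surjectivity. -/
theorem pullSec_surjective {X' : Scheme.{u}} (f : X' ⟶ X) (hU : IsAffineOpen U) {U' : X'.Opens}
    (hU' : IsAffineOpen U') (e : U' ≤ f ⁻¹ᵁ U) (hs : Function.Surjective (f.appLE U U' e))
    (z : Γ((Scheme.Modules.pullback f).obj M, U')) : ∃ m : Γ(M, U), resM _ e (pullSec f m) = z := by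
  letI := (f.appLE U U' e).hom.toAlgebra
  letI := Module.compHom Γ((Scheme.Modules.pullback f).obj M, U') (f.appLE U U' e).hom
  haveI : IsScalarTower Γ(X, U) Γ(X', U') Γ((Scheme.Modules.pullback f).obj M, U') :=
    IsScalarTower.of_algebraMap_smul fun _ _ => rfl
  obtain ⟨μ, hμ, hμe⟩ := pullMap_isBaseChange f hU hU' e M
  obtain ⟨t, rfl⟩ := hμ.equiv.surjective z
  have h : ∀ t : TensorProduct Γ(X, U) Γ(X', U') Γ(M, U), ∃ m, hμ.equiv t = μ m := by
    intro t
    induction t using TensorProduct.induction_on with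
    | zero => exact ⟨0, by simp⟩
    | tmul r m =>
      obtain ⟨c, rfl⟩ := hs r
      refine ⟨c • m, ?_⟩
      rw [hμ.equiv_tmul, map_smul]
      rfl
    | add a b ha hb =>
      obtain ⟨m, hm⟩ := ha
      obtain ⟨m', hm'⟩ := hb
      exact ⟨m + m', by rw [map_add, map_add, hm, hm']⟩
  obtain ⟨m, hm⟩ := h t
  exact ⟨m, by rw [hm, hμe, pullMap_eq_resM_pullSec]⟩

/-- Sections of the pullback along a morphism surjective on functions: the kernel. -/
theorem pullSec_ker {X' : Scheme.{u}} (f : X' ⟶ X) (hU : IsAffineOpen U) {U' : X'.Opens}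
    (hU' : IsAffineOpen U') (e : U' ≤ f ⁻¹ᵁ U) (hs : Function.Surjective (f.appLE U U' e))
    (m : Γ(M, U)) (hm : resM ((Scheme.Modules.pullback f).obj M) e (pullSec f m) = 0) :
    m ∈ RingHom.ker (f.appLE U U' e).hom • (⊤ : Submodule Γ(X, U) Γ(M, U)) := by
  letI := (f.appLE U U' e).hom.toAlgebra
  letI := Module.compHom Γ((Scheme.Modules.pullback f).obj M, U') (f.appLE U U' e).hom
  haveI : IsScalarTower Γ(X, U) Γ(X', U') Γ((Scheme.Modules.pullback f).obj M, U') :=
    IsScalarTower.of_algebraMap_smul fun _ _ => rfl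
  obtain ⟨μ, hμ, hμe⟩ := pullMap_isBaseChange f hU hU' e M
  exact mem_ker_smul_of_isBC (R := Γ(X, U)) (S := Γ(X', U')) hs hμ
    (by rw [hμe, pullMap_eq_resM_pullSec]; exact hm)

end Groth.Agent.FModLib
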