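import Groth.Agent.FModLib.TopFT
import Groth.Agent.FModLib.ComplHom
import Groth.Agent.S11529

/-!
# Homomorphisms between completions of finite modules on `Spf A`
-/

set_option autoImplicit false
set_option backward.isDefEq.respectTransparency false
set_option linter.style.haveILetI false
set_option linter.unusedSectionVars false

universe u

open CategoryTheory CategoryTheory.Limits AlgebraicGeometry Opposite TopologicalSpace
open Groth.Agent.Coherent Groth.Agent.DerCompLib

namespace Groth.Agent.FModLib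

variable {R : Type u} [CommRing R] {I : Ideal R} {A : CommRingCat.{u}} [Algebra R A]
  (hR : AdicRing.IsBase R I) (hA : AdicRing.TopFiniteType R I A)

/-- A module is the global sections of its tilde. -/
noncomputable def topEquiv (M : ModuleCat.{u} A) : M ≃ₗ[A] Γ(tilde M, (⊤ : (Spec A).Opens)) :=
  (asIso (tilde.toOpen M ⊤)).toLinearEquiv

theorem topEquiv_natural {M N : ModuleCat.{u} A} (u : M ⟶ N) (m : M) :
    ((tilde.functor A).map u).app ⊤ (topEquiv M m) = topEquiv N (u m) :=
  ConcreteCategory.congr_hom (tilde.toOpen_map_app u ⊤) m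

theorem finite_top (M : ModuleCat.{u} A) [Module.Finite A M] :
    Module.Finite Γ(Spec A, ⊤) Γ(tilde M, (⊤ : (Spec A).Opens)) :=
  haveI : Module.Finite A Γ(tilde M, (⊤ : (Spec A).Opens)) := Module.Finite.equiv (topEquiv M)
  Module.Finite.of_restrictScalars_finite A _ _

include hR hA in
theorem isAdicComplete_top (M : ModuleCat.{u} A) [Module.Finite A M] :
    IsAdicComplete ((idl I A).ideal ⟨⊤, isAffineOpen_top (Spec A)⟩) Γ(tilde M, (⊤ : (Spec A).Opens)) := by
  haveI : Module.Finite A Γ(tilde M, (⊤ : (Spec A).Opens)) := Module.Finite.equiv (topEquiv M)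
  letI : Algebra R Γ(Spec A, ⊤) := ((algebraMap A Γ(Spec A, ⊤)).comp (algebraMap R A)).toAlgebra
  letI : Module R Γ(tilde M, (⊤ : (Spec A).Opens)) := Module.compHom _ (algebraMap R A)
  haveI : IsScalarTower R A Γ(tilde M, (⊤ : (Spec A).Opens)) :=
    IsScalarTower.of_algebraMap_smul fun _ _ => rfl
  haveI : IsScalarTower R Γ(Spec A, ⊤) Γ(tilde M, (⊤ : (Spec A).Opens)) :=
    IsScalarTower.of_algebraMap_smul fun r x => algebraMap_smul Γ(Spec A, ⊤) (algebraMap R A r) x
  have hc := S11529.result R I hR A hA Γ(tilde M, (⊤ : (Spec A).Opens))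
  have hK : (idl I A).ideal ⟨⊤, isAffineOpen_top (Spec A)⟩ = I.map (algebraMap R Γ(Spec A, ⊤)) := by
    rw [FSchLib.idealSpec_ideal_top, Ideal.map_map]
    rfl
  rw [hK]
  exact (IsAdicComplete.map_algebraMap_iff (S := Γ(Spec A, ⊤)) I _).2 hc

include hR hA in
/-- Completion is fully faithful on finite modules. -/
theorem bijective_completion_tilde {𝔛 : FSch.Sys.{u}} (p : ∀ n, 𝔛.X n ⟶ Spec A)
    (hp : ∀ n, 𝔛.ι n ≫ p (n + 1) = p n) (h : 𝔛.IsFormal) (hci : ∀ n, IsClosedImmersion (p n))
    (hker : ∀ n, (p n).ker = idl I A ^ (n + 1))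
    (T : ∀ n, Scheme.Modules.pullback (p (n + 1)) ⋙ Scheme.Modules.pullback (𝔛.ι n) ≅ Scheme.Modules.pullback (p n))
    (hT : ∀ n, T n = Scheme.Modules.pullbackComp (𝔛.ι n) (p (n + 1)) ≪≫ Scheme.Modules.pullbackCongr (hp n))
    (M N : ModuleCat.{u} A) [Module.Finite A M] [Module.Finite A N] :
    Function.Bijective fun u : M ⟶ N =>
      FSch.ModSys.realModMap h (pullSysTMap p T ((tilde.functor A).map u)) := by
  obtain rfl : T = fun n =>
      Scheme.Modules.pullbackComp (𝔛.ι n) (p (n + 1)) ≪≫ Scheme.Modules.pullbackCongr (hp n) := funext hT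
  haveI : Coh.IsQCoh (tilde M) := inferInstanceAs ((tilde M).IsQuasicoherent)
  haveI : Coh.IsQCoh (tilde N) := inferInstanceAs ((tilde N).IsQuasicoherent)
  haveI := finite_top M
  haveI := isAdicComplete_top hR hA N
  have hbN := etaL_bijective p hp h hci (idl I A) hker (tilde N) (isAffineOpen_top (Spec A))
  have hmap : ∀ (u : M ⟶ N) (m : M),
      secMap (FSch.ModSys.realModMap h (pullSysMap p hp (tilde M) ((tilde.functor A).map u))) (tr₀ p ⊤)
        (etaL p hp h (tilde M) ⊤ (topEquiv M m)) = etaL p hp h (tilde N) ⊤ (topEquiv N (u m)) := fun u m =>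
    (realMap_etaL p hp h (tilde M) ((tilde.functor A).map u) ⊤ (topEquiv M m)).trans
      (congrArg _ (topEquiv_natural u m))
  refine ⟨fun u v huv => ModuleCat.hom_ext (LinearMap.ext fun m => (topEquiv N).injective (hbN.1 ?_)), fun φ => ?_⟩
  · rw [← hmap u m, ← hmap v m]
    exact congrArg (fun ψ => secMap ψ (tr₀ p ⊤) (etaL p hp h (tilde M) ⊤ (topEquiv M m))) huv
  · choose g hg using fun m : M => hbN.2 (secMap φ (tr₀ p ⊤) (etaL p hp h (tilde M) ⊤ (topEquiv M m)))
    let u : M ⟶ N := ModuleCat.ofHom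
      { toFun := fun m => (topEquiv N).symm (g m)
        map_add' := fun a b => by
          rw [← map_add (topEquiv N).symm]
          refine congrArg _ (hbN.1 ?_)
          rw [map_add, hg, hg, hg, map_add, map_add, map_add]
        map_smul' := fun r a => by
          rw [RingHom.id_apply, ← map_smul (topEquiv N).symm]
          refine congrArg _ (hbN.1 ?_)
          rw [← algebraMap_smul Γ(Spec A, ⊤) r (g a), etaL_smul, hg, hg, map_smul (topEquiv M),
            ← algebraMap_smul Γ(Spec A, ⊤) r (topEquiv M a), etaL_smul, map_smul] }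
    refine ⟨u, hom_ext_top p hp h hci (idl I A) hker (tilde M) _ φ fun x => ?_⟩
    obtain ⟨m, rfl⟩ := (topEquiv M).surjective x
    rw [hmap u m, show topEquiv N (u m) = g m from (topEquiv N).apply_symm_apply (g m), hg]
    rfl

include hR hA in
/-- Completion is fully faithful on finite modules, for the completion of `Spec A`. -/
theorem bijective_complMod_tilde (𝓘 : (Spec A).IdealSheafData) (h𝓘 : 𝓘 = idl I A)
    (h : (FSch.completionAlong (Spec A) 𝓘).IsFormal)
    (M N : ModuleCat.{u} A) [Module.Finite A M] [Module.Finite A N] :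
    Function.Bijective fun u : M ⟶ N =>
      FSch.ModSys.realModMap h (FSch.complModMap 𝓘 ((tilde.functor A).map u)) :=
  bijective_completion_tilde hR hA (FSch.completionToX (Spec A) 𝓘) (FSch.completionToX_comm (Spec A) 𝓘) h
    (fun n => inferInstanceAs (IsClosedImmersion (𝓘 ^ (n + 1)).subschemeι))
    (fun n => (Scheme.IdealSheafData.ker_subschemeι _).trans (by rw [h𝓘]))
    (FSch.complTransIso 𝓘) (complTransIso_eq 𝓘) M N

end Groth.Agent.FModLib
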