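import Groth.Agent.FModLib.TopFPTheta
import Groth.Agent.FModLib.TopFTHom
import Groth.Agent.Props12.FinLocFree
import Groth.Agent.Coherent.FinitePres

/-!
# Coherent modules on `Spf A` come from finitely presented `A`-modules
-/

set_option autoImplicit false
set_option backward.isDefEq.respectTransparency false
set_option linter.style.haveILetI false
set_option linter.unusedSectionVars false

universe u

open CategoryTheory CategoryTheory.Limits AlgebraicGeometry Opposite TopologicalSpace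
open Groth.Agent.FBlowLib Groth.Agent.DerCompLib Groth.Agent.Coherent Groth.Agent.PicLib

namespace Groth.Agent.FModLib

theorem fp_sections_congr {X : Scheme.{u}} (M : X.Modules) {U V : X.Opens} (e : U = V)
    (hM : Module.FinitePresentation Γ(X, U) Γ(M, U)) : Module.FinitePresentation Γ(X, V) Γ(M, V) := by
  subst e
  exact hM

/-- Finite presentation of the global sections is local on basic opens. -/
theorem finitePresentation_top_of_basicOpen {X : Scheme.{u}} [IsAffine X] (M : X.Modules) [Coh.IsQCoh M]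
    (s : Set Γ(X, ⊤)) (hs : Ideal.span s = ⊤)
    (h : ∀ b : s, Module.FinitePresentation Γ(X, X.basicOpen b.1) Γ(M, X.basicOpen b.1)) :
    Module.FinitePresentation Γ(X, ⊤) Γ(M, ⊤) := by
  have hX := isAffineOpen_top X
  letI : ∀ b : s, Module Γ(X, ⊤) Γ(M, X.basicOpen b.1) := fun b =>
    Module.compHom _ (X.presheaf.map (homOfLE (X.basicOpen_le b.1)).op).hom
  haveI : ∀ b : s, IsScalarTower Γ(X, ⊤) Γ(X, X.basicOpen b.1) Γ(M, X.basicOpen b.1) := fun b =>
    IsScalarTower.of_algebraMap_smul fun _ _ => rfl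
  haveI : ∀ b : s, IsLocalization.Away b.1 Γ(X, X.basicOpen b.1) := fun b => hX.isLocalization_basicOpen b.1
  let ϕ : ∀ b : s, Γ(M, ⊤) →ₗ[Γ(X, ⊤)] Γ(M, X.basicOpen b.1) := fun b =>
    { toFun := resM M (X.basicOpen_le b.1)
      map_add' := map_add _
      map_smul' := fun r m => resM_smul M _ r m }
  haveI : ∀ b : s, IsLocalizedModule (Submonoid.powers b.1) (ϕ b) := fun b => by
    refine ⟨fun x => ?_, fun y => ?_, fun {x₁ x₂} e => ?_⟩
    · obtain ⟨_, n, rfl⟩ := x
      have hu : IsUnit (X.presheaf.map (homOfLE (X.basicOpen_le b.1)).op b.1) :=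
        X.toRingedSpace.isUnit_res_basicOpen b.1
      obtain ⟨v, hv⟩ := hu.pow n
      have hv' : ∀ z : Γ(M, X.basicOpen b.1),
          (algebraMap Γ(X, ⊤) (Module.End Γ(X, ⊤) Γ(M, X.basicOpen b.1)) (b.1 ^ n)) z =
            (v : Γ(X, X.basicOpen b.1)) • z := fun z => by
        rw [Module.algebraMap_end_apply, hv, ← map_pow]
        rfl
      rw [Module.End.isUnit_iff]
      exact ⟨fun a c hac => by
          simp only [hv'] at hac
          exact (v.isUnit.smul_left_cancel).1 hac,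
        fun a => ⟨(↑v⁻¹ : Γ(X, X.basicOpen b.1)) • a, by rw [hv', smul_smul, Units.mul_inv, one_smul]⟩⟩
    · obtain ⟨n, t, ht⟩ := qcoh_exists_pow_smul hX M b.1 y
      exact ⟨⟨t, ⟨b.1 ^ n, n, rfl⟩⟩, ht.symm⟩
    · obtain ⟨n, hn⟩ := qcoh_exists_pow_smul_eq_zero hX M b.1 (x₁ - x₂) (by rw [map_sub, sub_eq_zero]; exact e)
      rw [smul_sub, sub_eq_zero] at hn
      exact ⟨⟨b.1 ^ n, n, rfl⟩, hn⟩
  exact Module.FinitePresentation.of_localizationSpan' s hs
    (Rₚ := fun b => Γ(X, X.basicOpen b.1)) (Mₚ := fun b => Γ(M, X.basicOpen b.1)) ϕ h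

section Local

variable {𝔛 : FSch.Sys.{u}} (h : 𝔛.IsFormal) (k : ℕ) (M : ModSite.Mod (𝔛.Osh h)) {U : (𝔛.X 0).Opens}

theorem fp_level (hU : IsAffineOpen U) (Pr : SheafOfModules.Presentation (M := overMod M U)) (hPr : Pr.IsFinite) :
    Module.FinitePresentation Γ(𝔛.X k, 𝔛.lvU h k U) Γ(down h k M, 𝔛.lvU h k U) := by
  classical
  haveI : Finite Pr.generators.I := hPr.isFiniteType_generators.finite
  haveI : Finite Pr.relations.I := hPr.isFiniteType_relations.finite
  haveI := Fintype.ofFinite Pr.generators.I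
  haveI := Fintype.ofFinite Pr.relations.I
  obtain ⟨hspan, hrel⟩ := (down_props h k M Pr hU).2 U hU le_rfl
  let g : Pr.generators.I → Γ(down h k M, 𝔛.lvU h k U) := fun j =>
    resM (down h k M) (FBlow.lvU_mono 𝔛 h k le_rfl) (unitVec h k M (gens Pr j))
  let r : Pr.relations.I → Pr.generators.I → Γ(𝔛.X k, 𝔛.lvU h k U) := fun l j =>
    lres h k le_rfl (proj 𝔛 h k U (relVec Pr l j))
  have hl : ∀ l, ∑ j, r l j • g j = 0 := fun l => by
    have e := congrArg (fun x => resM (down h k M) (FBlow.lvU_mono 𝔛 h k (le_refl U))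
        (upVal h (secMap ((FSch.levelMor 𝔛 h k).adj.unit.app M) U x)))
      (sum_relVec_gens Pr l : (∑ j, (show FBlowLib.Sec 𝔛 h U from relVec Pr l j) •
        (show DerCompLib.Sec M U from gens Pr j)) = 0)
    simp only [map_sum, map_zero, map_smul] at e
    refine Eq.trans (Finset.sum_congr rfl fun j _ => ?_) e
    rw [upVal_smul, resM_smul]
    rfl
  refine Module.finitePresentation_of_surjective (Fintype.linearCombination Γ(𝔛.X k, 𝔛.lvU h k U) g) ?_ ?_
  · intro x
    obtain ⟨c, hc⟩ := (Submodule.mem_span_range_iff_exists_fun _).1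
      (show x ∈ Submodule.span Γ(𝔛.X k, 𝔛.lvU h k U) (Set.range g) by rw [hspan]; trivial)
    exact ⟨c, by rw [Fintype.linearCombination_apply]; exact hc⟩
  · have e : LinearMap.ker (Fintype.linearCombination Γ(𝔛.X k, 𝔛.lvU h k U) g) =
        Submodule.span Γ(𝔛.X k, 𝔛.lvU h k U) (Set.range r) := by
      refine le_antisymm (fun a ha => hrel a ?_) (Submodule.span_le.2 ?_)
      · rwa [LinearMap.mem_ker, Fintype.linearCombination_apply] at ha
      · rintro _ ⟨l, rfl⟩
        rw [SetLike.mem_coe, LinearMap.mem_ker, Fintype.linearCombination_apply]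
        exact hl l
    rw [e]
    exact Submodule.fg_span (Set.finite_range _)

end Local

variable {R : Type u} [CommRing R] {I : Ideal R} {A : CommRingCat.{u}} [Algebra R A]

theorem realModMap_hom_inv {𝔛 : FSch.Sys.{u}} (h : 𝔛.IsFormal) {𝔐 𝔑 : FSch.ModSys 𝔛} (Θ : 𝔐 ≅ 𝔑) :
    FSch.ModSys.realModMap h Θ.hom ≫ FSch.ModSys.realModMap h Θ.inv = 𝟙 _ := by
  refine limit.hom_ext fun k => ?_
  show (FSch.realLimMap 𝔛 h Θ.hom.app _ ≫ FSch.realLimMap 𝔛 h Θ.inv.app _) ≫
      FSch.realProj 𝔛 h 𝔐.F 𝔐.toPush k.unop = 𝟙 _ ≫ FSch.realProj 𝔛 h 𝔐.F 𝔐.toPush k.unop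
  rw [Category.assoc, FSch.realLimMap_realProj, FSch.realLimMap_realProj_assoc, ← Functor.map_comp,
    show Θ.hom.app k.unop ≫ Θ.inv.app k.unop = 𝟙 _ from
      congrArg (fun f : 𝔐 ⟶ 𝔐 => f.app k.unop) Θ.hom_inv_id]
  simp

/-- A morphism out of the pullback of a tilde module is determined by the images of the elements. -/
theorem pullback_tilde_hom_ext {W : Scheme.{u}} (f : W ⟶ Spec A) (M : ModuleCat.{u} A) {G : W.Modules}
    (α β : (Scheme.Modules.pullback f).obj (tilde M) ⟶ G)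
    (e : ∀ m : M, α.app (f ⁻¹ᵁ ⊤) (pullSec f (topEquiv M m)) = β.app (f ⁻¹ᵁ ⊤) (pullSec f (topEquiv M m))) :
    α = β := by
  apply ((Scheme.Modules.pullbackPushforwardAdjunction f).homEquiv _ _).injective
  apply (tilde.adjunction.homEquiv _ _).injective
  refine ModuleCat.hom_ext (LinearMap.ext fun m => ?_)
  rw [Adjunction.homEquiv_unit tilde.adjunction, Adjunction.homEquiv_unit tilde.adjunction,
    Adjunction.homEquiv_unit, Adjunction.homEquiv_unit]
  exact e m

variable (hR : AdicRing.IsBase R I) (hA : AdicRing.TopFiniteType R I A)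
variable {𝔛 : FSch.Sys.{u}} (p : ∀ n, 𝔛.X n ⟶ Spec A) (hp : ∀ n, 𝔛.ι n ≫ p (n + 1) = p n)
  (h : 𝔛.IsFormal) (hci : ∀ n, IsClosedImmersion (p n)) (hker : ∀ n, (p n).ker = idl I A ^ (n + 1))
  (F : ModSite.Mod (𝔛.Osh h)) (hF : FSch.IsCohF 𝔛 h F)

include hp hci hF in
theorem fp_down_top (k : ℕ) :
    Module.FinitePresentation Γ(𝔛.X k, 𝔛.lvU h k (tr₀ p ⊤))
      Γ(down h k F, 𝔛.lvU h k (tr₀ p ⊤)) := by
  haveI := hci k
  haveI : IsAffine (𝔛.X k) := isAffine_of_isAffineHom (p k)
  haveI := isQCoh_down h F hF k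
  let s : Set Γ(𝔛.X k, ⊤) := {b | ∃ (V : (𝔛.X 0).Opens), IsAffineOpen V ∧
    (∃ Pr : SheafOfModules.Presentation (M := overMod F V), Pr.IsFinite) ∧ 𝔛.lvU h k V = (𝔛.X k).basicOpen b}
  refine fp_sections_congr _ (lvU_tr₀ p hp h k ⊤) (finitePresentation_top_of_basicOpen _ s ?_ fun b => ?_)
  · rw [← (isAffineOpen_top (𝔛.X k)).self_le_iSup_basicOpen_iff]
    intro y _
    obtain ⟨V, -, hxV, hV, hVa, hPr⟩ := exists_GB_presentation p h hci F hF ((𝔛.gInv h k) y) ⊤ trivial
    obtain ⟨g, rfl⟩ := hV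
    refine TopologicalSpace.Opens.mem_iSup.2 ⟨⟨(p k).appTop ((Scheme.ΓSpecIso A).inv g), _, hVa, hPr, ?_⟩, ?_⟩
    · rw [← lvU_tr₀ p hp h k, ← basicOpen_eq_of_affine g, Scheme.preimage_basicOpen]
      rfl
    · have : y ∈ 𝔛.lvU h k (tr₀ p (PrimeSpectrum.basicOpen g)) := hxV
      rw [← lvU_tr₀ p hp h k, ← basicOpen_eq_of_affine g, Scheme.preimage_basicOpen] at this
      exact this
  · obtain ⟨b, V, hVa, ⟨Pr, hPr⟩, hb⟩ := b
    exact fp_sections_congr _ hb (fp_level h k F hVa Pr hPr)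

include hR hA hp hci hker hF in
set_option maxHeartbeats 1600000 in
/-- Coherent modules on `Spf A` are completions of finitely presented modules. -/
theorem exists_iso_completion_tilde
    (T : ∀ n, Scheme.Modules.pullback (p (n + 1)) ⋙ Scheme.Modules.pullback (𝔛.ι n) ≅ Scheme.Modules.pullback (p n))
    (hT : ∀ n, T n = Scheme.Modules.pullbackComp (𝔛.ι n) (p (n + 1)) ≪≫ Scheme.Modules.pullbackCongr (hp n)) :
    ∃ M : ModuleCat.{u} A, Module.FinitePresentation A M ∧
      Nonempty (F ≅ (pullSysT p T (tilde M)).realMod h) := by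
  obtain rfl : T = fun n =>
      Scheme.Modules.pullbackComp (𝔛.ι n) (p (n + 1)) ≪≫ Scheme.Modules.pullbackCongr (hp n) := funext hT
  let J : Ideal A := I.map (algebraMap R A)
  haveI : IsAdicComplete J A := (IsAdicComplete.map_algebraMap_iff (S := A) I _).2 (S11529.result R I hR A hA A)
  let V := tr₀ p ⊤
  obtain ⟨hVa, hsec, -⟩ := gb_props hR hA p hp h hci hker (V := V) ⟨1, by rw [PrimeSpectrum.basicOpen_one]⟩
  let 𝔐 := downSys h F
  have hq : ∀ k, Coh.IsQCoh (𝔐.F k) := fun k => isQCoh_down h F hF k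
  haveI := fp_down_top p hp h hci F hF 0
  obtain ⟨-, hlev⟩ := real_props' h 𝔐 hq hVa hsec (inferInstanceAs
    (Module.Finite Γ(𝔛.X 0, 𝔛.lvU h 0 V) Γ(down h 0 F, 𝔛.lvU h 0 V)))
  let σ : A →+* FBlowLib.Sec 𝔛 h V := (sharp p hp h ⊤).comp (Scheme.ΓSpecIso A).inv.hom
  let φ : ∀ k, A →+* Γ(𝔛.X k, 𝔛.lvU h k V) := fun k =>
    ((p k).appLE ⊤ (𝔛.lvU h k V) (lvU_tr₀ p hp h k ⊤).ge).hom.comp (Scheme.ΓSpecIso A).inv.hom
  have hσ : ∀ k a, proj 𝔛 h k V (σ a) = φ k a := fun k a => proj_sharp p hp h k ⊤ _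
  have hiso : Function.Surjective (Scheme.ΓSpecIso A).inv.hom :=
    (ConcreteCategory.bijective_of_isIso (Scheme.ΓSpecIso A).inv).2
  have hφs : ∀ k, Function.Surjective (φ k) := fun k =>
    (appLE_surjective_tr₀ p hp h hci k (isAffineOpen_top _)).comp hiso
  have hφk : ∀ k, RingHom.ker (φ k) = J ^ (k + 1) := fun k => by
    rw [← RingHom.comap_ker, ker_appLE_tr₀ p hp h hci (idl I A) hker k (isAffineOpen_top _),
      FSchLib.idealSpec_ideal_top, ← Ideal.map_pow]
    exact Ideal.comap_map_of_bijective _ (ConcreteCategory.bijective_of_isIso (Scheme.ΓSpecIso A).inv)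
  have hJ : J.FG := (ValTate.isBase_fg hR).map _
  -- the levels as modules over `A`
  let N : ℕ → Type u := fun k => Γ(𝔐.F k, 𝔛.lvU h k V)
  letI : ∀ k, AddCommGroup (N k) := fun k => inferInstanceAs (AddCommGroup Γ(𝔐.F k, 𝔛.lvU h k V))
  letI iL : ∀ k, Module Γ(𝔛.X k, 𝔛.lvU h k V) (N k) := fun k => inferInstanceAs (Module _ Γ(𝔐.F k, 𝔛.lvU h k V))
  letI iA : ∀ k, Module A (N k) := fun k => Module.compHom _ (φ k)
  let L : Type u := DerCompLib.Sec (𝔐.realMod h) V
  letI : Module A L := Module.compHom L σ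
  let π : ∀ k, L →ₗ[A] N k := fun k =>
    { toFun := fun x => upVal h (rproj h 𝔐.F 𝔐.toPush k V x)
      map_add' := fun x y => by rw [map_add, map_add]
      map_smul' := fun a x => by
        show upVal h (rproj h 𝔐.F 𝔐.toPush k V (σ a • x)) = φ k a • upVal h (rproj h 𝔐.F 𝔐.toPush k V x)
        rw [map_smul, upVal_smul, hσ] }
  let t : ∀ k, N (k + 1) →ₗ[A] N k := fun k =>
    { toFun := fun z => upVal h (trSec h 𝔐.F 𝔐.toPush k V ((upVal h).symm z))
      map_add' := fun x y => by rw [map_add, map_add, map_add]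
      map_smul' := fun a z => by
        show upVal h (trSec h 𝔐.F 𝔐.toPush k V ((upVal h).symm (φ (k + 1) a • z))) = φ k a • _
        rw [← hσ (k + 1), show (upVal h).symm (proj 𝔛 h (k + 1) V (σ a) • z) = σ a • (upVal h).symm z from rfl,
          map_smul, upVal_smul, hσ] }
  have htπ : ∀ k x, t k (π (k + 1) x) = π k x := fun k x => by
    show upVal h (trSec h 𝔐.F 𝔐.toPush k V ((upVal h).symm (upVal h (rproj h 𝔐.F 𝔐.toPush (k + 1) V x)))) = _
    rw [AddEquiv.symm_apply_apply, trSec_rproj]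
    rfl
  have hπs : ∀ k, Function.Surjective (π k) := fun k z => by
    obtain ⟨x, hx⟩ := (hlev k).1 ((upVal h).symm z)
    exact ⟨x, (congrArg (upVal h) hx).trans ((upVal h).apply_symm_apply z)⟩
  have hkill : ∀ k, J ^ (k + 1) • (⊤ : Submodule A (N k)) = ⊥ := fun k => by
    rw [eq_bot_iff, Submodule.smul_le]
    intro a ha n _
    rw [← hφk, RingHom.mem_ker] at ha
    exact (Submodule.mem_bot _).2 ((congrArg (· • n) ha).trans (zero_smul Γ(𝔛.X k, 𝔛.lvU h k V) n))
  have htk : ∀ k, LinearMap.ker (t k) = J ^ (k + 1) • (⊤ : Submodule A (N (k + 1))) := fun k => by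
    refine le_antisymm (fun z hz => ?_) ?_
    · have hz' : (upVal h).symm z ∈ jdl h V ^ (k + 1) •
          (⊤ : Submodule (FBlowLib.Sec 𝔛 h V) (DerCompLib.Sec (up h (k + 1) (𝔐.F (k + 1))) V)) := by
        rw [← ker_trSec' h 𝔐 hq hVa hsec k, LinearMap.mem_ker]
        exact (upVal h).injective ((LinearMap.mem_ker.1 hz).trans (map_zero (upVal h)).symm)
      have key : ∀ w, w ∈ jdl h V ^ (k + 1) •
          (⊤ : Submodule (FBlowLib.Sec 𝔛 h V) (DerCompLib.Sec (up h (k + 1) (𝔐.F (k + 1))) V)) →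
          (upVal h w : N (k + 1)) ∈ J ^ (k + 1) • (⊤ : Submodule A (N (k + 1))) := fun w hw => by
        refine Submodule.smul_induction_on hw (fun r hr y _ => ?_) fun y y' hy hy' => ?_
        · have hr' : proj 𝔛 h (k + 1) V r ∈ (J ^ (k + 1)).map (φ (k + 1)) := by
            obtain ⟨a, ha⟩ := hφs (k + 1) (proj 𝔛 h (k + 1) V r)
            refine ha ▸ Ideal.mem_map_of_mem _ ?_
            rw [← hφk k, RingHom.mem_ker, ← hσ]
            rw [← (hsec.2 k).2, RingHom.mem_ker, ← proj_succ] at hr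
            rw [← ha, ← hσ] at hr
            rw [← proj_succ]
            exact hr
          obtain ⟨a, ha, har⟩ := (Ideal.mem_map_iff_of_surjective _ (hφs (k + 1))).1 hr'
          rw [upVal_smul, ← har]
          exact Submodule.smul_mem_smul ha (Submodule.mem_top : (upVal h y : N (k + 1)) ∈ _)
        · rw [map_add]; exact add_mem hy hy'
      exact ((upVal h).apply_symm_apply z) ▸ key _ hz'
    · rw [Submodule.smul_le]
      intro a ha z _
      rw [LinearMap.mem_ker, map_smul]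
      exact (Submodule.mem_bot A).1 ((hkill k).le (Submodule.smul_mem_smul ha Submodule.mem_top))
  haveI hNfp : ∀ k, Module.FinitePresentation A (N k) := fun k => by
    letI : Algebra A Γ(𝔛.X k, 𝔛.lvU h k V) := (φ k).toAlgebra
    haveI : IsScalarTower A Γ(𝔛.X k, 𝔛.lvU h k V) (N k) := IsScalarTower.of_algebraMap_smul fun _ _ => rfl
    haveI : Module.FinitePresentation A Γ(𝔛.X k, 𝔛.lvU h k V) :=
      Module.finitePresentation_of_surjective (Algebra.linearMap A Γ(𝔛.X k, 𝔛.lvU h k V)) (hφs k) (by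
        have : LinearMap.ker (Algebra.linearMap A Γ(𝔛.X k, 𝔛.lvU h k V)) = (J ^ (k + 1) : Ideal A) := hφk k
        rw [this]
        exact Ideal.FG.pow hJ)
    haveI : Module.FinitePresentation Γ(𝔛.X k, 𝔛.lvU h k V) (N k) := fp_down_top p hp h hci F hF k
    exact Module.FinitePresentation.trans A (N k) Γ(𝔛.X k, 𝔛.lvU h k V)
  obtain ⟨hLfin, -, hLk⟩ := S7852.result A J N t
    (fun k z => by obtain ⟨x, rfl⟩ := hπs k z; exact ⟨π (k + 1) x, htπ k x⟩) hkill htk L π
    (fun k => LinearMap.ext fun x => htπ k x)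
    (fun x hx => rsec_ext h 𝔐.F 𝔐.toPush fun k => ((upVal h).injective ((hx k).trans (map_zero (upVal h)).symm)).trans (map_zero _).symm)
    (fun y hy => by
      obtain ⟨x, hx⟩ := exists_rsec h 𝔐.F 𝔐.toPush (fun k => (upVal h).symm (y k))
        (fun k => (upVal h).injective ((hy k).trans ((upVal h).apply_symm_apply _).symm))
      exact ⟨x, fun k => (congrArg (upVal h) (hx k)).trans ((upVal h).apply_symm_apply _)⟩) inferInstance
  let M : ModuleCat.{u} A := ModuleCat.of A L
  haveI : Module.Finite A M := hLfin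
  refine ⟨M, finitePresentation_of_trunc hR hA L fun k => ?_, ?_⟩
  · haveI := hNfp k
    exact Module.FinitePresentation.of_equiv
      (((Submodule.quotEquivOfEq _ _ (hLk k).2.symm).trans ((π k).quotKerEquivOfSurjective (hπs k))).symm)
  haveI : Coh.IsQCoh (tilde M) := inferInstanceAs ((tilde M).IsQuasicoherent)
  -- the comparison at the levels
  let ql : ∀ k, L →ₗ[A] Γ((Scheme.Modules.pushforward (p k)).obj (𝔐.F k), (⊤ : (Spec A).Opens)) := fun k =>
    { toFun := fun x => resM (𝔐.F k) (lvU_tr₀ p hp h k ⊤).le (π k x)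
      map_add' := fun x y => by rw [map_add]; exact map_add (resM (𝔐.F k) _) _ _
      map_smul' := fun a x => by
        rw [map_smul, RingHom.id_apply]
        show resM (𝔐.F k) _ (φ k a • (show Γ(𝔐.F k, 𝔛.lvU h k V) from π k x)) = _
        rw [resM_smul]
        refine congrArg (· • resM (𝔐.F k) (lvU_tr₀ p hp h k ⊤).le (π k x)) ?_
        show (𝔛.X k).presheaf.map _ ((p k).appLE ⊤ _ _ ((Scheme.ΓSpecIso A).inv a)) = _
        rw [← ConcreteCategory.comp_apply, Scheme.Hom.appLE_map]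
        simp [Scheme.Hom.appLE]
        rfl }
  let q : ∀ k, M ⟶ moduleSpecΓFunctor.obj ((Scheme.Modules.pushforward (p k)).obj (𝔐.F k)) := fun k =>
    (ModuleCat.ofHom (ql k) : ModuleCat.of A L ⟶
      ModuleCat.of A Γ((Scheme.Modules.pushforward (p k)).obj (𝔐.F k), (⊤ : (Spec A).Opens)))
  let θ : ∀ k, (Scheme.Modules.pullback (p k)).obj (tilde M) ⟶ 𝔐.F k := fun k =>
    ((Scheme.Modules.pullbackPushforwardAdjunction (p k)).homEquiv _ _).symm
      ((tilde.adjunction.homEquiv _ _).symm (q k))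
  have hθ : ∀ k (m : M), (θ k).app (p k ⁻¹ᵁ ⊤) (pullSec (p k) (topEquiv M m)) =
      resM (𝔐.F k) (lvU_tr₀ p hp h k ⊤).le (π k m) := fun k m => by
    rw [homEquiv_symm_app_pullSec, Adjunction.homEquiv_counit]
    have h1 := (ConcreteCategory.congr_hom ((tilde.adjunction.homEquiv_unit _ _ _).symm.trans
      ((congrArg (tilde.adjunction.homEquiv _ _) (Adjunction.homEquiv_counit _ _ _ _).symm).trans
        (Equiv.apply_symm_apply _ (q k)))) m)
    rw [ConcreteCategory.comp_apply] at h1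
    exact h1
  have hT' : ∀ k, (p k) ⁻¹ᵁ ⊤ = 𝔛.lvU h k V := fun k => lvU_tr₀ p hp h k ⊤
  haveI : ∀ k, IsIso (θ k) := fun k => by
    haveI := hci k
    haveI : IsAffine (𝔛.X k) := isAffine_of_isAffineHom (p k)
    haveI : Coh.IsQCoh (𝔐.F k) := hq k
    haveI : Coh.IsQCoh ((Scheme.Modules.pullback (p k)).obj (tilde M)) :=
      EGA43.InjFibre.isQCoh_pullback (p k) (tilde M)
    refine Props12.isIso_of_bijective_top _ ⟨(injective_iff_map_eq_zero _).2 fun z hz => ?_, fun z => ?_⟩
    · obtain ⟨y, rfl⟩ := pullSec_surjective (M := tilde M) (p k) (isAffineOpen_top _)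
        (isAffineOpen_top (𝔛.X k)) (U' := ⊤) le_rfl (by
          show Function.Surjective ((p k).appLE ⊤ ((p k) ⁻¹ᵁ ⊤) le_rfl)
          rw [Scheme.Hom.appLE_eq_app]
          exact (p k).app_surjective ⊤ (isAffineOpen_top _)) z
      obtain ⟨m, rfl⟩ := (topEquiv M).surjective y
      have h1 : π k m = 0 := by
        have h2 : resM (𝔐.F k) (lvU_tr₀ p hp h k ⊤).le (π k m) = 0 := by
          rw [← hθ]
          exact (congrArg ((θ k).app ⊤) (resM_id _ _ _).symm).trans hz
        exact (FModLib.resM_bijective_of_eq (𝔐.F k) (hT' k)).1 (h2.trans (map_zero _).symm)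
      rw [← LinearMap.mem_ker, (hLk k).2] at h1
      show resM _ _ (pullSec (p k) (topEquiv M m)) = 0
      refine Submodule.smul_induction_on h1 (fun a ha x _ => ?_) fun x y hx hy => ?_
      · have hpa : (p k).app ⊤ ((Scheme.ΓSpecIso A).inv a) = 0 := by
          rw [← hφk, RingHom.mem_ker] at ha
          have hb : Function.Bijective ((𝔛.X k).presheaf.map (homOfLE (hT' k).ge).op) := by
            rw [show homOfLE (hT' k).ge = eqToHom (hT' k).symm from Subsingleton.elim _ _]
            exact ConcreteCategory.bijective_of_isIso _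
          exact hb.1 (ha.trans (map_zero _).symm)
        rw [show topEquiv M (a • x) = a • topEquiv M x from (topEquiv M).map_smul a x, Scheme.Modules.smul_Spec_def,
          pullSec_smul, resM_smul]
        have : (Spec A).presheaf.map (homOfLE (le_top (a := (⊤ : (Spec A).Opens)))).op ((Scheme.ΓSpecIso A).inv a) =
            (Scheme.ΓSpecIso A).inv a := ConcreteCategory.congr_hom ((Spec A).presheaf.map_id _) _
        rw [show (⊤ : (Spec A).Opens).leTop = homOfLE (le_top (a := (⊤ : (Spec A).Opens))) from rfl, this, hpa,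
          map_zero, zero_smul]
      · rw [map_add, show pullSec (p k) (topEquiv M x + topEquiv M y) =
          pullSec (p k) (topEquiv M x) + pullSec (p k) (topEquiv M y) from map_add _ _ _, map_add, hx, hy, add_zero]
    · obtain ⟨m, hm⟩ := hπs k (resM (𝔐.F k) (hT' k).ge z)
      refine ⟨pullSec (p k) (topEquiv M m), ?_⟩
      refine (hθ k m).trans ?_
      rw [hm, resM_resM]
      exact resM_id _ _ _
  have hcomm : ∀ k, (Scheme.Modules.pullback (𝔛.ι k)).map (θ (k + 1)) ≫ (𝔐.e k).hom =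
      ((pullSys p hp (tilde M)).e k).hom ≫ θ k := fun k => by
    apply ((Scheme.Modules.pullbackPushforwardAdjunction (𝔛.ι k)).homEquiv _ _).injective
    rw [Adjunction.homEquiv_naturality_left, Adjunction.homEquiv_naturality_right]
    refine pullback_tilde_hom_ext (p (k + 1)) M _ _ fun m => ?_
    show (𝔐.toPush k).app _ ((θ (k + 1)).app _ (pullSec (p (k + 1)) (topEquiv M m))) =
      (θ k).app _ ((((Scheme.Modules.pullbackPushforwardAdjunction (𝔛.ι k)).homEquiv _ _)
        ((Scheme.Modules.pullbackComp (𝔛.ι k) (p (k + 1)) ≪≫ Scheme.Modules.pullbackCongr (hp k)).app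
          (tilde M)).hom).app (p (k + 1) ⁻¹ᵁ ⊤) (pullSec (p (k + 1)) (topEquiv M m)))
    rw [homEquiv_comp_pullSec, hθ]
    refine Eq.trans ?_ (((app_resM (θ k) _ (pullSec (p k) (topEquiv M m))).trans
      (congrArg (resM (𝔐.F k) _) (hθ k m))).symm)
    rw [resM_resM, app_resM]
    have h3 := congrArg (resM (𝔐.F k) (show 𝔛.ι k ⁻¹ᵁ (p (k + 1) ⁻¹ᵁ ⊤) ≤ 𝔛.lvU h k V from
      fun x _ => (hT' k).le (x := x) trivial)) (htπ k m)
    refine Eq.trans ?_ h3
    show _ = resM (𝔐.F k) _ (upVal h (trSec h 𝔐.F 𝔐.toPush k V ((upVal h).symm (π (k + 1) m))))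
    rw [upVal_trSec, AddEquiv.apply_symm_apply, resM_resM]
    rfl
  let Θ : pullSys p hp (tilde M) ≅ 𝔐 :=
    { hom := ⟨θ, hcomm⟩
      inv := ⟨fun k => inv (θ k), fun k => by
        rw [← cancel_mono (θ k), Category.assoc, Category.assoc, IsIso.inv_hom_id, Category.comp_id,
          ← hcomm k, ← Category.assoc, ← Functor.map_comp, IsIso.inv_hom_id, CategoryTheory.Functor.map_id,
          Category.id_comp]⟩
      hom_inv_id := FSch.ModSys.Hom.ext (funext fun k => IsIso.hom_inv_id (θ k))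
      inv_hom_id := FSch.ModSys.Hom.ext (funext fun k => IsIso.inv_hom_id (θ k)) }
  haveI := isIso_theta' hR hA p hp h hci hker F hF
  exact ⟨asIso (theta h F) ≪≫
    { hom := FSch.ModSys.realModMap h Θ.inv
      inv := FSch.ModSys.realModMap h Θ.hom
      hom_inv_id := realModMap_hom_inv h Θ.symm
      inv_hom_id := realModMap_hom_inv h Θ }⟩

end Groth.Agent.FModLib
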