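import Groth.Agent.FModLib.ComplExactGen
import Groth.Agent.S11537
import Groth.Agent.S11539
import Groth.Agent.AffSchLib.TildeExact
import Groth.Agent.FSchLib.Systems

/-!
# Completion of tilde modules over algebras topologically of finite type
-/

set_option autoImplicit false
set_option backward.isDefEq.respectTransparency false
set_option linter.style.haveILetI false
set_option linter.unusedSectionVars false

universe u

open CategoryTheory CategoryTheory.Limits AlgebraicGeometry Opposite TopologicalSpace TensorProduct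
open Groth.Agent.Coherent

namespace Groth.Agent.FModLib

/-- Exactness of completion of finite modules when the completed ring is flat and completion is a tensor product. -/
theorem completion_exact_of_flat {B : Type u} [CommRing B] (K : Ideal B) [Module.Flat B (AdicCompletion K B)]
    (hbij : ∀ (M : Type u) [AddCommGroup M] [Module B M] [Module.Finite B M],
      Function.Bijective (AdicCompletion.ofTensorProduct K M))
    {L M N : Type u} [AddCommGroup L] [Module B L] [Module.Finite B L] [AddCommGroup M] [Module B M]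
    [Module.Finite B M] [AddCommGroup N] [Module B N] [Module.Finite B N]
    {f : L →ₗ[B] M} {g : M →ₗ[B] N} (hf : Function.Injective f) (hfg : Function.Exact f g) :
    Function.Injective (AdicCompletion.map K f) ∧
      Function.Exact (AdicCompletion.map K f) (AdicCompletion.map K g) := by
  have nf : ∀ x, AdicCompletion.map K f (AdicCompletion.ofTensorProduct K L x) =
      AdicCompletion.ofTensorProduct K M (f.lTensor (AdicCompletion K B) x) := fun x =>
    LinearMap.congr_fun (AdicCompletion.ofTensorProduct_naturality K f) x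
  have ng : ∀ x, AdicCompletion.map K g (AdicCompletion.ofTensorProduct K M x) =
      AdicCompletion.ofTensorProduct K N (g.lTensor (AdicCompletion K B) x) := fun x =>
    LinearMap.congr_fun (AdicCompletion.ofTensorProduct_naturality K g) x
  refine ⟨fun a b hab => ?_, fun y => ⟨fun hy => ?_, ?_⟩⟩
  · obtain ⟨a, rfl⟩ := (hbij L).2 a
    obtain ⟨b, rfl⟩ := (hbij L).2 b
    rw [nf, nf] at hab
    exact congrArg _ (Module.Flat.lTensor_preserves_injective_linearMap f hf ((hbij M).1 hab))
  · obtain ⟨y, rfl⟩ := (hbij M).2 y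
    rw [ng, map_eq_zero_iff _ (hbij N).1] at hy
    obtain ⟨x, rfl⟩ := (Module.Flat.lTensor_exact (AdicCompletion K B) hfg y).1 hy
    exact ⟨_, nf x⟩
  · rintro ⟨x, rfl⟩
    obtain ⟨x, rfl⟩ := (hbij L).2 x
    rw [nf, ng, (Module.Flat.lTensor_exact (AdicCompletion K B) hfg).apply_apply_eq_zero, map_zero]

variable {R : Type u} [CommRing R] {I : Ideal R} {A : CommRingCat.{u}} [Algebra R A]

theorem finite_tilde_basicOpen (M : ModuleCat.{u} A) [Module.Finite A M] (f : A) :
    Module.Finite Γ(Spec (A), PrimeSpectrum.basicOpen f)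
      Γ(tilde M, PrimeSpectrum.basicOpen f) := by
  let g : M →ₗ[A] Γ(tilde M, PrimeSpectrum.basicOpen f) := (tilde.toOpen M (PrimeSpectrum.basicOpen f)).hom
  haveI : IsLocalizedModule (Submonoid.powers f) g :=
    inferInstanceAs (IsLocalizedModule.Away f (tilde.toOpen M (PrimeSpectrum.basicOpen f)).hom)
  exact Module.Finite.of_isLocalizedModule (Submonoid.powers f)
    (Rₚ := Γ(Spec A, PrimeSpectrum.basicOpen f)) g

theorem ideal_idealSpec_basicOpen (J : Ideal A) (f : A)
    (hW : IsAffineOpen (X := Spec (A)) (PrimeSpectrum.basicOpen f)) :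
    (FSch.idealSpec A J).ideal ⟨_, hW⟩ =
      J.map (algebraMap (A) Γ(Spec (A), PrimeSpectrum.basicOpen f)) := by
  rw [← Scheme.IdealSheafData.map_ideal (I := FSch.idealSpec A J)
    (show (⟨_, hW⟩ : (Spec (A)).affineOpens) ≤ ⟨⊤, isAffineOpen_top _⟩ from fun x _ => trivial),
    FSchLib.idealSpec_ideal_top, Ideal.map_map]
  rfl

variable (hR : AdicRing.IsBase R I) (hA : AdicRing.TopFiniteType R I A)

/-- The system of closed subschemes of the completion of `Spec A`. -/
noncomputable abbrev idl (I : Ideal R) (A : CommRingCat.{u}) [Algebra R A] :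
    (Spec A).IdealSheafData := FSch.idealSpec A (I.map (algebraMap R A))

include hR hA in
theorem completion_exact_basicOpen (S : ShortComplex (ModuleCat.{u} A))
    [Module.Finite A S.X₁] [Module.Finite A S.X₂] [Module.Finite A S.X₃] (hS : S.ShortExact) (f : A)
    (hW : IsAffineOpen (X := Spec (A)) (PrimeSpectrum.basicOpen f)) :
    Function.Injective (AdicCompletion.map ((idl I A).ideal ⟨_, hW⟩)
        (appLin ((tilde.functor (A)).map S.f) (PrimeSpectrum.basicOpen f))) ∧
      Function.Exact (AdicCompletion.map ((idl I A).ideal ⟨_, hW⟩)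
          (appLin ((tilde.functor (A)).map S.f) (PrimeSpectrum.basicOpen f)))
        (AdicCompletion.map ((idl I A).ideal ⟨_, hW⟩)
          (appLin ((tilde.functor (A)).map S.g) (PrimeSpectrum.basicOpen f))) := by
  let Sp := Spec (A)
  let W : Sp.Opens := PrimeSpectrum.basicOpen f
  letI : Algebra R Γ(Sp, W) := ((algebraMap A Γ(Sp, W)).comp (algebraMap R A)).toAlgebra
  haveI : IsScalarTower R A Γ(Sp, W) := IsScalarTower.of_algebraMap_eq fun _ => rfl
  haveI : Algebra.FiniteType A Γ(Sp, W) := IsLocalization.finiteType_of_monoid_fg (Submonoid.powers f) _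
  have hK : (idl I A).ideal ⟨_, hW⟩ = I.map (algebraMap R Γ(Sp, W)) := by
    rw [ideal_idealSpec_basicOpen, Ideal.map_map]
    rfl
  rw [hK]
  haveI := S11539.result R I hR A hA Γ(Sp, W)
  haveI := AffSchLib.preservesFiniteLimits_tilde (A)
  have hS' := hS.map_of_exact (tilde.functor (A))
  haveI : Coh.IsQCoh (S.map (tilde.functor (A))).X₁ :=
    inferInstanceAs ((tilde S.X₁).IsQuasicoherent)
  haveI : Module.Finite Γ(Sp, W) Γ((tilde.functor (A)).obj S.X₁, W) := finite_tilde_basicOpen S.X₁ f
  haveI : Module.Finite Γ(Sp, W) Γ((tilde.functor (A)).obj S.X₂, W) := finite_tilde_basicOpen S.X₂ f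
  haveI : Module.Finite Γ(Sp, W) Γ((tilde.functor (A)).obj S.X₃, W) := finite_tilde_basicOpen S.X₃ f
  exact completion_exact_of_flat _ (fun M => S11537.result R I hR A hA Γ(Sp, W) M)
    (sections_injective hS' W)
    (fun s => ⟨fun hs => sections_exact hS' s hs, fun ⟨t, ht⟩ => ht ▸ sections_zero (S := S.map (tilde.functor A)) W t⟩)

include hR hA in
/-- Completion of finite modules on `Spf A` is exact. -/
theorem shortExact_completion_tilde {𝔛 : FSch.Sys.{u}} (p : ∀ n, 𝔛.X n ⟶ Spec (A))
    (hp : ∀ n, 𝔛.ι n ≫ p (n + 1) = p n) (h : 𝔛.IsFormal) (hci : ∀ n, IsClosedImmersion (p n))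
    (hker : ∀ n, (p n).ker = idl I A ^ (n + 1))
    (T : ∀ n, Scheme.Modules.pullback (p (n + 1)) ⋙ Scheme.Modules.pullback (𝔛.ι n) ≅ Scheme.Modules.pullback (p n))
    (hT : ∀ n, T n = Scheme.Modules.pullbackComp (𝔛.ι n) (p (n + 1)) ≪≫ Scheme.Modules.pullbackCongr (hp n))
    (S : ShortComplex (ModuleCat.{u} A)) (hS : S.ShortExact)
    [Module.Finite A S.X₁] [Module.Finite A S.X₂] [Module.Finite A S.X₃] :
    ∃ w : FSch.ModSys.realModMap h (pullSysTMap p T ((tilde.functor (A)).map S.f)) ≫
        FSch.ModSys.realModMap h (pullSysTMap p T ((tilde.functor (A)).map S.g)) = 0,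
      (ShortComplex.mk _ _ w).ShortExact := by
  obtain rfl : T = fun n =>
      Scheme.Modules.pullbackComp (𝔛.ι n) (p (n + 1)) ≪≫ Scheme.Modules.pullbackCongr (hp n) := funext hT
  haveI := AffSchLib.preservesFiniteLimits_tilde (A)
  haveI : Coh.IsQCoh (S.map (tilde.functor (A))).X₁ :=
    inferInstanceAs ((tilde S.X₁).IsQuasicoherent)
  haveI : Coh.IsQCoh (S.map (tilde.functor (A))).X₂ :=
    inferInstanceAs ((tilde S.X₂).IsQuasicoherent)
  haveI : Coh.IsQCoh (S.map (tilde.functor (A))).X₃ :=
    inferInstanceAs ((tilde S.X₃).IsQuasicoherent)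
  refine shortExact_pullSys_of_basis p hp h hci (idl I A) hker
    (fun W => ∃ f : A, W = PrimeSpectrum.basicOpen f) ?_ ?_ (S.map (tilde.functor (A)))
    (hS.map_of_exact (tilde.functor (A))) ?_
  · rintro _ ⟨f, rfl⟩
    exact IsAffineOpen.Spec_basicOpen f
  · intro U x hx
    obtain ⟨_, ⟨f, rfl⟩, hxf, hfU⟩ := Opens.isBasis_iff_nbhd.1 PrimeSpectrum.isBasis_basic_opens hx
    exact ⟨_, ⟨f, rfl⟩, hxf, hfU⟩
  · rintro _ hW ⟨f, rfl⟩
    exact completion_exact_basicOpen hR hA S hS f hW

include hR hA in
/-- Completion of finite modules on `Spf A` is exact, for the completion of `Spec A`. -/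
theorem shortExact_complMod_tilde (𝓘 : (Spec A).IdealSheafData) (h𝓘 : 𝓘 = idl I A)
    (h : (FSch.completionAlong (Spec A) 𝓘).IsFormal) (S : ShortComplex (ModuleCat.{u} A)) (hS : S.ShortExact)
    [Module.Finite A S.X₁] [Module.Finite A S.X₂] [Module.Finite A S.X₃] :
    ∃ w : FSch.ModSys.realModMap h (FSch.complModMap 𝓘 ((tilde.functor A).map S.f)) ≫
        FSch.ModSys.realModMap h (FSch.complModMap 𝓘 ((tilde.functor A).map S.g)) = 0,
      (ShortComplex.mk _ _ w).ShortExact :=
  shortExact_completion_tilde hR hA (FSch.completionToX (Spec A) 𝓘) (FSch.completionToX_comm (Spec A) 𝓘) h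
    (fun n => inferInstanceAs (IsClosedImmersion (𝓘 ^ (n + 1)).subschemeι))
    (fun n => (Scheme.IdealSheafData.ker_subschemeι _).trans (by rw [h𝓘]))
    (FSch.complTransIso 𝓘) (complTransIso_eq 𝓘) S hS

end Groth.Agent.FModLib
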