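import Groth.Agent.FModLib.PullIso
import Groth.Agent.FModLib.TopFT
import Groth.Agent.ValTate.Presentation
import Groth.Agent.S11529

/-!
# Rings of sections of `Spf A` for `A` topologically of finite type, without Noetherian hypotheses
-/

set_option autoImplicit false
set_option backward.isDefEq.respectTransparency false
set_option linter.style.haveILetI false
set_option linter.unusedSectionVars false

universe u

open CategoryTheory CategoryTheory.Limits AlgebraicGeometry Opposite TopologicalSpace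
open Groth.Agent.FBlowLib Groth.Agent.DerCompLib Groth.Agent.Coherent

namespace Groth.Agent.FModLib

variable {R : Type u} [CommRing R] {I : Ideal R}

/-- A finite module whose truncations are finitely presented is finitely presented. -/
theorem finitePresentation_of_trunc {A : Type u} [CommRing A] [Algebra R A] (hR : AdicRing.IsBase R I)
    (hA : AdicRing.TopFiniteType R I A) (M : Type u) [AddCommGroup M] [Module A M] [Module.Finite A M]
    (hM : ∀ k : ℕ, Module.FinitePresentation A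
      (M ⧸ (I.map (algebraMap R A)) ^ (k + 1) • (⊤ : Submodule A M))) :
    Module.FinitePresentation A M := by
  let J := I.map (algebraMap R A)
  have ht : ValTate.Tame J := ValTate.tame_of_topFiniteType I hR hA
  obtain ⟨m, p, hp⟩ := Module.Finite.exists_fin' A M
  refine Module.finitePresentation_of_surjective p hp ?_
  let K := LinearMap.ker p
  obtain ⟨c, hc⟩ := ht.exists_pow_smul_le K
  obtain ⟨n₀, hn₀⟩ := ht.exists_artinRees K
  let k := c + n₀
  let N : Submodule A (Fin m → A) := J ^ c • ValTate.powSat J K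
  have hN : N.FG := Submodule.FG.smul (Ideal.FG.pow ht.fg_ideal) (ht.powSat_fg K)
  let q := (J ^ (k + 1) • (⊤ : Submodule A M)).mkQ
  haveI := hM k
  have hfg : (LinearMap.ker (q.comp p)).FG :=
    Module.FinitePresentation.fg_ker _ ((Submodule.mkQ_surjective _).comp hp)
  have hker : LinearMap.ker (q.comp p) = K ⊔ J ^ (k + 1) • (⊤ : Submodule A (Fin m → A)) := by
    rw [LinearMap.ker_comp, Submodule.ker_mkQ,
      show J ^ (k + 1) • (⊤ : Submodule A M) = (J ^ (k + 1) • (⊤ : Submodule A (Fin m → A))).map p by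
        rw [Submodule.map_smul'', Submodule.map_top, LinearMap.range_eq_top.2 hp],
      Submodule.comap_map_eq, sup_comm]
  obtain ⟨r, b, hb⟩ := Submodule.fg_iff_exists_fin_generating_family.1 (hker ▸ hfg)
  choose x hx y hy hxy using fun i => Submodule.mem_sup.1 (hb.le (Submodule.subset_span ⟨i, rfl⟩) :
    b i ∈ K ⊔ J ^ (k + 1) • (⊤ : Submodule A (Fin m → A)))
  let L := Submodule.span A (Set.range x)
  have hL : L ≤ K := Submodule.span_le.2 (Set.range_subset_iff.2 hx)
  suffices h : K = L ⊔ N by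
    rw [show LinearMap.ker p = L ⊔ N from h]
    exact (Submodule.fg_span (Set.finite_range x)).sup hN
  refine le_antisymm (fun z hz => ?_) (sup_le hL hc)
  have hz' : z ∈ L ⊔ J ^ (k + 1) • (⊤ : Submodule A (Fin m → A)) := by
    have h1 : z ∈ Submodule.span A (Set.range b) := hb.ge (Submodule.mem_sup_left hz)
    refine (Submodule.span_le.2 ?_) h1
    rintro _ ⟨i, rfl⟩
    rw [← hxy i]
    exact Submodule.add_mem_sup (Submodule.subset_span ⟨i, rfl⟩) (hy i)
  obtain ⟨l, hl, w, hw, rfl⟩ := Submodule.mem_sup.1 hz'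
  refine Submodule.add_mem_sup hl ?_
  have hwK : w ∈ K := (Submodule.add_mem_iff_right K (hL hl)).1 hz
  exact smul_mono_right (J ^ c) (ValTate.le_powSat J K)
    (hn₀ c ⟨Submodule.smul_mono_left (Ideal.pow_le_pow_right (Nat.le_succ _)) hw, hwK⟩)

/-- A submodule is closed once the quotient is separated. -/
theorem mem_of_forall_mem_sup_pow' {A : Type u} [CommRing A] {L : Type u} [AddCommGroup L] [Module A L]
    (J : Ideal A) (N : Submodule A L) [IsHausdorff J (L ⧸ N)] {x : L}
    (h : ∀ k : ℕ, x ∈ N ⊔ J ^ k • (⊤ : Submodule A L)) : x ∈ N := by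
  rw [← Submodule.Quotient.mk_eq_zero N]
  refine IsHausdorff.haus ‹_› _ fun k => SModEq.zero.2 ?_
  obtain ⟨y, hy, z, hz, rfl⟩ := Submodule.mem_sup.1 (h k)
  have hz' := Submodule.mem_map_of_mem (f := N.mkQ) hz
  rw [Submodule.map_smul'', Submodule.map_top, Submodule.range_mkQ] at hz'
  rw [Submodule.Quotient.mk_add, (Submodule.Quotient.mk_eq_zero N).2 hy, zero_add]
  exact hz'

variable {A : CommRingCat.{u}} [Algebra R A]

/-- The traces of the basic opens. -/
def GB {𝔛 : FSch.Sys.{u}} (p : ∀ n, 𝔛.X n ⟶ Spec A) (V : (𝔛.X 0).Opens) : Prop :=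
  ∃ g : A, V = tr₀ p (PrimeSpectrum.basicOpen g)

variable (hR : AdicRing.IsBase R I) (hA : AdicRing.TopFiniteType R I A)
variable {𝔛 : FSch.Sys.{u}} (p : ∀ n, 𝔛.X n ⟶ Spec A) (hp : ∀ n, 𝔛.ι n ≫ p (n + 1) = p n)
  (h : 𝔛.IsFormal) (hci : ∀ n, IsClosedImmersion (p n)) (hker : ∀ n, (p n).ker = idl I A ^ (n + 1))

include hR hA hp hci hker in
/-- Truncations, completeness and separatedness of finite modules over a basic open. -/
theorem gb_props {V : (𝔛.X 0).Opens} (hV : GB p V) :
    IsAffineOpen V ∧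
    (IsAdicComplete (jdl h V) (Sec 𝔛 h V) ∧
      ∀ n, Function.Surjective (proj 𝔛 h n V) ∧ RingHom.ker (proj 𝔛 h n V) = jdl h V ^ (n + 1)) ∧
    ∀ (M : Type u) [AddCommGroup M] [Module (Sec 𝔛 h V) M] [Module.Finite (Sec 𝔛 h V) M],
      IsHausdorff (jdl h V) M := by
  obtain ⟨g, rfl⟩ := hV
  let W : (Spec A).Opens := PrimeSpectrum.basicOpen g
  have hW : IsAffineOpen W := IsAffineOpen.Spec_basicOpen g
  let V := tr₀ p W
  have hVa : IsAffineOpen V := isAffineOpen_tr₀ p hci hW
  let B := Γ(Spec A, W)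
  let K : Ideal B := (idl I A).ideal ⟨W, hW⟩
  letI : Algebra R B := ((algebraMap A B).comp (algebraMap R A)).toAlgebra
  haveI : IsScalarTower R A B := IsScalarTower.of_algebraMap_eq fun _ => rfl
  haveI : Algebra.FiniteType A B := IsLocalization.finiteType_of_monoid_fg (Submonoid.powers g) _
  have hK : K = I.map (algebraMap R B) := by
    show (idl I A).ideal ⟨W, hW⟩ = _
    rw [ideal_idealSpec_basicOpen, Ideal.map_map]
    rfl
  have hKfg : K.FG := hK ▸ (ValTate.isBase_fg hR).map _
  let f : ∀ k, B →+* Γ(𝔛.X k, 𝔛.lvU h k V) := fun k =>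
    ((p k).appLE W (𝔛.lvU h k V) (lvU_tr₀ p hp h k W).ge).hom
  have hfs : ∀ k, Function.Surjective (f k) := fun k => appLE_surjective_tr₀ p hp h hci k hW
  have hfk : ∀ k, RingHom.ker (f k) = K ^ (k + 1) := fun k =>
    ker_appLE_tr₀ p hp h hci (idl I A) hker k hW
  have hft : ∀ k, (tr h k V).comp (f (k + 1)) = f k := fun k => RingHom.ext fun b =>
    ConcreteCategory.congr_hom (FSch.appLE_comp_appLE_of_eq (𝔛.ι k) (p (k + 1)) (p k) (hp k) _ _ _
      (lvU_tr₀ p hp h (k + 1) W).ge (𝔛.lvU_le h k V) (lvU_tr₀ p hp h k W).ge) b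
  have hf0 : ∀ k, (toZero h k V).comp (f k) = f 0 := fun k => by
    induction k with
    | zero => rw [toZero_zero, RingHom.id_comp]
    | succ k ih => rw [← toZero_succ, RingHom.comp_assoc, hft, ih]
  have kerim : ∀ {C D : Type u} [CommRing C] [CommRing D] (a : B →+* C) (b : C →+* D), Function.Surjective a →
      RingHom.ker b = (RingHom.ker (b.comp a)).map a := fun a b ha => by
    rw [← RingHom.comap_ker, Ideal.map_comap_of_surjective _ ha]
  have hz : ∀ k, RingHom.ker (toZero h k V) = K.map (f k) := fun k => by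
    rw [kerim (f k) (toZero h k V) (hfs k), hf0, hfk, pow_one]
  have htr : ∀ k, RingHom.ker (tr h k V) = RingHom.ker (toZero h (k + 1) V) ^ (k + 1) := fun k => by
    rw [kerim (f (k + 1)) (tr h k V) (hfs _), hft, hfk, hz, Ideal.map_pow]
  obtain ⟨hc, hs, hjfg⟩ := S2292.result (fun n => Γ(𝔛.X n, 𝔛.lvU h n V)) (fun n => tr h n V)
    (tr_surjective h hVa) (fun n => toZero h n V) (toZero_zero h V) (fun n => toZero_succ h n V) htr
    (hz 1 ▸ hKfg.map _) (Sec 𝔛 h V) (fun n => proj 𝔛 h n V)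
    (fun n => RingHom.ext fun s => proj_succ 𝔛 h n V s)
    (fun x hx => sec_ext 𝔛 h fun n => (hx n).trans (map_zero _).symm)
    (fun y hy => exists_sec 𝔛 h y hy)
  refine ⟨hVa, ⟨hc, hs⟩, ?_⟩
  haveI : IsAdicComplete (jdl h V) (Sec 𝔛 h V) := hc
  let σ : B →+* Sec 𝔛 h V := sharp p hp h W
  have hσ : ∀ k b, proj 𝔛 h k V (σ b) = f k b := fun k b => proj_sharp p hp h k W b
  have hle : K.map σ ≤ jdl h V := Ideal.map_le_iff_le_comap.2 fun b hb => by
    rw [Ideal.mem_comap, RingHom.mem_ker, hσ, ← RingHom.mem_ker, hfk, pow_one]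
    exact hb
  have hmap : K.map σ = jdl h V := by
    refine le_antisymm hle (Submodule.le_of_le_smul_of_le_jacobson_bot hjfg
      (IsAdicComplete.le_jacobson_bot (jdl h V)) fun x hx => ?_)
    have h1 : proj 𝔛 h 1 V x ∈ K.map (f 1) := by
      rw [← hz, RingHom.mem_ker, toZero_proj]
      exact hx
    obtain ⟨b, hb, hbx⟩ := (Ideal.mem_map_iff_of_surjective _ (hfs 1)).1 h1
    refine Submodule.mem_sup.2 ⟨σ b, Ideal.mem_map_of_mem _ hb, x - σ b, ?_, add_sub_cancel _ _⟩
    rw [smul_eq_mul, ← pow_two, ← (hs 1).2, RingHom.mem_ker, map_sub, hσ, hbx, sub_self]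
  letI : Algebra R (Sec 𝔛 h V) := (σ.comp (algebraMap R B)).toAlgebra
  have hjd : I.map (algebraMap R (Sec 𝔛 h V)) = jdl h V := by
    rw [← hmap, hK, Ideal.map_map]
    rfl
  haveI : IsAdicComplete (I.map (algebraMap R (Sec 𝔛 h V))) (Sec 𝔛 h V) := hjd ▸ hc
  haveI : IsAdicComplete (I.map (algebraMap R A)) A :=
    (IsAdicComplete.map_algebraMap_iff (S := A) I _).2 (S11529.result R I hR A hA A)
  have hSec : AdicRing.TopFiniteType R I (Sec 𝔛 h V) := by
    rw [ValTate.topFiniteType_iff_finiteType (ValTate.isBase_fg hR)]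
    have hA0 := (ValTate.topFiniteType_iff_finiteType (ValTate.isBase_fg hR)).1 hA
    let J := I.map (algebraMap R A)
    let J' := I.map (algebraMap R (Sec 𝔛 h V))
    have hle' : J ≤ J'.comap (σ.comp (algebraMap A B)) := Ideal.map_le_iff_le_comap.2 fun r hr =>
      Ideal.mem_map_of_mem (algebraMap R (Sec 𝔛 h V)) hr
    let ψ : A ⧸ J →+* Sec 𝔛 h V ⧸ J' := Ideal.quotientMap J' (σ.comp (algebraMap A B)) hle'
    have hτ : Function.Surjective ((Ideal.Quotient.mk J').comp σ) := fun y => by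
      obtain ⟨s, rfl⟩ := Ideal.Quotient.mk_surjective y
      obtain ⟨b, hb⟩ := hfs 0 (proj 𝔛 h 0 V s)
      refine ⟨b, Ideal.Quotient.eq.2 ?_⟩
      show σ b - s ∈ I.map (algebraMap R (Sec 𝔛 h V))
      rw [hjd, RingHom.mem_ker, map_sub, hσ, hb, sub_self]
    have h2 : (((Ideal.Quotient.mk J').comp σ).comp (algebraMap A B)).FiniteType :=
      (RingHom.FiniteType.of_surjective _ hτ).comp (RingHom.finiteType_algebraMap.2 ‹_›)
    have hψ : ψ.FiniteType := RingHom.FiniteType.of_comp_finiteType (f := Ideal.Quotient.mk J) (g := ψ) h2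
    rw [← RingHom.finiteType_algebraMap] at hA0 ⊢
    exact (show algebraMap R (Sec 𝔛 h V ⧸ J') = ψ.comp (algebraMap R (A ⧸ J)) from rfl) ▸ hψ.comp hA0
  intro M _ _ _
  letI : Module R M := Module.compHom M (algebraMap R (Sec 𝔛 h V))
  haveI : IsScalarTower R (Sec 𝔛 h V) M := IsScalarTower.of_algebraMap_smul fun _ _ => rfl
  haveI := S11529.result R I hR (Sec 𝔛 h V) hSec M
  rw [← hjd]
  exact (IsHausdorff.map_algebraMap_iff (R := R) (S := Sec 𝔛 h V) (I := I)).2 inferInstance

end Groth.Agent.FModLib
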