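import Groth.Agent.FModLib.TopFPSec
import Groth.Agent.FModLib.PullSys

/-!
# Finitely presented modules on `Spf A`, `A` topologically of finite type: the limit of their truncations
-/

set_option autoImplicit false
set_option backward.isDefEq.respectTransparency false
set_option linter.style.haveILetI false
set_option linter.unusedSectionVars false

universe u

open CategoryTheory CategoryTheory.Limits AlgebraicGeometry Opposite TopologicalSpace
open Groth.Agent.FBlowLib Groth.Agent.DerCompLib Groth.Agent.Coherent Groth.Agent.PicLib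

namespace Groth.Agent.FModLib

section Generic

variable {𝔛 : FSch.Sys.{u}} (h : 𝔛.IsFormal) (𝔐 : FSch.ModSys 𝔛) (hq : ∀ k, Coh.IsQCoh (𝔐.F k))
  {V : (𝔛.X 0).Opens} (hV : IsAffineOpen V)
  (hsec : IsAdicComplete (jdl h V) (Sec 𝔛 h V) ∧
    ∀ n, Function.Surjective (proj 𝔛 h n V) ∧ RingHom.ker (proj 𝔛 h n V) = jdl h V ^ (n + 1))

include hsec in
theorem level_killed' (k : ℕ) (G : (𝔛.X k).Modules) :
    jdl h V ^ (k + 1) • (⊤ : Submodule (FBlowLib.Sec 𝔛 h V) (DerCompLib.Sec (up h k G) V)) = ⊥ := by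
  rw [eq_bot_iff, Submodule.smul_le]
  intro r hr m _
  rw [← (hsec.2 k).2, RingHom.mem_ker] at hr
  rw [Submodule.mem_bot]
  apply (upVal h).injective
  rw [upVal_smul, hr, zero_smul, map_zero]

include hq hsec hV in
theorem ker_trSec' (k : ℕ) :
    LinearMap.ker (trSec h 𝔐.F 𝔐.toPush k V) =
      jdl h V ^ (k + 1) • (⊤ : Submodule (FBlowLib.Sec 𝔛 h V) (DerCompLib.Sec (up h (k + 1) (𝔐.F (k + 1))) V)) := by
  haveI : Coh.IsQCoh (𝔐.F (k + 1)) := hq (k + 1)
  have key : ∀ z : Γ(𝔐.F (k + 1), 𝔛.lvU h (k + 1) V),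
      z ∈ (jdl h V ^ (k + 1)).map (proj 𝔛 h (k + 1) V) •
          (⊤ : Submodule Γ(𝔛.X (k + 1), 𝔛.lvU h (k + 1) V) Γ(𝔐.F (k + 1), 𝔛.lvU h (k + 1) V)) →
      (upVal h).symm z ∈ (jdl h V ^ (k + 1)) •
        (⊤ : Submodule (FBlowLib.Sec 𝔛 h V) (DerCompLib.Sec (up h (k + 1) (𝔐.F (k + 1))) V)) := by
    intro z hz
    refine Submodule.smul_induction_on hz (fun b hb w _ => ?_) (fun z z' hz hz' => ?_)
    · rw [Ideal.mem_map_iff_of_surjective _ (hsec.2 (k + 1)).1] at hb
      obtain ⟨a, ha, rfl⟩ := hb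
      rw [show (upVal h).symm (proj 𝔛 h (k + 1) V a • w) = a • (upVal h).symm w from rfl]
      exact Submodule.smul_mem_smul ha Submodule.mem_top
    · rw [map_add]; exact add_mem hz hz'
  refine le_antisymm (fun x hx => ?_) ?_
  · rw [LinearMap.mem_ker] at hx
    have h1 : resM _ (𝔛.lvU_le h k V) (pullSec (𝔛.ι k) (upVal h x)) = 0 := by
      have h2 := congrArg (fun z => (𝔐.e k).inv.app (𝔛.lvU h k V) (upVal h z)) hx
      simp only [map_zero, upVal_trSec_toPush] at h2
      rw [← h2, ← ConcreteCategory.comp_apply, ← Scheme.Modules.Hom.comp_app, (𝔐.e k).hom_inv_id]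
      rfl
    have h3 := pullSec_ker (M := 𝔐.F (k + 1)) (𝔛.ι k) (S13347.isAffineOpen_lvU 𝔛 h (k + 1) V hV)
      (S13347.isAffineOpen_lvU 𝔛 h k V hV) (𝔛.lvU_le h k V) (tr_surjective h hV k) (upVal h x) h1
    have hk : RingHom.ker (tr h k V) = (jdl h V ^ (k + 1)).map (proj 𝔛 h (k + 1) V) := by
      rw [← (hsec.2 k).2,
        show proj 𝔛 h k V = (tr h k V).comp (proj 𝔛 h (k + 1) V) from
          RingHom.ext fun s => (proj_succ 𝔛 h k V s).symm, ← RingHom.comap_ker,
        Ideal.map_comap_of_surjective _ (hsec.2 (k + 1)).1]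
    rw [← (upVal h).symm_apply_apply x]
    exact key _ (hk ▸ h3)
  · rw [Submodule.smul_le]
    intro r hr m _
    rw [LinearMap.mem_ker, map_smul]
    exact (Submodule.mem_bot _).1 ((level_killed' h hsec k (𝔐.F k)).le
      (Submodule.smul_mem_smul hr Submodule.mem_top))

include hq hsec hV in
/-- Sections of the limit of a quasi-coherent system with finite smallest level. -/
theorem real_props' (hfin : Module.Finite Γ(𝔛.X 0, 𝔛.lvU h 0 V) Γ(𝔐.F 0, 𝔛.lvU h 0 V)) :
    Module.Finite (FBlowLib.Sec 𝔛 h V) (DerCompLib.Sec (𝔐.realMod h) V) ∧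
      ∀ k, Function.Surjective (rproj h 𝔐.F 𝔐.toPush k V) ∧
        LinearMap.ker (rproj h 𝔐.F 𝔐.toPush k V) =
          jdl h V ^ (k + 1) • (⊤ : Submodule (FBlowLib.Sec 𝔛 h V) (DerCompLib.Sec (𝔐.realMod h) V)) := by
  haveI := hsec.1
  have hsurj : ∀ k, Function.Surjective (trSec h 𝔐.F 𝔐.toPush k V) := fun k z => by
    haveI : Coh.IsQCoh (𝔐.F (k + 1)) := hq (k + 1)
    obtain ⟨m, hm⟩ := pullSec_surjective (M := 𝔐.F (k + 1)) (𝔛.ι k)
      (S13347.isAffineOpen_lvU 𝔛 h (k + 1) V hV) (S13347.isAffineOpen_lvU 𝔛 h k V hV) (𝔛.lvU_le h k V)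
      (tr_surjective h hV k) ((𝔐.e k).inv.app _ (upVal h z))
    refine ⟨(upVal h).symm m, (upVal h).injective ?_⟩
    rw [upVal_trSec_toPush, AddEquiv.apply_symm_apply, hm, ← ConcreteCategory.comp_apply,
      ← Scheme.Modules.Hom.comp_app, (𝔐.e k).inv_hom_id]
    rfl
  have hf0 : Module.Finite (FBlowLib.Sec 𝔛 h V) (DerCompLib.Sec (up h 0 (𝔐.F 0)) V) := by
    classical
    obtain ⟨n, g, hg⟩ := hfin.exists_fin
    refine ⟨⟨Finset.univ.image fun j => (upVal h).symm (g j), top_unique fun x _ => ?_⟩⟩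
    obtain ⟨c, hc⟩ := (Submodule.mem_span_range_iff_exists_fun _).1
      (show upVal h x ∈ Submodule.span _ (Set.range g) by rw [hg]; trivial)
    choose a ha using fun j => (hsec.2 0).1 (c j)
    have : x = ∑ j, a j • (upVal h).symm (g j) := (upVal h).injective (by
      rw [map_sum, ← hc]
      exact Finset.sum_congr rfl fun j _ => by rw [upVal_smul, ha, AddEquiv.apply_symm_apply])
    rw [this]
    exact Submodule.sum_mem _ fun j _ => Submodule.smul_mem _ _ (Submodule.subset_span (by simp))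
  have := S7852.result (FBlowLib.Sec 𝔛 h V) (jdl h V) (fun k => DerCompLib.Sec (up h k (𝔐.F k)) V)
    (fun k => trSec h 𝔐.F 𝔐.toPush k V) hsurj (fun k => level_killed' h hsec k (𝔐.F k))
    (ker_trSec' h 𝔐 hq hV hsec)
    (DerCompLib.Sec (𝔐.realMod h) V) (fun k => rproj h 𝔐.F 𝔐.toPush k V)
    (fun k => LinearMap.ext fun x => trSec_rproj h 𝔐.F 𝔐.toPush k V x)
    (fun x hx => rsec_ext h 𝔐.F 𝔐.toPush fun k => (hx k).trans (map_zero _).symm)
    (fun y hy => exists_rsec h 𝔐.F 𝔐.toPush y hy) hf0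
  exact ⟨this.1, this.2.2⟩

end Generic

variable {R : Type u} [CommRing R] {I : Ideal R} {A : CommRingCat.{u}} [Algebra R A]
  (hR : AdicRing.IsBase R I) (hA : AdicRing.TopFiniteType R I A)
variable {𝔛 : FSch.Sys.{u}} (p : ∀ n, 𝔛.X n ⟶ Spec A) (hp : ∀ n, 𝔛.ι n ≫ p (n + 1) = p n)
  (h : 𝔛.IsFormal) (hci : ∀ n, IsClosedImmersion (p n)) (hker : ∀ n, (p n).ker = idl I A ^ (n + 1))
  (M : ModSite.Mod (𝔛.Osh h)) (hM : FSch.IsCohF 𝔛 h M)

include hci in
theorem basis_GB (U : Opens (𝔛.X 0).carrier) (x : (𝔛.X 0).carrier) (hx : x ∈ U) :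
    ∃ V : Opens (𝔛.X 0).carrier, GB p V ∧ x ∈ V ∧ V ≤ U := by
  haveI := hci 0
  obtain ⟨O', hO', hOU⟩ := (p 0).isClosedEmbedding.isInducing.isOpen_iff.1 U.2
  have hxO : p 0 x ∈ (⟨O', hO'⟩ : (Spec A).Opens) := by
    have : x ∈ (p 0).base ⁻¹' O' := by rw [hOU]; exact hx
    exact this
  obtain ⟨_, ⟨g, rfl⟩, hxg, hgO⟩ := Opens.isBasis_iff_nbhd.1 PrimeSpectrum.isBasis_basic_opens hxO
  exact ⟨_, ⟨g, rfl⟩, hxg, fun y hy => hOU.le (hgO hy)⟩

include hM in
theorem isQCoh_down (k : ℕ) : Coh.IsQCoh (down h k M) := by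
  choose V hVle hxV hVa Pr hPr using fun x => exists_affine_presentation h M hM x ⊤ trivial
  refine isQCoh_of_openImmersion_cover _ (fun x => (𝔛.lvU h k (V x)).ι)
    (fun y => ⟨(𝔛.gInv h k) y, by simpa using (hxV ((𝔛.gInv h k) y) : _)⟩) fun x => ?_
  haveI : Finite (Pr x).generators.I := (hPr x).isFiniteType_generators.finite
  haveI : Finite (Pr x).relations.I := (hPr x).isFiniteType_relations.finite
  haveI := Fintype.ofFinite (Pr x).generators.I
  haveI := Fintype.ofFinite (Pr x).relations.I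
  exact (down_props h k M (Pr x) (hVa x)).1.1

section Local

variable {U : (𝔛.X 0).Opens} (hU : IsAffineOpen U) (Pr : SheafOfModules.Presentation (M := overMod M U))
  [Fintype Pr.generators.I] [Fintype Pr.relations.I]

include hR hA hp hci hker hU hM Pr in
theorem down_real {V : (𝔛.X 0).Opens} (hV : GB p V) (i : V ≤ U) :
    Module.Finite (FBlowLib.Sec 𝔛 h V) (DerCompLib.Sec ((downSys h M).realMod h) V) ∧
      ∀ k, Function.Surjective (rproj h (downSys h M).F (downSys h M).toPush k V) ∧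
        LinearMap.ker (rproj h (downSys h M).F (downSys h M).toPush k V) =
          jdl h V ^ (k + 1) •
            (⊤ : Submodule (FBlowLib.Sec 𝔛 h V) (DerCompLib.Sec ((downSys h M).realMod h) V)) := by
  obtain ⟨hVa, hsec, -⟩ := gb_props hR hA p hp h hci hker hV
  refine real_props' h (downSys h M) (fun k => isQCoh_down h M hM k) hVa hsec ⟨?_⟩
  rw [← ((down_props h 0 M Pr hU).2 V hVa i).1]
  exact Submodule.fg_span (Set.finite_range _)

include hR hA hp hci hker hU hM in
theorem span_thGen' {V : (𝔛.X 0).Opens} (hV : GB p V) (i : V ≤ U) :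
    Submodule.span (FBlowLib.Sec 𝔛 h V)
      (Set.range fun j => mRes ((downSys h M).realMod h) i (thGen h M Pr j)) = ⊤ := by
  obtain ⟨hVa, hsec, -⟩ := gb_props hR hA p hp h hci hker hV
  obtain ⟨hfin, hlev⟩ := down_real hR hA p hp h hci hker M hM hU Pr hV i
  haveI := hsec.1
  refine span_eq_top_of_sup_smul (IsAdicComplete.le_jacobson_bot (jdl h V)) _ (top_unique fun y _ => ?_)
  obtain ⟨c, hc⟩ := (Submodule.mem_span_range_iff_exists_fun _).1
    (show upVal h (rproj h (downSys h M).F (downSys h M).toPush 0 V y) ∈ Submodule.span _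
      (Set.range fun j => resM (down h 0 M) (FBlow.lvU_mono 𝔛 h 0 i) (unitVec h 0 M (gens Pr j))) by
      rw [((down_props h 0 M Pr hU).2 V hVa i).1]; trivial)
  choose r hr using fun j => (hsec.2 0).1 (c j)
  refine Submodule.mem_sup.2 ⟨∑ j, r j • mRes _ i (thGen h M Pr j),
    (Submodule.mem_span_range_iff_exists_fun _).2 ⟨r, rfl⟩, y - ∑ j, r j • mRes _ i (thGen h M Pr j), ?_,
    add_sub_cancel _ _⟩
  rw [← pow_one (jdl h V), ← (hlev 0).2, LinearMap.mem_ker, map_sub, sub_eq_zero]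
  apply (upVal h).injective
  refine hc.symm.trans ?_
  rw [map_sum, map_sum]
  refine Finset.sum_congr rfl fun j _ => ?_
  rw [map_smul, upVal_smul, hr]
  exact congrArg (c j • ·) (upVal_rproj_thGen h M Pr 0 i j).symm

include hR hA hp hci hker hU hM in
set_option maxHeartbeats 1500000 in
theorem rels_thGen' {V : (𝔛.X 0).Opens} (hV : GB p V) (i : V ≤ U)
    (a : Pr.generators.I → FBlowLib.Sec 𝔛 h V)
    (ha : ∑ j, a j • mRes ((downSys h M).realMod h) i (thGen h M Pr j) = 0) :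
    a ∈ Submodule.span (FBlowLib.Sec 𝔛 h V) (Set.range fun l j => res 𝔛 h i (relVec Pr l j)) := by
  obtain ⟨hVa, hsec, hhaus⟩ := gb_props hR hA p hp h hci hker hV
  haveI := hhaus ((Pr.generators.I → FBlowLib.Sec 𝔛 h V) ⧸
    Submodule.span (FBlowLib.Sec 𝔛 h V) (Set.range fun l j => res 𝔛 h i (relVec Pr l j)))
  refine mem_of_forall_mem_sup_pow' (jdl h V) _ fun k => ?_
  have h0 : ∑ j, proj 𝔛 h k V (a j) •
      resM (down h k M) (FBlow.lvU_mono 𝔛 h k i) (unitVec h k M (gens Pr j)) = 0 := by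
    have := congrArg (fun z => upVal h (rproj h (downSys h M).F (downSys h M).toPush k V z)) ha
    simp only [map_sum, map_zero, map_smul] at this
    refine Eq.trans (Finset.sum_congr rfl fun j _ => ?_) this
    rw [upVal_smul]
    exact congrArg (proj 𝔛 h k V (a j) • ·) (upVal_rproj_thGen h M Pr k i j).symm
  obtain ⟨b, hb⟩ := (Submodule.mem_span_range_iff_exists_fun _).1 (((down_props h k M Pr hU).2 V hVa i).2 _ h0)
  choose c hc using fun l => (hsec.2 k).1 (b l)
  let w : Pr.generators.I → FBlowLib.Sec 𝔛 h V := ∑ l, c l • fun j => res 𝔛 h i (relVec Pr l j)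
  have hw : a - w ∈ jdl h V ^ k • (⊤ : Submodule (FBlowLib.Sec 𝔛 h V) (Pr.generators.I → FBlowLib.Sec 𝔛 h V)) := by
    refine mem_pow_smul_pi _ fun j => Ideal.pow_le_pow_right (Nat.le_succ k) ?_
    rw [← (hsec.2 k).2, RingHom.mem_ker, Pi.sub_apply, map_sub, sub_eq_zero]
    refine (congrFun hb j).symm.trans ?_
    simp only [w, Finset.sum_apply, Pi.smul_apply, smul_eq_mul, map_sum, map_mul]
    refine Finset.sum_congr rfl fun l _ => ?_
    rw [hc, proj_res]
  exact Submodule.mem_sup.2 ⟨w, (Submodule.mem_span_range_iff_exists_fun _).2 ⟨c, rfl⟩, a - w, hw,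
    add_sub_cancel _ _⟩

include hR hA hp hci hker hU hM Pr in
set_option maxHeartbeats 1500000 in
theorem isIso_theta_over' : IsIso ((ModSite.restr (𝔛.Osh h) U).map (theta h M)) := by
  have e : ∀ (V : Over U) (j : Pr.generators.I),
      secRes ((ModSite.restr (𝔛.Osh h) U).obj ((downSys h M).realMod h)) (toTop V)
          (secMap ((ModSite.restr (𝔛.Osh h) U).map (theta h M)) (ovTop U) (gens Pr j)) =
        mRes ((downSys h M).realMod h) (leOfHom V.hom) (thGen h M Pr j) := fun V j => rfl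
  refine isIso_of_gens_rels (basis_GB p hci) Pr _ (fun V hV => ?_) fun V hV a ha => ?_
  · simp only [e]
    exact span_thGen' hR hA p hp h hci hker M hM hU Pr hV (leOfHom V.hom)
  · simp only [e] at ha
    exact rels_thGen' hR hA p hp h hci hker M hM hU Pr hV (leOfHom V.hom) a ha

end Local

include hM hci in
theorem exists_GB_presentation (x : 𝔛.X 0) (W : (𝔛.X 0).Opens) (hx : x ∈ W) :
    ∃ V : (𝔛.X 0).Opens, V ≤ W ∧ x ∈ V ∧ GB p V ∧ IsAffineOpen V ∧
      ∃ Pr : SheafOfModules.Presentation (M := overMod M V), Pr.IsFinite := by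
  obtain ⟨U, hUW, hxU, -, Pr, hPr⟩ := exists_affine_presentation h M hM x W hx
  obtain ⟨V, hV, hxV, hVU⟩ := basis_GB p hci U x hxU
  refine ⟨V, hVU.trans hUW, hxV, hV, ?_, exists_presentation_le h M hVU Pr hPr⟩
  obtain ⟨g, rfl⟩ := hV
  exact isAffineOpen_tr₀ p hci (IsAffineOpen.Spec_basicOpen g)

include hR hA hp hci hker hM in
/-- A finitely presented module is the limit of its inverse images to the levels. -/
theorem isIso_theta' : IsIso (theta h M) := by
  refine isIso_of_forall (P := fun V : (𝔛.X 0).Opens => IsAffineOpen V ∧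
      ∃ Pr : SheafOfModules.Presentation (M := overMod M V), Pr.IsFinite) ?_ (theta h M) ?_
  · intro W x hx
    obtain ⟨V, hVW, hxV, -, hV, hPr⟩ := exists_GB_presentation p h hci M hM x W hx
    exact ⟨V, ⟨hV, hPr⟩, hxV, hVW⟩
  · rintro V ⟨hV, Pr, hPr⟩
    haveI : Finite Pr.generators.I := hPr.isFiniteType_generators.finite
    haveI : Finite Pr.relations.I := hPr.isFiniteType_relations.finite
    haveI := Fintype.ofFinite Pr.generators.I
    haveI := Fintype.ofFinite Pr.relations.I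
    haveI := isIso_theta_over' hR hA p hp h hci hker M hM hV Pr
    let e := asIso ((ModSite.restr (𝔛.Osh h) V).map (theta h M))
    exact Function.bijective_iff_has_inverse.2 ⟨secMap e.inv (ovTop V),
      fun x => congrArg (fun φ => secMap φ (ovTop V) x) e.hom_inv_id,
      fun x => congrArg (fun φ => secMap φ (ovTop V) x) e.inv_hom_id⟩

end Groth.Agent.FModLib
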