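import Groth.Agent.FModLib.TopFTHom
import Groth.Agent.S11526
import Mathlib.RingTheory.Finiteness.Cardinality

/-!
# Completion reflects short exact sequences
-/

set_option autoImplicit false
set_option backward.isDefEq.respectTransparency false
set_option linter.style.haveILetI false
set_option linter.unusedSectionVars false

universe u

open CategoryTheory CategoryTheory.Limits AlgebraicGeometry Opposite TopologicalSpace

namespace Groth.Agent.FModLib

variable {R : Type u} [CommRing R] {I : Ideal R} {A : CommRingCat.{u}} [Algebra R A]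
  (hR : AdicRing.IsBase R I) (hA : AdicRing.TopFiniteType R I A)
  {𝔛 : FSch.Sys.{u}} (p : ∀ n, 𝔛.X n ⟶ Spec A) (h : 𝔛.IsFormal)
  (T : ∀ n, Scheme.Modules.pullback (p (n + 1)) ⋙ Scheme.Modules.pullback (𝔛.ι n) ≅ Scheme.Modules.pullback (p n))

/-- The completion of modules, as a functor. -/
noncomputable def complFun : ModuleCat.{u} A ⥤ ModSite.Mod (𝔛.Osh h) where
  obj M := (pullSysT p T (tilde M)).realMod h
  map u := FSch.ModSys.realModMap h (pullSysTMap p T ((tilde.functor A).map u))
  map_id M := limit.hom_ext fun k => by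
    refine (FSch.realLimMap_realProj 𝔛 h _ (FSch.ModSys.Hom.toPush_comm _) k.unop).trans ?_
    show _ ≫ (FSch.levelMor 𝔛 h k.unop).push.map ((Scheme.Modules.pullback (p k.unop)).map ((tilde.functor A).map (𝟙 M))) = _
    rw [CategoryTheory.Functor.map_id, CategoryTheory.Functor.map_id, CategoryTheory.Functor.map_id]
    exact (Category.comp_id _).trans (Category.id_comp _).symm
  map_comp {M N P} u v := limit.hom_ext fun k => by
    refine (FSch.realLimMap_realProj 𝔛 h _ (FSch.ModSys.Hom.toPush_comm _) k.unop).trans ?_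
    refine Eq.trans ?_ (Category.assoc _ _ _).symm
    refine Eq.trans ?_ (congrArg (_ ≫ ·) (FSch.realLimMap_realProj 𝔛 h _ (FSch.ModSys.Hom.toPush_comm _) k.unop)).symm
    refine Eq.trans ?_ (Category.assoc _ _ _)
    refine Eq.trans ?_ (congrArg (· ≫ _) (FSch.realLimMap_realProj 𝔛 h _ (FSch.ModSys.Hom.toPush_comm _) k.unop)).symm
    refine Eq.trans ?_ (Category.assoc _ _ _).symm
    show _ ≫ (FSch.levelMor 𝔛 h k.unop).push.map ((Scheme.Modules.pullback (p k.unop)).map ((tilde.functor A).map (u ≫ v))) = _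
    rw [Functor.map_comp, Functor.map_comp, Functor.map_comp]

variable (hp : ∀ n, 𝔛.ι n ≫ p (n + 1) = p n) (hci : ∀ n, IsClosedImmersion (p n))
  (hker : ∀ n, (p n).ker = idl I A ^ (n + 1))
  (hT : ∀ n, T n = Scheme.Modules.pullbackComp (𝔛.ι n) (p (n + 1)) ≪≫ Scheme.Modules.pullbackCongr (hp n))

include hR hA hp hci hker hT in
theorem complFun_bijective (M N : ModuleCat.{u} A) [Module.Finite A M] [Module.Finite A N] :
    Function.Bijective fun u : M ⟶ N => (complFun p h T).map u :=
  bijective_completion_tilde hR hA p hp h hci hker T hT M N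

include hR hA hp hci hker hT in
theorem complFun_shortExact (S : ShortComplex (ModuleCat.{u} A)) (hS : S.ShortExact)
    [Module.Finite A S.X₁] [Module.Finite A S.X₂] [Module.Finite A S.X₃] :
    ∃ w : (complFun p h T).map S.f ≫ (complFun p h T).map S.g = 0, (ShortComplex.mk _ _ w).ShortExact :=
  shortExact_completion_tilde hR hA p hp h hci hker T hT S hS

include hR hA hp hci hker hT in
theorem shortExact_of_complFun (M₁ M₂ M₃ : ModuleCat.{u} A) [Module.Finite A M₁] [Module.Finite A M₂]
    [Module.Finite A M₃] (u : M₁ ⟶ M₂) (v : M₂ ⟶ M₃)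
    (hΔ : ∃ w : (complFun p h T).map u ≫ (complFun p h T).map v = 0, (ShortComplex.mk _ _ w).ShortExact) :
    ∃ w : u ≫ v = 0, (ShortComplex.mk u v w).ShortExact := by
  let Φ := complFun p h T
  have hbij : ∀ (M N : ModuleCat.{u} A) [Module.Finite A M] [Module.Finite A N],
      Function.Bijective fun u : M ⟶ N => Φ.map u := fun M N => complFun_bijective hR hA p h T hp hci hker hT M N
  let E : ModuleCat.{u} A := ModuleCat.of A A
  haveI : Module.Finite A E := inferInstanceAs (Module.Finite A A)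
  have hzero : ∀ (M N : ModuleCat.{u} A) [Module.Finite A M] [Module.Finite A N], Φ.map (0 : M ⟶ N) = 0 := by
    intro M N _ _
    obtain ⟨z, hz⟩ := (hbij M N).2 0
    obtain ⟨z', hz'⟩ := (hbij M M).2 0
    have : Φ.map (z' ≫ (0 : M ⟶ N)) = 0 := by rw [Φ.map_comp, show Φ.map z' = 0 from hz', zero_comp]
    rwa [comp_zero] at this
  obtain ⟨w, hw⟩ := hΔ
  haveI : Mono (Φ.map u) := hw.mono_f
  haveI : Epi (Φ.map v) := hw.epi_g
  have huv : u ≫ v = 0 := (hbij M₁ M₃).1 (by
    show Φ.map (u ≫ v) = Φ.map 0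
    rw [Φ.map_comp, hzero]
    exact w)
  let el : ∀ {M : ModuleCat.{u} A}, M → (E ⟶ M) := fun {M} m => ModuleCat.ofHom (LinearMap.toSpanSingleton A M m)
  have hel : ∀ {M : ModuleCat.{u} A} (m : M), el m (1 : A) = m := fun {M} m => one_smul A m
  refine ⟨huv, { exact := ?_, mono_f := ?_, epi_g := ?_ }⟩
  · rw [ShortComplex.moduleCat_exact_iff]
    intro m hm
    have hcomp : el m ≫ v = 0 := ModuleCat.hom_ext (LinearMap.ext_ring (by
      show v (el m (1 : A)) = 0
      rw [hel]; exact hm))
    obtain ⟨l, hl⟩ := (hbij E M₁).2 (hw.fIsKernel.lift (KernelFork.ofι (Φ.map (el m)) (by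
      show Φ.map (el m) ≫ Φ.map v = 0
      rw [← Φ.map_comp, hcomp, hzero])))
    refine ⟨l (1 : A), ?_⟩
    have h2 : l ≫ u = el m := (hbij E M₂).1 (by
      show Φ.map (l ≫ u) = Φ.map (el m)
      rw [Φ.map_comp, show Φ.map l = _ from hl]
      exact hw.fIsKernel.fac _ WalkingParallelPair.zero)
    exact (congrArg (fun φ : E ⟶ M₂ => φ (1 : A)) h2).trans (hel m)
  · show Mono u
    rw [ModuleCat.mono_iff_injective, injective_iff_map_eq_zero]
    intro m hm
    have hcomp : el m ≫ u = 0 := ModuleCat.hom_ext (LinearMap.ext_ring (by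
      show u (el m (1 : A)) = 0
      rw [hel]; exact hm))
    have h2 : el m = 0 := (hbij E M₁).1 (by
      show Φ.map (el m) = Φ.map 0
      rw [hzero, ← cancel_mono (Φ.map u), zero_comp, ← Φ.map_comp, hcomp, hzero])
    rw [← hel m, h2]
    rfl
  · show Epi v
    let C := ModuleCat.of A (M₃ ⧸ LinearMap.range v.hom)
    let π : M₃ ⟶ C := ModuleCat.ofHom (LinearMap.range v.hom).mkQ
    let Im := ModuleCat.of A (LinearMap.range v.hom)
    let ι : Im ⟶ M₃ := ModuleCat.ofHom (LinearMap.range v.hom).subtype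
    haveI : Module.Finite A C := inferInstanceAs (Module.Finite A (M₃ ⧸ LinearMap.range v.hom))
    haveI : Module.Finite A Im := Module.Finite.range v.hom
    have hιπ : ι ≫ π = 0 := ModuleCat.hom_ext (LinearMap.ext fun x => (Submodule.Quotient.mk_eq_zero _).2 x.2)
    have hvπ : v ≫ π = 0 := ModuleCat.hom_ext (LinearMap.range_mkQ_comp v.hom)
    have hse : (ShortComplex.mk ι π hιπ).ShortExact :=
      { exact := (ShortComplex.moduleCat_exact_iff _).2 fun m hm => ⟨⟨m, (Submodule.Quotient.mk_eq_zero _).1 hm⟩, rfl⟩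
        mono_f := (ModuleCat.mono_iff_injective _).2 Subtype.val_injective
        epi_g := (ModuleCat.epi_iff_surjective _).2 (Submodule.Quotient.mk_surjective _) }
    haveI : Module.Finite A (ShortComplex.mk ι π hιπ).X₁ := inferInstanceAs (Module.Finite A Im)
    haveI : Module.Finite A (ShortComplex.mk ι π hιπ).X₂ := inferInstanceAs (Module.Finite A M₃)
    haveI : Module.Finite A (ShortComplex.mk ι π hιπ).X₃ := inferInstanceAs (Module.Finite A C)
    obtain ⟨w', hw'⟩ := complFun_shortExact hR hA p h T hp hci hker hT (ShortComplex.mk ι π hιπ) hse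
    haveI : Epi (Φ.map π) := hw'.epi_g
    have h0 : Φ.map π = 0 := by
      rw [← cancel_epi (Φ.map v), comp_zero, ← Φ.map_comp, hvπ, hzero]
    have h1 : 𝟙 C = 0 := (hbij C C).1 (by
      show Φ.map (𝟙 C) = Φ.map 0
      rw [hzero, ← cancel_epi (Φ.map π), h0, zero_comp, zero_comp])
    rw [ModuleCat.epi_iff_surjective]
    intro m
    have := congrArg (fun φ : C ⟶ C => φ (Submodule.Quotient.mk m)) h1
    exact (Submodule.Quotient.mk_eq_zero _).1 this

include hR hA hp hci hker hT in
theorem shortExact_of_realModMap (M₁ M₂ M₃ : ModuleCat.{u} A) [Module.Finite A M₁] [Module.Finite A M₂]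
    [Module.Finite A M₃] (u : M₁ ⟶ M₂) (v : M₂ ⟶ M₃)
    (hΔ : ∃ w : FSch.ModSys.realModMap h (pullSysTMap p T ((tilde.functor A).map u)) ≫
        FSch.ModSys.realModMap h (pullSysTMap p T ((tilde.functor A).map v)) = 0,
      (ShortComplex.mk _ _ w).ShortExact) :
    ∃ w : u ≫ v = 0, (ShortComplex.mk u v w).ShortExact :=
  shortExact_of_complFun hR hA p h T hp hci hker hT M₁ M₂ M₃ u v hΔ

include hR hA in
/-- Completion reflects short exact sequences, for the completion of `Spec A`. -/
theorem shortExact_of_complMod_tilde (𝓘 : (Spec A).IdealSheafData) (h𝓘 : 𝓘 = idl I A)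
    (h : (FSch.completionAlong (Spec A) 𝓘).IsFormal)
    (M₁ M₂ M₃ : ModuleCat.{u} A) [Module.Finite A M₁] [Module.Finite A M₂] [Module.Finite A M₃]
    (u : M₁ ⟶ M₂) (v : M₂ ⟶ M₃)
    (hΔ : ∃ w : FSch.ModSys.realModMap h (FSch.complModMap 𝓘 ((tilde.functor A).map u)) ≫
        FSch.ModSys.realModMap h (FSch.complModMap 𝓘 ((tilde.functor A).map v)) = 0,
      (ShortComplex.mk _ _ w).ShortExact) :
    ∃ w : u ≫ v = 0, (ShortComplex.mk u v w).ShortExact :=
  shortExact_of_realModMap hR hA (FSch.completionToX (Spec A) 𝓘) h (FSch.complTransIso 𝓘)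
    (FSch.completionToX_comm (Spec A) 𝓘)
    (fun n => inferInstanceAs (IsClosedImmersion (𝓘 ^ (n + 1)).subschemeι))
    (fun n => (Scheme.IdealSheafData.ker_subschemeι _).trans (by rw [h𝓘]))
    (complTransIso_eq 𝓘) M₁ M₂ M₃ u v hΔ

end Groth.Agent.FModLib
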