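import Groth.Agent.SiteDer16.RpushBounded

/-!
# Derived direct images of truncations, for classes of sheaves containing zero

The cohomology of a derived direct image agrees with that of truncations, and vanishes above a bound,
for a class of sheaves with bounded cohomological dimension (no weak Serre hypothesis).
-/

set_option autoImplicit false
set_option backward.isDefEq.respectTransparency false
set_option backward.defeqAttrib.useBackward true
set_option linter.style.haveILetI false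
set_option linter.unusedSectionVars false

universe w v u u' v' w'

open CategoryTheory CategoryTheory.Limits CategoryTheory.Pretriangulated DerivedCategory
open Groth.Agent.DCat Groth.Agent.SiteDer16

namespace Groth.Agent.FModLib.WeakTrunc

attribute [local instance] HasDerivedCategory.standard

variable {C : Type u} [SmallCategory C] {J : GrothendieckTopology C}
  {D : Type u} [SmallCategory D] {K : GrothendieckTopology D}
  {O_C : Sheaf J CommRingCat.{u}} {O_D : Sheaf K CommRingCat.{u}} (f : ModSite.RMor O_C O_D)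
  [HasInjectiveResolutions (ModSite.Mod O_C)] [SiteCmp.HasRpushD f]

section

variable (A : ObjectProperty (ModSite.Mod O_C)) [A.ContainsZero] [A.IsClosedUnderIsomorphisms] (N : ℤ)
  (h4 : ∀ F : ModSite.Mod O_C, A F → ∀ p : ℕ, N < (p : ℤ) → IsZero ((f.Rpush p).obj F))
  (X : DerivedCategory (ModSite.Mod O_C)) (hX : WSerre.cohIn A X)

include h4 hX in
theorem isIso_homology_rpushD_truncTowerMap (m : ℕ) (j : ℤ) (hj : N - (m : ℤ) ≤ j) :
    IsIso ((homologyFunctor (ModSite.Mod O_D) j).map ((SiteCmp.RpushD f).map (CohCx.truncTowerMap X m))) := by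
  obtain ⟨_, _⟩ := exists_commShift_rpushD f
  obtain ⟨Z, g, d, hT, hge, hz, ⟨e⟩⟩ := exists_cone_truncTowerMap X m
  let c : ℤ := -(m : ℤ) - 2
  haveI : Z.IsGE c := hge
  haveI : Z.IsLE c := (DerivedCategory.isLE_iff _ _).2 fun q hq => hz q (by omega)
  obtain ⟨M, ⟨eM⟩⟩ := exists_iso_singleFunctor_obj_of_isGE_of_isLE Z c
  have hM : A M := A.prop_of_iso
    (e.symm ≪≫ (homologyFunctor (ModSite.Mod O_C) c).mapIso eM ≪≫ (singleFunctorCompHomologyFunctorIso _ c).app M)
    (hX _)
  have hzero : ∀ i, N < i - c → IsZero ((homologyFunctor (ModSite.Mod O_D) i).obj ((SiteCmp.RpushD f).obj Z)) := by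
    intro i hi
    exact (isZero_homology_rpushD f M N (i - c) hi (h4 M hM)).of_iso
      ((homologyFunctor _ i).mapIso ((SiteCmp.RpushD f).mapIso (eM ≪≫ WayOut.singleIso M c) ≪≫
          ((SiteCmp.RpushD f).commShiftIso (-c)).app _) ≪≫
        (Functor.shiftIso (homologyFunctor (ModSite.Mod O_D) 0) (-c) i (i - c) (by omega)).app _)
  exact WayOut.isIso_map_of_vanishing₃ (SiteCmp.RpushD f) hT j (hzero j (by omega)) (hzero (j - 1) (by omega))

end

variable (A : ObjectProperty (ModSite.Mod O_C)) [A.ContainsZero] [A.IsClosedUnderIsomorphisms] (B : Set C)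
  (hB : ∀ U : C, ∃ (ι : Type u) (Y : ι → C) (g : ∀ i, Y i ⟶ U), Sieve.ofArrows Y g ∈ J U ∧ ∀ i, Y i ∈ B)
  (hA : ∀ V ∈ B, ∃ d : ℕ, ∀ T ∈ J V, ∃ (ι : Type u) (Y : ι → C) (g : ∀ i, Y i ⟶ V),
    (∀ i, T.arrows (g i)) ∧ Sieve.ofArrows Y g ∈ J V ∧
    ∀ (i : ι) (F : ModSite.Mod O_C), A F → ∀ k : ℕ, d < k → Subsingleton (ModSite.HU O_C F k (Y i)))
  (N : ℤ) (h4 : ∀ F : ModSite.Mod O_C, A F → ∀ p : ℕ, N < (p : ℤ) → IsZero ((f.Rpush p).obj F))
  (X : DerivedCategory (ModSite.Mod O_C)) (hX : WSerre.cohIn A X)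

/-- The truncations have products. -/
theorem hasProduct_mod' {O : Sheaf J CommRingCat.{u}} (E : ℕ → DerivedCategory (ModSite.Mod O)) : HasProduct E := by
  haveI := hasProductsOfShape_derived (A := ModSite.Mod O) (enoughKInj_sheafOfModules _) ℕ
  infer_instance

include hB hA hX in
/-- An object with cohomology of bounded dimension is the derived limit of its truncations. -/
theorem isRlimVia_of_bounded [HasProduct (CohCx.truncTower X)] :
    CohCx.IsRlimVia (CohCx.truncTower X) (CohCx.truncTowerMap X) X (CohCx.toTruncTower X) :=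
  isRlimVia_mod O_C X B hB fun V hV => by
    obtain ⟨d, hd⟩ := hA V hV
    refine ⟨fun _ => d, fun T hT => ?_⟩
    obtain ⟨ι, Y, g, h1, h2, h3⟩ := hd T hT
    exact ⟨ι, Y, g, h1, h2, fun i m k hk => h3 i _ (hX _) k (by have h' : (d : ℤ) < k := hk; exact_mod_cast h')⟩

include hB hA h4 hX in
/-- Bounded cohomological dimension upstairs. -/
theorem isIso_homology_rpushD_truncGEπ (B' : Set D)
    (hB' : ∀ U : D, ∃ (ι : Type u) (Y : ι → D) (g : ∀ i, Y i ⟶ U), Sieve.ofArrows Y g ∈ K U ∧ ∀ i, Y i ∈ B')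
    (hA' : ∀ V ∈ B', ∃ d : ℕ, ∀ T ∈ K V, ∃ (ι : Type u) (Y : ι → D) (g : ∀ i, Y i ⟶ V),
      (∀ i, T.arrows (g i)) ∧ Sieve.ofArrows Y g ∈ K V ∧
      ∀ (i : ι) (F : ModSite.Mod O_C), A F → ∀ k : ℕ, d < k → Subsingleton (ModSite.HU O_C F k (f.fn.obj (Y i))))
    (n : ℕ) (j : ℤ) (hj : N - (n : ℤ) ≤ j) :
    IsIso ((homologyFunctor (ModSite.Mod O_D) j).map
      ((SiteCmp.RpushD f).map ((DerivedCategory.TStructure.t.truncGEπ (-(n : ℤ))).app X))) := by
  obtain ⟨_, _⟩ := exists_commShift_rpushD f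
  haveI : HasExt.{u + 1} (ModSite.Mod O_C) := hasExt_of_hasDerivedCategory _
  haveI : HasExt.{u} (ModSite.Mod O_C) := inferInstance
  haveI := hasProduct_mod (CohCx.truncTower X)
  haveI := hasProduct_mod fun n => (SiteCmp.RpushD f).obj (CohCx.truncTower X n)
  have hL := isRlimVia_rpushD f _ _ X _ (isRlimVia_of_bounded A B hB hA X hX)
  have hstep : ∀ m, (N - j).toNat ≤ m → IsIso ((homologyFunctor (ModSite.Mod O_D) j).map
      ((fun m => (SiteCmp.RpushD f).map (CohCx.truncTowerMap X m)) m)) :=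
    fun m hm => isIso_homology_rpushD_truncTowerMap f A N h4 X hX m j (by omega)
  let tt : ∀ m : ℕ, (SiteCmp.RpushD f).obj (CohCx.truncTower X (m + 1)) ⟶
      (SiteCmp.RpushD f).obj (CohCx.truncTower X m) := fun m => (SiteCmp.RpushD f).map (CohCx.truncTowerMap X m)
  refine isIso_homology_of_local (K := fun m => (SiteCmp.RpushD f).obj (CohCx.truncTower X m)) (modSections O_D)
    (enoughKInj_sheafOfModules _) tt hL B' hB' j (N - j).toNat hstep (fun V hV => ?_) n (by omega)
  obtain ⟨d, hd⟩ := hA' V hV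
  refine ⟨(N - j).toNat + d + j.natAbs + 3, by omega, fun T hT => ?_⟩
  obtain ⟨ι, W, g, h1, h2, h3⟩ := hd T hT
  refine ⟨ι, W, g, h1, h2, fun i m hm Z' g' δ' hT' k hk y => ?_⟩
  obtain ⟨Z, g₀, δ₀, hT₀, hge, hz, ⟨e⟩⟩ := exists_cone_truncTowerMap X m
  let eZ := Triangle.π₃.mapIso (isoTriangleOfIso₁₂ _ _ hT' ((SiteCmp.RpushD f).map_distinguished _ hT₀)
    (Iso.refl _) (Iso.refl _) (by simp [tt]))
  obtain ⟨η, hη⟩ := exists_bijective_rpushD f (W i) (-k)
  obtain ⟨φ, hφ⟩ := (hη Z).2 (y ≫ eZ.hom)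
  haveI : Z.IsGE (-(m : ℤ) - 2) := hge
  have hφ0 : φ = 0 := by
    refine (modSections O_C).eq_zero_of_boundedBelow (f.fn.obj (W i)) k Z (-(m : ℤ) - 2) (fun q e' he' => ?_) φ
    by_cases hq : q = -(m : ℤ) - 2
    · subst hq
      haveI : Subsingleton (Abelian.Ext.{u + 1} ((modSections O_C).P.obj (f.fn.obj (W i)))
          ((homologyFunctor (ModSite.Mod O_C) (-(m : ℤ) - 1)).obj X) e') :=
        subsingleton_ext_modFree'.{u + 1, u} O_C (f.fn.obj (W i)) e' _
          (h3 i _ (hX (-(m : ℤ) - 1)) e' (by omega))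
      exact subsingleton_ext_of_iso'.{u + 1} _ e e'
    · exact subsingleton_ext_of_isZero.{u + 1} _ (hz q hq) e'
  rw [← cancel_mono eZ.hom, zero_comp]
  exact hφ.symm.trans (by simp [hφ0])

omit B hB hA h4 X hX in
include h4 in
/-- A bounded object with cohomology in the class has no cohomology of the direct image above the bound. -/
theorem isZero_homology_rpushD_of_bounded (a : ℤ) :
    ∀ (n : ℕ) (Y : DerivedCategory (ModSite.Mod O_C)) (b : ℤ), Y.IsGE a → Y.IsLE b → b < a + n →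
      WSerre.cohIn A Y → ∀ i : ℤ, b + N < i →
        IsZero ((homologyFunctor (ModSite.Mod O_D) i).obj ((SiteCmp.RpushD f).obj Y)) := by
  obtain ⟨_, _⟩ := exists_commShift_rpushD f
  have hP : ∀ Z : ModSite.Mod O_C, IsZero Z → A Z := fun Z hZ => by
    obtain ⟨Z', hZ', hAZ'⟩ := A.exists_prop_of_containsZero
    exact A.prop_of_iso (hZ'.iso hZ) hAZ'
  intro n
  induction n with
  | zero =>
    intro Y b _ _ hb _ i _
    exact (homologyFunctor _ i).map_isZero
      ((SiteCmp.RpushD f).map_isZero (WayOut.isZero_of_isGE_of_isLE Y a b (by omega)))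
  | succ n ih =>
    intro Y b hge hle hb hY i hi
    haveI := hge
    haveI := hle
    rcases lt_or_ge b a with hba | hba
    · exact (homologyFunctor _ i).map_isZero
        ((SiteCmp.RpushD f).map_isZero (WayOut.isZero_of_isGE_of_isLE Y a b hba))
    let t : Triangulated.TStructure (DerivedCategory (ModSite.Mod O_C)) := DerivedCategory.TStructure.t
    have h1 : IsZero ((homologyFunctor (ModSite.Mod O_D) i).obj ((SiteCmp.RpushD f).obj (t.truncLT b |>.obj Y))) :=
      ih (t.truncLT b |>.obj Y) (b - 1) inferInstance (t.isLE_truncLT_obj _ _ _ (by omega)) (by omega)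
        (WayOut.prop_homology_truncLT A hP Y b hY) i (by omega)
    obtain ⟨M, ⟨e⟩⟩ := exists_iso_singleFunctor_obj_of_isGE_of_isLE (t.truncGE b |>.obj Y) b
    have hM : A M := A.prop_of_iso
      (((homologyFunctor (ModSite.Mod O_C) b).mapIso e) ≪≫ (singleFunctorCompHomologyFunctorIso _ b).app M)
      (WayOut.prop_homology_truncGE A hP Y b hY b)
    have h3 : IsZero ((homologyFunctor (ModSite.Mod O_D) i).obj ((SiteCmp.RpushD f).obj (t.truncGE b |>.obj Y))) :=
      (isZero_homology_rpushD f M N (i - b) (by omega) (h4 M hM)).of_iso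
        ((homologyFunctor _ i).mapIso ((SiteCmp.RpushD f).mapIso (e ≪≫ WayOut.singleIso M b) ≪≫
            ((SiteCmp.RpushD f).commShiftIso (-b)).app _) ≪≫
          (Functor.shiftIso (homologyFunctor (ModSite.Mod O_D) 0) (-b) i (i - b) (by omega)).app _)
    exact (HomologySequence.exact₂ _ ((SiteCmp.RpushD f).map_distinguished _ (t.triangleLTGE_distinguished b Y))
      i).isZero_of_both_zeros (h1.eq_of_src _ _) (h3.eq_of_tgt _ _)

include hB hA h4 hX in
/-- Cohomology of the direct image vanishes above the bound. -/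
theorem isZero_homology_rpushD_of_cohIn (B' : Set D)
    (hB' : ∀ U : D, ∃ (ι : Type u) (Y : ι → D) (g : ∀ i, Y i ⟶ U), Sieve.ofArrows Y g ∈ K U ∧ ∀ i, Y i ∈ B')
    (hA' : ∀ V ∈ B', ∃ d : ℕ, ∀ T ∈ K V, ∃ (ι : Type u) (Y : ι → D) (g : ∀ i, Y i ⟶ V),
      (∀ i, T.arrows (g i)) ∧ Sieve.ofArrows Y g ∈ K V ∧
      ∀ (i : ι) (F : ModSite.Mod O_C), A F → ∀ k : ℕ, d < k → Subsingleton (ModSite.HU O_C F k (f.fn.obj (Y i))))
    (b : ℤ) (hb : ∀ q : ℤ, b < q → IsZero ((homologyFunctor (ModSite.Mod O_C) q).obj X))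
    (i : ℤ) (hi : b + N < i) :
    IsZero ((homologyFunctor (ModSite.Mod O_D) i).obj ((SiteCmp.RpushD f).obj X)) := by
  have hP : ∀ Z : ModSite.Mod O_C, IsZero Z → A Z := fun Z hZ => by
    obtain ⟨Z', hZ', hAZ'⟩ := A.exists_prop_of_containsZero
    exact A.prop_of_iso (hZ'.iso hZ) hAZ'
  let n : ℕ := (N - i).toNat
  haveI := isIso_homology_rpushD_truncGEπ f A B hB hA N h4 X hX B' hB' hA' n i (by omega)
  haveI : X.IsLE b := (DerivedCategory.isLE_iff _ _).2 fun q hq => hb q (by omega)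
  let t : Triangulated.TStructure (DerivedCategory (ModSite.Mod O_C)) := DerivedCategory.TStructure.t
  refine IsZero.of_iso ?_ (asIso ((homologyFunctor (ModSite.Mod O_D) i).map
    ((SiteCmp.RpushD f).map ((t.truncGEπ (-(n : ℤ))).app X))))
  exact isZero_homology_rpushD_of_bounded f A N h4 (-(n : ℤ)) (b + n + 1).toNat _ b inferInstance inferInstance
    (by omega) (WayOut.prop_homology_truncGE A hP X _ hX) i hi

end Groth.Agent.FModLib.WeakTrunc
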